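import Mathlib
import Groth.Prelude.Def_EGA4Misc
import Groth.Agent.H17.Chev.Closed
import Groth.Agent.H17.Chev.GenericConst
import Groth.Agent.H17.FibreDimBound
import Groth.Agent.H48.CompDimBC2
import Groth.Agent.H29.TopDim

/-!
# The dimension of an algebraic scheme is a constructible property (EGA IV 9.2.6.1-ish)
-/

set_option autoImplicit false
set_option backward.isDefEq.respectTransparency.types false
universe u
open CategoryTheory CategoryTheory.Limits AlgebraicGeometry TopologicalSpace Topology

namespace Groth.Agent.H99.DimCons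

section top

variable {X Y : Type*} [TopologicalSpace X] [TopologicalSpace Y]

/-- The dimension of a space is bounded by any bound for the dimensions of its irreducible
components. -/
theorem topologicalKrullDim_le_of_components {d : WithBot ℕ∞}
    (h : ∀ Z ∈ irreducibleComponents X, topologicalKrullDim ↥Z ≤ d) :
    topologicalKrullDim X ≤ d := by
  refine Groth.Agent.H29.topologicalKrullDim_le_of_forall_chain fun l => ?_
  obtain ⟨C, hC, hlC⟩ := exists_mem_irreducibleComponents_subset_of_isIrreducible _
    l.last.isIrreducible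
  exact (Groth.Agent.H29.length_le_dim_of_last_subset C l hlC).trans (h C hC)

/-- Two spaces whose irreducible components have the same dimensions have the same dimension. -/
theorem topologicalKrullDim_eq_of_image_eq
    (h : (fun Z : Set X => topologicalKrullDim ↥Z) '' irreducibleComponents X =
      (fun Z : Set Y => topologicalKrullDim ↥Z) '' irreducibleComponents Y) :
    topologicalKrullDim X = topologicalKrullDim Y := by
  apply le_antisymm
  · refine topologicalKrullDim_le_of_components fun Z hZ => ?_
    have : topologicalKrullDim ↥Z ∈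
        (fun Z : Set Y => topologicalKrullDim ↥Z) '' irreducibleComponents Y := by
      rw [← h]; exact ⟨Z, hZ, rfl⟩
    obtain ⟨Z', -, hZ'⟩ := this
    rw [← hZ']
    exact topologicalKrullDim_subspace_le Y Z'
  · refine topologicalKrullDim_le_of_components fun Z hZ => ?_
    have : topologicalKrullDim ↥Z ∈
        (fun Z : Set X => topologicalKrullDim ↥Z) '' irreducibleComponents X := by
      rw [h]; exact ⟨Z, hZ, rfl⟩
    obtain ⟨Z', -, hZ'⟩ := this
    rw [← hZ']
    exact topologicalKrullDim_subspace_le X Z'

end top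

section onePoint

/-- A one-point scheme is affine. -/
theorem isAffine_of_subsingleton (T : Scheme.{u}) [Subsingleton ↥T] [Nonempty ↥T] : IsAffine T := by
  obtain ⟨t⟩ := (inferInstance : Nonempty ↥T)
  obtain ⟨_, ⟨V, hV, rfl⟩, htV, -⟩ :=
    (T.isBasis_affineOpens).exists_subset_of_mem_open (Set.mem_univ t) isOpen_univ
  have : V = ⊤ := by
    ext y
    simp only [TopologicalSpace.Opens.coe_top, Set.mem_univ, iff_true]
    rw [Subsingleton.elim y t]
    exact htV
  rw [this] at hV
  have : IsAffine (⊤ : T.Opens).toScheme := hV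
  exact IsAffine.of_isIso (Scheme.topIso T).inv

/-- The ring of global sections of a one-point integral scheme is a field. -/
theorem isField_of_onePoint (T : Scheme.{u}) [IsIntegral T] [Subsingleton ↥T] :
    IsField Γ(T, ⊤) := by
  have : IsAffine T := isAffine_of_subsingleton T
  have : Subsingleton (PrimeSpectrum Γ(T, ⊤)) :=
    (Scheme.homeoOfIso T.isoSpec).symm.injective.subsingleton
  exact PrimeSpectrum.subsingleton_iff_isField_of_isReduced.mp this

/-- Invariance of the dimension under extension of the base field, for spectra of fields. -/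
theorem dim_eq_of_isPullback_field {Y Y' : Scheme.{u}} (k K : Type u) [Field k] [Field K]
    (φ : k →+* K) (g : Y ⟶ Spec (.of k)) [LocallyOfFiniteType g] (e : Y' ⟶ Y)
    (g' : Y' ⟶ Spec (.of K)) (hpb : IsPullback e g' g (Spec.map (CommRingCat.ofHom φ))) :
    topologicalKrullDim ↥Y' = topologicalKrullDim ↥Y :=
  topologicalKrullDim_eq_of_image_eq
    (Groth.Agent.H48.CompDimBC2.image_topologicalKrullDim_irreducibleComponents k K φ g e g' hpb)

/-- Invariance of the dimension under extension of the base field, for one-point integral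
base schemes. -/
theorem dim_eq_of_isPullback_onePoint {Y Y' T T' : Scheme.{u}} (g : Y ⟶ T) (g' : Y' ⟶ T')
    (e : Y' ⟶ Y) (h : T' ⟶ T) [IsIntegral T] [Subsingleton T] [IsIntegral T'] [Subsingleton T']
    [LocallyOfFiniteType g] (hpb : IsPullback e g' g h) :
    topologicalKrullDim ↥Y' = topologicalKrullDim ↥Y := by
  have hT : IsAffine T := isAffine_of_subsingleton T
  have hT' : IsAffine T' := isAffine_of_subsingleton T'
  letI : Field Γ(T, ⊤) := (isField_of_onePoint T).toField
  letI : Field Γ(T', ⊤) := (isField_of_onePoint T').toField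
  have hsq : IsPullback h T'.isoSpec.hom T.isoSpec.hom (Spec.map h.appTop) :=
    IsPullback.of_vert_isIso ⟨(Scheme.isoSpec_hom_naturality h).symm⟩
  have hpb2 : IsPullback e (g' ≫ T'.isoSpec.hom) (g ≫ T.isoSpec.hom) (Spec.map h.appTop) :=
    hpb.paste_vert hsq
  exact dim_eq_of_isPullback_field Γ(T, ⊤) Γ(T', ⊤) h.appTop.hom (g ≫ T.isoSpec.hom) e
    (g' ≫ T'.isoSpec.hom) hpb2

end onePoint

section generic

/-- In a space with generic point `g`, a locally constructible set containing `g` contains an
open neighbourhood of `g`. -/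
theorem exists_isOpen_subset_of_isLocallyConstructible {S : Type*} [TopologicalSpace S] {g : S}
    (hg : IsGenericPoint g (Set.univ : Set S)) {T : Set S} (hT : IsLocallyConstructible T)
    (hgT : g ∈ T) : ∃ O : Set S, IsOpen O ∧ g ∈ O ∧ O ⊆ T := by
  obtain ⟨U, hgU, hU, hUT⟩ := hT g
  have hgU' : g ∈ U := mem_of_mem_nhds hgU
  have hg' : IsGenericPoint (⟨g, hgU'⟩ : U) (Set.univ : Set U) := by
    rw [isGenericPoint_def, Set.eq_univ_iff_forall]
    intro y
    rw [← specializes_iff_mem_closure, subtype_specializes_iff]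
    exact hg.specializes (Set.mem_univ _)
  rcases Groth.Agent.H17.Chev.mem_interior_or_of_isConstructible hg' hUT with h | h
  · refine ⟨((↑) : U → S) '' interior (Subtype.val ⁻¹' T : Set U),
      hU.isOpenMap_subtype_val _ isOpen_interior, ⟨_, h, rfl⟩, ?_⟩
    rintro _ ⟨y, hy, rfl⟩
    exact (interior_subset hy : y ∈ (Subtype.val ⁻¹' T : Set U))
  · exact absurd (interior_subset h) (by simpa using hgT)

theorem eq_bot_of_not_zero_le {d : WithBot ℕ∞} (h : ¬ (0 : WithBot ℕ∞) ≤ d) : d = ⊥ := by
  induction d with
  | bot => rfl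
  | coe a => exact absurd (WithBot.coe_le_coe.mpr (zero_le (a := a))) h

theorem eq_natCast_of_le_of_not_succ_le {d : WithBot ℕ∞} {e : ℕ}
    (h1 : (e : WithBot ℕ∞) ≤ d) (h2 : ¬ ((e + 1 : ℕ) : WithBot ℕ∞) ≤ d) : d = e := by
  induction d with
  | bot => simp at h1
  | coe a =>
    induction a with
    | top => exact absurd (WithBot.coe_le_coe.mpr le_top) h2
    | coe m =>
      have h1' : e ≤ m := by exact_mod_cast h1
      have h2' : ¬ e + 1 ≤ m := by
        intro h; apply h2; exact_mod_cast h
      have : m = e := by omega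
      rw [this]; rfl

/-- Generic constancy of the dimension of the fibres of a morphism of finite type over an
irreducible Noetherian base. -/
theorem exists_open_dim_fiber_eq {X S : Scheme.{u}} (f : X ⟶ S) [IsNoetherian S]
    [IrreducibleSpace S] [LocallyOfFiniteType f] [QuasiCompact f] :
    ∃ O : Set S, IsOpen O ∧ genericPoint S ∈ O ∧ ∀ s ∈ O,
      topologicalKrullDim ↥(f.fiber s) = topologicalKrullDim ↥(f.fiber (genericPoint S)) := by
  have : IsLocallyNoetherian X := LocallyOfFiniteType.isLocallyNoetherian f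
  have : CompactSpace X := QuasiCompact.compactSpace_of_compactSpace f
  have : IsNoetherian X := ⟨⟩
  have hE : ∀ n : ℕ, IsLocallyConstructible
      {y : S | (n : WithBot ℕ∞) ≤ topologicalKrullDim ↥(f.fiber y)} := by
    intro n
    have : {y : S | (n : WithBot ℕ∞) ≤ topologicalKrullDim ↥(f.fiber y)} =
        f.base '' {x : X | (n : WithBot ℕ∞) ≤ FlatMor.fibreDimAt f x} := by
      ext y
      simp only [Set.mem_ofPred_eq, Set.mem_image]
      rw [Groth.Agent.H17.Chev.le_dim_fiber_iff]
      exact ⟨fun ⟨x, hx, h⟩ => ⟨x, h, hx⟩, fun ⟨x, h, hx⟩ => ⟨x, hx, h⟩⟩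
    rw [this]
    exact f.isLocallyConstructible_image
      (Groth.Agent.H17.Chev.isConstructible_of_isClosed
        (Groth.Agent.H17.Chev.isClosed_setOf_le_fibreDimAt f n)).isLocallyConstructible
  obtain ⟨N, hN⟩ := Groth.Agent.H17.exists_fiber_dim_le f
  have hη := genericPoint_spec S
  by_cases h0 : (0 : WithBot ℕ∞) ≤ topologicalKrullDim ↥(f.fiber (genericPoint S))
  · obtain ⟨e, he, -⟩ := Groth.Agent.H17.Chev.exists_nat_eq_of_le h0 (hN (genericPoint S))
    obtain ⟨O₁, hO₁, hη₁, hsub⟩ := exists_isOpen_subset_of_isLocallyConstructible hη (hE e)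
      (by change (e : WithBot ℕ∞) ≤ _; rw [he])
    obtain ⟨O₂, hO₂, hη₂, hdisj⟩ :=
      Groth.Agent.H17.Chev.exists_isOpen_disjoint_of_isLocallyConstructible hη (hE (e + 1))
      (by
        change ¬ ((e + 1 : ℕ) : WithBot ℕ∞) ≤ _
        rw [he]
        intro h
        have : e + 1 ≤ e := by exact_mod_cast h
        omega)
    refine ⟨O₁ ∩ O₂, hO₁.inter hO₂, ⟨hη₁, hη₂⟩, fun s hs => ?_⟩
    rw [he]
    exact eq_natCast_of_le_of_not_succ_le (hsub hs.1)
      (fun h => Set.disjoint_left.mp hdisj hs.2 h)
  · obtain ⟨O, hO, hηO, hdisj⟩ :=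
      Groth.Agent.H17.Chev.exists_isOpen_disjoint_of_isLocallyConstructible hη (hE 0)
      (by change ¬ ((0 : ℕ) : WithBot ℕ∞) ≤ _; simpa using h0)
    refine ⟨O, hO, hηO, fun s hs => ?_⟩
    rw [eq_bot_of_not_zero_le h0]
    apply eq_bot_of_not_zero_le
    intro h
    exact Set.disjoint_left.mp hdisj hs (by change ((0 : ℕ) : WithBot ℕ∞) ≤ _; simpa using h)

end generic

end Groth.Agent.H99.DimCons
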