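import Mathlib
import Groth.Prelude.Def_Cyc
import Groth.Agent.H48.CycDim6
import Groth.Agent.H48.CycDim7
import Groth.Agent.H48.CycFib
import Groth.Agent.H48.DimIneqSch2
import Groth.Agent.H72.FlatCM
import Groth.Agent.H72.CMLocal
import Groth.Agent.H72.CMCatenary
import Groth.Agent.H17.DimIneq
import Groth.Agent.H17.Chev.Chart
import Groth.Agent.H72.EquidimFlat
import Groth.Agent.H24.AffineChart

/-!
# Dimension theory of schemes locally of finite type over a field via `δ(x) = trdeg_k κ(x)`
(helper99; for S14403, S14404, S10884, S17411)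
-/

set_option autoImplicit false
set_option backward.isDefEq.respectTransparency.types false
set_option linter.style.haveILetI false
set_option linter.unusedSectionVars false
universe u

open AlgebraicGeometry CategoryTheory TopologicalSpace

namespace Groth.Agent.H99.FieldDim

open Groth.Agent.H48.CycDim6 Groth.Agent.H48.CycDim7 Groth.Agent.H48.DimIneqSch

section Setup

variable (k : Type u) [Field k]

/-- `Spec k` with the zero function is a base with a dimension function. -/
theorem isSetup_spec : Cyc.IsSetup (Spec (CommRingCat.of k)) (fun _ => 0) := by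
  refine ⟨inferInstance, ?_, ?_⟩
  · intro x
    have h0 : ringKrullDim ((Spec (CommRingCat.of k)).presheaf.stalk x) = 0 := by
      rw [ringKrullDim_stalk_eq_coheight]
      have : Order.coheight x = 0 := by
        rw [Order.coheight_eq_zero]
        intro b _
        exact (Subsingleton.elim _ _).le
      rw [this]
      rfl
    haveI : IsNoetherianRing ((Spec (CommRingCat.of k)).presheaf.stalk x) := inferInstance
    have h1 := Groth.Agent.H72.FlatCM.isCohenMacaulayLocalRing_of_ringKrullDim_eq_zero _ h0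
    haveI := Groth.Agent.H72.CMLocal.isCohenMacaulayRing_of_local _ h1
    exact Groth.Agent.H72.CMCatenary.isUniversallyCatenary_of_isCohenMacaulayRing _
  · intro x y _ hne
    exact absurd (Subsingleton.elim x y) hne

end Setup

section Delta

variable {k : Type u} [Field k] {X : Scheme.{u}} (q : X ⟶ Spec (CommRingCat.of k))
  [LocallyOfFiniteType q]

/-- `δ(x) = trdeg_k κ(x)`. -/
noncomputable def delta (x : X) : ℤ :=
  ((Groth.Agent.H48.DimIneqSch2.exists_trdeg_eq_nat q x).choose : ℤ)

theorem deltaCompat : Cyc.DeltaCompat q (delta q) (fun _ => 0) := by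
  intro x
  refine ⟨(Groth.Agent.H48.DimIneqSch2.exists_trdeg_eq_nat q x).choose,
    (Groth.Agent.H48.DimIneqSch2.exists_trdeg_eq_nat q x).choose_spec, ?_⟩
  simp [delta]

theorem isDimFun : Cyc.IsDimFun X (delta q) :=
  Groth.Agent.H48.DimFunSch.isDimFun_of_deltaCompat q _ (isSetup_spec k) _ (deltaCompat q)

include q in
theorem jacobsonSpace : JacobsonSpace X := LocallyOfFiniteType.jacobsonSpace q

include q in
theorem isLocallyNoetherian : IsLocallyNoetherian X := LocallyOfFiniteType.isLocallyNoetherian q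

theorem delta_nonneg' (x : X) : 0 ≤ delta q x := by
  simp [delta]

theorem delta_eq_zero_of_isClosed (x : X) (hx : IsClosed ({x} : Set X)) : delta q x = 0 := by
  have hcl : IsClosed ({q.asFiber x} : Set (q.fiber (q x))) := by
    have : ({q.asFiber x} : Set (q.fiber (q x))) = (q.fiberι (q x)) ⁻¹' {x} := by
      ext t
      simp only [Set.mem_singleton_iff, Set.mem_preimage]
      constructor
      · rintro rfl
        exact q.fiberι_asFiber x
      · intro h
        apply (q.fiberι (q x)).isEmbedding.injective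
        rw [h, q.fiberι_asFiber x]
    rw [this]
    exact hx.preimage (q.fiberι (q x)).continuous
  have h0 := Groth.Agent.H48.CycFib.trdeg_eq_zero_of_isClosed_asFiber q x hcl
  obtain ⟨n, hn, hδ⟩ := deltaCompat q x
  rw [hn] at h0
  have hn0 : n = 0 := by exact_mod_cast h0
  rw [hδ, hn0]
  simp

/-- The dimension of the closure of a point is `δ`. -/
theorem topologicalKrullDim_closure (ξ : X) :
    topologicalKrullDim ↥(closure ({ξ} : Set X)) = (((delta q ξ).toNat : ℕ∞) : WithBot ℕ∞) := by
  haveI := jacobsonSpace q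
  exact Groth.Agent.H48.CycDim6.topologicalKrullDim_closure X (delta q) (isDimFun q)
    (delta_eq_zero_of_isClosed q) ξ

end Delta

section Top

variable {W : Type*} [TopologicalSpace W] [QuasiSober W]

/-- A point without proper generizations has closure an irreducible component. -/
theorem closure_mem_irreducibleComponents (t : W) (hmax : ∀ t' : W, t' ⤳ t → t' = t) :
    closure ({t} : Set W) ∈ irreducibleComponents W := by
  refine ⟨isIrreducible_singleton.closure, fun T' hT' hle => ?_⟩
  obtain ⟨g, hg⟩ := QuasiSober.sober hT'.closure isClosed_closure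
  have htT' : t ∈ closure T' := subset_closure (hle (subset_closure rfl))
  have hgt : g ⤳ t := by
    rw [specializes_iff_mem_closure, hg.def]; exact htT'
  have := hmax g hgt
  subst this
  calc T' ⊆ closure T' := subset_closure
    _ = closure {g} := hg.def.symm

/-- Every irreducible component is the closure of a point without proper generizations. -/
theorem exists_closure_eq_of_mem_irreducibleComponents [T0Space W] (Z : Set W)
    (hZ : Z ∈ irreducibleComponents W) :
    ∃ t : W, closure ({t} : Set W) = Z ∧ ∀ t' : W, t' ⤳ t → t' = t := by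
  obtain ⟨t, ht⟩ := QuasiSober.sober hZ.1 (isClosed_of_mem_irreducibleComponents Z hZ)
  refine ⟨t, ht.def, fun t' h => ?_⟩
  have h1 : closure {t} ⊆ closure {t'} := specializes_iff_closure_subset.mp h
  have h2 : closure {t'} ⊆ Z := hZ.2 isIrreducible_singleton.closure (ht.def ▸ h1)
  rw [← ht.def] at h2
  exact (h.antisymm (specializes_iff_closure_subset.mpr h2)).eq

end Top

section Stalk

open Groth.Agent.H48.DimFunSch

variable {X : Scheme.{u}} [IsLocallyNoetherian X] (δ : X → ℤ) (hδ : Cyc.IsDimFun X δ)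

include hδ in
/-- At a point all of whose generic generizations have the same `δ = D`, the local ring has
dimension `D - δ x`. -/
theorem ringKrullDim_stalk_eq_of_equidim (x : X) (D : ℤ)
    (hD : ∀ ξ : X, IsGen ξ → ξ ⤳ x → δ ξ = D) :
    ringKrullDim (X.presheaf.stalk x) = (((D - δ x).toNat : ℕ∞) : WithBot ℕ∞) := by
  obtain ⟨U, hU, hxU, -⟩ := exists_isAffineOpen_mem_and_subset (x := x) (U := ⊤) trivial
  haveI : IsNoetherianRing Γ(X, U) := IsLocallyNoetherian.component_noetherian ⟨U, hU⟩
  set b : PrimeSpectrum Γ(X, U) := hU.primeIdealOf ⟨x, hxU⟩ with hb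
  have hfb : hU.fromSpec b = x := hU.fromSpec_primeIdealOf ⟨x, hxU⟩
  have hdim : ringKrullDim (X.presheaf.stalk x) = ((b.asIdeal.height : ℕ∞) : WithBot ℕ∞) := by
    letI := X.presheaf.algebra_section_stalk ⟨x, hxU⟩
    haveI := hU.isLocalization_stalk ⟨x, hxU⟩
    exact IsLocalization.AtPrime.ringKrullDim_eq_height b.asIdeal _
  rw [hdim]
  congr 1
  apply le_antisymm
  · obtain ⟨q₀, hq₀min, hq₀le, hht⟩ :=
      Groth.Agent.H48.DimIneq.exists_minimalPrimes_height_le b.asIdeal
    let a : PrimeSpectrum Γ(X, U) := ⟨q₀, hq₀min.1.1⟩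
    have hab : a ≤ b := hq₀le
    have hgen : IsGen (hU.fromSpec a) := by
      intro ξ' hξ'
      have hξ'U : ξ' ∈ U := hξ'.mem_open U.2 (fromSpec_mem hU a)
      obtain ⟨c, rfl⟩ := exists_fromSpec_eq hU ξ' hξ'U
      rw [fromSpec_specializes_iff] at hξ'
      have : a ≤ c := hq₀min.2 ⟨c.2, bot_le⟩ hξ'
      rw [le_antisymm hξ' this]
    have hsp : hU.fromSpec a ⤳ x := by
      rw [← hfb, fromSpec_specializes_iff]; exact hab
    have h1 := height_map_mk_eq hU δ hδ a b hab
    rw [hfb, hD _ hgen hsp] at h1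
    rw [← h1]
    exact hht
  · obtain ⟨ξ, hξ, hξx⟩ := exists_isGen_specializes x
    have hξU : ξ ∈ U := hξx.mem_open U.2 hxU
    obtain ⟨a, rfl⟩ := exists_fromSpec_eq hU ξ hξU
    have hab : a ≤ b := by
      rw [← fromSpec_specializes_iff hU, hfb]; exact hξx
    have h1 := height_map_mk_eq hU δ hδ a b hab
    rw [hfb, hD _ hξ hξx] at h1
    rw [← h1]
    haveI : (b.asIdeal.map (Ideal.Quotient.mk a.asIdeal)).IsPrime :=
      Ideal.isPrime_map_quotientMk_of_isPrime hab
    exact Groth.Agent.H17.DimIneq.height_map_mk_le a.asIdeal b.asIdeal hab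

end Stalk

section FlatStalk

open Groth.Agent.H17.Chev

variable {X Y : Scheme.{u}} (f : X ⟶ Y)

/-- Flat morphisms send points without proper generizations to such points. -/
theorem isGen_map_of_flat [Flat f] (ξ : X) (hξ : IsGen ξ) : IsGen (f ξ) := by
  intro y' hy'
  obtain ⟨x', hx'ξ, hx'y'⟩ := Flat.generalizingMap f hy'
  rw [← hx'y', hξ x' hx'ξ]

/-- For a flat morphism (locally Noetherian source and target), at a point which has no proper
generization inside its fibre the local rings of source and target have the same dimension. -/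
theorem ringKrullDim_stalk_eq_of_flat_of_fibre_generic [Flat f] [IsLocallyNoetherian X]
    [IsLocallyNoetherian Y] (x : X) (hmax : ∀ x' : X, x' ⤳ x → f x' = f x → x' = x) :
    ringKrullDim (X.presheaf.stalk x) = ringKrullDim (Y.presheaf.stalk (f x)) := by
  obtain ⟨V, U, hV, hU, hxU, hUV⟩ := Groth.Agent.H24.exists_affine_charts f x
  have hyV : f x ∈ V := hUV hxU
  letI : Algebra Γ(Y, V) Γ(X, U) := (f.appLE V U hUV).hom.toAlgebra
  haveI : IsNoetherianRing Γ(X, U) := IsLocallyNoetherian.component_noetherian ⟨U, hU⟩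
  haveI : IsNoetherianRing Γ(Y, V) := IsLocallyNoetherian.component_noetherian ⟨V, hV⟩
  haveI : Module.Flat Γ(Y, V) Γ(X, U) := Flat.flat_appLE f hV hU hUV
  have hsq : Spec.map (CommRingCat.ofHom (algebraMap Γ(Y, V) Γ(X, U))) ≫ hV.fromSpec =
      hU.fromSpec ≫ f := IsAffineOpen.SpecMap_appLE_fromSpec f hV hU hUV
  let q : ↥(Spec Γ(X, U)) := hU.primeIdealOf ⟨x, hxU⟩
  have hq : hU.fromSpec q = x := hU.fromSpec_primeIdealOf ⟨x, hxU⟩
  haveI : q.asIdeal.IsPrime := q.isPrime
  let pP : PrimeSpectrum Γ(Y, V) := PrimeSpectrum.comap (algebraMap Γ(Y, V) Γ(X, U)) q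
  have h1 := chart_stalk_source f Γ(Y, V) Γ(X, U) hU.fromSpec hV.fromSpec hsq q
  have h2 := chart_stalk_target f Γ(Y, V) Γ(X, U) hU.fromSpec hV.fromSpec hsq q
  rw [hq] at h1 h2
  rw [h1, h2]
  congr 1
  apply Groth.Agent.H72.EquidimFlat.height_eq_of_mem_minimalPrimes_map pP.asIdeal q.asIdeal
  refine ⟨⟨q.isPrime, Ideal.map_le_iff_le_comap.mpr le_rfl⟩, ?_⟩
  rintro Q' ⟨hQ'prime, hQ'le⟩ hQ'q
  let q' : ↥(Spec Γ(X, U)) := ⟨Q', hQ'prime⟩
  have hsp : hU.fromSpec q' ⤳ hU.fromSpec q :=
    ((PrimeSpectrum.le_iff_specializes q' q).mp hQ'q).map hU.fromSpec.continuous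
  have hcomap : (Spec.map (CommRingCat.ofHom (algebraMap Γ(Y, V) Γ(X, U)))).base q' =
      (Spec.map (CommRingCat.ofHom (algebraMap Γ(Y, V) Γ(X, U)))).base q := by
    apply PrimeSpectrum.ext
    change Q'.comap (algebraMap Γ(Y, V) Γ(X, U)) = q.asIdeal.comap (algebraMap Γ(Y, V) Γ(X, U))
    apply le_antisymm (Ideal.comap_mono hQ'q)
    exact Ideal.map_le_iff_le_comap.mp hQ'le
  have hfe : f (hU.fromSpec q') = f (hU.fromSpec q) := by
    have e1 := chart_map_eq f Γ(Y, V) Γ(X, U) hU.fromSpec hV.fromSpec hsq q'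
    have e2 := chart_map_eq f Γ(Y, V) Γ(X, U) hU.fromSpec hV.fromSpec hsq q
    exact e1.trans ((congrArg _ hcomap).trans e2.symm)
  rw [hq] at hsp hfe
  have := hmax _ hsp hfe
  rw [← hq] at this
  have hqq : q' = q := hU.fromSpec.isOpenEmbedding.injective this
  exact (congrArg PrimeSpectrum.asIdeal hqq).ge

end FlatStalk

section Fibre

open Groth.Agent.H48.CycFib

variable {X Y : Scheme.{u}} (f : X ⟶ Y) [LocallyOfFiniteType f] (δX : X → ℤ) (δY : Y → ℤ)
  (hδX : Cyc.IsDimFun X δX) (hδ : Cyc.DeltaCompat f δX δY)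

include hδX hδ in
/-- The dimension of the closure of a point in a fibre. -/
theorem topologicalKrullDim_closure_fiber (y : Y) (z : X) (hz : f z = y) (t : f.fiber y)
    (ht : f.fiberι y t = z) :
    topologicalKrullDim ↥(closure ({t} : Set (f.fiber y))) =
      (((δX z - δY y).toNat : ℕ∞) : WithBot ℕ∞) := by
  subst hz
  have : t = f.asFiber z := by
    apply (f.fiberι (f z)).isEmbedding.injective
    rw [ht, Scheme.Hom.fiberι_asFiber]
  subst this
  exact topologicalKrullDim_closure_asFiber f δX δY hδX hδ z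

include hδX hδ in
/-- Every irreducible component of a fibre is the closure of a point `x` of `X` which has no
proper generization in its fibre; its dimension is `δX x - δY y`. -/
theorem exists_point_of_mem_irreducibleComponents_fiber (y : Y) (T : Set (f.fiber y))
    (hT : T ∈ irreducibleComponents (f.fiber y)) :
    ∃ x : X, f x = y ∧ (∀ x' : X, x' ⤳ x → f x' = f x → x' = x) ∧
      topologicalKrullDim ↥T = (((δX x - δY y).toNat : ℕ∞) : WithBot ℕ∞) := by
  obtain ⟨t, htT, htmax⟩ := exists_closure_eq_of_mem_irreducibleComponents T hT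
  refine ⟨f.fiberι y t, map_fiberι f y t, ?_, ?_⟩
  · intro x' hx' hfx'
    rw [map_fiberι] at hfx'
    have hx'r : x' ∈ Set.range (f.fiberι y) := by
      rw [Scheme.Hom.range_fiberι]; exact hfx'
    obtain ⟨t', rfl⟩ := hx'r
    rw [fiberι_specializes_iff] at hx'
    rw [htmax t' hx']
  · rw [← htT]
    exact topologicalKrullDim_closure_fiber f δX δY hδX hδ y _ (map_fiberι f y t) t rfl

include hδX hδ in
/-- A point of `X` without proper generizations gives an irreducible component of its fibre, of
dimension `δX ξ - δY (f ξ)`. -/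
theorem exists_component_fiber_of_isGen (ξ : X) (hξ : IsGen ξ) :
    ∃ T ∈ irreducibleComponents (f.fiber (f ξ)),
      topologicalKrullDim ↥T = (((δX ξ - δY (f ξ)).toNat : ℕ∞) : WithBot ℕ∞) := by
  refine ⟨closure {f.asFiber ξ}, closure_mem_irreducibleComponents _ ?_,
    topologicalKrullDim_closure_asFiber f δX δY hδX hδ ξ⟩
  intro t' ht'
  apply (f.fiberι (f ξ)).isEmbedding.injective
  rw [Scheme.Hom.fiberι_asFiber]
  apply hξ
  have := (fiberι_specializes_iff f (f ξ) t' (f.asFiber ξ)).mpr ht'
  rwa [Scheme.Hom.fiberι_asFiber] at this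

end Fibre

section Tower

variable {k : Type u} [Field k] {X Y : Scheme.{u}} (f : X ⟶ Y)
  (qY : Y ⟶ Spec (CommRingCat.of k)) [LocallyOfFiniteType qY] [LocallyOfFiniteType f]
  [LocallyOfFiniteType (f ≫ qY)]

/-- Additivity of transcendence degrees: `δ_X = δ_Y ∘ f + trdeg`. -/
theorem deltaCompat_comp : Cyc.DeltaCompat f (delta (f ≫ qY)) (delta qY) := by
  intro x
  obtain ⟨n, hn⟩ := Groth.Agent.H48.DimIneqSch2.exists_trdeg_eq_nat f x
  refine ⟨n, hn, ?_⟩
  obtain ⟨nX, hnX, hδX⟩ := deltaCompat (f ≫ qY) x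
  obtain ⟨nY, hnY, hδY⟩ := deltaCompat qY (f x)
  letI a01 : Algebra ((Spec (CommRingCat.of k)).residueField (qY (f x))) (Y.residueField (f x)) :=
    (qY.residueFieldMap (f x)).hom.toAlgebra
  letI a12 : Algebra (Y.residueField (f x)) (X.residueField x) :=
    (f.residueFieldMap x).hom.toAlgebra
  letI a02 : Algebra ((Spec (CommRingCat.of k)).residueField (qY (f x))) (X.residueField x) :=
    ((f ≫ qY).residueFieldMap x).hom.toAlgebra
  haveI : IsScalarTower ((Spec (CommRingCat.of k)).residueField (qY (f x)))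
      (Y.residueField (f x)) (X.residueField x) := by
    apply IsScalarTower.of_algebraMap_eq'
    change ((f ≫ qY).residueFieldMap x).hom =
      (f.residueFieldMap x).hom.comp (qY.residueFieldMap (f x)).hom
    rw [Scheme.residueFieldMap_comp]
    rfl
  have key := trdeg_add_eq ((Spec (CommRingCat.of k)).residueField (qY (f x)))
    (Y.residueField (f x)) (A := X.residueField x)
  rw [hn, hnY] at key
  have hnX' : Algebra.trdeg ((Spec (CommRingCat.of k)).residueField (qY (f x)))
      (X.residueField x) = nX := hnX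
  rw [hnX'] at key
  have : nY + n = nX := by exact_mod_cast key
  rw [hδX, hδY]
  simp only [zero_add]
  exact_mod_cast this.symm

end Tower

section Main

variable {k : Type u} [Field k] {X Y : Scheme.{u}} (f : X ⟶ Y)
  (qY : Y ⟶ Spec (CommRingCat.of k)) [LocallyOfFiniteType qY]
  [LocallyOfFiniteType (f ≫ qY)]

/-- `δ` of a point without proper generizations, in an equidimensional scheme. -/
theorem delta_eq_of_isGen_of_equidim {X : Scheme.{u}} (q : X ⟶ Spec (CommRingCat.of k))
    [LocallyOfFiniteType q] (D : ℕ)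
    (hX : ∀ Z ∈ irreducibleComponents (X : Type u), topologicalKrullDim Z = (D : WithBot ℕ∞))
    (ξ : X) (hξ : IsGen ξ) : delta q ξ = D := by
  have h1 := hX _ (closure_mem_irreducibleComponents ξ hξ)
  rw [topologicalKrullDim_closure q ξ] at h1
  have h2 : ((delta q ξ).toNat : ℕ∞) = (D : ℕ∞) := by exact_mod_cast h1
  have h3 : (delta q ξ).toNat = D := by exact_mod_cast h2
  have := delta_nonneg' q ξ
  omega

/-- Local ring dimension at a point of an equidimensional scheme of finite type over a field. -/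
theorem ringKrullDim_stalk_of_equidim {X : Scheme.{u}} (q : X ⟶ Spec (CommRingCat.of k))
    [LocallyOfFiniteType q] (D : ℕ)
    (hX : ∀ Z ∈ irreducibleComponents (X : Type u), topologicalKrullDim Z = (D : WithBot ℕ∞))
    (x : X) :
    ringKrullDim (X.presheaf.stalk x) = ((((D : ℤ) - delta q x).toNat : ℕ∞) : WithBot ℕ∞) ∧
      delta q x ≤ D := by
  haveI := isLocallyNoetherian q
  refine ⟨ringKrullDim_stalk_eq_of_equidim (delta q) (isDimFun q) x D
    (fun ξ hξ _ => delta_eq_of_isGen_of_equidim q D hX ξ hξ), ?_⟩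
  obtain ⟨ξ, hξ, hξx⟩ := exists_isGen_specializes x
  rw [← delta_eq_of_isGen_of_equidim q D hX ξ hξ]
  haveI := jacobsonSpace q
  exact Groth.Agent.H48.CycDim6.delta_mono X (delta q) (isDimFun q) hξx

include qY in
/-- **S14403.**  Flat morphism of schemes locally of finite type over a field, with equidimensional
target: the source is equidimensional of dimension `d + n` iff all fibres are equidimensional of
dimension `n`. -/
theorem equidim_iff_fibres_equidim [Flat f] (d n : ℕ)
    (hY : ∀ Z ∈ irreducibleComponents (Y : Type u), topologicalKrullDim Z = (d : WithBot ℕ∞)) :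
    (∀ Z ∈ irreducibleComponents (X : Type u),
        topologicalKrullDim Z = ((d + n : ℕ) : WithBot ℕ∞)) ↔
      ∀ (y : Y), ∀ Z ∈ irreducibleComponents (f.fiber y : Type u),
        topologicalKrullDim Z = (n : WithBot ℕ∞) := by
  haveI : LocallyOfFiniteType f := locallyOfFiniteType_of_comp f qY
  haveI := isLocallyNoetherian qY
  haveI := isLocallyNoetherian (f ≫ qY)
  have hδ := deltaCompat_comp f qY
  have hδX := isDimFun (f ≫ qY)
  constructor
  · intro hX y T hT
    obtain ⟨x, hfx, hmax, hdimT⟩ := exists_point_of_mem_irreducibleComponents_fiber f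
      (delta (f ≫ qY)) (delta qY) hδX hδ y T hT
    obtain ⟨hsX, hleX⟩ := ringKrullDim_stalk_of_equidim (f ≫ qY) (d + n) hX x
    obtain ⟨hsY, hleY⟩ := ringKrullDim_stalk_of_equidim qY d hY (f x)
    have hC := ringKrullDim_stalk_eq_of_flat_of_fibre_generic f x hmax
    rw [hsX, hsY] at hC
    have h2 : ((((d + n : ℕ) : ℤ) - delta (f ≫ qY) x).toNat : ℕ∞) =
        ((((d : ℕ) : ℤ) - delta qY (f x)).toNat : ℕ∞) := by exact_mod_cast hC
    have h3 : (((d + n : ℕ) : ℤ) - delta (f ≫ qY) x).toNat =
        (((d : ℕ) : ℤ) - delta qY (f x)).toNat := by exact_mod_cast h2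
    rw [hdimT, ← hfx]
    have h4 : (delta (f ≫ qY) x - delta qY (f x)).toNat = n := by
      push_cast at h3 hleX
      omega
    rw [h4]
    rfl
  · intro hfib Z hZ
    obtain ⟨ξ, rfl, hξmax⟩ := exists_closure_eq_of_mem_irreducibleComponents Z hZ
    have hξ : IsGen ξ := hξmax
    have hη : IsGen (f ξ) := isGen_map_of_flat f ξ hξ
    have hδη := delta_eq_of_isGen_of_equidim qY d hY (f ξ) hη
    obtain ⟨T, hT, hdimT⟩ := exists_component_fiber_of_isGen f (delta (f ≫ qY)) (delta qY)
      hδX hδ ξ hξ
    rw [hfib (f ξ) T hT] at hdimT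
    have h2 : (n : ℕ∞) = ((delta (f ≫ qY) ξ - delta qY (f ξ)).toNat : ℕ∞) := by
      exact_mod_cast hdimT
    have h3 : n = (delta (f ≫ qY) ξ - delta qY (f ξ)).toNat := by exact_mod_cast h2
    obtain ⟨m, -, hm⟩ := hδ ξ
    rw [topologicalKrullDim_closure (f ≫ qY) ξ]
    have h4 : (delta (f ≫ qY) ξ).toNat = d + n := by omega
    rw [h4]
    rfl

end Main

end Groth.Agent.H99.FieldDim
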