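import Mathlib
import Groth.Agent.H99.FieldDim

/-!
# Dimension theory over a field, continued (helper99; S14404, S10884, S17411)
-/

set_option autoImplicit false
set_option backward.isDefEq.respectTransparency.types false
set_option linter.style.haveILetI false
set_option linter.unusedSectionVars false
universe u

open AlgebraicGeometry CategoryTheory TopologicalSpace

namespace Groth.Agent.H99.FieldDim

open Groth.Agent.H48.CycDim6 Groth.Agent.H48.CycDim7 Groth.Agent.H48.DimIneqSch

section Main2

variable {k : Type u} [Field k] {X Y : Scheme.{u}} (f : X ⟶ Y)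
  (qY : Y ⟶ Spec (CommRingCat.of k)) [LocallyOfFiniteType qY]
  [LocallyOfFiniteType (f ≫ qY)]

theorem topologicalKrullDim_univ (W : Type*) [TopologicalSpace W] :
    topologicalKrullDim ↥(Set.univ : Set W) = topologicalKrullDim W :=
  IsHomeomorph.topologicalKrullDim_eq _ (Homeomorph.Set.univ W).isHomeomorph

/-- Dimension of an irreducible scheme locally of finite type over a field. -/
theorem topologicalKrullDim_of_irreducible {X : Scheme.{u}} (q : X ⟶ Spec (CommRingCat.of k))
    [LocallyOfFiniteType q] [IrreducibleSpace X] :
    topologicalKrullDim X = (((delta q (genericPoint X)).toNat : ℕ∞) : WithBot ℕ∞) := by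
  rw [← topologicalKrullDim_closure q (genericPoint X), (genericPoint_spec X).def,
    topologicalKrullDim_univ]

include qY in
/-- **S14404.** -/
theorem dim_fibre_add_dim_eq [Flat f] [IrreducibleSpace X] [IrreducibleSpace Y] :
    topologicalKrullDim Y ≤ topologicalKrullDim X ∧
      ∀ (y : Y), ∀ Z ∈ irreducibleComponents (f.fiber y : Type u),
        topologicalKrullDim Z + topologicalKrullDim Y = topologicalKrullDim X := by
  haveI : LocallyOfFiniteType f := locallyOfFiniteType_of_comp f qY
  have hδ := deltaCompat_comp f qY
  have hgen : f (genericPoint X) = genericPoint Y := by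
    have h1 : IsGen (genericPoint X) := fun ξ' h =>
      (h.antisymm (genericPoint_specializes ξ')).eq
    have h2 := isGen_map_of_flat f _ h1
    exact (h2 _ (genericPoint_specializes _)).symm
  obtain ⟨m, -, hm⟩ := hδ (genericPoint X)
  rw [hgen] at hm
  have hY0 := delta_nonneg' qY (genericPoint Y)
  set d : ℕ := (delta qY (genericPoint Y)).toNat with hd
  have hdY : topologicalKrullDim Y = (d : WithBot ℕ∞) := topologicalKrullDim_of_irreducible qY
  have hdX : topologicalKrullDim X = ((d + m : ℕ) : WithBot ℕ∞) := by
    rw [topologicalKrullDim_of_irreducible (f ≫ qY), hm]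
    have : (delta qY (genericPoint Y) + (m : ℤ)).toNat = d + m := by omega
    rw [this]
    rfl
  have hY : ∀ Z ∈ irreducibleComponents (Y : Type u), topologicalKrullDim Z = (d : WithBot ℕ∞) := by
    intro Z hZ
    rw [irreducibleComponents_eq_singleton, Set.mem_singleton_iff] at hZ
    rw [hZ, topologicalKrullDim_univ, hdY]
  have hX : ∀ Z ∈ irreducibleComponents (X : Type u),
      topologicalKrullDim Z = ((d + m : ℕ) : WithBot ℕ∞) := by
    intro Z hZ
    rw [irreducibleComponents_eq_singleton, Set.mem_singleton_iff] at hZ
    rw [hZ, topologicalKrullDim_univ, hdX]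
  have key := (equidim_iff_fibres_equidim f qY d m hY).mp hX
  refine ⟨?_, fun y Z hZ => ?_⟩
  · rw [hdY, hdX]
    exact_mod_cast Nat.le_add_right d m
  · rw [key y Z hZ, hdY, hdX]
    push_cast
    exact add_comm _ _

end Main2

end Groth.Agent.H99.FieldDim
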