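import Mathlib
import Groth.Agent.H99.FieldDim2
import Groth.Agent.H48.FieldDim
import Groth.Agent.H17.Chev.DimTotal

/-!
# Dimension theory over a field, part 3 (helper99; S10884, S17411)
-/

set_option autoImplicit false
set_option backward.isDefEq.respectTransparency.types false
set_option linter.style.haveILetI false
set_option linter.unusedSectionVars false
universe u

open AlgebraicGeometry CategoryTheory TopologicalSpace

namespace Groth.Agent.H99.FieldDim

open Groth.Agent.H48.CycDim6 Groth.Agent.H48.CycDim7 Groth.Agent.H48.DimIneqSch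
  Groth.Agent.H17.Chev

section Dominant

variable {X Y : Scheme.{u}} (f : X ⟶ Y)

/-- A dominant quasi-compact morphism hits every point without proper generizations. -/
theorem exists_preimage_of_isGen [QuasiCompact f] (hdom : DenseRange f.base) (η : Y)
    (hη : IsGen η) : ∃ x : X, f x = η := by
  obtain ⟨V, hV, hηV, -⟩ := exists_isAffineOpen_mem_and_subset (x := η) (U := ⊤) trivial
  have hqc : IsCompact ((f ⁻¹ᵁ V : X.Opens) : Set X) := f.isCompact_preimage hV.isCompact
  -- finitely many affine opens cover the preimage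
  obtain ⟨t, ht⟩ := hqc.elim_finite_subcover
    (fun U : {U : X.affineOpens // (U : X.Opens) ≤ f ⁻¹ᵁ V} => ((U.1 : X.Opens) : Set X))
    (fun U => (U.1 : X.Opens).isOpen) (by
      intro x hx
      obtain ⟨_, ⟨U, hU, rfl⟩, hxU, hUV⟩ :=
        X.isBasis_affineOpens.exists_subset_of_mem_open hx (f ⁻¹ᵁ V).isOpen
      exact Set.mem_iUnion.mpr ⟨⟨⟨U, hU⟩, hUV⟩, hxU⟩)
  -- `η` is in the closure of the image of one of them
  have h1 : η ∈ closure (f.base '' ((f ⁻¹ᵁ V : X.Opens) : Set X)) := by
    rw [mem_closure_iff]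
    intro W hW hηW
    obtain ⟨_, ⟨hyW, hyV⟩, x, rfl⟩ :=
      hdom.inter_open_nonempty (W ∩ V) (hW.inter V.isOpen) ⟨η, hηW, hηV⟩
    exact ⟨f x, hyW, x, hyV, rfl⟩
  have h2 : η ∈ ⋃ U ∈ t, closure (f.base '' ((U.1 : X.Opens) : Set X)) := by
    have hfin := t.finite_toSet.closure_biUnion
      (fun U : {U : X.affineOpens // (U : X.Opens) ≤ f ⁻¹ᵁ V} => f.base '' ((U.1 : X.Opens) : Set X))
    simp only [Finset.mem_coe] at hfin
    rw [← hfin]
    refine closure_mono ?_ h1
    rintro _ ⟨x, hx, rfl⟩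
    obtain ⟨U, hU, hxU⟩ := Set.mem_iUnion₂.mp (ht hx)
    exact Set.mem_iUnion₂.mpr ⟨U, hU, x, hxU, rfl⟩
  obtain ⟨⟨⟨U, hU⟩, hUV⟩, -, hηU⟩ := Set.mem_iUnion₂.mp h2
  replace hU : IsAffineOpen U := hU
  letI : Algebra Γ(Y, V) Γ(X, U) := (f.appLE V U hUV).hom.toAlgebra
  have hsq : Spec.map (CommRingCat.ofHom (algebraMap Γ(Y, V) Γ(X, U))) ≫ hV.fromSpec =
      hU.fromSpec ≫ f := IsAffineOpen.SpecMap_appLE_fromSpec f hV hU hUV
  let p : ↥(Spec Γ(Y, V)) := hV.primeIdealOf ⟨η, hηV⟩
  have hp : hV.fromSpec p = η := hV.fromSpec_primeIdealOf ⟨η, hηV⟩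
  -- the image of `U` is the image of `Spec Γ(X,U) → Spec Γ(Y,V)`
  have himg : f.base '' (U : Set X) = hV.fromSpec.base ''
      (Set.range (PrimeSpectrum.comap (algebraMap Γ(Y, V) Γ(X, U)))) := by
    ext y
    constructor
    · rintro ⟨x, hxU, rfl⟩
      let q : ↥(Spec Γ(X, U)) := hU.primeIdealOf ⟨x, hxU⟩
      have hq : hU.fromSpec q = x := hU.fromSpec_primeIdealOf ⟨x, hxU⟩
      refine ⟨_, ⟨q, rfl⟩, ?_⟩
      rw [← hq]
      exact (chart_map_eq f Γ(Y, V) Γ(X, U) hU.fromSpec hV.fromSpec hsq q).symm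
    · rintro ⟨_, ⟨q, rfl⟩, rfl⟩
      refine ⟨hU.fromSpec (show ↥(Spec Γ(X, U)) from q), Groth.Agent.H24.fromSpec_mem hU _, ?_⟩
      exact chart_map_eq f Γ(Y, V) Γ(X, U) hU.fromSpec hV.fromSpec hsq q
  have hker : RingHom.ker (algebraMap Γ(Y, V) Γ(X, U)) ≤ p.asIdeal := by
    have h3 : (show PrimeSpectrum Γ(Y, V) from p) ∈
        closure (Set.range (PrimeSpectrum.comap (algebraMap Γ(Y, V) Γ(X, U)))) := by
      have hind : Topology.IsInducing (fun z : PrimeSpectrum Γ(Y, V) => hV.fromSpec.base z) :=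
        hV.fromSpec.isOpenEmbedding.isInducing
      rw [hind.closure_eq_preimage_closure_image, Set.mem_preimage]
      have h4 : η ∈ closure (f.base '' (U : Set X)) := hηU
      rw [himg, ← hp] at h4
      exact h4
    rw [PrimeSpectrum.closure_range_comap] at h3
    exact h3
  have hmin : p.asIdeal ∈ ((⊥ : Ideal Γ(X, U)).comap (algebraMap Γ(Y, V) Γ(X, U))).minimalPrimes := by
    rw [← RingHom.ker_eq_comap_bot]
    refine ⟨⟨p.isPrime, hker⟩, ?_⟩
    rintro Q' ⟨hQ'prime, -⟩ hQ'p
    let p' : ↥(Spec Γ(Y, V)) := ⟨Q', hQ'prime⟩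
    have hsp : hV.fromSpec p' ⤳ hV.fromSpec p :=
      ((PrimeSpectrum.le_iff_specializes p' p).mp hQ'p).map hV.fromSpec.continuous
    rw [hp] at hsp
    have := hη _ hsp
    rw [← hp] at this
    have hpp : p' = p := hV.fromSpec.isOpenEmbedding.injective this
    exact (congrArg PrimeSpectrum.asIdeal hpp).ge
  obtain ⟨Q, hQprime, -, hQ⟩ := Ideal.exists_comap_eq_of_mem_minimalPrimes _ _ hmin
  let q : ↥(Spec Γ(X, U)) := ⟨Q, hQprime⟩
  refine ⟨hU.fromSpec q, ?_⟩
  rw [chart_map_eq f Γ(Y, V) Γ(X, U) hU.fromSpec hV.fromSpec hsq q, ← hp]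
  congr 1
  exact PrimeSpectrum.ext hQ

end Dominant

section Sup

variable {k : Type u} [Field k] {X : Scheme.{u}} (q : X ⟶ Spec (CommRingCat.of k))
  [LocallyOfFiniteType q]

theorem delta_eq_delta48 (x : X) : delta q x = Groth.Agent.H48.FieldDim.δ q x := by
  obtain ⟨n, hn, h⟩ := deltaCompat q x
  obtain ⟨n', hn', h'⟩ := Groth.Agent.H48.FieldDim.deltaCompat q x
  rw [h, h']
  rw [hn] at hn'
  have : n = n' := by exact_mod_cast hn'
  rw [this]

/-- `dim X = sup_x trdeg_k κ(x)`. -/
theorem topologicalKrullDim_eq_iSup_delta :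
    topologicalKrullDim X = ⨆ ξ : X, (((delta q ξ).toNat : ℕ∞) : WithBot ℕ∞) := by
  rw [Groth.Agent.H48.FieldDim.topologicalKrullDim_eq_iSup q]
  congr 1
  funext ξ
  rw [delta_eq_delta48]

theorem delta_le_topologicalKrullDim (ξ : X) :
    (((delta q ξ).toNat : ℕ∞) : WithBot ℕ∞) ≤ topologicalKrullDim X := by
  rw [topologicalKrullDim_eq_iSup_delta q]
  exact le_iSup (fun ξ : X => (((delta q ξ).toNat : ℕ∞) : WithBot ℕ∞)) ξ

include q in
/-- `dim X = sup_x dim closure {x}`. -/
theorem topologicalKrullDim_eq_iSup_closure :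
    topologicalKrullDim X = ⨆ ξ : X, topologicalKrullDim ↥(closure ({ξ} : Set X)) := by
  rw [topologicalKrullDim_eq_iSup_delta q]
  congr 1
  funext ξ
  rw [topologicalKrullDim_closure q ξ]

end Sup

section FibreSup

variable {X Y : Scheme.{u}} (f : X ⟶ Y) [LocallyOfFiniteType f]

/-- The dimension of a fibre is the supremum of the dimensions of the closures of its points. -/
theorem topologicalKrullDim_fiber_eq_iSup_closure (y : Y) :
    topologicalKrullDim ↥(f.fiber y) =
      ⨆ t : f.fiber y, topologicalKrullDim ↥(closure ({t} : Set (f.fiber y))) := by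
  haveI : LocallyOfFiniteType (f.fiberToSpecResidueField y) :=
    inferInstanceAs (LocallyOfFiniteType (Limits.pullback.snd f (Y.fromSpecResidueField y)))
  exact topologicalKrullDim_eq_iSup_closure (k := Y.residueField y)
    (f.fiberToSpecResidueField y)

end FibreSup

section Main3

open Groth.Agent.H48.CycFib

variable {k : Type u} [Field k] {X Y : Scheme.{u}} (q : Y ⟶ Spec (CommRingCat.of k))
  [LocallyOfFiniteType q] (f : X ⟶ Y) [LocallyOfFiniteType f] [QuasiCompact f]

include q in
/-- **S10884.** A dominant morphism of finite type to a scheme locally of finite type over a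
field, all of whose non-empty fibres have dimension `r`, has `dim X = r + dim Y`. -/
theorem topologicalKrullDim_eq_add_of_fibres (hdom : DenseRange f.base) (r : ℕ)
    (hfib : ∀ y : Y, (f.base ⁻¹' {y}).Nonempty → topologicalKrullDim (f.base ⁻¹' {y}) = r) :
    topologicalKrullDim X = (r : WithBot ℕ∞) + topologicalKrullDim Y := by
  haveI : LocallyOfFiniteType (f ≫ q) := inferInstance
  have hδ := deltaCompat_comp f q
  have hδX := isDimFun (f ≫ q)
  have hδY := isDimFun q
  haveI : JacobsonSpace Y := jacobsonSpace q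
  -- fibre dimension in terms of closures of points
  have hfib' : ∀ x : X, (⨆ t : f.fiber (f x),
      topologicalKrullDim ↥(closure ({t} : Set (f.fiber (f x))))) = (r : WithBot ℕ∞) := by
    intro x
    rw [← topologicalKrullDim_fiber_eq_iSup_closure, ← hfib (f x) ⟨x, rfl⟩]
    exact IsHomeomorph.topologicalKrullDim_eq _ (f.fiberHomeo (f x)).isHomeomorph
  apply le_antisymm
  · rw [topologicalKrullDim_eq_iSup_delta (f ≫ q)]
    refine iSup_le fun x => ?_
    obtain ⟨n, -, hn⟩ := hδ x
    have h1 : topologicalKrullDim ↥(closure ({f.asFiber x} : Set (f.fiber (f x)))) ≤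
        (r : WithBot ℕ∞) := by
      rw [← hfib' x]
      exact le_iSup (fun t => topologicalKrullDim ↥(closure ({t} : Set (f.fiber (f x)))))
        (f.asFiber x)
    rw [topologicalKrullDim_closure_asFiber f _ _ hδX hδ x] at h1
    have h2 := delta_le_topologicalKrullDim q (f x)
    have h0 := delta_nonneg' q (f x)
    have hn' : n ≤ r := by
      have : (delta (f ≫ q) x - delta q (f x)).toNat = n := by omega
      rw [this] at h1
      exact_mod_cast h1
    have : (delta (f ≫ q) x).toNat = n + (delta q (f x)).toNat := by omega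
    rw [this]
    push_cast
    refine add_le_add ?_ h2
    exact_mod_cast hn'
  · rw [add_comm, topologicalKrullDim_eq_iSup_delta q]
    refine iSup_add_natCast_le _ r _ fun y => ?_
    obtain ⟨η, hη, hηy⟩ := exists_isGen_specializes y
    obtain ⟨x₀, hx₀⟩ := exists_preimage_of_isGen f hdom η hη
    have hmono : delta q y ≤ delta q η := delta_mono Y (delta q) hδY hηy
    have h0 := delta_nonneg' q y
    have hle : (((delta q y).toNat : ℕ∞) : WithBot ℕ∞) ≤ (((delta q η).toNat : ℕ∞) : WithBot ℕ∞) := by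
      have : (delta q y).toNat ≤ (delta q η).toNat := by omega
      exact_mod_cast this
    refine (add_le_add_left hle _).trans ?_
    rw [add_comm, ← hfib' x₀, hx₀]
    have key := iSup_add_natCast_le
      (fun t : f.fiber η => topologicalKrullDim ↥(closure ({t} : Set (f.fiber η))))
      (delta q η).toNat (topologicalKrullDim X) ?_
    · exact key
    · intro t
      rw [topologicalKrullDim_closure_fiber f _ _ hδX hδ η _ (Groth.Agent.H48.CycFib.map_fiberι f η t) t rfl]
      obtain ⟨n, -, hn⟩ := hδ (f.fiberι η t)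
      rw [Groth.Agent.H48.CycFib.map_fiberι] at hn
      have h0' := delta_nonneg' q η
      have : (delta (f ≫ q) (f.fiberι η t) - delta q η).toNat + (delta q η).toNat =
          (delta (f ≫ q) (f.fiberι η t)).toNat := by omega
      have h3 := delta_le_topologicalKrullDim (f ≫ q) (f.fiberι η t)
      rw [← this] at h3
      exact_mod_cast h3

end Main3

end Groth.Agent.H99.FieldDim
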