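import Mathlib
import Groth.Agent.H99.FieldDim3

/-!
# Dimension theory over a field, part 4 (helper99; S17411)
-/

set_option autoImplicit false
set_option backward.isDefEq.respectTransparency.types false
set_option linter.style.haveILetI false
set_option linter.unusedSectionVars false
universe u

open AlgebraicGeometry CategoryTheory TopologicalSpace

namespace Groth.Agent.H99.FieldDim

open Groth.Agent.H48.CycDim6 Groth.Agent.H48.CycDim7 Groth.Agent.H48.DimIneqSch

section Dom

variable {k : Type u} [Field k] {X Y Z : Scheme.{u}} (qZ : Z ⟶ Spec (CommRingCat.of k))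
  [LocallyOfFiniteType qZ] (η : Y ⟶ Z) [LocallyOfFiniteType (η ≫ qZ)] (ρ : X ⟶ Y)
  [QuasiCompact (ρ ≫ η)] [IrreducibleSpace Y] [IrreducibleSpace Z]

include qZ in
/-- If `Y`, `Z` are irreducible of the same dimension, locally of finite type over a field, and
`ρ ≫ η` is dominant and quasi-compact, then `ρ` hits the generic point of `Y`. -/
theorem exists_map_eq_genericPoint_of_comp_dense
    (hdim : topologicalKrullDim Y = topologicalKrullDim Z)
    (h : DenseRange (ρ ≫ η).base) : ∃ x : X, ρ x = genericPoint Y := by
  haveI : LocallyOfFiniteType η := locallyOfFiniteType_of_comp η qZ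
  have hδ := deltaCompat_comp η qZ
  have hδY := isDimFun (η ≫ qZ)
  have hgenZ : IsGen (genericPoint Z) := fun ξ' h =>
    (h.antisymm (genericPoint_specializes ξ')).eq
  obtain ⟨x, hx⟩ := exists_preimage_of_isGen (ρ ≫ η) h (genericPoint Z) hgenZ
  refine ⟨x, ?_⟩
  have hx' : η (ρ x) = genericPoint Z := hx
  have hY := topologicalKrullDim_of_irreducible (η ≫ qZ)
  have hZ := topologicalKrullDim_of_irreducible qZ
  rw [hY, hZ] at hdim
  have hnat : (delta (η ≫ qZ) (genericPoint Y)).toNat = (delta qZ (genericPoint Z)).toNat := by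
    exact_mod_cast hdim
  have h0Y := delta_nonneg' (η ≫ qZ) (genericPoint Y)
  have h0Z := delta_nonneg' qZ (genericPoint Z)
  obtain ⟨n, -, hn⟩ := hδ (ρ x)
  rw [hx'] at hn
  by_contra hne
  have hlt := (hδY (genericPoint Y) (ρ x) (genericPoint_specializes _) (Ne.symm hne)).1
  omega

end Dom

end Groth.Agent.H99.FieldDim
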