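import Mathlib
import Groth.Agent.H99.FieldDim4

/-!
# Dimension theory over a field, part 5: closed subsets and zero loci of sections
(helper99; S4714)
-/

set_option autoImplicit false
set_option backward.isDefEq.respectTransparency.types false
set_option linter.style.haveILetI false
set_option linter.unusedSectionVars false
universe u

open AlgebraicGeometry CategoryTheory TopologicalSpace

namespace Groth.Agent.H99.FieldDim

open Groth.Agent.H48.CycDim6 Groth.Agent.H48.CycDim7 Groth.Agent.H48.DimIneqSch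
  Groth.Agent.H62 Groth.Agent.H29.DimFormula Groth.Agent.H48.DimFun Groth.Agent.H48.DimFunSch

section Closed

variable {k : Type u} [Field k] {X : Scheme.{u}} (q : X ⟶ Spec (CommRingCat.of k))
  [LocallyOfFiniteType q]

/-- The dimension of a closed subset is the supremum of `δ` over its points. -/
theorem topologicalKrullDim_closed_eq_iSup (Z : Set X) (hZ : IsClosed Z) :
    topologicalKrullDim ↥Z = ⨆ z : Z, (((delta q z.1).toNat : ℕ∞) : WithBot ℕ∞) := by
  apply le_antisymm
  · have hdZ : PtTop.IsDimensionFunction (fun p : Z => delta q p.1) :=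
      isDimensionFunction_closed (delta q) (isDimFun q) Z hZ
    haveI : QuasiSober ↥Z := hZ.isClosedEmbedding_subtypeVal.quasiSober
    change Order.krullDim (IrreducibleCloseds ↥Z) ≤ _
    refine iSup_le fun s => ?_
    have h1 := length_le_of_dimfun hdZ s
    have h3 := delta_nonneg' q (gpt s.head).1
    have h4 : s.length ≤ (delta q (gpt s.last).1).toNat := by
      simp only at h1
      omega
    refine le_trans ?_ (le_iSup (fun z : Z => (((delta q z.1).toNat : ℕ∞) : WithBot ℕ∞))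
      (gpt s.last))
    exact_mod_cast h4
  · refine iSup_le fun z => ?_
    rw [← topologicalKrullDim_closure q z.1]
    have hsub : closure ({z.1} : Set X) ⊆ Z := hZ.closure_subset_iff.mpr (by simp)
    exact (Topology.IsEmbedding.inclusion hsub).isInducing.topologicalKrullDim_le

end Closed

section ZeroLocus

variable {X : Scheme.{u}} (f : Γ(X, ⊤))

/-- Membership in the zero locus of a global section, on an affine chart. -/
theorem fromSpec_mem_zeroLocus_iff {U : X.Opens} (hU : IsAffineOpen U)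
    (r : ↥(Spec Γ(X, U))) :
    hU.fromSpec r ∈ X.zeroLocus (U := ⊤) {f} ↔
      X.presheaf.map (homOfLE (le_top : U ≤ ⊤)).op f ∈ r.asIdeal := by
  have hba : X.basicOpen (X.presheaf.map (homOfLE (le_top : U ≤ ⊤)).op f) = U ⊓ X.basicOpen f :=
    Scheme.basicOpen_res _ _ _
  have hrU : hU.fromSpec r ∈ U := Groth.Agent.H24.fromSpec_mem hU r
  have h1 : hU.fromSpec r ∈ X.zeroLocus (U := ⊤) {f} ↔
      hU.fromSpec r ∈ X.zeroLocus (U := U) {X.presheaf.map (homOfLE (le_top : U ≤ ⊤)).op f} := by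
    rw [Scheme.zeroLocus_singleton, Scheme.zeroLocus_singleton, Set.mem_compl_iff,
      Set.mem_compl_iff, SetLike.mem_coe, SetLike.mem_coe, hba]
    constructor
    · exact fun h h' => h h'.2
    · exact fun h h' => h ⟨hrU, h'⟩
  rw [h1]
  have h2 : hU.fromSpec r ∈ X.zeroLocus (U := U)
      {X.presheaf.map (homOfLE (le_top : U ≤ ⊤)).op f} ↔
      r ∈ hU.fromSpec ⁻¹' X.zeroLocus (U := U)
        {X.presheaf.map (homOfLE (le_top : U ≤ ⊤)).op f} := Iff.rfl
  rw [h2, hU.fromSpec_preimage_zeroLocus]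
  change (show PrimeSpectrum Γ(X, U) from r) ∈ PrimeSpectrum.zeroLocus _ ↔ _
  rw [PrimeSpectrum.mem_zeroLocus, Set.singleton_subset_iff]
  rfl

/-- A point without proper generizations is not in a nowhere dense zero locus. -/
theorem not_mem_zeroLocus_of_isGen (hY : interior (X.zeroLocus (U := ⊤) {f}) = ∅) (η : X)
    (hη : IsGen η) : η ∉ X.zeroLocus (U := ⊤) {f} := by
  intro hηY
  obtain ⟨U, hU, hηU, -⟩ := exists_isAffineOpen_mem_and_subset (x := η) (U := ⊤) trivial
  set a : Γ(X, U) := X.presheaf.map (homOfLE (le_top : U ≤ ⊤)).op f with ha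
  have hba : X.basicOpen a = U ⊓ X.basicOpen f := Scheme.basicOpen_res _ _ _
  let p : ↥(Spec Γ(X, U)) := hU.primeIdealOf ⟨η, hηU⟩
  have hp : hU.fromSpec p = η := hU.fromSpec_primeIdealOf ⟨η, hηU⟩
  have hmin : p.asIdeal ∈ minimalPrimes Γ(X, U) := by
    refine ⟨⟨p.isPrime, bot_le⟩, ?_⟩
    rintro Q' ⟨hQ'prime, -⟩ hQ'p
    let p' : ↥(Spec Γ(X, U)) := ⟨Q', hQ'prime⟩
    have hsp : hU.fromSpec p' ⤳ hU.fromSpec p :=
      ((PrimeSpectrum.le_iff_specializes p' p).mp hQ'p).map hU.fromSpec.continuous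
    rw [hp] at hsp
    have := hη _ hsp
    rw [← hp] at this
    have hpp : p' = p := hU.fromSpec.isOpenEmbedding.injective this
    exact (congrArg PrimeSpectrum.asIdeal hpp).ge
  have hap : a ∈ p.asIdeal := by
    rw [← hp] at hηY
    exact (fromSpec_mem_zeroLocus_iff f hU p).mp hηY
  have hmem : a ∈ ⋃ p ∈ (⊥ : Ideal Γ(X, U)).minimalPrimes, (p : Set Γ(X, U)) :=
    Set.mem_biUnion hmin hap
  rw [Ideal.iUnion_minimalPrimes] at hmem
  obtain ⟨y, hy, hay⟩ := hmem
  have hy' : ¬ IsNilpotent y := by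
    intro h; exact hy h
  have hay' : IsNilpotent (a * y) := hay
  have hW : X.basicOpen y ≠ ⊥ := by
    rw [Ne, ← Scheme.isNilpotent_iff_basicOpen_eq_bot_of_isCompact hU.isCompact]; exact hy'
  have hay'' : X.basicOpen (a * y) = ⊥ := by
    rw [← Scheme.isNilpotent_iff_basicOpen_eq_bot_of_isCompact hU.isCompact]; exact hay'
  obtain ⟨w, hw⟩ : ∃ w : X, w ∈ X.basicOpen y := by
    by_contra hne
    push Not at hne
    exact hW (by ext w; simpa using hne w)
  have hsub : ((X.basicOpen y : X.Opens) : Set X) ⊆ X.zeroLocus (U := ⊤) {f} := by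
    intro w' hw'
    rw [Scheme.zeroLocus_singleton]
    intro hw'f
    have : w' ∈ X.basicOpen (a * y) := by
      rw [Scheme.basicOpen_mul, hba]
      exact ⟨⟨X.basicOpen_le y hw', hw'f⟩, hw'⟩
    rw [hay''] at this
    exact this
  have : w ∈ interior (X.zeroLocus (U := ⊤) {f}) :=
    mem_interior.mpr ⟨_, hsub, (X.basicOpen y).isOpen, hw⟩
  rw [hY] at this
  exact this

/-- Krull's principal ideal theorem for a dimension function. -/
theorem exists_mem_zeroLocus_delta_add_one [IsLocallyNoetherian X] (δ : X → ℤ)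
    (hδ : Cyc.IsDimFun X δ) (η y : X) (hηy : η ⤳ y) (hη : η ∉ X.zeroLocus (U := ⊤) {f})
    (hy : y ∈ X.zeroLocus (U := ⊤) {f}) :
    ∃ y' ∈ X.zeroLocus (U := ⊤) {f}, η ⤳ y' ∧ δ η = δ y' + 1 := by
  obtain ⟨U, hU, hyU, -⟩ := exists_isAffineOpen_mem_and_subset (x := y) (U := ⊤) trivial
  have hηU : η ∈ U := hηy.mem_open U.2 hyU
  haveI : IsNoetherianRing Γ(X, U) := IsLocallyNoetherian.component_noetherian ⟨U, hU⟩
  set a : Γ(X, U) := X.presheaf.map (homOfLE (le_top : U ≤ ⊤)).op f with ha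
  set pη : PrimeSpectrum Γ(X, U) := hU.primeIdealOf ⟨η, hηU⟩ with hpη
  set py : PrimeSpectrum Γ(X, U) := hU.primeIdealOf ⟨y, hyU⟩ with hpy
  have hfη : hU.fromSpec pη = η := hU.fromSpec_primeIdealOf ⟨η, hηU⟩
  have hfy : hU.fromSpec py = y := hU.fromSpec_primeIdealOf ⟨y, hyU⟩
  have hle : pη ≤ py := by
    rw [← fromSpec_specializes_iff hU, hfη, hfy]; exact hηy
  have haη : a ∉ pη.asIdeal := by
    intro h
    apply hη
    rw [← hfη]
    exact (fromSpec_mem_zeroLocus_iff f hU pη).mpr h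
  have hay : a ∈ py.asIdeal := by
    rw [← hfy] at hy
    exact (fromSpec_mem_zeroLocus_iff f hU py).mp hy
  obtain ⟨Q, hQmin, hQle⟩ := Ideal.exists_minimalPrimes_le
    (I := pη.asIdeal ⊔ Ideal.span {a}) (J := py.asIdeal)
    (sup_le hle ((Ideal.span_singleton_le_iff_mem _).mpr hay))
  haveI hQprime : Q.IsPrime := hQmin.1.1
  let q' : PrimeSpectrum Γ(X, U) := ⟨Q, hQprime⟩
  have hpq : pη ≤ q' := le_sup_left.trans hQmin.1.2
  have haQ : a ∈ Q := hQmin.1.2 ((le_sup_right : Ideal.span {a} ≤ _) (Ideal.subset_span rfl))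
  have hmapmin : Q.map (Ideal.Quotient.mk pη.asIdeal) ∈
      (Ideal.span {Ideal.Quotient.mk pη.asIdeal a}).minimalPrimes := by
    have h1 := Ideal.minimalPrimes_map_of_surjective (f := Ideal.Quotient.mk pη.asIdeal)
      Ideal.Quotient.mk_surjective (I := Ideal.span {a})
    rw [Ideal.map_span, Set.image_singleton] at h1
    rw [h1]
    refine ⟨Q, ?_, rfl⟩
    rw [Ideal.mk_ker, sup_comm]
    exact hQmin
  have hle1 : (Q.map (Ideal.Quotient.mk pη.asIdeal)).height ≤ 1 :=
    Ideal.height_le_one_of_isPrincipal_of_mem_minimalPrimes _ _ hmapmin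
  have hne0 : (Q.map (Ideal.Quotient.mk pη.asIdeal)).height ≠ 0 := by
    intro h0
    haveI : (Q.map (Ideal.Quotient.mk pη.asIdeal)).IsPrime := hmapmin.1.1
    rw [Ideal.height_eq_zero_iff, IsDomain.minimalPrimes_eq_singleton_bot,
      Set.mem_singleton_iff] at h0
    have h2 : Ideal.Quotient.mk pη.asIdeal a ∈ Q.map (Ideal.Quotient.mk pη.asIdeal) :=
      Ideal.mem_map_of_mem _ haQ
    rw [h0, Ideal.mem_bot, Ideal.Quotient.eq_zero_iff_mem] at h2
    exact haη h2
  have h1 : (Q.map (Ideal.Quotient.mk pη.asIdeal)).height = 1 :=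
    le_antisymm hle1 (Order.one_le_iff_ne_zero.mpr hne0)
  have h2 := height_map_mk_eq hU δ hδ pη q' hpq
  rw [h1, hfη] at h2
  refine ⟨hU.fromSpec q', (fromSpec_mem_zeroLocus_iff f hU q').mpr haQ, ?_, ?_⟩
  · rw [← hfη]
    exact (fromSpec_specializes_iff hU pη q').mpr hpq
  · have : (δ η - δ (hU.fromSpec q')).toNat = 1 := by exact_mod_cast h2.symm
    omega

end ZeroLocus

section MainZero

variable {k : Type u} [Field k] {X : Scheme.{u}} (p : X ⟶ Spec (CommRingCat.of k))
  [LocallyOfFiniteType p] (f : Γ(X, ⊤))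

include p in
/-- **S4714.** -/
theorem zeroLocus_dim (hY : interior (X.zeroLocus (U := ⊤) {f}) = ∅) :
    topologicalKrullDim (X.zeroLocus (U := ⊤) {f}) + 1 ≤ topologicalKrullDim X ∧
      ((∃ Z ∈ irreducibleComponents (X : Type u), topologicalKrullDim Z = topologicalKrullDim X) →
        (∀ Z ∈ irreducibleComponents (X : Type u), topologicalKrullDim Z = topologicalKrullDim X →
          (Z ∩ X.zeroLocus (U := ⊤) {f}).Nonempty) →
        topologicalKrullDim (X.zeroLocus (U := ⊤) {f}) + 1 = topologicalKrullDim X) := by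
  haveI : IsLocallyNoetherian X := isLocallyNoetherian p
  have hδ := isDimFun p
  have hcl : IsClosed (X.zeroLocus (U := ⊤) {f}) := X.zeroLocus_isClosed _
  have hdimY := topologicalKrullDim_closed_eq_iSup p _ hcl
  have part1 : topologicalKrullDim (X.zeroLocus (U := ⊤) {f}) + 1 ≤ topologicalKrullDim X := by
    rw [hdimY]
    have h1 : (1 : WithBot ℕ∞) = ((1 : ℕ) : WithBot ℕ∞) := by simp
    rw [h1]
    refine Groth.Agent.H17.Chev.iSup_add_natCast_le _ 1 _ fun y => ?_
    obtain ⟨η, hη, hηy⟩ := exists_isGen_specializes y.1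
    have hηY := not_mem_zeroLocus_of_isGen f hY η hη
    have hne : η ≠ y.1 := fun h => hηY (h ▸ y.2)
    have hlt := (hδ η y.1 hηy hne).1
    have h0 := delta_nonneg' p y.1
    have h2 := delta_le_topologicalKrullDim p η
    refine le_trans ?_ h2
    have : (delta p y.1).toNat + 1 ≤ (delta p η).toNat := by omega
    exact_mod_cast this
  refine ⟨part1, fun ⟨Z, hZ, hdimZ⟩ hmeet => le_antisymm part1 ?_⟩
  obtain ⟨y, hyZ, hyY⟩ := hmeet Z hZ hdimZ
  obtain ⟨η, hηZ, hηgen⟩ := exists_closure_eq_of_mem_irreducibleComponents Z hZ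
  have hη : IsGen η := hηgen
  have hηy : η ⤳ y := by
    rw [specializes_iff_mem_closure, hηZ]; exact hyZ
  have hηY := not_mem_zeroLocus_of_isGen f hY η hη
  obtain ⟨y', hy'Y, -, hy'δ⟩ := exists_mem_zeroLocus_delta_add_one f (delta p) hδ η y hηy hηY hyY
  have h0 := delta_nonneg' p y'
  rw [← hdimZ, ← hηZ, topologicalKrullDim_closure p η, hdimY]
  have h3 : (((delta p y').toNat : ℕ∞) : WithBot ℕ∞) ≤
      ⨆ z : ↥(X.zeroLocus (U := ⊤) {f}), (((delta p z.1).toNat : ℕ∞) : WithBot ℕ∞) :=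
    le_iSup (fun z : ↥(X.zeroLocus (U := ⊤) {f}) => (((delta p z.1).toNat : ℕ∞) : WithBot ℕ∞))
      ⟨y', hy'Y⟩
  have h4 : (delta p η).toNat = (delta p y').toNat + 1 := by omega
  rw [h4]
  push_cast
  exact add_le_add_left h3 1

end MainZero

end Groth.Agent.H99.FieldDim
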