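import Mathlib
import Groth.Agent.H99.FieldDim5
import Groth.Agent.H17.Chev.RedSubChev
import Groth.Agent.H17.Chev.CompDim
import Groth.Agent.H17.Chev.MaxPt
import Groth.Agent.H17.Chev.FibComp
import Groth.Agent.H20.GenFibreImage

/-!
# Morphisms with irreducible equidimensional closed fibres (helper99; S14378, S14369, S14370,
S10914)
-/

set_option autoImplicit false
set_option backward.isDefEq.respectTransparency.types false
set_option linter.style.haveILetI false
set_option linter.unusedSectionVars false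
universe u

open AlgebraicGeometry CategoryTheory TopologicalSpace

namespace Groth.Agent.H99.IrrFib

open Groth.Agent.H99.FieldDim Groth.Agent.H48.CycDim6 Groth.Agent.H48.CycDim7
  Groth.Agent.H48.CycFib

section Top

theorem irreducibleSpace_of_homeomorph {A B : Type*} [TopologicalSpace A] [TopologicalSpace B]
    (e : A ≃ₜ B) [IrreducibleSpace B] : IrreducibleSpace A := by
  rw [irreducibleSpace_def]
  have h : IsIrreducible (e.symm '' (Set.univ : Set B)) :=
    (IrreducibleSpace.isIrreducible_univ B).image e.symm e.symm.continuous.continuousOn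
  rwa [Set.image_univ, e.symm.surjective.range_eq] at h

/-- If a natural number is at most a supremum of natural numbers (in `WithBot ℕ∞`), it is at most
one of them. -/
theorem exists_le_of_le_iSup_natCast {ι : Type*} [Nonempty ι] (a : ι → ℕ) (d : ℕ)
    (h : (d : WithBot ℕ∞) ≤ ⨆ i, (((a i : ℕ) : ℕ∞) : WithBot ℕ∞)) : ∃ i, d ≤ a i := by
  by_contra hcon
  push Not at hcon
  obtain ⟨i₀⟩ := ‹Nonempty ι›
  have hd : 1 ≤ d := by have := hcon i₀; omega
  have hle : (⨆ i, (((a i : ℕ) : ℕ∞) : WithBot ℕ∞)) ≤ (((d - 1 : ℕ) : ℕ∞) : WithBot ℕ∞) := by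
    refine iSup_le fun i => ?_
    have := hcon i
    have h2 : a i ≤ d - 1 := by omega
    exact_mod_cast h2
  have h3 := h.trans hle
  have h4 : d ≤ d - 1 := by exact_mod_cast h3
  omega

end Top

section Fibre

variable {X Y : Scheme.{u}} (f : X ⟶ Y) [LocallyOfFiniteType f]

/-- Over a point with irreducible fibre, the local fibre dimension is the fibre dimension. -/
theorem fibreDimAt_eq_of_irreducible_fiber (x : X) (hirr : IsIrreducible (f.base ⁻¹' {f x})) :
    FlatMor.fibreDimAt f x = topologicalKrullDim ↥(f.base ⁻¹' {f x}) := by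
  unfold FlatMor.fibreDimAt
  haveI : LocallyOfFiniteType (f.fiberToSpecResidueField (f x)) :=
    inferInstanceAs (LocallyOfFiniteType (Limits.pullback.snd f (Y.fromSpecResidueField (f x))))
  haveI : IrreducibleSpace ↥(f.base ⁻¹' {f x}) := Subtype.irreducibleSpace hirr
  haveI : IrreducibleSpace (f.fiber (f x)) := irreducibleSpace_of_homeomorph (f.fiberHomeo (f x))
  rw [← Groth.Agent.H17.Chev.topologicalKrullDim_eq_localDim_of_irreducible
    (Y.residueField (f x)) (f.fiberToSpecResidueField (f x)) (f.asFiber x)]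
  exact IsHomeomorph.topologicalKrullDim_eq _ (f.fiberHomeo (f x)).isHomeomorph

variable (δX : X → ℤ) (δY : Y → ℤ) (hδX : Cyc.IsDimFun X δX) (hδ : Cyc.DeltaCompat f δX δY)

include hδX hδ in
/-- The local fibre dimension at a point without proper generizations. -/
theorem fibreDimAt_of_isGen (ξ : X) (hξ : IsGen ξ) :
    FlatMor.fibreDimAt f ξ = (((δX ξ - δY (f ξ)).toNat : ℕ∞) : WithBot ℕ∞) := by
  unfold FlatMor.fibreDimAt
  haveI : LocallyOfFiniteType (f.fiberToSpecResidueField (f ξ)) :=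
    inferInstanceAs (LocallyOfFiniteType (Limits.pullback.snd f (Y.fromSpecResidueField (f ξ))))
  have hmax : IsMax (f.asFiber ξ) := by
    intro w' hw'
    have h1 : w' ⤳ f.asFiber ξ := hw'
    have h2 := (fiberι_specializes_iff f (f ξ) w' (f.asFiber ξ)).mpr h1
    rw [Scheme.Hom.fiberι_asFiber] at h2
    have h3 := hξ _ h2
    have : w' = f.asFiber ξ := by
      apply (f.fiberι (f ξ)).isEmbedding.injective
      rw [h3, Scheme.Hom.fiberι_asFiber]
    rw [this]
  have hcomp := Groth.Agent.H17.Chev.closure_mem_irreducibleComponents_of_isMax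
    (f.fiber (f ξ)) (f.asFiber ξ) hmax
  rw [← Groth.Agent.H17.Chev.dim_irreducibleComponent_eq_localDim (Y.residueField (f ξ))
    (f.fiberToSpecResidueField (f ξ)) _ hcomp (f.asFiber ξ) isGenericPoint_closure,
    topologicalKrullDim_closure_asFiber f δX δY hδX hδ ξ]

end Fibre

section Main

variable {k : Type u} [Field k] {X Y : Scheme.{u}} (qY : Y ⟶ Spec (CommRingCat.of k))
  [LocallyOfFiniteType qY] (f : X ⟶ Y) [LocallyOfFiniteType f] (d : ℕ)
  (hirr : ∀ y : Y, IsClosed ({y} : Set Y) → IsIrreducible (f.base ⁻¹' {y}))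
  (hdim : ∀ y : Y, IsClosed ({y} : Set Y) → topologicalKrullDim ↥(f.base ⁻¹' {y}) = d)

include qY hirr hdim in
theorem fibreDimAt_of_isClosed (x : X) (hx : IsClosed ({x} : Set X)) :
    FlatMor.fibreDimAt f x = d := by
  haveI : JacobsonSpace Y := jacobsonSpace qY
  have hy : IsClosed ({f x} : Set Y) := f.closePoints_subset_preimage_closedPoints hx
  rw [fibreDimAt_eq_of_irreducible_fiber f x (hirr _ hy), hdim _ hy]

include hirr hdim in
/-- The relative dimension of every irreducible component over the closure of its image is `d`. -/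
theorem relDim_eq (ξ : X) (hξ : IsGen ξ) : delta (f ≫ qY) ξ = delta qY (f ξ) + d := by
  haveI : JacobsonSpace X := jacobsonSpace (f ≫ qY)
  have hδ := deltaCompat_comp f qY
  have hδX := isDimFun (f ≫ qY)
  obtain ⟨n, -, hn⟩ := hδ ξ
  have hfd := fibreDimAt_of_isGen f _ _ hδX hδ ξ hξ
  have hn' : (delta (f ≫ qY) ξ - delta qY (f ξ)).toNat = n := by omega
  rw [hn'] at hfd
  have h1 : n ≤ d := by
    obtain ⟨x, hξx, hx⟩ := exists_closed_specialization X ξ
    have hxd := fibreDimAt_of_isClosed qY f d hirr hdim x hx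
    have hopen := Groth.Agent.H17.Chev.isOpen_setOf_fibreDimAt_le f d
    have hxO : x ∈ {x : X | FlatMor.fibreDimAt f x ≤ d} := hxd.le
    have hξO := hξx.mem_open hopen hxO
    rw [Set.mem_ofPred_eq, hfd] at hξO
    exact_mod_cast hξO
  have h2 : d ≤ n := by
    have hopen := Groth.Agent.H17.Chev.isOpen_setOf_fibreDimAt_le f n
    have hξO : ξ ∈ {x : X | FlatMor.fibreDimAt f x ≤ n} := hfd.le
    obtain ⟨x, hxO, hx⟩ := nonempty_inter_closedPoints ⟨ξ, hξO⟩ hopen.isLocallyClosed
    have hxd := fibreDimAt_of_isClosed qY f d hirr hdim x hx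
    rw [Set.mem_ofPred_eq, hxd] at hxO
    exact_mod_cast hxO
  omega

include hirr hdim in
/-- The generic point of a closed fibre. -/
theorem exists_generic_fiber (y : Y) (hy : IsClosed ({y} : Set Y)) :
    ∃ g : X, IsGenericPoint g (f.base ⁻¹' {y}) ∧ delta (f ≫ qY) g = d := by
  have hcl : IsClosed (f.base ⁻¹' {y}) := hy.preimage f.continuous
  have hg := (hirr y hy).isGenericPoint_genericPoint hcl
  refine ⟨_, hg, ?_⟩
  have h1 := topologicalKrullDim_closure (f ≫ qY) (hirr y hy).genericPoint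
  rw [hg.def, hdim y hy] at h1
  have h0 := delta_nonneg' (f ≫ qY) (hirr y hy).genericPoint
  have : d = (delta (f ≫ qY) (hirr y hy).genericPoint).toNat := by exact_mod_cast h1
  omega

include qY hirr hdim in
/-- An irreducible component meeting a closed fibre contains it. -/
theorem fiber_subset_of_inter_nonempty (Z : Set X) (hZ : Z ∈ irreducibleComponents (X : Type u))
    (y : Y) (hy : IsClosed ({y} : Set Y)) (hne : (f.base ⁻¹' {y} ∩ Z).Nonempty) :
    f.base ⁻¹' {y} ⊆ Z := by
  have hδ := deltaCompat_comp f qY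
  have hδX := isDimFun (f ≫ qY)
  obtain ⟨x, hxy, hxZ⟩ := hne
  have hxy' : f x = y := hxy
  subst hxy'
  obtain ⟨ξ, hξZ, hξgen⟩ := exists_closure_eq_of_mem_irreducibleComponents Z hZ
  have hZc : IsClosed Z := isClosed_of_mem_irreducibleComponents Z hZ
  have hξ : IsGenericPoint ξ Z := hξZ
  have hB := Groth.Agent.H17.Chev.dim_generic_le_localDim f Z hZc ξ hξ x hxZ
  have hrel := relDim_eq qY f d hirr hdim ξ hξgen
  have hL : topologicalKrullDim ↥(Z ∩ f.base ⁻¹' {f.base ξ}) = (d : WithBot ℕ∞) := by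
    have h1 := Groth.Agent.H17.Chev.dim_closure_fiber_eq f (f ξ) (f.asFiber ξ)
    rw [Scheme.Hom.fiberι_asFiber, hξZ] at h1
    rw [← h1, topologicalKrullDim_closure_asFiber f _ _ hδX hδ ξ]
    have : (delta (f ≫ qY) ξ - delta qY (f ξ)).toNat = d := by omega
    rw [this]
    rfl
  have hR := Groth.Agent.H17.Chev.localDim_le_dim
    (X := ↥(Z ∩ f.base ⁻¹' {f.base x})) ⟨x, hxZ, rfl⟩
  have hcl : IsClosed (Z ∩ f.base ⁻¹' {f.base x}) := hZc.inter (hy.preimage f.continuous)
  rw [topologicalKrullDim_closed_eq_iSup (f ≫ qY) _ hcl] at hR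
  rw [hL] at hB
  have hle := hB.trans hR
  haveI : Nonempty ↥(Z ∩ f.base ⁻¹' {f.base x}) := ⟨⟨x, hxZ, rfl⟩⟩
  obtain ⟨⟨z, hzZ, hzy⟩, hdz⟩ := exists_le_of_le_iSup_natCast _ d hle
  obtain ⟨g, hg, hgd⟩ := exists_generic_fiber qY f d hirr hdim (f x) hy
  have hgz : g ⤳ z := by
    rw [specializes_iff_mem_closure, hg.def]; exact hzy
  have hzg : z = g := by
    by_contra hne
    have := (hδX g z hgz (Ne.symm hne)).1
    have h0 := delta_nonneg' (f ≫ qY) z
    simp only at hdz
    omega
  subst hzg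
  rw [← hg.def]
  exact hZc.closure_subset_iff.mpr (Set.singleton_subset_iff.mpr hzZ)

include qY hirr hdim in
/-- The dimension of an irreducible component. -/
theorem dim_component (Z : Set X) (hZ : Z ∈ irreducibleComponents (X : Type u)) :
    topologicalKrullDim ↥Z = (d : WithBot ℕ∞) + topologicalKrullDim ↥(closure (f.base '' Z)) := by
  obtain ⟨ξ, hξZ, hξgen⟩ := exists_closure_eq_of_mem_irreducibleComponents Z hZ
  have hrel := relDim_eq qY f d hirr hdim ξ hξgen
  have himg : closure (f.base '' Z) = closure {f ξ} := by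
    rw [← hξZ, closure_image_closure f.continuous, Set.image_singleton]
  rw [himg, ← hξZ, topologicalKrullDim_closure (f ≫ qY) ξ, topologicalKrullDim_closure qY (f ξ)]
  have h0 := delta_nonneg' qY (f ξ)
  have : (delta (f ≫ qY) ξ).toNat = d + (delta qY (f ξ)).toNat := by omega
  rw [this]
  push_cast
  rfl

include qY hirr in
theorem denseRange : DenseRange f.base := by
  haveI : JacobsonSpace Y := jacobsonSpace qY
  intro y
  have hsub : closedPoints Y ⊆ Set.range f.base := fun y hy => by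
    obtain ⟨x, hx⟩ := (hirr y hy).nonempty
    exact ⟨x, hx⟩
  exact closure_mono hsub (by rw [closure_closedPoints]; trivial)

theorem isGen_genericPoint [IrreducibleSpace Y] : IsGen (genericPoint Y) := fun ξ' h =>
  (h.antisymm (genericPoint_specializes ξ')).eq

/-- A component with dense image has generic point mapping to the generic point. -/
theorem map_eq_genericPoint_of_dense [IrreducibleSpace Y] (ξ : X)
    (h : Dense (f.base '' closure {ξ})) : f ξ = genericPoint Y := by
  have himg : closure (f.base '' closure {ξ}) = closure {f ξ} := by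
    rw [closure_image_closure f.continuous, Set.image_singleton]
  have h1 : IsGenericPoint (f ξ) (Set.univ : Set Y) := by
    change closure {f ξ} = Set.univ
    rw [← himg]
    exact h.closure_eq
  exact h1.eq (genericPoint_spec Y)

theorem dense_of_map_eq_genericPoint [IrreducibleSpace Y] (ξ : X)
    (h : f ξ = genericPoint Y) : Dense (f.base '' closure {ξ}) := by
  intro y
  have h1 : ({f ξ} : Set Y) ⊆ f.base '' closure {ξ} := by
    rintro _ rfl
    exact ⟨ξ, subset_closure rfl, rfl⟩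
  refine closure_mono h1 ?_
  rw [h, (genericPoint_spec Y).def]
  trivial

include qY hirr hdim in
/-- Exactly one irreducible component dominates `Y`. -/
theorem existsUnique_dominant_component [QuasiCompact f] [IrreducibleSpace Y] :
    ∃! Z : Set X, Z ∈ irreducibleComponents (X : Type u) ∧ Dense (f.base '' Z) := by
  haveI : JacobsonSpace Y := jacobsonSpace qY
  haveI : IsLocallyNoetherian X := isLocallyNoetherian (f ≫ qY)
  have hdom := denseRange qY f hirr
  obtain ⟨x₀, hx₀⟩ := exists_preimage_of_isGen f hdom (genericPoint Y) isGen_genericPoint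
  obtain ⟨ξ, hξ, hξx⟩ := exists_isGen_specializes x₀
  have hfξ : f ξ = genericPoint Y := by
    have h1 : f ξ ⤳ f x₀ := hξx.map f.continuous
    rw [hx₀] at h1
    exact isGen_genericPoint _ h1
  refine ⟨closure {ξ}, ⟨closure_mem_irreducibleComponents ξ hξ,
    dense_of_map_eq_genericPoint f ξ hfξ⟩, ?_⟩
  rintro Z₂ ⟨hZ₂, hZ₂d⟩
  obtain ⟨ξ₂, hξ₂Z, hξ₂gen⟩ := exists_closure_eq_of_mem_irreducibleComponents Z₂ hZ₂
  rw [← hξ₂Z] at hZ₂d
  have hfξ₂ := map_eq_genericPoint_of_dense f ξ₂ hZ₂d
  have hmax : ∀ t : X, IsGen t → IsMax t := by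
    intro t ht b hb
    have : b = t := ht b hb
    rw [this]
  obtain ⟨o₁, ho₁, hξo₁, ho₁Z⟩ :=
    Groth.Agent.H17.Chev.exists_open_subset_closure_of_isMax X ξ (hmax ξ hξ)
  obtain ⟨o₂, ho₂, hξo₂, ho₂Z⟩ :=
    Groth.Agent.H17.Chev.exists_open_subset_closure_of_isMax X ξ₂ (hmax ξ₂ hξ₂gen)
  let O₁ : X.Opens := ⟨o₁, ho₁⟩
  let O₂ : X.Opens := ⟨o₂, ho₂⟩
  obtain ⟨V₁, hV₁ne, hV₁⟩ := Groth.Agent.H20.GenFibre.exists_open_subset_range (O₁.ι ≫ f)
    ⟨⟨ξ, hξo₁⟩, hfξ⟩
  obtain ⟨V₂, hV₂ne, hV₂⟩ := Groth.Agent.H20.GenFibre.exists_open_subset_range (O₂.ι ≫ f)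
    ⟨⟨ξ₂, hξo₂⟩, hfξ₂⟩
  have hne : ((V₁ : Set Y) ∩ (V₂ : Set Y)).Nonempty :=
    nonempty_preirreducible_inter V₁.isOpen V₂.isOpen hV₁ne hV₂ne
  obtain ⟨y, ⟨hyV₁, hyV₂⟩, hy⟩ := nonempty_inter_closedPoints hne
    (V₁.isOpen.inter V₂.isOpen).isLocallyClosed
  obtain ⟨x₁, hx₁⟩ := hV₁ hyV₁
  obtain ⟨x₂, hx₂⟩ := hV₂ hyV₂
  obtain ⟨g, hg, -⟩ := exists_generic_fiber qY f d hirr hdim y hy
  have hgx₁ : g ⤳ x₁.1 := by
    rw [specializes_iff_mem_closure, hg.def]; exact hx₁
  have hgx₂ : g ⤳ x₂.1 := by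
    rw [specializes_iff_mem_closure, hg.def]; exact hx₂
  have hgo₁ : g ∈ o₁ := hgx₁.mem_open ho₁ x₁.2
  have hgo₂ : g ∈ o₂ := hgx₂.mem_open ho₂ x₂.2
  have hξ₂g : ξ₂ ⤳ g := specializes_iff_mem_closure.mpr (ho₂Z hgo₂)
  have hξ₂o₁ : ξ₂ ∈ o₁ := hξ₂g.mem_open ho₁ hgo₁
  have hξξ₂ : ξ ⤳ ξ₂ := specializes_iff_mem_closure.mpr (ho₁Z hξ₂o₁)
  have := hξ₂gen ξ hξξ₂
  rw [← hξ₂Z, this]

include qY hirr hdim in
/-- **S14369.** -/
theorem irreducible_of_isClosedMap [QuasiCompact f] [IrreducibleSpace Y]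
    (hcl : IsClosedMap f.base) :
    IrreducibleSpace X ∧
      topologicalKrullDim X = (d : WithBot ℕ∞) + topologicalKrullDim Y := by
  haveI : JacobsonSpace Y := jacobsonSpace qY
  haveI : JacobsonSpace X := jacobsonSpace (f ≫ qY)
  obtain ⟨Z₀, ⟨hZ₀, hdense⟩, -⟩ := existsUnique_dominant_component qY f d hirr hdim
  have hZ₀c : IsClosed Z₀ := isClosed_of_mem_irreducibleComponents Z₀ hZ₀
  have himg : f.base '' Z₀ = Set.univ := by
    rw [← (hcl Z₀ hZ₀c).closure_eq]; exact hdense.closure_eq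
  have hcp : closedPoints X ⊆ Z₀ := by
    intro x hx
    have hy : IsClosed ({f x} : Set Y) := f.closePoints_subset_preimage_closedPoints hx
    obtain ⟨x', hx'Z, hx'⟩ : f x ∈ f.base '' Z₀ := by rw [himg]; trivial
    exact fiber_subset_of_inter_nonempty qY f d hirr hdim Z₀ hZ₀ (f x) hy ⟨x', hx', hx'Z⟩ rfl
  have huniv : Z₀ = Set.univ := by
    rw [← Set.univ_subset_iff, ← closure_closedPoints (X := X)]
    exact hZ₀c.closure_subset_iff.mpr hcp
  have hirrX : IsIrreducible (Set.univ : Set X) := huniv ▸ hZ₀.1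
  refine ⟨(irreducibleSpace_def X).mpr hirrX, ?_⟩
  have h1 := dim_component qY f d hirr hdim Z₀ hZ₀
  rw [hdense.closure_eq, huniv, topologicalKrullDim_univ, topologicalKrullDim_univ] at h1
  exact h1

include qY hirr hdim in
/-- **S14370.** -/
theorem irreducible_of_pure [QuasiCompact f] [IrreducibleSpace Y]
    (hpure : ∀ Z ∈ irreducibleComponents (X : Type u),
      topologicalKrullDim ↥Z = topologicalKrullDim X) :
    IrreducibleSpace X ∧
      topologicalKrullDim X = (d : WithBot ℕ∞) + topologicalKrullDim Y := by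
  haveI : JacobsonSpace Y := jacobsonSpace qY
  obtain ⟨Z₀, ⟨hZ₀, hdense⟩, huniq⟩ := existsUnique_dominant_component qY f d hirr hdim
  have hZ₀c : IsClosed Z₀ := isClosed_of_mem_irreducibleComponents Z₀ hZ₀
  have hdimZ₀ := dim_component qY f d hirr hdim Z₀ hZ₀
  rw [hdense.closure_eq, topologicalKrullDim_univ, hpure Z₀ hZ₀] at hdimZ₀
  have hδY := isDimFun qY
  have hall : ∀ Z ∈ irreducibleComponents (X : Type u), Z = Z₀ := by
    intro Z hZ
    apply huniq Z
    refine ⟨hZ, ?_⟩
    obtain ⟨ξ, hξZ, hξgen⟩ := exists_closure_eq_of_mem_irreducibleComponents Z hZ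
    rw [← hξZ]
    apply dense_of_map_eq_genericPoint f ξ
    by_contra hne
    have hlt := (hδY (genericPoint Y) (f ξ) (genericPoint_specializes _) (Ne.symm hne)).1
    have hdimZ := dim_component qY f d hirr hdim Z hZ
    have himg : closure (f.base '' Z) = closure {f ξ} := by
      rw [← hξZ, closure_image_closure f.continuous, Set.image_singleton]
    rw [himg, hpure Z hZ, hdimZ₀, topologicalKrullDim_closure qY (f ξ),
      topologicalKrullDim_of_irreducible qY] at hdimZ
    have h0 := delta_nonneg' qY (f ξ)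
    have h2 : d + (delta qY (genericPoint Y)).toNat = d + (delta qY (f ξ)).toNat := by
      exact_mod_cast hdimZ
    omega
  have huniv : Z₀ = Set.univ := by
    rw [← Set.univ_subset_iff]
    intro x _
    obtain ⟨Z, hZ, hxZ⟩ := exists_mem_irreducibleComponents_subset_of_isIrreducible
      ({x} : Set X) isIrreducible_singleton
    rw [hall Z hZ] at hxZ
    exact hxZ rfl
  have hirrX : IsIrreducible (Set.univ : Set X) := huniv ▸ hZ₀.1
  exact ⟨(irreducibleSpace_def X).mpr hirrX, hdimZ₀⟩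

end Main

end Groth.Agent.H99.IrrFib
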