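import Mathlib
import Groth.Prelude.Def_EGA4Misc
import Groth.Agent.H12.Constr
import Groth.Agent.H17.ConsPropLib
import Groth.Agent.H22.RedImm
import Groth.Agent.H99.DimCons
import Groth.Agent.H99.IrrFib

/-!
# Fibrewise (ind-)constructible properties for morphisms (helper99; for S5884, S5885)
-/

set_option autoImplicit false
set_option backward.isDefEq.respectTransparency.types false
set_option linter.style.haveILetI false
set_option linter.unusedSectionVars false
universe u

open AlgebraicGeometry CategoryTheory TopologicalSpace Limits Topology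

namespace Groth.Agent.H99.FibrewiseCons

variable {P : ∀ ⦃Y T : Scheme.{u}⦄, (Y ⟶ T) → Prop}

instance (Y : Scheme.{u}) (y : Y) : Subsingleton ↥(Spec (Y.residueField y)) :=
  inferInstanceAs (Subsingleton (PrimeSpectrum (Y.residueField y)))

/-- Transfer of `P` between the fibres of a base change and the fibres of the original morphism. -/
theorem transfer (hP : ConsProp.IsFieldStable P) {X X' Y Y' : Scheme.{u}} {f : X ⟶ Y}
    {f' : X' ⟶ Y'} {eX : X' ⟶ X} {eY : Y' ⟶ Y} (hpb : IsPullback eX f' f eY)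
    [LocallyOfFiniteType f] [QuasiCompact f] (y' : Y') :
    P (f'.fiberToSpecResidueField y') ↔ P (f.fiberToSpecResidueField (eY y')) := by
  have h := isPullback_fiberToSpecResidueField_of_isPullback hpb y'
  haveI : LocallyOfFiniteType (f.fiberToSpecResidueField (eY y')) :=
    MorphismProperty.pullback_snd _ _ inferInstance
  haveI : QuasiCompact (f.fiberToSpecResidueField (eY y')) :=
    MorphismProperty.pullback_snd _ _ inferInstance
  exact (hP (f.fiberToSpecResidueField (eY y')) (f'.fiberToSpecResidueField y') _ _ h).symm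

theorem fiberMap_fiberι {X Y S : Scheme.{u}} (f : X ⟶ Y) (g : Y ⟶ S) (s : S) :
    MoreMor.fiberMap f g s ≫ g.fiberι s = (f ≫ g).fiberι s ≫ f :=
  pullback.lift_fst _ _ _

theorem fiberMap_fiberToSpecResidueField {X Y S : Scheme.{u}} (f : X ⟶ Y) (g : Y ⟶ S) (s : S) :
    MoreMor.fiberMap f g s ≫ g.fiberToSpecResidueField s = (f ≫ g).fiberToSpecResidueField s :=
  pullback.lift_snd _ _ _

/-- The square of fibres over `s` is cartesian. -/
theorem isPullback_fiberMap {X Y S : Scheme.{u}} (f : X ⟶ Y) (g : Y ⟶ S) (s : S) :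
    IsPullback ((f ≫ g).fiberι s) (MoreMor.fiberMap f g s) f (g.fiberι s) := by
  have hbig : IsPullback (MoreMor.fiberMap f g s ≫ g.fiberToSpecResidueField s) ((f ≫ g).fiberι s)
      (S.fromSpecResidueField s) (f ≫ g) := by
    rw [fiberMap_fiberToSpecResidueField]
    exact (IsPullback.of_hasPullback (f ≫ g) (S.fromSpecResidueField s)).flip
  have hright : IsPullback (g.fiberToSpecResidueField s) (g.fiberι s)
      (S.fromSpecResidueField s) g :=
    (IsPullback.of_hasPullback g (S.fromSpecResidueField s)).flip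
  exact (IsPullback.of_right hbig (fiberMap_fiberι f g s) hright).flip

/-- The fibrewise relation attached to `P`. -/
def P' (P : ∀ ⦃Y T : Scheme.{u}⦄, (Y ⟶ T) → Prop) :
    ∀ ⦃X Y T : Scheme.{u}⦄, (X ⟶ Y) → (Y ⟶ T) → Prop :=
  fun _ Y _ f _ => ∀ y : ↥Y, P (f.fiberToSpecResidueField y)

/-- Description of the locus of the fibrewise relation. -/
theorem mem_locusMor_iff (hP : ConsProp.IsFieldStable P) {X Y S : Scheme.{u}} (f : X ⟶ Y)
    (g : Y ⟶ S) [LocallyOfFiniteType f] [QuasiCompact f] (s : S) :
    s ∈ ConsProp.locusMor (P' P) f g ↔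
      ∀ y : Y, g.base y = s → P (f.fiberToSpecResidueField y) := by
  change (∀ y : ↥(g.fiber s), P ((MoreMor.fiberMap f g s).fiberToSpecResidueField y)) ↔ _
  constructor
  · intro h y hy
    have : y ∈ Set.range (g.fiberι s).base := by
      rw [Scheme.Hom.range_fiberι]; exact hy
    obtain ⟨z, rfl⟩ := this
    exact (transfer hP (isPullback_fiberMap f g s) z).mp (h z)
  · intro h z
    apply (transfer hP (isPullback_fiberMap f g s) z).mpr
    apply h
    have : (g.fiberι s).base z ∈ Set.range (g.fiberι s).base := ⟨z, rfl⟩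
    rw [Scheme.Hom.range_fiberι] at this
    exact this

theorem isLocallyNoetherian_of_onePoint (T : Scheme.{u}) [IsIntegral T] [Subsingleton ↥T] :
    IsLocallyNoetherian T := by
  haveI : IsAffine T := Groth.Agent.H99.DimCons.isAffine_of_subsingleton T
  letI : Field Γ(T, ⊤) := (Groth.Agent.H99.DimCons.isField_of_onePoint T).toField
  exact isLocallyNoetherian_of_isOpenImmersion T.isoSpec.hom

/-- The fibrewise relation is stable under extension of the base field. -/
theorem isFieldStableMor (hP : ConsProp.IsFieldStable P) : ConsProp.IsFieldStableMor (P' P) := by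
  intro X X' Y Y' T T' f g f' g' eX eY h _ _ _ _ _ _ _ _ hY hX
  haveI : IsLocallyNoetherian T := isLocallyNoetherian_of_onePoint T
  haveI : IsLocallyNoetherian Y := LocallyOfFiniteType.isLocallyNoetherian g
  haveI : LocallyOfFiniteType f := locallyOfFiniteType_of_comp f g
  haveI : QuasiCompact f := QuasiCompact.of_comp f g
  have hsurj : Surjective eY := (Groth.Agent.H17.fpqc_of_isPullback_onePoint hY).1.1
  constructor
  · intro hf y'
    exact (transfer hP hX y').mpr (hf _)
  · intro hf' y
    obtain ⟨y', rfl⟩ := hsurj.surj y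
    exact (transfer hP hX y').mp (hf' y')

/-- Base change of `f` to the reduced subscheme of an irreducible closed subset of the target. -/
theorem exists_base_change {X Y : Scheme.{u}} [IsNoetherian Y] (f : X ⟶ Y)
    [LocallyOfFiniteType f] [QuasiCompact f] (Z : Set Y) (hZ : IsClosed Z)
    (hZi : IsIrreducible Z) :
    ∃ (W : Scheme.{u}) (ι : W ⟶ Y) (X' : Scheme.{u}) (u : X' ⟶ W) (e : X' ⟶ X),
      IsIntegral W ∧ IsNoetherian W ∧ Topology.IsEmbedding ι.base ∧ Set.range ι.base = Z ∧
      IsPullback e u f ι ∧ LocallyOfFiniteType u ∧ QuasiCompact u := by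
  let C : Closeds Y := ⟨Z, hZ⟩
  let I := Scheme.IdealSheafData.vanishingIdeal C
  haveI hred : IsReduced I.subscheme := Groth.Agent.H22.isReduced_subscheme_vanishingIdeal C
  let ι := I.subschemeι
  have hrange : Set.range ι.base = Z := by
    rw [Scheme.IdealSheafData.range_subschemeι, Scheme.IdealSheafData.coe_support_vanishingIdeal]
    rfl
  have hιemb : Topology.IsEmbedding ι.base := ι.isEmbedding
  haveI : IrreducibleSpace ↥(Set.range ι.base) := by
    rw [hrange]; exact isIrreducible_iff_irreducibleSpace.mp hZi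
  haveI : IrreducibleSpace I.subscheme :=
    Groth.Agent.H99.IrrFib.irreducibleSpace_of_homeomorph hιemb.toHomeomorph
  haveI : IsIntegral I.subscheme := isIntegral_of_irreducibleSpace_of_isReduced _
  haveI : IsLocallyNoetherian I.subscheme := LocallyOfFiniteType.isLocallyNoetherian ι
  haveI : CompactSpace I.subscheme := QuasiCompact.compactSpace_of_compactSpace ι
  haveI : IsNoetherian I.subscheme := {}
  exact ⟨I.subscheme, ι, pullback f ι, pullback.snd f ι, pullback.fst f ι, inferInstance,
    inferInstance, hιemb, hrange, IsPullback.of_hasPullback f ι, inferInstance, inferInstance⟩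

theorem exists_open_of_interior_nonempty {W Y : Scheme.{u}} (ι : W ⟶ Y)
    (hι : Topology.IsEmbedding ι.base) (Z : Set Y) (hrange : Set.range ι.base = Z) (E : Set Y)
    (h : (interior (ι.base ⁻¹' E)).Nonempty) :
    ∃ U : Set Y, IsOpen U ∧ (U ∩ Z).Nonempty ∧ U ∩ Z ⊆ E := by
  obtain ⟨U, hU, hUO⟩ := hι.isInducing.isOpen_iff.mp (isOpen_interior (s := ι.base ⁻¹' E))
  obtain ⟨w, hw⟩ := h
  refine ⟨U, hU, ⟨ι.base w, ?_, hrange ▸ ⟨w, rfl⟩⟩, ?_⟩
  · have : w ∈ ι.base ⁻¹' U := hUO ▸ hw
    exact this
  · rintro y ⟨hyU, hyZ⟩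
    rw [← hrange] at hyZ
    obtain ⟨w', rfl⟩ := hyZ
    have : w' ∈ interior (ι.base ⁻¹' E) := hUO ▸ (show w' ∈ ι.base ⁻¹' U from hyU)
    exact (interior_subset this : w' ∈ ι.base ⁻¹' E)

theorem locus_base_change (hP : ConsProp.IsFieldStable P) {X X' W Y : Scheme.{u}} {f : X ⟶ Y}
    {u : X' ⟶ W} {e : X' ⟶ X} {ι : W ⟶ Y} (hpb : IsPullback e u f ι)
    [LocallyOfFiniteType f] [QuasiCompact f] :
    ConsProp.locus P u = ι.base ⁻¹' (ConsProp.locus P f) := by
  ext w
  exact transfer hP hpb w

theorem indCons_local (hP : ConsProp.IsIndCons P) {X Y : Scheme.{u}} [IsNoetherian Y] (f : X ⟶ Y)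
    [LocallyOfFiniteType f] [QuasiCompact f] (Z : Set Y) (hZ : IsClosed Z)
    (hZi : IsIrreducible Z) (ζ : Y) (hζ : IsGenericPoint ζ Z) (hζE : ζ ∈ ConsProp.locus P f) :
    ∃ U : Set Y, IsOpen U ∧ (U ∩ Z).Nonempty ∧ U ∩ Z ⊆ ConsProp.locus P f := by
  obtain ⟨W, ι, X', u, e, hW1, hW2, hι, hrange, hpb, hu1, hu2⟩ := exists_base_change f Z hZ hZi
  have hloc := locus_base_change hP.1 hpb
  apply exists_open_of_interior_nonempty ι hι Z hrange
  rw [← hloc]
  apply hP.2 u
  rw [hloc]
  have hg : IsGenericPoint (ι.base (genericPoint W)) Z := by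
    have h1 := (genericPoint_spec W).image ι.continuous
    rwa [Set.image_univ, hrange, hZ.closure_eq] at h1
  have : ι.base (genericPoint W) = ζ := hg.eq hζ
  change ι.base (genericPoint W) ∈ ConsProp.locus P f
  rw [this]; exact hζE

theorem cons_local (hP : ConsProp.IsCons P) {X Y : Scheme.{u}} [IsNoetherian Y] (f : X ⟶ Y)
    [LocallyOfFiniteType f] [QuasiCompact f] (Z : Set Y) (hZ : IsClosed Z)
    (hZi : IsIrreducible Z) :
    (∃ U : Set Y, IsOpen U ∧ (U ∩ Z).Nonempty ∧ U ∩ Z ⊆ ConsProp.locus P f) ∨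
      (∃ U : Set Y, IsOpen U ∧ (U ∩ Z).Nonempty ∧ U ∩ Z ⊆ (ConsProp.locus P f)ᶜ) := by
  obtain ⟨W, ι, X', u, e, hW1, hW2, hι, hrange, hpb, hu1, hu2⟩ := exists_base_change f Z hZ hZi
  have hloc := locus_base_change hP.1 hpb
  rcases hP.2 u with h | h
  · left
    apply exists_open_of_interior_nonempty ι hι Z hrange
    rwa [← hloc]
  · right
    apply exists_open_of_interior_nonempty ι hι Z hrange
    rwa [Set.preimage_compl, ← hloc]

/-- EGA IV 9.2.x: the fibrewise relation of an ind-constructible property is ind-constructible. -/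
theorem isIndConsMor (hP : ConsProp.IsIndCons P) : ConsProp.IsIndConsMor (P' P) := by
  refine ⟨isFieldStableMor hP.1, ?_⟩
  intro X Y S f g _ _ _ _ _ _ hη
  haveI : IsLocallyNoetherian Y := LocallyOfFiniteType.isLocallyNoetherian g
  haveI : CompactSpace Y := QuasiCompact.compactSpace_of_compactSpace g
  haveI : IsNoetherian Y := {}
  haveI : LocallyOfFiniteType f := locallyOfFiniteType_of_comp f g
  haveI : QuasiCompact f := QuasiCompact.of_comp f g
  have hηE : ∀ y : Y, g.base y = genericPoint S → y ∈ ConsProp.locus P f :=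
    (mem_locusMor_iff hP.1 f g (genericPoint S)).mp hη
  have key : ∀ Z : Set Y, IsClosed Z →
      ((∀ y ∈ Z, g.base y = genericPoint S → y ∈ ConsProp.locus P f) →
        ∃ V : Set S, IsOpen V ∧ V.Nonempty ∧ ∀ y ∈ Z, g.base y ∈ V → y ∈ ConsProp.locus P f) := by
    apply Groth.Agent.H12.irreducible_closed_induction
    · intro _
      exact ⟨Set.univ, isOpen_univ, Set.univ_nonempty, fun y hy => absurd hy (Set.notMem_empty y)⟩
    · intro Z1 Z2 _ _ h1 h2 h
      obtain ⟨V1, hV1, hV1ne, hV1E⟩ := h1 (fun y hy => h y (Or.inl hy))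
      obtain ⟨V2, hV2, hV2ne, hV2E⟩ := h2 (fun y hy => h y (Or.inr hy))
      refine ⟨V1 ∩ V2, hV1.inter hV2, nonempty_preirreducible_inter hV1 hV2 hV1ne hV2ne, ?_⟩
      rintro y (hy | hy) ⟨hy1, hy2⟩
      · exact hV1E y hy hy1
      · exact hV2E y hy hy2
    · intro Z hZ hZi ih h
      obtain ⟨ζ, hζ⟩ := QuasiSober.sober hZi hZ
      by_cases hcase : g.base ζ = genericPoint S
      · have hζE : ζ ∈ ConsProp.locus P f := h ζ hζ.mem hcase
        obtain ⟨U, hU, hUne, hUE⟩ := indCons_local hP f Z hZ hZi ζ hζ hζE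
        obtain ⟨V, hV, hVne, hVE⟩ := ih (Z \ U) (hZ.sdiff hU)
          (Groth.Agent.H12.diff_ssubset_of_inter_nonempty hUne) (fun y hy => h y hy.1)
        refine ⟨V, hV, hVne, ?_⟩
        intro y hyZ hyV
        by_cases hyU : y ∈ U
        · exact hUE ⟨hyU, hyZ⟩
        · exact hVE y ⟨hyZ, hyU⟩ hyV
      · refine ⟨(closure {g.base ζ})ᶜ, isClosed_closure.isOpen_compl, ⟨genericPoint S, ?_⟩, ?_⟩
        · intro hmem
          apply hcase
          have h1 : g.base ζ ⤳ genericPoint S := specializes_iff_mem_closure.mpr hmem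
          have h2 : genericPoint S ⤳ g.base ζ := genericPoint_specializes _
          exact (h1.antisymm h2).eq
        · intro y hyZ hyV
          exfalso
          apply hyV
          have h1 : ζ ⤳ y := hζ.specializes hyZ
          exact (h1.map g.continuous).mem_closure
  obtain ⟨V, hV, ⟨s, hs⟩, hVE⟩ := key Set.univ isClosed_univ (fun y _ hy => hηE y hy)
  refine ⟨s, mem_interior.mpr ⟨V, ?_, hV, hs⟩⟩
  intro s' hs'
  exact (mem_locusMor_iff hP.1 f g s').mpr (fun y hy => hVE y trivial (hy ▸ hs'))

theorem isLocallyConstructible_compl {α : Type*} [TopologicalSpace α] {s : Set α}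
    (hs : IsLocallyConstructible s) : IsLocallyConstructible sᶜ := by
  intro x
  obtain ⟨U, hU, hUo, hc⟩ := hs x
  refine ⟨U, hU, hUo, ?_⟩
  have := hc.compl
  rwa [← Set.preimage_compl] at this

/-- EGA IV 9.2.x: the fibrewise relation of a constructible property is constructible. -/
theorem isConsMor (hP : ConsProp.IsCons P) : ConsProp.IsConsMor (P' P) := by
  refine ⟨isFieldStableMor hP.1, ?_⟩
  intro X Y S f g _ _ _ _ _ _
  haveI : IsLocallyNoetherian Y := LocallyOfFiniteType.isLocallyNoetherian g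
  haveI : CompactSpace Y := QuasiCompact.compactSpace_of_compactSpace g
  haveI : IsNoetherian Y := {}
  haveI : LocallyOfFiniteType f := locallyOfFiniteType_of_comp f g
  haveI : QuasiCompact f := QuasiCompact.of_comp f g
  have hE : IsConstructible (ConsProp.locus P f) := by
    apply Groth.Agent.H12.isConstructible_of_forall_irreducible
    intro Z hZ hZi
    rcases cons_local hP f Z hZ hZi with ⟨U, hU, hne, hsub⟩ | ⟨U, hU, hne, hsub⟩
    · right; exact ⟨U, hU, hne, hsub⟩
    · left
      haveI : IrreducibleSpace ↥Z := Subtype.irreducibleSpace hZi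
      have hO : IsOpen (Subtype.val ⁻¹' U : Set Z) := hU.preimage continuous_subtype_val
      have hOne : (Subtype.val ⁻¹' U : Set Z).Nonempty := by
        obtain ⟨y, hyU, hyZ⟩ := hne
        exact ⟨⟨y, hyZ⟩, hyU⟩
      have hd : Dense (Subtype.val ⁻¹' U : Set Z) := hO.dense hOne
      have hsub' : (Subtype.val ⁻¹' (ConsProp.locus P f) : Set Z) ⊆ (Subtype.val ⁻¹' U : Set Z)ᶜ := by
        intro z hz hzU
        exact hsub ⟨hzU, z.2⟩ hz
      have hcl : closure (Subtype.val ⁻¹' (ConsProp.locus P f) : Set Z) ⊆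
          (Subtype.val ⁻¹' U : Set Z)ᶜ := closure_minimal hsub' hO.isClosed_compl
      rw [IsNowhereDense, Set.eq_empty_iff_forall_notMem]
      intro z hz
      have h1 : z ∈ interior ((Subtype.val ⁻¹' U : Set Z)ᶜ) := interior_mono hcl hz
      rw [interior_compl, hd.closure_eq] at h1
      exact h1 (Set.mem_univ z)
  have hloc : ConsProp.locusMor (P' P) f g = (g.base '' (ConsProp.locus P f)ᶜ)ᶜ := by
    ext s
    rw [mem_locusMor_iff hP.1]
    simp only [Set.mem_compl_iff, Set.mem_image, not_exists, not_and]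
    constructor
    · intro h y hy hys
      exact hy (h y hys)
    · intro h y hys
      by_contra hy
      exact h y hy hys
  have hc : IsLocallyConstructible (g.base '' (ConsProp.locus P f)ᶜ) :=
    g.isLocallyConstructible_image hE.compl.isLocallyConstructible
  rw [hloc]
  exact Groth.Agent.H17.interior_nonempty_or_of_isLocallyConstructible (isLocallyConstructible_compl hc)

end Groth.Agent.H99.FibrewiseCons
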