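import Mathlib

/-!
# Artin–Schreier invariants via the trace trick (helper99)

General lemma: `A` an `R`-algebra with `p = 0`, `σ` an `R`-automorphism with `σ u_i = u_i + μ a_i`,
`u_{i₀}^p = (μ a_{i₀})^(p-1) u_{i₀} + x`.  Then every `σ`-invariant element, multiplied by a power
of `μ a_{i₀}`, lies in the `R`-subalgebra generated by the minors `a_{i₀} u_j - a_j u_{i₀}`.
-/

open Finset

namespace Groth.Agent.H99.WildB

section PowerSums

lemma sum_range_zmod (p : ℕ) [Fact p.Prime] (i : ℕ) :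
    ∑ j ∈ range p, (j : ZMod p) ^ i = ∑ x : ZMod p, x ^ i := by
  apply Finset.sum_nbij' (fun j : ℕ => (j : ZMod p)) (fun x : ZMod p => x.val)
  · intros; simp
  · intro x _; simp [ZMod.val_lt]
  · intro j hj
    have hj' : j < p := by simpa using hj
    simp [ZMod.val_cast_of_lt hj']
  · intro x _; simp
  · intros; rfl

lemma sum_range_pow_eq_zero (p : ℕ) [Fact p.Prime] (k : Type*) [Field k] [CharP k p] (i : ℕ)
    (hi : i < p - 1) : ∑ j ∈ range p, (j : k) ^ i = 0 := by
  have h1 : ∑ x : ZMod p, x ^ i = 0 :=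
    FiniteField.sum_pow_lt_card_sub_one (K := ZMod p) i (by rwa [ZMod.card])
  have h3 := congrArg (ZMod.castHom (dvd_refl p) k) ((sum_range_zmod p i).trans h1)
  simpa using h3

lemma sum_range_pow_pred (p : ℕ) [Fact p.Prime] (k : Type*) [Field k] [CharP k p] :
    ∑ j ∈ range p, (j : k) ^ (p - 1) = -1 := by
  have hp := (Fact.out : p.Prime)
  have h1 : ∑ x : ZMod p, x ^ (p - 1) = -1 := by
    have h2 : ∀ x ∈ (univ : Finset (ZMod p)), x ^ (p - 1) = 1 - (if x = 0 then 1 else 0) := by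
      intro x _
      by_cases hx : x = 0
      · rw [hx, if_pos rfl, zero_pow (by have := hp.two_le; omega)]; simp
      · rw [if_neg hx, ZMod.pow_card_sub_one_eq_one hx]; simp
    rw [Finset.sum_congr rfl h2, Finset.sum_sub_distrib]
    simp [ZMod.card]
  have h3 := congrArg (ZMod.castHom (dvd_refl p) k) ((sum_range_zmod p (p - 1)).trans h1)
  simpa using h3

end PowerSums

variable {R A : Type*} [CommRing R] [CommRing A] [Algebra R A] (p : ℕ) (σ : A ≃ₐ[R] A)

/-- The "trace" `∑_{j<p} σ^j`. -/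
def Tr (y : A) : A := ∑ j ∈ range p, (σ ^ j) y

lemma pow_fixed {c : A} (hc : σ c = c) (j : ℕ) : (σ ^ j) c = c := by
  induction j with
  | zero => simp
  | succ j ih => rw [pow_succ', AlgEquiv.mul_apply, ih, hc]

lemma Tr_add (y y' : A) : Tr p σ (y + y') = Tr p σ y + Tr p σ y' := by
  simp [Tr, Finset.sum_add_distrib]

lemma Tr_fixed_mul {c : A} (hc : σ c = c) (y : A) : Tr p σ (c * y) = c * Tr p σ y := by
  simp only [Tr, Finset.mul_sum, map_mul, pow_fixed σ hc]

lemma Tr_mul_fixed {c : A} (hc : σ c = c) (y : A) : Tr p σ (y * c) = Tr p σ y * c := by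
  rw [mul_comm, Tr_fixed_mul p σ hc, mul_comm]

lemma pow_apply_U {U F : A} (hU : σ U = U + F) (hF : σ F = F) (j : ℕ) :
    (σ ^ j) U = U + j * F := by
  induction j with
  | zero => simp
  | succ j ih =>
    rw [pow_succ', AlgEquiv.mul_apply, ih, map_add, map_mul, map_natCast, hU, hF]
    push_cast; ring

lemma Tr_U_pow_eq {U F : A} (hU : σ U = U + F) (hF : σ F = F) (l : ℕ) :
    Tr p σ (U ^ l) = ∑ m ∈ range (l + 1),
      (U ^ m * F ^ (l - m) * (l.choose m : A)) * ∑ j ∈ range p, (j : A) ^ (l - m) := by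
  unfold Tr
  have h1 : ∀ j : ℕ, (σ ^ j) (U ^ l) =
      ∑ m ∈ range (l + 1), U ^ m * ((j : A) * F) ^ (l - m) * (l.choose m : A) := by
    intro j; rw [map_pow, pow_apply_U σ hU hF, add_pow]
  simp_rw [h1]
  rw [Finset.sum_comm]
  apply Finset.sum_congr rfl
  intro m _
  rw [Finset.mul_sum]
  apply Finset.sum_congr rfl
  intro j _
  rw [mul_pow]; ring

lemma Tr_U_pow_small {U F : A} (hU : σ U = U + F) (hF : σ F = F)
    (hP0 : ∀ i < p - 1, ∑ j ∈ range p, (j : A) ^ i = 0) (l : ℕ) (hl : l < p - 1) :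
    Tr p σ (U ^ l) = 0 := by
  rw [Tr_U_pow_eq p σ hU hF]
  apply Finset.sum_eq_zero
  intro m _
  rw [hP0 _ (by omega), mul_zero]

lemma Tr_U_pow_pred {U F : A} (hU : σ U = U + F) (hF : σ F = F)
    (hP0 : ∀ i < p - 1, ∑ j ∈ range p, (j : A) ^ i = 0)
    (hP1 : ∑ j ∈ range p, (j : A) ^ (p - 1) = -1) :
    Tr p σ (U ^ (p - 1)) = - F ^ (p - 1) := by
  rw [Tr_U_pow_eq p σ hU hF, Finset.sum_eq_single 0]
  · simp [hP1]
  · intro m hm hm0
    have hm' : m < p - 1 + 1 := by simpa using hm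
    rw [hP0 _ (by omega), mul_zero]
  · intro h; simp at h

lemma Tr_U_pow_rec {U F Y : A} (hF : σ F = F) (hY : σ Y = Y)
    (hrel : U ^ p = F ^ (p - 1) * U + Y) (l : ℕ) :
    Tr p σ (U ^ (l + p)) = F ^ (p - 1) * Tr p σ (U ^ (l + 1)) + Y * Tr p σ (U ^ l) := by
  have h1 : U ^ (l + p) = F ^ (p - 1) * U ^ (l + 1) + Y * U ^ l := by
    rw [pow_add, hrel]; ring
  have hF' : σ (F ^ (p - 1)) = F ^ (p - 1) := by rw [map_pow, hF]
  rw [h1, Tr_add, Tr_fixed_mul p σ hF', Tr_fixed_mul p σ hY]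

lemma Tr_U_pow_mem [Fact p.Prime] {U : A} {f x : R} (hU : σ U = U + algebraMap R A f)
    (hP0 : ∀ i < p - 1, ∑ j ∈ range p, (j : A) ^ i = 0)
    (hP1 : ∑ j ∈ range p, (j : A) ^ (p - 1) = -1)
    (hrel : U ^ p = algebraMap R A f ^ (p - 1) * U + algebraMap R A x) (l : ℕ) :
    ∃ r : R, Tr p σ (U ^ l) = algebraMap R A r := by
  have hp2 := (Fact.out : p.Prime).two_le
  have hF : σ (algebraMap R A f) = algebraMap R A f := σ.commutes f
  have hY : σ (algebraMap R A x) = algebraMap R A x := σ.commutes x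
  induction l using Nat.strong_induction_on with
  | _ l ih =>
    rcases lt_trichotomy l (p - 1) with hl | hl | hl
    · exact ⟨0, by rw [Tr_U_pow_small p σ hU hF hP0 l hl, map_zero]⟩
    · refine ⟨- f ^ (p - 1), ?_⟩
      rw [hl, Tr_U_pow_pred p σ hU hF hP0 hP1, map_neg, map_pow]
    · obtain ⟨l', rfl⟩ : ∃ l', l = l' + p := ⟨l - p, by omega⟩
      obtain ⟨r1, hr1⟩ := ih (l' + 1) (by omega)
      obtain ⟨r2, hr2⟩ := ih l' (by omega)
      refine ⟨f ^ (p - 1) * r1 + x * r2, ?_⟩
      rw [Tr_U_pow_rec p σ hF hY hrel, hr1, hr2]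
      simp only [map_add, map_mul, map_pow]

theorem main_general [Fact p.Prime] {ι : Type*} (u : ι → A) (i₀ : ι) (a : ι → R) (μ x : R)
    (hP0 : ∀ i < p - 1, ∑ j ∈ range p, (j : A) ^ i = 0)
    (hP1 : ∑ j ∈ range p, (j : A) ^ (p - 1) = -1)
    (hrel : u i₀ ^ p = algebraMap R A ((μ * a i₀) ^ (p - 1)) * u i₀ + algebraMap R A x)
    (hσ : ∀ i, σ (u i) = u i + algebraMap R A (μ * a i))
    (P : MvPolynomial ι R) (ht : σ (MvPolynomial.aeval u P) = MvPolynomial.aeval u P) :
    ∃ N : ℕ, algebraMap R A (μ * a i₀) ^ N * MvPolynomial.aeval u P ∈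
      Algebra.adjoin R (Set.range fun j : {j : ι // j ≠ i₀} =>
        algebraMap R A (a i₀) * u j.1 - algebraMap R A (a j.1) * u i₀) := by
  classical
  set S := Algebra.adjoin R (Set.range fun j : {j : ι // j ≠ i₀} =>
        algebraMap R A (a i₀) * u j.1 - algebraMap R A (a j.1) * u i₀) with hS
  set U := u i₀ with hUdef
  have hU : σ U = U + algebraMap R A (μ * a i₀) := hσ i₀
  have hrel' : U ^ p = algebraMap R A (μ * a i₀) ^ (p - 1) * U + algebraMap R A x := by
    rw [hrel, map_pow]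
  have hTrU := Tr_U_pow_mem p σ hU hP0 hP1 hrel'
  have hz : ∀ j : ι, j ≠ i₀ → σ (algebraMap R A (a i₀) * u j - algebraMap R A (a j) * U)
      = algebraMap R A (a i₀) * u j - algebraMap R A (a j) * U := by
    intro j _
    rw [map_sub, map_mul, map_mul, hσ j, hU, AlgEquiv.commutes, AlgEquiv.commutes]
    simp only [map_mul]; ring
  have hzS : ∀ j : ι, j ≠ i₀ → algebraMap R A (a i₀) * u j - algebraMap R A (a j) * U ∈ S := by
    intro j hj
    exact Algebra.subset_adjoin ⟨⟨j, hj⟩, rfl⟩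
  -- the key property
  have key : ∀ Q : MvPolynomial ι R, ∃ N : ℕ, ∀ l : ℕ,
      algebraMap R A (a i₀) ^ N * Tr p σ (U ^ l * MvPolynomial.aeval u Q) ∈ S := by
    intro Q
    induction Q using MvPolynomial.induction_on with
    | C r =>
      refine ⟨0, fun l => ?_⟩
      obtain ⟨r', hr'⟩ := hTrU l
      rw [pow_zero, one_mul, MvPolynomial.aeval_C, Tr_mul_fixed p σ (σ.commutes r), hr', ← map_mul]
      exact Subalgebra.algebraMap_mem S _
    | add Q₁ Q₂ h₁ h₂ =>
      obtain ⟨N₁, h₁⟩ := h₁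
      obtain ⟨N₂, h₂⟩ := h₂
      refine ⟨N₁ + N₂, fun l => ?_⟩
      have e : algebraMap R A (a i₀) ^ (N₁ + N₂) *
          Tr p σ (U ^ l * MvPolynomial.aeval u (Q₁ + Q₂)) =
          algebraMap R A (a i₀ ^ N₂) * (algebraMap R A (a i₀) ^ N₁ *
            Tr p σ (U ^ l * MvPolynomial.aeval u Q₁)) +
          algebraMap R A (a i₀ ^ N₁) * (algebraMap R A (a i₀) ^ N₂ *
            Tr p σ (U ^ l * MvPolynomial.aeval u Q₂)) := by
        rw [map_add, mul_add, Tr_add, map_pow, map_pow]; ring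
      rw [e]
      exact S.add_mem (S.mul_mem (Subalgebra.algebraMap_mem S _) (h₁ l))
        (S.mul_mem (Subalgebra.algebraMap_mem S _) (h₂ l))
    | mul_X Q i h =>
      obtain ⟨N, h⟩ := h
      refine ⟨N + 1, fun l => ?_⟩
      rw [map_mul, MvPolynomial.aeval_X]
      by_cases hi : i = i₀
      · have e : algebraMap R A (a i₀) ^ (N + 1) *
            Tr p σ (U ^ l * (MvPolynomial.aeval u Q * u i)) =
            algebraMap R A (a i₀) * (algebraMap R A (a i₀) ^ N *
              Tr p σ (U ^ (l + 1) * MvPolynomial.aeval u Q)) := by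
          rw [hi, ← hUdef, pow_succ, pow_succ]
          have : U ^ l * (MvPolynomial.aeval u Q * U) = U ^ l * U * MvPolynomial.aeval u Q := by
            ring
          rw [this]; ring
        rw [e]
        exact S.mul_mem (Subalgebra.algebraMap_mem S _) (h (l + 1))
      · have e : algebraMap R A (a i₀) ^ (N + 1) *
            Tr p σ (U ^ l * (MvPolynomial.aeval u Q * u i)) =
            (algebraMap R A (a i₀) * u i - algebraMap R A (a i) * U) *
              (algebraMap R A (a i₀) ^ N * Tr p σ (U ^ l * MvPolynomial.aeval u Q)) +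
            algebraMap R A (a i) * (algebraMap R A (a i₀) ^ N *
              Tr p σ (U ^ (l + 1) * MvPolynomial.aeval u Q)) := by
          have e1 : algebraMap R A (a i₀) * Tr p σ (U ^ l * (MvPolynomial.aeval u Q * u i)) =
              Tr p σ ((algebraMap R A (a i₀) * u i - algebraMap R A (a i) * U) *
                (U ^ l * MvPolynomial.aeval u Q)) +
              Tr p σ (algebraMap R A (a i) * (U ^ (l + 1) * MvPolynomial.aeval u Q)) := by
            rw [← Tr_fixed_mul p σ (σ.commutes _), ← Tr_add]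
            congr 1; ring
          rw [Tr_fixed_mul p σ (hz i hi), Tr_fixed_mul p σ (σ.commutes _)] at e1
          rw [pow_succ, mul_assoc, e1]; ring
        rw [e]
        exact S.add_mem (S.mul_mem (hzS i hi) (h l))
          (S.mul_mem (Subalgebra.algebraMap_mem S _) (h (l + 1)))
  obtain ⟨N, hN⟩ := key P
  refine ⟨N + (p - 1), ?_⟩
  have h1 := hN (p - 1)
  rw [Tr_mul_fixed p σ ht, Tr_U_pow_pred p σ hU (σ.commutes _) hP0 hP1] at h1
  have e : algebraMap R A (μ * a i₀) ^ (N + (p - 1)) * MvPolynomial.aeval u P =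
      - (algebraMap R A (μ ^ N) * (algebraMap R A (a i₀) ^ N *
        (-algebraMap R A (μ * a i₀) ^ (p - 1) * MvPolynomial.aeval u P))) := by
    rw [pow_add]
    have : algebraMap R A (μ * a i₀) ^ N = algebraMap R A (μ ^ N) * algebraMap R A (a i₀) ^ N := by
      rw [map_mul, mul_pow, map_pow]
    rw [this]; ring
  rw [e]
  exact S.neg_mem (S.mul_mem (Subalgebra.algebraMap_mem S _) h1)


lemma power_sums_of_ringHom (p : ℕ) [Fact p.Prime] (k : Type*) [Field k] [CharP k p]
    {B : Type*} [Ring B] (φ : k →+* B) :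
    (∀ i < p - 1, ∑ j ∈ range p, (j : B) ^ i = 0) ∧ ∑ j ∈ range p, (j : B) ^ (p - 1) = -1 := by
  constructor
  · intro i hi
    have := congrArg φ (sum_range_pow_eq_zero p k i hi)
    simpa using this
  · have := congrArg φ (sum_range_pow_pred p k)
    simpa using this

end Groth.Agent.H99.WildB
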