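import Mathlib

/-!
# A prime avoiding `π` whose fibre is isolated at the closed point  (helper99; for S4946)

In a Noetherian local ring `B` with a prime `p₀` and an element `π` of the maximal ideal not in
`p₀`, there is a prime `p ⊇ p₀` not containing `π` such that the maximal ideal is the only prime
containing `p` and `π`.
-/

set_option autoImplicit false
set_option linter.style.haveILetI false
universe u

open IsLocalRing

namespace Groth.Agent.H99.QuasiSectionCA

/-- Domain version. -/
theorem exists_prime_domain {B : Type*} [CommRing B] [IsDomain B] [IsNoetherianRing B]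
    [IsLocalRing B] (π : B) (hπm : π ∈ maximalIdeal B) (hπ0 : π ≠ 0) :
    ∃ p : Ideal B, p.IsPrime ∧ π ∉ p ∧
      ∀ q : Ideal B, q.IsPrime → p ≤ q → π ∈ q → q = maximalIdeal B := by
  classical
  have hne : Ideal.span {π} ≠ ⊤ := by
    intro h
    have : (1 : B) ∈ Ideal.span {π} := h ▸ Submodule.mem_top
    have h1 : (1 : B) ∈ maximalIdeal B :=
      (Ideal.span_singleton_le_iff_mem (I := maximalIdeal B)).mpr hπm this
    exact (maximalIdeal.isMaximal B).ne_top ((Ideal.eq_top_iff_one _).mpr h1)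
  haveI : Nontrivial (B ⧸ Ideal.span {π}) := Ideal.Quotient.nontrivial_iff.mpr hne
  haveI : IsLocalRing (B ⧸ Ideal.span {π}) :=
    IsLocalRing.of_surjective' (Ideal.Quotient.mk (Ideal.span {π})) Ideal.Quotient.mk_surjective
  set R := B ⧸ Ideal.span {π} with hR
  set mk : B →+* R := Ideal.Quotient.mk (Ideal.span {π}) with hmk
  have hsurj : Function.Surjective mk := Ideal.Quotient.mk_surjective
  have hker : RingHom.ker mk = Ideal.span {π} := Ideal.mk_ker
  obtain ⟨s, hs, hcard⟩ :=
    Ideal.exists_finset_card_eq_height_of_isNoetherianRing (maximalIdeal R)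
  set g : R → B := Function.surjInv hsurj with hg
  have hgs : ∀ r, mk (g r) = r := Function.surjInv_eq hsurj
  set t : Finset B := s.image g with ht
  have hmapt : Ideal.map mk (Ideal.span (t : Set B)) = Ideal.span (s : Set R) := by
    rw [Ideal.map_span]
    congr 1
    ext r
    simp only [ht, Finset.coe_image, Set.mem_image, Finset.mem_coe]
    constructor
    · rintro ⟨b, ⟨r', hr', rfl⟩, rfl⟩
      rw [hgs]; exact hr'
    · intro hr
      exact ⟨g r, ⟨r, hr, rfl⟩, hgs r⟩
  -- key claim
  have K : ∀ q : Ideal B, q.IsPrime → Ideal.span (t : Set B) ≤ q → π ∈ q → q = maximalIdeal B := by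
    intro q hq htq hπq
    have hkq : RingHom.ker mk ≤ q := by
      rw [hker, Ideal.span_singleton_le_iff_mem]; exact hπq
    haveI : (Ideal.map mk q).IsPrime := Ideal.map_isPrime_of_surjective hsurj hkq
    have h1 : Ideal.span (s : Set R) ≤ Ideal.map mk q := hmapt ▸ Ideal.map_mono htq
    have h2 : Ideal.map mk q ≤ maximalIdeal R := le_maximalIdeal (Ideal.IsPrime.ne_top inferInstance)
    have h3 : maximalIdeal R ≤ Ideal.map mk q := hs.2 ⟨inferInstance, h1⟩ h2
    have h4 : Ideal.comap mk (Ideal.map mk q) = q := by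
      rw [Ideal.comap_map_of_surjective mk hsurj, ← RingHom.ker_eq_comap_bot]
      exact sup_eq_left.mpr hkq
    haveI : (Ideal.comap mk (maximalIdeal R)).IsMaximal :=
      Ideal.comap_isMaximal_of_surjective mk hsurj
    have h5 : Ideal.comap mk (maximalIdeal R) = maximalIdeal B := eq_maximalIdeal inferInstance
    apply le_antisymm (le_maximalIdeal hq.ne_top)
    rw [← h5, ← h4]
    exact Ideal.comap_mono h3
  have htne : Ideal.span (t : Set B) ≠ ⊤ := by
    intro h
    have : Ideal.span (s : Set R) = ⊤ := by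
      rw [← hmapt, h, Ideal.map_top]
    exact (maximalIdeal.isMaximal R).ne_top (top_le_iff.mp (this ▸ hs.1.2))
  obtain ⟨p, hp⟩ := Ideal.nonempty_minimalPrimes htne
  haveI hpp : p.IsPrime := hp.1.1
  refine ⟨p, hpp, ?_, fun q hq hpq hπq => K q hq (hp.1.2.trans hpq) hπq⟩
  intro hπp
  have hpm : p = maximalIdeal B := K p hpp hp.1.2 hπp
  have h1 : p.height ≤ t.card := Ideal.height_le_card_of_mem_minimalPrimes_span_finset hp
  have h2 : (t.card : ℕ∞) ≤ s.card := by exact_mod_cast Finset.card_image_le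
  have h3 : (maximalIdeal B).height ≤ (maximalIdeal R).height := by
    rw [← hpm, ← hcard]; exact h1.trans h2
  have h4 : ringKrullDim R + 1 ≤ ringKrullDim B :=
    ringKrullDim_quotient_succ_le_of_nonZeroDivisor (mem_nonZeroDivisors_of_ne_zero hπ0)
  rw [← IsLocalRing.maximalIdeal_height_eq_ringKrullDim,
    ← IsLocalRing.maximalIdeal_height_eq_ringKrullDim] at h4
  have h5 : (maximalIdeal R).height + 1 ≤ (maximalIdeal B).height := by exact_mod_cast h4
  have h6 : (maximalIdeal R).height ≠ ⊤ := Ideal.height_ne_top (maximalIdeal.isMaximal R).ne_top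
  have h7 : (maximalIdeal R).height + 1 ≤ (maximalIdeal R).height := h5.trans h3
  exact absurd h7 (by
    rw [ENat.add_one_le_iff h6]; exact lt_irrefl _)

/-- General version: `B` Noetherian local, `p₀` a prime, `π ∈ 𝔪`, `π ∉ p₀`. -/
theorem exists_prime {B : Type*} [CommRing B] [IsNoetherianRing B] [IsLocalRing B]
    (p₀ : Ideal B) [hp₀ : p₀.IsPrime] (π : B) (hπm : π ∈ maximalIdeal B) (hπ0 : π ∉ p₀) :
    ∃ p : Ideal B, p.IsPrime ∧ p₀ ≤ p ∧ π ∉ p ∧
      ∀ q : Ideal B, q.IsPrime → p ≤ q → π ∈ q → q = maximalIdeal B := by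
  haveI : Nontrivial (B ⧸ p₀) := Ideal.Quotient.nontrivial_iff.mpr hp₀.ne_top
  haveI : IsLocalRing (B ⧸ p₀) :=
    IsLocalRing.of_surjective' (Ideal.Quotient.mk p₀) Ideal.Quotient.mk_surjective
  set mk : B →+* B ⧸ p₀ := Ideal.Quotient.mk p₀ with hmk
  have hsurj : Function.Surjective mk := Ideal.Quotient.mk_surjective
  have hker : RingHom.ker mk = p₀ := Ideal.mk_ker
  haveI hcm : (Ideal.comap mk (maximalIdeal (B ⧸ p₀))).IsMaximal :=
    Ideal.comap_isMaximal_of_surjective mk hsurj
  have h5 : Ideal.comap mk (maximalIdeal (B ⧸ p₀)) = maximalIdeal B := eq_maximalIdeal hcm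
  have hπm' : mk π ∈ maximalIdeal (B ⧸ p₀) := by
    have : π ∈ Ideal.comap mk (maximalIdeal (B ⧸ p₀)) := h5 ▸ hπm
    exact this
  have hπ0' : mk π ≠ 0 := by
    intro h
    exact hπ0 ((Ideal.Quotient.eq_zero_iff_mem).mp h)
  obtain ⟨p', hp', hπp', H⟩ := exists_prime_domain (mk π) hπm' hπ0'
  have hk0 : p₀ ≤ Ideal.comap mk p' := by
    intro b hb
    rw [Ideal.mem_comap]
    have : mk b = 0 := Ideal.Quotient.eq_zero_iff_mem.mpr hb
    rw [this]; exact zero_mem _
  refine ⟨Ideal.comap mk p', Ideal.comap_isPrime mk p', ?_, ?_, ?_⟩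
  · exact hk0
  · exact hπp'
  · intro q hq hpq hπq
    have hkq : RingHom.ker mk ≤ q := by
      rw [hker]; exact hk0.trans hpq
    haveI : (Ideal.map mk q).IsPrime := Ideal.map_isPrime_of_surjective hsurj hkq
    have h1 : p' ≤ Ideal.map mk q := by
      rw [← Ideal.map_comap_of_surjective mk hsurj p']
      exact Ideal.map_mono hpq
    have h2 : Ideal.map mk q = maximalIdeal (B ⧸ p₀) :=
      H _ inferInstance h1 (Ideal.mem_map_of_mem mk hπq)
    have h4 : Ideal.comap mk (Ideal.map mk q) = q := by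
      rw [Ideal.comap_map_of_surjective mk hsurj, ← RingHom.ker_eq_comap_bot]
      exact sup_eq_left.mpr hkq
    rw [← h4, h2, h5]

end Groth.Agent.H99.QuasiSectionCA
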