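import Mathlib
import Groth.Agent.H99.QuasiSectionCA
import Groth.Agent.H22.RedImm

/-!
# Quasi-sections through a closed point of a fibre  (helper99; for S4946)
-/

set_option autoImplicit false
set_option backward.isDefEq.respectTransparency.types false
set_option linter.style.haveILetI false
set_option linter.unusedSectionVars false
universe u

open AlgebraicGeometry CategoryTheory TopologicalSpace Limits IsLocalRing

namespace Groth.Agent.H99.QuasiSection

/-- In the spectrum of a Noetherian ring, a closed point without proper generizations is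
isolated. -/
theorem primeSpectrum_isOpen_singleton {R : Type*} [CommRing R] [IsNoetherianRing R]
    (x : PrimeSpectrum R) (h₁ : IsClosed ({x} : Set (PrimeSpectrum R)))
    (h₂ : StableUnderGeneralization ({x} : Set (PrimeSpectrum R))) :
    IsOpen ({x} : Set (PrimeSpectrum R)) := by
  open PrimeSpectrum in
  rw [isClosed_singleton_iff_isMaximal, ← isMax_iff] at h₁
  suffices {x} = (⋃ p ∈ { p : PrimeSpectrum R | IsMin p ∧ p ≠ x }, closure {p})ᶜ by
    rw [this, isOpen_compl_iff]
    refine Set.Finite.isClosed_biUnion ?_ (fun _ _ ↦ isClosed_closure)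
    exact (finite_setOfPred_isMin R).subset fun x h ↦ h.1
  ext p
  simp only [Set.mem_singleton_iff, ne_eq, Set.mem_ofPred_eq, Set.compl_iUnion, Set.mem_iInter,
    Set.mem_compl_iff, and_imp, ← specializes_iff_mem_closure, ← le_iff_specializes,
    not_imp_not]
  constructor
  · rintro rfl _ _
    rw [stableUnderGeneralization_singleton, ← isMin_iff] at h₂
    exact h₂.eq_of_le
  · intro hp
    apply h₁.eq_of_ge
    obtain ⟨q, hq, hq'⟩ := Ideal.exists_minimalPrimes_le (J := p.asIdeal) bot_le
    exact (hp ⟨q, hq.1.1⟩ (isMin_iff.mpr hq) hq').ge.trans hq'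

theorem isOpen_singleton_aux {F : Scheme.{u}} [IsLocallyNoetherian F] {R : CommRingCat.{u}}
    (j : Spec R ⟶ F) [IsOpenImmersion j] (y : PrimeSpectrum R)
    (hcl : ∀ z : F, j.base y ⤳ z → z = j.base y) (hgen : ∀ z : F, z ⤳ j.base y → z = j.base y) :
    IsOpen ({j.base y} : Set F) := by
  have hemb : Topology.IsOpenEmbedding j.base := j.isOpenEmbedding
  haveI : IsLocallyNoetherian (Spec R) := isLocallyNoetherian_of_isOpenImmersion j
  haveI hN : IsNoetherianRing R := by
    rwa [← isLocallyNoetherian_Spec]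
  have h1 : IsClosed ({y} : Set (PrimeSpectrum R)) := by
    rw [← closure_subset_iff_isClosed]
    intro z hz
    have hz' : y ⤳ z := specializes_iff_mem_closure.mpr hz
    have : j.base y ⤳ j.base z := hz'.map j.base.hom.2
    exact hemb.injective (hcl _ this)
  have h2 : StableUnderGeneralization ({y} : Set (PrimeSpectrum R)) := by
    intro a z hz ha
    rw [Set.mem_singleton_iff] at ha ⊢
    subst ha
    have : j.base z ⤳ j.base a := hz.map j.base.hom.2
    exact hemb.injective (hgen _ this)
  have h3 := primeSpectrum_isOpen_singleton y h1 h2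
  have h4 : IsOpen (j.base '' {y}) := hemb.isOpenMap _ h3
  have h5 : j.base '' {y} = {j.base y} := Set.image_singleton
  rwa [h5] at h4

/-- In a locally Noetherian scheme, a closed point without proper generizations is isolated. -/
theorem isOpen_singleton_of_closed_of_maximal {F : Scheme.{u}} [IsLocallyNoetherian F] (c : F)
    (hcl : ∀ z : F, c ⤳ z → z = c) (hgen : ∀ z : F, z ⤳ c → z = c) :
    IsOpen ({c} : Set F) := by
  obtain ⟨y, hy⟩ := F.affineOpenCover.covers c
  haveI : IsOpenImmersion (F.affineOpenCover.f (F.affineOpenCover.idx c)) :=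
    F.affineOpenCover.map_prop _
  have := isOpen_singleton_aux (F.affineOpenCover.f (F.affineOpenCover.idx c)) y
    (by rw [hy]; exact hcl) (by rw [hy]; exact hgen)
  rwa [hy] at this

/-- If the maximal ideal of `𝒪_{Y,f x}` is principal and `ξ₀ ⤳ x` does not lie over `f x`, there
is a point `ξ` between `ξ₀` and `x`, not over `f x`, such that `x` is the only point over `f x`
between `ξ` and `x`. -/
theorem exists_generization {X Y : Scheme.{u}} [IsLocallyNoetherian X] (f : X ⟶ Y) (x ξ₀ : X)
    (hξ₀ : ξ₀ ⤳ x) (π : Y.presheaf.stalk (f.base x))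
    (hπ : maximalIdeal (Y.presheaf.stalk (f.base x)) = Ideal.span {π})
    (hne : f.base ξ₀ ≠ f.base x) :
    ∃ ξ : X, ξ₀ ⤳ ξ ∧ ξ ⤳ x ∧ f.base ξ ≠ f.base x ∧
      ∀ z : X, ξ ⤳ z → z ⤳ x → f.base z = f.base x → z = x := by
  set φ := (f.stalkMap x).hom with hφ
  set t := φ π with ht
  have htm : t ∈ maximalIdeal (X.presheaf.stalk x) := by
    have hπm : π ∈ maximalIdeal (Y.presheaf.stalk (f.base x)) :=
      hπ ▸ Ideal.mem_span_singleton_self π
    rw [mem_maximalIdeal, mem_nonunits_iff] at hπm ⊢
    exact fun h => hπm (isUnit_of_map_unit (f.stalkMap x).hom π h)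
  have hsq := Scheme.SpecMap_stalkMap_fromSpecStalk (f := f) (x := x)
  have hsq' : ∀ q : ↥(Spec (X.presheaf.stalk x)),
      (Y.fromSpecStalk (f.base x)).base ((Spec.map (f.stalkMap x)).base q) =
        f.base ((X.fromSpecStalk x).base q) := by
    intro q
    exact congrArg (fun g => g.base q) hsq
  have hinjY : Function.Injective (Y.fromSpecStalk (f.base x)).base :=
    (Y.fromSpecStalk (f.base x)).isEmbedding.injective
  have hembX := (X.fromSpecStalk x).isEmbedding
  have hmem_iff : ∀ q : ↥(Spec (X.presheaf.stalk x)),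
      t ∈ q.asIdeal ↔ f.base ((X.fromSpecStalk x).base q) = f.base x := by
    intro q
    have hcomap : ((Spec.map (f.stalkMap x)).base q).asIdeal = Ideal.comap φ q.asIdeal := rfl
    constructor
    · intro htq
      have h1 : maximalIdeal (Y.presheaf.stalk (f.base x)) ≤
          ((Spec.map (f.stalkMap x)).base q).asIdeal := by
        rw [hπ, Ideal.span_singleton_le_iff_mem, hcomap, Ideal.mem_comap]
        exact htq
      have h2 : (Spec.map (f.stalkMap x)).base q =
          closedPoint (Y.presheaf.stalk (f.base x)) := by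
        apply PrimeSpectrum.ext
        exact ((maximalIdeal.isMaximal _).eq_of_le
          ((Spec.map (f.stalkMap x)).base q).isPrime.ne_top h1).symm
      rw [← hsq', h2]
      exact Scheme.fromSpecStalk_closedPoint
    · intro hq
      have h2 : (Spec.map (f.stalkMap x)).base q =
          closedPoint (Y.presheaf.stalk (f.base x)) := by
        apply hinjY
        rw [hsq', hq]
        exact Scheme.fromSpecStalk_closedPoint.symm
      have h3 : π ∈ ((Spec.map (f.stalkMap x)).base q).asIdeal := by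
        rw [h2]
        change π ∈ maximalIdeal _
        rw [hπ]; exact Ideal.mem_span_singleton_self π
      rw [hcomap, Ideal.mem_comap] at h3
      exact h3
  have hspec_iff : ∀ q₁ q₂ : ↥(Spec (X.presheaf.stalk x)),
      (X.fromSpecStalk x).base q₁ ⤳ (X.fromSpecStalk x).base q₂ ↔ q₁.asIdeal ≤ q₂.asIdeal := by
    intro q₁ q₂
    rw [hembX.isInducing.specializes_iff]
    exact (PrimeSpectrum.le_iff_specializes q₁ q₂).symm
  have hrange : ∀ z : X, z ⤳ x → ∃ q : ↥(Spec (X.presheaf.stalk x)),
      (X.fromSpecStalk x).base q = z := by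
    intro z hz
    have : z ∈ Set.range (X.fromSpecStalk x).base := by
      rw [Scheme.range_fromSpecStalk]; exact hz
    exact this
  obtain ⟨P₀, hP₀⟩ := hrange ξ₀ hξ₀
  have htP₀ : t ∉ P₀.asIdeal := by
    rw [hmem_iff, hP₀]; exact hne
  haveI : P₀.asIdeal.IsPrime := P₀.isPrime
  obtain ⟨p, hp, hP₀p, htp, H⟩ :=
    Groth.Agent.H99.QuasiSectionCA.exists_prime P₀.asIdeal t htm htP₀
  set P : ↥(Spec (X.presheaf.stalk x)) := ⟨p, hp⟩ with hP
  refine ⟨(X.fromSpecStalk x).base P, ?_, ?_, ?_, ?_⟩
  · rw [← hP₀, hspec_iff]; exact hP₀p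
  · have : (X.fromSpecStalk x).base P ∈ Set.range (X.fromSpecStalk x).base := ⟨P, rfl⟩
    rw [Scheme.range_fromSpecStalk] at this
    exact this
  · intro h
    exact htp ((hmem_iff P).mpr h)
  · intro z hz1 hz2 hz3
    obtain ⟨Q, rfl⟩ := hrange z hz2
    rw [hspec_iff] at hz1
    rw [← hmem_iff] at hz3
    have hQ : Q.asIdeal = maximalIdeal _ := H Q.asIdeal Q.isPrime hz1 hz3
    have hQ' : Q = closedPoint (X.presheaf.stalk x) := PrimeSpectrum.ext hQ
    rw [hQ']
    exact Scheme.fromSpecStalk_closedPoint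

/-- Quasi-section through a point `x` closed in its fibre, along a generization `ξ` of `x` such
that `x` is the only point of the fibre between `ξ` and `x`. -/
theorem exists_quasiSection {X Y : Scheme.{u}} [IsLocallyNoetherian Y] (f : X ⟶ Y)
    [LocallyOfFiniteType f] (x ξ : X) (hξx : ξ ⤳ x)
    (hcl : ∀ x' : X, f.base x' = f.base x → x ⤳ x' → x' = x)
    (hiso : ∀ z : X, ξ ⤳ z → z ⤳ x → f.base z = f.base x → z = x) :
    ∃ (T : Scheme.{u}) (i : T ⟶ X), IsImmersion i ∧ IrreducibleSpace ↥T ∧ IsReduced T ∧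
      x ∈ Set.range i.base ∧ ξ ∈ Set.range i.base ∧ Set.range i.base ⊆ closure {ξ} ∧
      LocallyOfFiniteType (i ≫ f) ∧ LocallyQuasiFinite (i ≫ f) ∧ QuasiCompact (i ≫ f) := by
  let C : Closeds X := ⟨closure {ξ}, isClosed_closure⟩
  let I := Scheme.IdealSheafData.vanishingIdeal C
  haveI hred : IsReduced I.subscheme := Groth.Agent.H22.isReduced_subscheme_vanishingIdeal C
  let ι := I.subschemeι
  have hrange : Set.range ι.base = closure {ξ} := by
    rw [Scheme.IdealSheafData.range_subschemeι, Scheme.IdealSheafData.coe_support_vanishingIdeal]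
    rfl
  have hιemb : Topology.IsEmbedding ι.base := ι.isEmbedding
  obtain ⟨c, hc⟩ : x ∈ Set.range ι.base := hrange ▸ hξx.mem_closure
  obtain ⟨g, hg⟩ : ξ ∈ Set.range ι.base := hrange ▸ subset_closure rfl
  have hgen : ∀ z : I.subscheme, g ⤳ z := by
    intro z
    rw [← hιemb.isInducing.specializes_iff, hg, specializes_iff_mem_closure, ← hrange]
    exact ⟨z, rfl⟩
  haveI : IrreducibleSpace I.subscheme := by
    rw [irreducibleSpace_def]
    have : IsGenericPoint g (Set.univ : Set I.subscheme) :=
      Set.eq_univ_of_forall (fun z => (hgen z).mem_closure)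
    exact this.isIrreducible
  haveI : IsIntegral I.subscheme := isIntegral_of_irreducibleSpace_of_isReduced _
  let h := ι ≫ f
  haveI : LocallyOfFiniteType h := inferInstanceAs (LocallyOfFiniteType (ι ≫ f))
  haveI : IsLocallyNoetherian I.subscheme := LocallyOfFiniteType.isLocallyNoetherian h
  -- quasi-finite at `c`
  have hqf : h.QuasiFiniteAt c := by
    rw [Scheme.Hom.quasiFiniteAt_iff_isOpen_singleton_asFiber]
    haveI : LocallyOfFiniteType (h.fiberToSpecResidueField (h.base c)) :=
      MorphismProperty.pullback_snd _ _ inferInstance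
    haveI : IsLocallyNoetherian (h.fiber (h.base c)) :=
      LocallyOfFiniteType.isLocallyNoetherian (h.fiberToSpecResidueField (h.base c))
    have hfemb : Topology.IsEmbedding (h.fiberι (h.base c)).base := (h.fiberι (h.base c)).isEmbedding
    have hover : ∀ z : h.fiber (h.base c),
        f.base (ι.base ((h.fiberι (h.base c)).base z)) = f.base x := by
      intro z
      have : (h.fiberι (h.base c)).base z ∈ Set.range (h.fiberι (h.base c)).base := ⟨z, rfl⟩
      rw [Scheme.Hom.range_fiberι] at this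
      have h2 : h.base ((h.fiberι (h.base c)).base z) = h.base c := this
      rw [← hc]
      exact h2
    have hback : ∀ z : h.fiber (h.base c), ι.base ((h.fiberι (h.base c)).base z) = x →
        z = h.asFiber c := by
      intro z hz
      apply hfemb.injective
      rw [h.fiberι_asFiber]
      apply hιemb.injective
      rw [hz, hc]
    apply isOpen_singleton_of_closed_of_maximal
    · intro z hz
      apply hback
      apply hcl _ (hover z)
      have h1 : (h.fiberι (h.base c)).base (h.asFiber c) ⤳ (h.fiberι (h.base c)).base z :=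
        hz.map (h.fiberι (h.base c)).continuous
      rw [h.fiberι_asFiber] at h1
      have h2 := h1.map ι.continuous
      rwa [hc] at h2
    · intro z hz
      apply hback
      have h1 : (h.fiberι (h.base c)).base z ⤳ (h.fiberι (h.base c)).base (h.asFiber c) :=
        hz.map (h.fiberι (h.base c)).continuous
      rw [h.fiberι_asFiber] at h1
      have h2 := h1.map ι.continuous
      rw [hc] at h2
      apply hiso _ _ h2 (hover z)
      rw [specializes_iff_mem_closure, ← hrange]
      exact ⟨_, rfl⟩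
  have hcU₀ : c ∈ h.quasiFiniteLocus := hqf
  obtain ⟨(U : I.subscheme.Opens), hU, hcU, hUU₀⟩ := Opens.isBasis_iff_nbhd.mp (Scheme.isBasis_affineOpens I.subscheme) hcU₀
  have hgU : g ∈ U := (hgen c).mem_open U.isOpen hcU
  haveI : Nonempty U := ⟨⟨c, hcU⟩⟩
  haveI : IsNoetherianRing Γ(I.subscheme, U) := IsLocallyNoetherian.component_noetherian ⟨U, hU⟩
  haveI : NoetherianSpace U := noetherianSpace_of_isAffineOpen U hU
  refine ⟨U.toScheme, U.ι ≫ ι, inferInstance, inferInstance, inferInstance, ?_, ?_, ?_,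
    inferInstance, ?_, ?_⟩
  · exact ⟨⟨c, hcU⟩, hc⟩
  · exact ⟨⟨g, hgU⟩, hg⟩
  · rintro _ ⟨z, rfl⟩
    rw [← hrange]
    exact ⟨_, rfl⟩
  · rw [Category.assoc]
    change LocallyQuasiFinite (U.ι ≫ h)
    rw [← Scheme.Hom.quasiFiniteLocus_eq_top_iff, Scheme.Hom.quasiFiniteLocus_comp]
    ext z
    simp only [Scheme.Hom.coe_preimage, Set.mem_preimage, SetLike.mem_coe, Opens.coe_top,
      Set.mem_univ, iff_true]
    exact hUU₀ z.2
  · haveI : NoetherianSpace ↥(U.toScheme) := ‹NoetherianSpace U›
    infer_instance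

/-- A local ring which is regular of dimension at most one has principal maximal ideal. -/
theorem exists_maximalIdeal_eq_span {A : Type*} [CommRing A] (hreg : IsRegularLocalRing A)
    (hdim : ringKrullDim A ≤ 1) : ∃ π : A, maximalIdeal A = Ideal.span {π} := by
  classical
  have h1 : ((maximalIdeal A).spanFinrank : WithBot ℕ∞) ≤ 1 :=
    hreg.spanFinrank_maximalIdeal ▸ hdim
  have h2 : (maximalIdeal A).spanFinrank ≤ 1 := by exact_mod_cast h1
  have hfg : (maximalIdeal A).FG := IsNoetherian.noetherian _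
  obtain ⟨s, hs1, hs2⟩ := Submodule.FG.exists_span_finset_card_eq_spanFinrank hfg
  rw [← hs1] at h2
  obtain ⟨a, ha⟩ := Finset.card_le_one_iff_subset_singleton.mp h2
  rcases Finset.subset_singleton_iff.mp ha with h | h
  · refine ⟨0, ?_⟩
    rw [← hs2, h]
    simp
  · refine ⟨a, ?_⟩
    rw [← hs2, h]
    simp

/-- In a scheme whose local ring at `y` has dimension at most one, there is no point strictly
between a generization of `y` and `y`. -/
theorem eq_of_specializes_of_dim_le_one {Y : Scheme.{u}} (y y₀ y₁ : Y)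
    (hdim : ringKrullDim (Y.presheaf.stalk y) ≤ 1) (h01 : y₀ ⤳ y₁) (h1 : y₁ ⤳ y) (hne : y₁ ≠ y) :
    y₀ = y₁ := by
  have hemb := (Y.fromSpecStalk y).isEmbedding
  have hrange : ∀ z : Y, z ⤳ y → ∃ q : PrimeSpectrum (Y.presheaf.stalk y),
      (Y.fromSpecStalk y).base q = z := by
    intro z hz
    have : z ∈ Set.range (Y.fromSpecStalk y).base := by
      rw [Scheme.range_fromSpecStalk]; exact hz
    exact this
  obtain ⟨P₁, rfl⟩ := hrange y₁ h1
  obtain ⟨P₀, rfl⟩ := hrange y₀ (h01.trans h1)
  have hle : P₀ ≤ P₁ := by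
    rw [PrimeSpectrum.le_iff_specializes]
    exact hemb.isInducing.specializes_iff.mp h01
  have hdim' : Order.krullDim (PrimeSpectrum (Y.presheaf.stalk y)) ≤ 1 := hdim
  rcases Order.krullDim_le_one_iff.mp hdim' P₁ with h | h
  · exact congrArg _ (le_antisymm hle (h hle))
  · exfalso
    apply hne
    have hle' : P₁ ≤ closedPoint (Y.presheaf.stalk y) := by
      change P₁.asIdeal ≤ maximalIdeal _
      exact le_maximalIdeal P₁.isPrime.ne_top
    have : P₁ = closedPoint (Y.presheaf.stalk y) := le_antisymm hle' (h hle')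
    rw [this]
    exact Scheme.fromSpecStalk_closedPoint

/-- EGA IV 14.5.x, (d) ⇒ (e) at one point. -/
theorem exists_quasiSection_of_dense {X Y : Scheme.{u}} [IsLocallyNoetherian Y]
    (f : X ⟶ Y) [LocallyOfFiniteType f] (x : X)
    (hreg : IsRegularLocalRing (Y.presheaf.stalk (f.base x)))
    (hdim : ringKrullDim (Y.presheaf.stalk (f.base x)) ≤ 1)
    (hcl : ∀ x' : X, f.base x' = f.base x → x ⤳ x' → x' = x)
    (Xi : Set X) (hXi : Xi ∈ irreducibleComponents X) (hx : x ∈ Xi)
    (hdom : Dense (f.base '' Xi)) :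
    ∃ (T : Scheme.{u}) (i : T ⟶ X), IsImmersion i ∧ IrreducibleSpace ↥T ∧ IsReduced T ∧
      x ∈ Set.range i.base ∧ Set.range i.base ⊆ Xi ∧
      LocallyOfFiniteType (i ≫ f) ∧ LocallyQuasiFinite (i ≫ f) ∧ QuasiCompact (i ≫ f) ∧
      IsDominant (i ≫ f) := by
  haveI : IsLocallyNoetherian X := LocallyOfFiniteType.isLocallyNoetherian f
  have hXicl : IsClosed Xi := isClosed_of_mem_irreducibleComponents Xi hXi
  obtain ⟨ξ₀, hξ₀⟩ := QuasiSober.sober hXi.1 hXicl
  have hξ₀x : ξ₀ ⤳ x := by
    rw [specializes_iff_mem_closure, hξ₀.def]; exact hx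
  -- `f ξ₀` is generic
  have hgen : ∀ y' : Y, f.base ξ₀ ⤳ y' := by
    intro y'
    rw [specializes_iff_mem_closure]
    have h1 : f.base '' Xi ⊆ closure {f.base ξ₀} := by
      rw [← hξ₀.def]
      refine (image_closure_subset_closure_image f.continuous).trans ?_
      rw [Set.image_singleton]
    have h2 : closure (f.base '' Xi) ⊆ closure {f.base ξ₀} :=
      closure_minimal h1 isClosed_closure
    exact h2 (hdom y')
  -- conclusion from a suitable `ξ`
  have key : ∀ ξ : X, ξ₀ ⤳ ξ → ξ ⤳ x → f.base ξ = f.base ξ₀ →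
      (∀ z : X, ξ ⤳ z → z ⤳ x → f.base z = f.base x → z = x) →
      ∃ (T : Scheme.{u}) (i : T ⟶ X), IsImmersion i ∧ IrreducibleSpace ↥T ∧ IsReduced T ∧
      x ∈ Set.range i.base ∧ Set.range i.base ⊆ Xi ∧
      LocallyOfFiniteType (i ≫ f) ∧ LocallyQuasiFinite (i ≫ f) ∧ QuasiCompact (i ≫ f) ∧
      IsDominant (i ≫ f) := by
    intro ξ h0 h1 h2 h3
    obtain ⟨T, i, hi1, hi2, hi3, hi4, hi5, hi6, hi7, hi8, hi9⟩ :=
      exists_quasiSection f x ξ h1 hcl h3
    refine ⟨T, i, hi1, hi2, hi3, hi4, ?_, hi7, hi8, hi9, ?_⟩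
    · refine hi6.trans ?_
      rw [← hξ₀.def]
      exact closure_minimal (Set.singleton_subset_iff.mpr h0.mem_closure) isClosed_closure
    · constructor
      obtain ⟨t, ht⟩ := hi5
      intro y'
      have h4 : f.base ξ ∈ Set.range (i ≫ f).base := ⟨t, by
        rw [Scheme.Hom.comp_apply, ht]⟩
      have h5 : f.base ξ ⤳ y' := h2 ▸ hgen y'
      exact closure_mono (Set.singleton_subset_iff.mpr h4) h5.mem_closure
  by_cases hcase : f.base ξ₀ = f.base x
  · -- `y` is the generic point: take `ξ = x`
    refine key x hξ₀x specializes_rfl hcase.symm ?_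
    intro z hz1 _ hz3
    exact hcl z hz3 hz1
  · obtain ⟨π, hπ⟩ := exists_maximalIdeal_eq_span hreg hdim
    obtain ⟨ξ, h0, h1, h2, h3⟩ := exists_generization f x ξ₀ hξ₀x π hπ hcase
    refine key ξ h0 h1 ?_ h3
    exact (eq_of_specializes_of_dim_le_one (f.base x) (f.base ξ₀) (f.base ξ) hdim
      (h0.map f.continuous) (h1.map f.continuous) h2).symm

/-- A nonempty closed subset of a fibre contains a point closed in the fibre. -/
theorem exists_closed_point_fibre {X Y : Scheme.{u}} (f : X ⟶ Y) [LocallyOfFiniteType f] (y : Y)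
    (Z : Set X) (hZ : IsClosed Z) (hne : (Z ∩ f.base ⁻¹' {y}).Nonempty) :
    ∃ x : X, x ∈ Z ∧ f.base x = y ∧ ∀ x' : X, f.base x' = y → x ⤳ x' → x' = x := by
  have hemb : Topology.IsEmbedding (f.fiberι y).base := (f.fiberι y).isEmbedding
  have hZ' : IsClosed ((f.fiberι y).base ⁻¹' Z) := hZ.preimage (f.fiberι y).continuous
  have hne' : ((f.fiberι y).base ⁻¹' Z).Nonempty := by
    obtain ⟨x₀, hx₀Z, hx₀y⟩ := hne
    have : x₀ ∈ Set.range (f.fiberι y).base := by
      rw [Scheme.Hom.range_fiberι]; exact hx₀y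
    obtain ⟨w, rfl⟩ := this
    exact ⟨w, hx₀Z⟩
  obtain ⟨w, hwZ, hwcl⟩ := nonempty_inter_closedPoints hne' hZ'.isLocallyClosed
  have hwy : f.base ((f.fiberι y).base w) = y := by
    have : (f.fiberι y).base w ∈ Set.range (f.fiberι y).base := ⟨w, rfl⟩
    rw [Scheme.Hom.range_fiberι] at this
    exact this
  refine ⟨(f.fiberι y).base w, hwZ, hwy, ?_⟩
  intro x' hx' hspec
  have : x' ∈ Set.range (f.fiberι y).base := by
    rw [Scheme.Hom.range_fiberι]; exact hx'
  obtain ⟨w', rfl⟩ := this
  rw [hemb.isInducing.specializes_iff] at hspec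
  have h1 : w' ∈ closure {w} := hspec.mem_closure
  rw [(mem_closedPoints_iff.mp hwcl).closure_eq] at h1
  rw [Set.mem_singleton_iff.mp h1]

end Groth.Agent.H99.QuasiSection
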