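import Mathlib
import Groth.Agent.H15.StalkLoc
import Groth.Agent.H99.QuasiSection

set_option autoImplicit false
set_option linter.style.haveILetI false
set_option backward.isDefEq.respectTransparency.types false

universe u

open CategoryTheory AlgebraicGeometry TopologicalSpace IsLocalRing

namespace Groth.Agent.H99.LocFactorial

section Algebra

variable {R : Type*} [CommRing R] [IsNoetherianRing R] [IsLocalRing R]

/-- A Noetherian local ring of positive dimension in which every height one prime is generated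
by a non-zero-divisor is a domain. -/
theorem isDomain_of_height_one_principal
    (h1 : ∀ p : Ideal R, p.IsPrime → p.height = 1 → ∃ t ∈ nonZeroDivisors R, p = Ideal.span {t})
    (hdim : ∃ p : Ideal R, p.IsPrime ∧ p ≠ maximalIdeal R) : IsDomain R := by
  classical
  obtain ⟨p₀, hp₀, hp₀m⟩ := hdim
  -- the maximal ideal is not a minimal prime
  have hmmin : maximalIdeal R ∉ minimalPrimes R := by
    intro hm
    obtain ⟨q, hq, hqp⟩ := Ideal.exists_minimalPrimes_le (bot_le : (⊥ : Ideal R) ≤ p₀)
    have hqm : q ≤ maximalIdeal R := le_maximalIdeal hq.1.1.ne_top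
    have : maximalIdeal R ≤ q := hm.2 hq.1 hqm
    have hpm : p₀ ≤ maximalIdeal R := le_maximalIdeal hp₀.ne_top
    exact hp₀m (le_antisymm hpm (this.trans hqp))
  -- prime avoidance
  have hfin : (minimalPrimes R).Finite := minimalPrimes.finite_of_isNoetherianRing R
  obtain ⟨a, ham, ha⟩ : ∃ a ∈ maximalIdeal R, ∀ q ∈ minimalPrimes R, a ∉ q := by
    by_contra hcon
    push Not at hcon
    have hsub : ((maximalIdeal R : Ideal R) : Set R) ⊆ ⋃ q ∈ (hfin.toFinset : Set (Ideal R)), q := by
      intro a ham
      obtain ⟨q, hq, haq⟩ := hcon a ham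
      exact Set.mem_biUnion (by simpa using hq) haq
    obtain ⟨q, hq, hmq⟩ := (Ideal.subset_union_prime (f := fun q : Ideal R => q)
      (maximalIdeal R) (maximalIdeal R)
      (fun i hi _ _ => ((hfin.mem_toFinset).mp hi).1.1)).mp hsub
    have hq' : q ∈ minimalPrimes R := hfin.mem_toFinset.mp hq
    have : q = maximalIdeal R :=
      le_antisymm (le_maximalIdeal hq'.1.1.ne_top) hmq
    exact hmmin (this ▸ hq')
  -- a height one prime containing `a`
  obtain ⟨p₁, hp₁min, -⟩ := Ideal.exists_minimalPrimes_le
    (show Ideal.span {a} ≤ maximalIdeal R from (Ideal.span_singleton_le_iff_mem _).mpr ham)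
  have hp₁ : p₁.IsPrime := hp₁min.1.1
  have hap₁ : a ∈ p₁ := hp₁min.1.2 (Ideal.mem_span_singleton_self a)
  have hht : p₁.height = 1 := by
    apply le_antisymm
    · exact Ideal.height_le_one_of_isPrincipal_of_mem_minimalPrimes _ p₁ hp₁min
    · rw [Order.one_le_iff_ne_zero, Ne, Ideal.height_eq_zero_iff]
      exact fun h => ha p₁ h hap₁
  obtain ⟨t, ht, hpt⟩ := h1 p₁ hp₁ hht
  obtain ⟨q, hq, hqp⟩ := Ideal.exists_minimalPrimes_le (bot_le : (⊥ : Ideal R) ≤ p₁)
  have hqprime : q.IsPrime := hq.1.1
  have htq : t ∉ q := by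
    intro htq
    have : p₁ ≤ q := by rw [hpt, Ideal.span_singleton_le_iff_mem]; exact htq
    have hqp₁ : q = p₁ := le_antisymm hqp this
    have : p₁.height = 0 := by rw [Ideal.height_eq_zero_iff]; exact hqp₁ ▸ hq
    rw [hht] at this
    exact one_ne_zero this
  have htm : t ∈ maximalIdeal R := by
    have : t ∈ p₁ := hpt ▸ Ideal.mem_span_singleton_self t
    exact le_maximalIdeal hp₁.ne_top this
  have hle : q ≤ Ideal.span {t} • q := by
    intro b hb
    have hbp : b ∈ Ideal.span {t} := hpt ▸ hqp hb
    obtain ⟨c, rfl⟩ := Ideal.mem_span_singleton'.mp hbp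
    have hc : c ∈ q := (hqprime.mem_or_mem hb).resolve_right htq
    rw [smul_eq_mul, mul_comm c t]
    exact Ideal.mul_mem_mul (Ideal.mem_span_singleton_self t) hc
  have hq0 : q = ⊥ := by
    refine Submodule.eq_bot_of_le_smul_of_le_jacobson_bot (Ideal.span {t}) q
      (IsNoetherian.noetherian q) hle ?_
    rw [IsLocalRing.jacobson_eq_maximalIdeal ⊥ bot_ne_top, Ideal.span_singleton_le_iff_mem]
    exact htm
  have : (⊥ : Ideal R).IsPrime := hq0 ▸ hqprime
  exact IsDomain.of_bot_isPrime R

end Algebra

section SchemeLevel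

open Groth.Agent.H15.StalkLoc

variable {X : Scheme.{u}}

/-- every prime of the local ring is the prime of a generization. -/
theorem exists_genPrime_eq' (x : X) (𝔮 : Ideal (X.presheaf.stalk x)) [h𝔮 : 𝔮.IsPrime] :
    ∃ (x' : X) (h : x' ⤳ x), genPrime h = 𝔮 := by
  let P : PrimeSpectrum (X.presheaf.stalk x) := ⟨𝔮, h𝔮⟩
  have h : X.fromSpecStalk x P ⤳ x := by
    have : X.fromSpecStalk x P ∈ Set.range (X.fromSpecStalk x) := ⟨P, rfl⟩
    rwa [Scheme.range_fromSpecStalk] at this
  refine ⟨X.fromSpecStalk x P, h, ?_⟩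
  have h1 := Scheme.fromSpecStalk_closedPoint (X := X) (x := X.fromSpecStalk x P)
  rw [← Scheme.SpecMap_stalkSpecializes_fromSpecStalk h] at h1
  have h2 : X.fromSpecStalk x (Spec.map (X.presheaf.stalkSpecializes h)
      (IsLocalRing.closedPoint _)) = X.fromSpecStalk x P := h1
  have h3 := (X.fromSpecStalk x).isEmbedding.injective h2
  exact congrArg PrimeSpectrum.asIdeal h3

theorem fromSpecStalk_genPrime {x x' : X} (h : x' ⤳ x) :
    X.fromSpecStalk x (⟨genPrime h, inferInstance⟩ : PrimeSpectrum (X.presheaf.stalk x)) = x' := by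
  have h1 := Scheme.fromSpecStalk_closedPoint (X := X) (x := x')
  rw [← Scheme.SpecMap_stalkSpecializes_fromSpecStalk h] at h1
  exact h1

theorem eq_of_genPrime_eq {x x₁ x₂ : X} (h₁ : x₁ ⤳ x) (h₂ : x₂ ⤳ x)
    (e : genPrime h₁ = genPrime h₂) : x₁ = x₂ := by
  rw [← fromSpecStalk_genPrime h₁, ← fromSpecStalk_genPrime h₂]
  congr 1
  exact PrimeSpectrum.ext e

theorem genPrime_rfl (x : X) :
    genPrime (specializes_rfl : x ⤳ x) = maximalIdeal (X.presheaf.stalk x) := by
  ext a
  rw [mem_genPrime_iff, TopCat.Presheaf.stalkSpecializes_refl]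
  rfl

theorem height_genPrime {x x' : X} (h : x' ⤳ x) :
    ((genPrime h).height : WithBot ℕ∞) = ringKrullDim (X.presheaf.stalk x') := by
  letI := (X.presheaf.stalkSpecializes h).hom.toAlgebra
  haveI := isLocalization_stalkSpecializes h
  exact (IsLocalization.AtPrime.ringKrullDim_eq_height (genPrime h) (X.presheaf.stalk x')).symm

theorem main (X : Scheme.{u}) [IsLocallyNoetherian X]
    (hred : ∀ x : ↥X, IsOpen ({x} : Set ↥X) → IsReduced ↑(X.presheaf.stalk x)) :
    (∀ ζ : ↥X, ringKrullDim ↑(X.presheaf.stalk ζ) = 1 → ∀ (x : ↥X) (h : ζ ⤳ x),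
        ∃ t : ↑(X.presheaf.stalk x), t ∈ nonZeroDivisors ↑(X.presheaf.stalk x) ∧
          (IsLocalRing.maximalIdeal ↑(X.presheaf.stalk ζ)).comap
            (X.presheaf.stalkSpecializes h).hom = Ideal.span {t}) ↔
      ∀ x : ↥X, ∃ _ : IsDomain ↑(X.presheaf.stalk x),
        UniqueFactorizationMonoid ↑(X.presheaf.stalk x) := by
  constructor
  · intro H
    have step1 : ∀ (x : X) (p : Ideal (X.presheaf.stalk x)), p.IsPrime → p.height = 1 →
        ∃ t ∈ nonZeroDivisors (X.presheaf.stalk x), p = Ideal.span {t} := by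
      intro x p hp hht
      obtain ⟨ζ, h, rfl⟩ := exists_genPrime_eq' x p
      have hdim : ringKrullDim (X.presheaf.stalk ζ) = 1 := by
        rw [← height_genPrime h, hht]; rfl
      obtain ⟨t, ht, e⟩ := H ζ hdim x h
      exact ⟨t, ht, e⟩
    have domA : ∀ x : X, (∃ p : Ideal (X.presheaf.stalk x), p.IsPrime ∧
        p ≠ maximalIdeal (X.presheaf.stalk x)) → IsDomain (X.presheaf.stalk x) :=
      fun x hx => isDomain_of_height_one_principal (step1 x) hx
    have dom : ∀ x : X, IsDomain (X.presheaf.stalk x) := by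
      intro x
      by_cases hx : ∃ p : Ideal (X.presheaf.stalk x), p.IsPrime ∧
          p ≠ maximalIdeal (X.presheaf.stalk x)
      · exact domA x hx
      · push Not at hx
        by_cases hopen : IsOpen ({x} : Set X)
        · have hr := hred x hopen
          have h0 : maximalIdeal (X.presheaf.stalk x) = ⊥ := by
            have h1 : nilradical (X.presheaf.stalk x) = ⊥ := nilradical_eq_zero _
            rw [nilradical_eq_sInf] at h1
            rw [eq_bot_iff, ← h1]
            refine le_sInf (fun J hJ => ?_)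
            rw [hx J hJ]
          have : (⊥ : Ideal (X.presheaf.stalk x)).IsPrime :=
            h0 ▸ (inferInstance : (maximalIdeal (X.presheaf.stalk x)).IsPrime)
          exact IsDomain.of_bot_isPrime _
        · have hgen : ∀ z : X, z ⤳ x → z = x := by
            intro z hz
            refine eq_of_genPrime_eq hz specializes_rfl ?_
            rw [hx (genPrime hz) inferInstance,
              hx (genPrime (specializes_rfl : x ⤳ x)) inferInstance]
          have hncl : ¬ ∀ z : X, x ⤳ z → z = x := fun hcl =>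
            hopen (Groth.Agent.H99.QuasiSection.isOpen_singleton_of_closed_of_maximal x hcl hgen)
          push Not at hncl
          obtain ⟨x', hxx', hne⟩ := hncl
          have hdomx' : IsDomain (X.presheaf.stalk x') := by
            refine domA x' ⟨genPrime hxx', inferInstance, fun e => hne ?_⟩
            exact (eq_of_genPrime_eq hxx' specializes_rfl (e.trans (genPrime_rfl x').symm)).symm
          letI := (X.presheaf.stalkSpecializes hxx').hom.toAlgebra
          haveI := isLocalization_stalkSpecializes hxx'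
          exact IsLocalization.isDomain_of_le_nonZeroDivisors (X.presheaf.stalk x)
            (genPrime hxx').primeCompl_le_nonZeroDivisors
    intro x
    refine ⟨dom x, ?_⟩
    haveI := dom x
    exact UniqueFactorizationMonoid.of_forall_isPrincipal_of_height_eq_one (fun p hp hht => by
      obtain ⟨t, _, e⟩ := step1 x p hp hht
      exact ⟨⟨t, e⟩⟩)
  · intro H ζ hζ x h
    obtain ⟨hdom, hufd⟩ := H x
    have hht : (genPrime h).height = 1 := by
      have := height_genPrime h
      rw [hζ] at this
      exact_mod_cast this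
    obtain ⟨t, e⟩ := (UniqueFactorizationMonoid.isPrincipal_of_height_eq_one hht).principal
    refine ⟨t, ?_, e⟩
    apply mem_nonZeroDivisors_of_ne_zero
    rintro rfl
    have : genPrime h = ⊥ := by rw [e]; simp
    rw [this, Ideal.height_bot] at hht
    exact zero_ne_one hht

end SchemeLevel

end Groth.Agent.H99.LocFactorial
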