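import Mathlib
import Groth.Agent.H12.Constr
import Groth.Agent.H17.QFLocus
import Groth.Agent.H49.FibrePropConstr

/-!
# Local constructibility of fibrewise properties: variant with Noetherian models which are
quotients of regular rings (helper99; for S3453, S3422)

Variant of `Groth.Agent.H99.FibrePropGen`: the generic constructibility is only asked over bases
`Spec A` with `A` a domain which is a quotient of a regular ring (for instance of finite type
over `ℤ`), so that the Cohen–Macaulay and codepth loci of all schemes of finite type over the base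
are open.
-/

set_option autoImplicit false
set_option linter.style.haveILetI false
universe u

open CategoryTheory CategoryTheory.Limits AlgebraicGeometry TopologicalSpace Topology TensorProduct

namespace Groth.Agent.H99.FibrePropGenR

/-- `A` is a quotient of a regular ring. -/
def QReg (A : Type u) [CommRing A] : Prop :=
  ∃ (R : Type u) (_ : CommRing R) (_ : IsRegularRing R) (φ : R →+* A), Function.Surjective φ

theorem QReg.isNoetherianRing {A : Type u} [CommRing A] (h : QReg A) : IsNoetherianRing A := by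
  obtain ⟨R, _, _, φ, hφ⟩ := h
  exact isNoetherianRing_of_surjective R A φ hφ

theorem QReg.of_surjective {A B : Type u} [CommRing A] [CommRing B] (h : QReg A) (ψ : A →+* B)
    (hψ : Function.Surjective ψ) : QReg B := by
  obtain ⟨R, _, _, φ, hφ⟩ := h
  exact ⟨R, inferInstance, inferInstance, ψ.comp φ, hψ.comp hφ⟩

theorem QReg.quotient {A : Type u} [CommRing A] (h : QReg A) (I : Ideal A) : QReg (A ⧸ I) :=
  h.of_surjective (Ideal.Quotient.mk I) Ideal.Quotient.mk_surjective

theorem QReg.of_ringEquiv {A B : Type u} [CommRing A] [CommRing B] (h : QReg A) (e : A ≃+* B) :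
    QReg B :=
  h.of_surjective (e : A →+* B) e.surjective

theorem QReg.mvPolynomial {A : Type u} [CommRing A] (h : QReg A) (n : ℕ) :
    QReg (MvPolynomial (Fin n) A) := by
  obtain ⟨R, _, _, φ, hφ⟩ := h
  exact ⟨MvPolynomial (Fin n) R, inferInstance, inferInstance, MvPolynomial.map φ,
    MvPolynomial.map_surjective φ hφ⟩

theorem QReg.of_finiteType {A B : Type u} [CommRing A] [CommRing B] [Algebra A B] (h : QReg A)
    [Algebra.FiniteType A B] : QReg B := by
  obtain ⟨n, f, hf⟩ := Algebra.FiniteType.iff_quotient_mvPolynomial''.mp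
    (inferInstance : Algebra.FiniteType A B)
  exact (h.mvPolynomial n).of_surjective f.toRingHom hf

theorem QReg.of_finiteType_int {A : Type u} [CommRing A] [Algebra.FiniteType ℤ A] : QReg A := by
  obtain ⟨n, f, hf⟩ := Algebra.FiniteType.iff_quotient_mvPolynomial''.mp
    (inferInstance : Algebra.FiniteType ℤ A)
  haveI : IsRegularRing (ULift.{u} (MvPolynomial (Fin n) ℤ)) :=
    IsRegularRing.of_ringEquiv (ULift.ringEquiv (R := MvPolynomial (Fin n) ℤ)).symm
  exact ⟨ULift.{u} (MvPolynomial (Fin n) ℤ), inferInstance, inferInstance,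
    f.toRingHom.comp (ULift.ringEquiv : ULift.{u} (MvPolynomial (Fin n) ℤ) ≃+* _).toRingHom,
    hf.comp ULift.ringEquiv.surjective⟩

/-- the hypotheses on a pointwise property of morphisms. -/
structure IsGoodGenR (Pr : ∀ ⦃X S : Scheme.{u}⦄, (X ⟶ S) → X → Prop) : Prop where
  baseChange : ∀ ⦃X S X' S' : Scheme.{u}⦄ (f : X ⟶ S) (f' : X' ⟶ S') (g' : X' ⟶ X) (g : S' ⟶ S),
    IsPullback g' f' f g → LocallyOfFiniteType f → ∀ x' : X', Pr f' x' ↔ Pr f (g' x')
  openImm : ∀ ⦃U X S : Scheme.{u}⦄ (j : U ⟶ X) (f : X ⟶ S), IsOpenImmersion j →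
    LocallyOfFiniteType f → ∀ u : U, Pr (j ≫ f) u ↔ Pr f (j u)
  generic : ∀ (A : CommRingCat.{u}), IsDomain A → QReg A → ∀ ⦃X : Scheme.{u}⦄ (f : X ⟶ Spec A),
    LocallyOfFiniteType f → QuasiCompact f →
    ∃ U : (Spec A).Opens, (U : Set ↥(Spec A)).Nonempty ∧
      IsConstructible ({x : X | Pr f x} ∩ f ⁻¹' (U : Set ↥(Spec A)))

variable {Pr : ∀ ⦃X S : Scheme.{u}⦄, (X ⟶ S) → X → Prop}

/-- **Noetherian base, quotient of a regular ring**: Noetherian induction. -/
theorem isConstructible_of_qReg (h : IsGoodGenR Pr) (A : CommRingCat.{u}) (hA : QReg A)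
    {X : Scheme.{u}} (f : X ⟶ Spec A) [LocallyOfFiniteType f] [QuasiCompact f] :
    IsConstructible {x : X | Pr f x} := by
  haveI : IsNoetherianRing A := hA.isNoetherianRing
  haveI : IsLocallyNoetherian X := LocallyOfFiniteType.isLocallyNoetherian f
  haveI : CompactSpace X := QuasiCompact.compactSpace_of_compactSpace f
  haveI : IsNoetherian X := {}
  haveI : NoetherianSpace X := inferInstance
  haveI : NoetherianSpace ↥(Spec A) := inferInstanceAs (NoetherianSpace (PrimeSpectrum A))
  suffices H : ∀ T : Set ↥(Spec A), IsClosed T → IsConstructible ({x : X | Pr f x} ∩ f ⁻¹' T) by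
    simpa using H Set.univ isClosed_univ
  apply Groth.Agent.H12.irreducible_closed_induction
  · simp
  · intro T1 T2 _ _ h1 h2
    rw [Set.preimage_union, Set.inter_union_distrib_left]
    exact h1.union h2
  · intro T hTc hTi ih
    let p : Ideal A := PrimeSpectrum.vanishingIdeal (T : Set (PrimeSpectrum A))
    have hp : p.IsPrime := PrimeSpectrum.isIrreducible_iff_vanishingIdeal_isPrime.mp hTi
    have hT : PrimeSpectrum.zeroLocus (p : Set A) = T :=
      (PrimeSpectrum.zeroLocus_vanishingIdeal_eq_closure _).trans hTc.closure_eq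
    let ι : Spec (.of (A ⧸ p)) ⟶ Spec A := Spec.map (CommRingCat.ofHom (Ideal.Quotient.mk p))
    have hrange : Set.range ι = T := by
      have := _root_.range_comap_of_surjective (A ⧸ p) (Ideal.Quotient.mk p)
        Ideal.Quotient.mk_surjective
      rw [Ideal.mk_ker] at this
      rw [← hT, ← this]
      rfl
    haveI : IsClosedImmersion ι :=
      IsClosedImmersion.spec_of_surjective _ Ideal.Quotient.mk_surjective
    have hdom : IsDomain (A ⧸ p) := Ideal.Quotient.isDomain p
    let fT := pullback.snd f ι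
    let g' := pullback.fst f ι
    have hpb : IsPullback g' fT f ι := IsPullback.of_hasPullback f ι
    haveI : IsNoetherianRing (A ⧸ p) := inferInstance
    obtain ⟨UT, hUTne, hO⟩ := h.generic (.of (A ⧸ p)) hdom (hA.quotient p) fT
      inferInstance inferInstance
    -- the proper closed subset
    have hιc : IsClosedEmbedding ι := ι.isClosedEmbedding
    have hT'c : IsClosed (ι '' ((UT : Set ↥(Spec (.of (A ⧸ p))))ᶜ)) :=
      hιc.isClosedMap _ UT.isOpen.isClosed_compl
    have hT'ss : ι '' ((UT : Set ↥(Spec (.of (A ⧸ p))))ᶜ) ⊂ T := by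
      refine ⟨?_, ?_⟩
      · rintro _ ⟨t, -, rfl⟩
        rw [← hrange]; exact Set.mem_range_self t
      · intro hcon
        obtain ⟨t, ht⟩ := hUTne
        have : ι t ∈ T := by rw [← hrange]; exact Set.mem_range_self t
        obtain ⟨t', ht', htt'⟩ := hcon this
        rw [hιc.injective htt'] at ht'
        exact ht' ht
    have ih' := ih _ hT'c hT'ss
    -- the piece over `UT`
    have hpiece : IsConstructible
        (g' '' ({z | Pr fT z} ∩ fT ⁻¹' (UT : Set ↥(Spec (.of (A ⧸ p)))))) :=
      hO.image_of_isClosedEmbedding g'.isClosedEmbedding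
        (Groth.Agent.H12.isRetrocompact_of_noetherian _)
    have hres : ∀ z : ↥(pullback f ι), Pr fT z ↔ Pr f (g' z) := fun z =>
      h.baseChange f fT g' ι hpb inferInstance z
    have hdecomp : {x : X | Pr f x} ∩ f ⁻¹' T =
        ({x : X | Pr f x} ∩ f ⁻¹' (ι '' ((UT : Set ↥(Spec (.of (A ⧸ p))))ᶜ))) ∪
          g' '' ({z | Pr fT z} ∩ fT ⁻¹' (UT : Set ↥(Spec (.of (A ⧸ p))))) := by
      ext x
      simp only [Set.mem_inter_iff, Set.mem_ofPred_eq, Set.mem_preimage, Set.mem_union,
        Set.mem_image]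
      constructor
      · rintro ⟨hx, hxT⟩
        rw [← hrange] at hxT
        obtain ⟨t, ht⟩ := hxT
        by_cases htU : t ∈ UT
        · right
          obtain ⟨z, hz1, hz2⟩ := Scheme.Pullback.exists_preimage_pullback x t ht.symm
          refine ⟨z, ⟨?_, ?_⟩, hz1⟩
          · rw [hres]
            rw [hz1]; exact hx
          · change fT z ∈ UT
            rw [hz2]; exact htU
        · left
          exact ⟨hx, t, htU, ht⟩
      · rintro (⟨hx, t, -, ht⟩ | ⟨z, ⟨hz, -⟩, rfl⟩)
        · refine ⟨hx, ?_⟩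
          rw [← hrange, ← ht]; exact Set.mem_range_self t
        · refine ⟨(hres z).mp hz, ?_⟩
          rw [← hrange]
          refine ⟨fT z, ?_⟩
          have := congrArg (fun φ : pullback f ι ⟶ Spec A => φ z) hpb.w
          exact this.symm
    rw [hdecomp]
    exact ih'.union hpiece

/-- Noetherian model of finite type over `ℤ` of a ring map of finite presentation. -/
theorem exists_isPullback_qReg {A B : CommRingCat.{u}} (φ : A ⟶ B)
    (hφ : φ.hom.FinitePresentation) :
    ∃ (A₀ B₀ : CommRingCat.{u}) (φ₀ : A₀ ⟶ B₀) (α : A₀ ⟶ A) (β : B₀ ⟶ B),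
      QReg A₀ ∧ φ₀.hom.FinitePresentation ∧
      IsPullback (Spec.map β) (Spec.map φ) (Spec.map φ₀) (Spec.map α) := by
  algebraize [φ.hom]
  obtain ⟨A₀, B₀, _, _, hfg, hfp, ⟨e⟩⟩ := Groth.Agent.H17.exists_noetherian_model A B
  have hft : Algebra.FiniteType ℤ A₀ := (Subalgebra.fg_iff_finiteType A₀).mp hfg
  let β : CommRingCat.of B₀ ⟶ B := CommRingCat.ofHom
      ((e.symm.toRingEquiv.toRingHom).comp Algebra.TensorProduct.includeRight.toRingHom)
  have hpo : IsPushout (CommRingCat.ofHom (algebraMap A₀ A)) (CommRingCat.ofHom (algebraMap A₀ B₀))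
      φ β := by
    refine (CommRingCat.isPushout_tensorProduct A₀ A B₀).of_iso (Iso.refl _) (Iso.refl _)
      (Iso.refl _) e.symm.toRingEquiv.toCommRingCatIso (by simp) (by simp) ?_ ?_
    · ext a
      simp
      have h1 : (a ⊗ₜ[↥A₀] (1 : B₀)) = algebraMap A (A ⊗[↥A₀] B₀) a := rfl
      rw [h1, AlgEquiv.commutes]
      rfl
    · ext b
      simp [β]
  refine ⟨CommRingCat.of A₀, CommRingCat.of B₀, CommRingCat.ofHom (algebraMap A₀ B₀),
    CommRingCat.ofHom (algebraMap A₀ A), β, QReg.of_finiteType_int, ?_, ?_⟩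
  · exact RingHom.finitePresentation_algebraMap.mpr hfp
  · exact (isPullback_SpecMap_of_isPushout _ _ _ _ hpo).flip

/-- **affine source and target**: Noetherian approximation. -/
theorem isConstructible_of_isAffine (h : IsGoodGenR Pr) {X S : Scheme.{u}} (f : X ⟶ S)
    [IsAffine X] [IsAffine S] [LocallyOfFinitePresentation f] :
    IsConstructible {x : X | Pr f x} := by
  have hφ : f.appTop.hom.FinitePresentation :=
    (HasRingHomProperty.iff_of_isAffine (P := @LocallyOfFinitePresentation)).mp inferInstance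
  obtain ⟨A₀, B₀, φ₀, α, β, hQ, hfp, hpb⟩ := exists_isPullback_qReg f.appTop hφ
  have hsq : IsPullback X.isoSpec.hom f (Spec.map f.appTop) S.isoSpec.hom :=
    IsPullback.of_horiz_isIso ⟨Scheme.isoSpec_hom_naturality f⟩
  have hpb' := hsq.paste_horiz hpb
  have hft : LocallyOfFiniteType (Spec.map φ₀) := by
    rw [HasRingHomProperty.Spec_iff (P := @LocallyOfFiniteType)]
    exact RingHom.FiniteType.of_finitePresentation hfp
  have hc := isConstructible_of_qReg h A₀ hQ (Spec.map φ₀)
  have hE : {x : X | Pr f x} =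
      (X.isoSpec.hom ≫ Spec.map β) ⁻¹' {x | Pr (Spec.map φ₀) x} := by
    ext x
    exact h.baseChange (Spec.map φ₀) f _ _ hpb' hft x
  rw [hE]
  exact Scheme.Hom.isConstructible_preimage _ hc

/-- **EGA IV 9.9 pattern**: a good fibrewise property defines a locally constructible subset of
the source of any morphism locally of finite presentation. -/
theorem isLocallyConstructible (h : IsGoodGenR Pr) {X S : Scheme.{u}} (f : X ⟶ S)
    [LocallyOfFinitePresentation f] : IsLocallyConstructible {x : X | Pr f x} := by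
  intro x
  obtain ⟨V, hV, hxV⟩ : ∃ V : S.Opens, IsAffineOpen V ∧ f x ∈ V := by
    obtain ⟨_, ⟨V, hV, rfl⟩, hxV, -⟩ := S.isBasis_affineOpens.exists_subset_of_mem_open
      (Set.mem_univ (f x)) isOpen_univ
    exact ⟨V, hV, hxV⟩
  obtain ⟨U, hU, hxU, hUV⟩ : ∃ U : X.Opens, IsAffineOpen U ∧ x ∈ U ∧ U ≤ f ⁻¹ᵁ V := by
    obtain ⟨_, ⟨U, hU, rfl⟩, hxU, hUV⟩ := X.isBasis_affineOpens.exists_subset_of_mem_open
      (show x ∈ ((f ⁻¹ᵁ V : X.Opens) : Set X) from hxV) (f ⁻¹ᵁ V).isOpen
    exact ⟨U, hU, hxU, hUV⟩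
  refine ⟨U, U.2.mem_nhds hxU, U.2, ?_⟩
  haveI : IsAffine (U : Scheme.{u}) := hU
  haveI : IsAffine (V : Scheme.{u}) := hV
  have hc := isConstructible_of_isAffine h (f.resLE V U hUV)
  have hlft : LocallyOfFiniteType f := inferInstance
  have hpbV : IsPullback (𝟙 (U : Scheme.{u})) (f.resLE V U hUV) (f.resLE V U hUV ≫ V.ι) V.ι :=
    IsPullback.of_horiz_isIso_mono ⟨by simp⟩
  have hlft' : LocallyOfFiniteType (f.resLE V U hUV ≫ V.ι) := inferInstance
  have hE : {u : (U : Scheme.{u}) | Pr (f.resLE V U hUV) u} =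
      {u : (U : Scheme.{u}) | Pr f (U.ι u)} := by
    ext u
    simp only [Set.mem_ofPred_eq]
    rw [h.baseChange _ _ _ _ hpbV hlft' u, Scheme.Hom.resLE_comp_ι]
    exact h.openImm U.ι f inferInstance hlft u
  rw [hE] at hc
  exact hc

end Groth.Agent.H99.FibrePropGenR
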