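import Mathlib
import Groth.Agent.H17.QFLocus

/-!
# Noetherian models of finitely presented algebras carrying finitely many elements
(helper99; for S3427, S3428)

Variant of helper17's `Groth.Agent.H17.exists_isPullback_noetherian`: the Noetherian model
`A₀ → B₀` of a finitely presented ring map `A → B` can be chosen so that finitely many prescribed
elements of `B` (hence any prescribed constructible subset of `Spec B`) come from `B₀`.
-/

set_option autoImplicit false
set_option backward.isDefEq.respectTransparency.types false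
set_option linter.style.haveILetI false
universe u

open AlgebraicGeometry CategoryTheory CategoryTheory.Limits TensorProduct Topology

namespace Groth.Agent.H99.NoethModelData

theorem exists_noetherian_model_data (A B : Type u) [CommRing A] [CommRing B] [Algebra A B]
    [Algebra.FinitePresentation A B] (T : Finset B) :
    ∃ (A₀ : Subalgebra ℤ A) (B₀ : Type u) (_ : CommRing B₀) (_ : Algebra A₀ B₀),
      A₀.FG ∧ Algebra.FinitePresentation A₀ B₀ ∧
        ∃ e : B ≃ₐ[A] A ⊗[A₀] B₀, ∀ t ∈ T, ∃ b₀ : B₀, e.symm (1 ⊗ₜ[A₀] b₀) = t := by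
  classical
  let P := Algebra.Presentation.ofFinitePresentation A B
  have hsurj : ∀ t : B, ∃ p : MvPolynomial _ A, MvPolynomial.aeval P.val p = t := fun t => by
    obtain ⟨p, hp⟩ := P.algebraMap_surjective t
    exact ⟨p, by rw [← hp, Algebra.Generators.algebraMap_apply]⟩
  choose p hp using hsurj
  let C : Set A := P.coeffs ∪ ⋃ t ∈ T, ((p t).coeffs : Set A)
  have hCfin : C.Finite := P.finite_coeffs.union
    (T.finite_toSet.biUnion fun t _ => (p t).coeffs.finite_toSet)
  let A₀ : Subalgebra ℤ A := Algebra.adjoin ℤ C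
  have hC : C ⊆ Set.range (algebraMap A₀ A) := fun a ha =>
    ⟨⟨a, Algebra.subset_adjoin ha⟩, rfl⟩
  haveI : P.HasCoeffs A₀ := ⟨fun a ha => hC (Or.inl ha)⟩
  refine ⟨A₀, (P.ModelOfHasCoeffs A₀ :), inferInstance, inferInstance,
    ⟨hCfin.toFinset, by simp [A₀]⟩, inferInstance,
    (P.tensorModelOfHasCoeffsEquiv A₀).symm, fun t ht => ?_⟩
  have hmem : p t ∈ Set.range (MvPolynomial.map (algebraMap A₀ A)) := by
    rw [MvPolynomial.mem_range_map_iff_coeffs_subset]
    intro a ha
    refine hC (Or.inr ?_)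
    simp only [Set.mem_iUnion, exists_prop]
    exact ⟨t, ht, ha⟩
  obtain ⟨y, hy⟩ := hmem
  refine ⟨Ideal.Quotient.mk _ y, ?_⟩
  rw [AlgEquiv.symm_symm]
  change P.tensorModelOfHasCoeffsEquiv A₀ (1 ⊗ₜ[A₀] (Ideal.Quotient.mk _ y)) = t
  rw [Algebra.Presentation.tensorModelOfHasCoeffsEquiv_tmul, map_one, one_mul,
    ← MvPolynomial.aeval_map_algebraMap A, hy, hp]

theorem exists_isPullback_noetherian_data {A B : CommRingCat.{u}} (φ : A ⟶ B)
    (hφ : φ.hom.FinitePresentation) (T : Finset B) :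
    ∃ (A₀ B₀ : CommRingCat.{u}) (φ₀ : A₀ ⟶ B₀) (α : A₀ ⟶ A) (β : B₀ ⟶ B),
      IsNoetherianRing A₀ ∧ IsNoetherianRing B₀ ∧ φ₀.hom.FinitePresentation ∧
      IsPullback (Spec.map β) (Spec.map φ) (Spec.map φ₀) (Spec.map α) ∧
      ∀ t ∈ T, t ∈ Set.range β.hom := by
  algebraize [φ.hom]
  obtain ⟨A₀, B₀, _, _, hfg, hfp, e, he⟩ := exists_noetherian_model_data A B T
  have hft : Algebra.FiniteType ℤ A₀ := (Subalgebra.fg_iff_finiteType A₀).mp hfg
  have hN : IsNoetherianRing A₀ := Algebra.FiniteType.isNoetherianRing ℤ A₀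
  have hN' : IsNoetherianRing B₀ := Algebra.FiniteType.isNoetherianRing A₀ B₀
  let β : CommRingCat.of B₀ ⟶ B := CommRingCat.ofHom
      ((e.symm.toRingEquiv.toRingHom).comp Algebra.TensorProduct.includeRight.toRingHom)
  have hpo : IsPushout (CommRingCat.ofHom (algebraMap A₀ A)) (CommRingCat.ofHom (algebraMap A₀ B₀))
      φ β := by
    refine (CommRingCat.isPushout_tensorProduct A₀ A B₀).of_iso (Iso.refl _) (Iso.refl _)
      (Iso.refl _) e.symm.toRingEquiv.toCommRingCatIso (by simp) (by simp) ?_ ?_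
    · ext a
      simp
      have h1 : (a ⊗ₜ[↥A₀] (1 : B₀)) = algebraMap A (A ⊗[↥A₀] B₀) a := rfl
      rw [h1, AlgEquiv.commutes]
      rfl
    · ext b
      simp [β]
  refine ⟨CommRingCat.of A₀, CommRingCat.of B₀, CommRingCat.ofHom (algebraMap A₀ B₀),
    CommRingCat.ofHom (algebraMap A₀ A), β, hN, hN', ?_, ?_, ?_⟩
  · exact RingHom.finitePresentation_algebraMap.mpr hfp
  · exact (isPullback_SpecMap_of_isPushout _ _ _ _ hpo).flip
  · intro t ht
    obtain ⟨b₀, hb₀⟩ := he t ht
    exact ⟨b₀, hb₀⟩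

/-- a constructible subset of `Spec B` descends to the Noetherian model. -/
theorem exists_isPullback_noetherian_constructible {A B : CommRingCat.{u}} (φ : A ⟶ B)
    (hφ : φ.hom.FinitePresentation) (Z : Set ↥(Spec B)) (hZ : IsConstructible Z) :
    ∃ (A₀ B₀ : CommRingCat.{u}) (φ₀ : A₀ ⟶ B₀) (α : A₀ ⟶ A) (β : B₀ ⟶ B),
      IsNoetherianRing A₀ ∧ IsNoetherianRing B₀ ∧ φ₀.hom.FinitePresentation ∧
      IsPullback (Spec.map β) (Spec.map φ) (Spec.map φ₀) (Spec.map α) ∧
      ∃ Z₀ : Set ↥(Spec B₀), IsConstructible Z₀ ∧ Z = (Spec.map β) ⁻¹' Z₀ := by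
  classical
  obtain ⟨D, hD⟩ := PrimeSpectrum.exists_constructibleSetData_iff.mpr
    (show IsConstructible (Z : Set (PrimeSpectrum B)) from hZ)
  let T : Finset B := D.biUnion fun C => insert C.f (Finset.univ.image C.g)
  obtain ⟨A₀, B₀, φ₀, α, β, hN, hN', hfp, hpb, hT⟩ := exists_isPullback_noetherian_data φ hφ T
  refine ⟨A₀, B₀, φ₀, α, β, hN, hN', hfp, hpb, ?_⟩
  have hf : ∀ C ∈ D, ∃ f₀ : B₀, β.hom f₀ = C.f := fun C hC =>
    hT _ (Finset.mem_biUnion.mpr ⟨C, hC, Finset.mem_insert_self _ _⟩)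
  have hg : ∀ C ∈ D, ∀ i : Fin C.n, ∃ g₀ : B₀, β.hom g₀ = C.g i := fun C hC i =>
    hT _ (Finset.mem_biUnion.mpr ⟨C, hC, Finset.mem_insert_of_mem
      (Finset.mem_image.mpr ⟨i, Finset.mem_univ _, rfl⟩)⟩)
  choose! f₀ hf₀ using hf
  choose! g₀ hg₀ using hg
  let lift : PrimeSpectrum.BasicConstructibleSetData B → PrimeSpectrum.BasicConstructibleSetData B₀ :=
    fun C => ⟨f₀ C, C.n, fun i => g₀ C i⟩
  let D₀ : PrimeSpectrum.ConstructibleSetData B₀ := D.image lift
  have hmap : D₀.map β.hom = D := by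
    unfold PrimeSpectrum.ConstructibleSetData.map
    rw [Finset.image_image]
    refine (Finset.image_congr fun C hC => ?_).trans Finset.image_id
    have hC' : C ∈ D := hC
    refine PrimeSpectrum.BasicConstructibleSetData.ext (hf₀ C hC') rfl ?_
    refine heq_of_eq ?_
    funext i
    exact hg₀ C hC' i
  refine ⟨D₀.toSet, D₀.isConstructible_toSet, ?_⟩
  have := PrimeSpectrum.ConstructibleSetData.toSet_map β.hom D₀
  rw [hmap, hD] at this
  exact this

end Groth.Agent.H99.NoethModelData
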