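import Groth.Agent.H99.FibrePropGen
import Groth.Agent.H99.NoethModelData

/-!
# Local constructibility of fibrewise properties depending on a constructible subset
(helper99; for S3427, S3428)

Variant of `Groth.Agent.H99.FibrePropGen` for pointwise properties `Pr f Z x` depending on an
auxiliary subset `Z` of the source, compatible with preimages under base change.
-/

set_option autoImplicit false
set_option linter.style.haveILetI false
universe u

open CategoryTheory CategoryTheory.Limits AlgebraicGeometry TopologicalSpace Topology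

namespace Groth.Agent.H99.FibrePropGenD

/-- the hypotheses on a pointwise property of morphisms with a subset of the source. -/
structure IsGoodGenD (Pr : ∀ ⦃X S : Scheme.{u}⦄, (X ⟶ S) → Set X → X → Prop) : Prop where
  baseChange : ∀ ⦃X S X' S' : Scheme.{u}⦄ (f : X ⟶ S) (f' : X' ⟶ S') (g' : X' ⟶ X) (g : S' ⟶ S),
    IsPullback g' f' f g → LocallyOfFiniteType f → ∀ (Z : Set X) (x' : X'),
      Pr f' (g' ⁻¹' Z) x' ↔ Pr f Z (g' x')
  openImm : ∀ ⦃U X S : Scheme.{u}⦄ (j : U ⟶ X) (f : X ⟶ S), IsOpenImmersion j →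
    LocallyOfFiniteType f → ∀ (Z : Set X) (u : U), Pr (j ≫ f) (j ⁻¹' Z) u ↔ Pr f Z (j u)
  generic : ∀ ⦃X S : Scheme.{u}⦄ (f : X ⟶ S), IsNoetherian S → IrreducibleSpace S →
    LocallyOfFiniteType f → QuasiCompact f → ∀ Z : Set X, IsConstructible Z →
    ∃ U : S.Opens, (U : Set S).Nonempty ∧
      IsConstructible ({x : X | Pr f Z x} ∩ f ⁻¹' (U : Set S))

variable {Pr : ∀ ⦃X S : Scheme.{u}⦄, (X ⟶ S) → Set X → X → Prop}

/-- **Noetherian base**: Noetherian induction. -/
theorem isConstructible_of_noetherian (h : IsGoodGenD Pr) (A : CommRingCat.{u})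
    [IsNoetherianRing A] {X : Scheme.{u}} (f : X ⟶ Spec A) [LocallyOfFiniteType f]
    [QuasiCompact f] (Z : Set X) (hZ : IsConstructible Z) :
    IsConstructible {x : X | Pr f Z x} := by
  haveI : IsLocallyNoetherian X := LocallyOfFiniteType.isLocallyNoetherian f
  haveI : CompactSpace X := QuasiCompact.compactSpace_of_compactSpace f
  haveI : IsNoetherian X := {}
  haveI : NoetherianSpace X := inferInstance
  haveI : NoetherianSpace ↥(Spec A) := inferInstanceAs (NoetherianSpace (PrimeSpectrum A))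
  suffices H : ∀ T : Set ↥(Spec A), IsClosed T →
      IsConstructible ({x : X | Pr f Z x} ∩ f ⁻¹' T) by
    simpa using H Set.univ isClosed_univ
  apply Groth.Agent.H12.irreducible_closed_induction
  · simp
  · intro T1 T2 _ _ h1 h2
    rw [Set.preimage_union, Set.inter_union_distrib_left]
    exact h1.union h2
  · intro T hTc hTi ih
    let p : Ideal A := PrimeSpectrum.vanishingIdeal (T : Set (PrimeSpectrum A))
    have hp : p.IsPrime := PrimeSpectrum.isIrreducible_iff_vanishingIdeal_isPrime.mp hTi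
    have hT : PrimeSpectrum.zeroLocus (p : Set A) = T :=
      (PrimeSpectrum.zeroLocus_vanishingIdeal_eq_closure _).trans hTc.closure_eq
    let ι : Spec (.of (A ⧸ p)) ⟶ Spec A := Spec.map (CommRingCat.ofHom (Ideal.Quotient.mk p))
    have hrange : Set.range ι = T := by
      have := _root_.range_comap_of_surjective (A ⧸ p) (Ideal.Quotient.mk p)
        Ideal.Quotient.mk_surjective
      rw [Ideal.mk_ker] at this
      rw [← hT, ← this]
      rfl
    haveI : IsClosedImmersion ι :=
      IsClosedImmersion.spec_of_surjective _ Ideal.Quotient.mk_surjective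
    have : IsDomain (A ⧸ p) := Ideal.Quotient.isDomain p
    have : IrreducibleSpace ↥(Spec (.of (A ⧸ p))) :=
      inferInstanceAs (IrreducibleSpace (PrimeSpectrum (A ⧸ p)))
    let fT := pullback.snd f ι
    let g' := pullback.fst f ι
    have hpb : IsPullback g' fT f ι := IsPullback.of_hasPullback f ι
    haveI : IsNoetherianRing (A ⧸ p) := inferInstance
    haveI : IsNoetherian (Spec (.of (A ⧸ p))) := inferInstance
    have hZT : IsConstructible (g' ⁻¹' Z) := Scheme.Hom.isConstructible_preimage g' hZ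
    obtain ⟨UT, hUTne, hO⟩ := h.generic fT inferInstance inferInstance inferInstance inferInstance
      (g' ⁻¹' Z) hZT
    -- the proper closed subset
    have hιc : IsClosedEmbedding ι := ι.isClosedEmbedding
    have hT'c : IsClosed (ι '' ((UT : Set ↥(Spec (.of (A ⧸ p))))ᶜ)) :=
      hιc.isClosedMap _ UT.isOpen.isClosed_compl
    have hT'ss : ι '' ((UT : Set ↥(Spec (.of (A ⧸ p))))ᶜ) ⊂ T := by
      refine ⟨?_, ?_⟩
      · rintro _ ⟨t, -, rfl⟩
        rw [← hrange]; exact Set.mem_range_self t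
      · intro hcon
        obtain ⟨t, ht⟩ := hUTne
        have : ι t ∈ T := by rw [← hrange]; exact Set.mem_range_self t
        obtain ⟨t', ht', htt'⟩ := hcon this
        rw [hιc.injective htt'] at ht'
        exact ht' ht
    have ih' := ih _ hT'c hT'ss
    -- the piece over `UT`
    have hpiece : IsConstructible
        (g' '' ({z | Pr fT (g' ⁻¹' Z) z} ∩ fT ⁻¹' (UT : Set ↥(Spec (.of (A ⧸ p)))))) :=
      hO.image_of_isClosedEmbedding g'.isClosedEmbedding
        (Groth.Agent.H12.isRetrocompact_of_noetherian _)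
    have hres : ∀ z : ↥(pullback f ι), Pr fT (g' ⁻¹' Z) z ↔ Pr f Z (g' z) := fun z =>
      h.baseChange f fT g' ι hpb inferInstance Z z
    have hdecomp : {x : X | Pr f Z x} ∩ f ⁻¹' T =
        ({x : X | Pr f Z x} ∩ f ⁻¹' (ι '' ((UT : Set ↥(Spec (.of (A ⧸ p))))ᶜ))) ∪
          g' '' ({z | Pr fT (g' ⁻¹' Z) z} ∩ fT ⁻¹' (UT : Set ↥(Spec (.of (A ⧸ p))))) := by
      ext x
      simp only [Set.mem_inter_iff, Set.mem_ofPred_eq, Set.mem_preimage, Set.mem_union,
        Set.mem_image]
      constructor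
      · rintro ⟨hx, hxT⟩
        rw [← hrange] at hxT
        obtain ⟨t, ht⟩ := hxT
        by_cases htU : t ∈ UT
        · right
          obtain ⟨z, hz1, hz2⟩ := Scheme.Pullback.exists_preimage_pullback x t ht.symm
          refine ⟨z, ⟨?_, ?_⟩, hz1⟩
          · rw [hres]
            rw [hz1]; exact hx
          · change fT z ∈ UT
            rw [hz2]; exact htU
        · left
          exact ⟨hx, t, htU, ht⟩
      · rintro (⟨hx, t, -, ht⟩ | ⟨z, ⟨hz, -⟩, rfl⟩)
        · refine ⟨hx, ?_⟩
          rw [← hrange, ← ht]; exact Set.mem_range_self t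
        · refine ⟨(hres z).mp hz, ?_⟩
          rw [← hrange]
          refine ⟨fT z, ?_⟩
          have := congrArg (fun φ : pullback f ι ⟶ Spec A => φ z) hpb.w
          exact this.symm
    rw [hdecomp]
    exact ih'.union hpiece

/-- **affine source and target**: Noetherian approximation carrying the constructible subset. -/
theorem isConstructible_of_isAffine (h : IsGoodGenD Pr) {X S : Scheme.{u}} (f : X ⟶ S) [IsAffine X]
    [IsAffine S] [LocallyOfFinitePresentation f] (Z : Set X) (hZ : IsConstructible Z) :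
    IsConstructible {x : X | Pr f Z x} := by
  have hφ : f.appTop.hom.FinitePresentation :=
    (HasRingHomProperty.iff_of_isAffine (P := @LocallyOfFinitePresentation)).mp inferInstance
  have hZB : IsConstructible (X.isoSpec.inv ⁻¹' Z) :=
    Scheme.Hom.isConstructible_preimage X.isoSpec.inv hZ
  obtain ⟨A₀, B₀, φ₀, α, β, hN, hN', hfp, hpb, Z₀, hZ₀, hZeq⟩ :=
    Groth.Agent.H99.NoethModelData.exists_isPullback_noetherian_constructible f.appTop hφ _ hZB
  have hsq : IsPullback X.isoSpec.hom f (Spec.map f.appTop) S.isoSpec.hom :=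
    IsPullback.of_horiz_isIso ⟨Scheme.isoSpec_hom_naturality f⟩
  have hpb' := hsq.paste_horiz hpb
  have hft : LocallyOfFiniteType (Spec.map φ₀) := by
    rw [HasRingHomProperty.Spec_iff (P := @LocallyOfFiniteType)]
    exact RingHom.FiniteType.of_finitePresentation hfp
  have hc := isConstructible_of_noetherian h A₀ (Spec.map φ₀) Z₀ hZ₀
  have hZ' : Z = (X.isoSpec.hom ≫ Spec.map β) ⁻¹' Z₀ := by
    ext x
    have h1 : X.isoSpec.hom x ∈ X.isoSpec.inv ⁻¹' Z ↔ x ∈ Z := by
      rw [Set.mem_preimage, ← Scheme.Hom.comp_apply, Iso.hom_inv_id]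
      rfl
    rw [← h1, hZeq]
    rfl
  have hE : {x : X | Pr f Z x} =
      (X.isoSpec.hom ≫ Spec.map β) ⁻¹' {x | Pr (Spec.map φ₀) Z₀ x} := by
    ext x
    rw [Set.mem_ofPred_eq, hZ']
    exact h.baseChange (Spec.map φ₀) f _ _ hpb' hft Z₀ x
  rw [hE]
  exact Scheme.Hom.isConstructible_preimage _ hc

/-- **EGA IV 9.9 pattern with data**: a good fibrewise property depending on a locally
constructible subset defines a locally constructible subset of the source of any morphism locally
of finite presentation. -/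
theorem isLocallyConstructible (h : IsGoodGenD Pr) {X S : Scheme.{u}} (f : X ⟶ S)
    [LocallyOfFinitePresentation f] (Z : Set X) (hZ : IsLocallyConstructible Z) :
    IsLocallyConstructible {x : X | Pr f Z x} := by
  intro x
  obtain ⟨V, hV, hxV⟩ : ∃ V : S.Opens, IsAffineOpen V ∧ f x ∈ V := by
    obtain ⟨_, ⟨V, hV, rfl⟩, hxV, -⟩ := S.isBasis_affineOpens.exists_subset_of_mem_open
      (Set.mem_univ (f x)) isOpen_univ
    exact ⟨V, hV, hxV⟩
  obtain ⟨U, hU, hxU, hUV⟩ : ∃ U : X.Opens, IsAffineOpen U ∧ x ∈ U ∧ U ≤ f ⁻¹ᵁ V := by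
    obtain ⟨_, ⟨U, hU, rfl⟩, hxU, hUV⟩ := X.isBasis_affineOpens.exists_subset_of_mem_open
      (show x ∈ ((f ⁻¹ᵁ V : X.Opens) : Set X) from hxV) (f ⁻¹ᵁ V).isOpen
    exact ⟨U, hU, hxU, hUV⟩
  refine ⟨U, U.2.mem_nhds hxU, U.2, ?_⟩
  haveI : IsAffine (U : Scheme.{u}) := hU
  haveI : IsAffine (V : Scheme.{u}) := hV
  have hZU : IsConstructible (U.ι ⁻¹' Z) :=
    (hZ.preimage_of_isOpenEmbedding U.ι.isOpenEmbedding).isConstructible
  have hc := isConstructible_of_isAffine h (f.resLE V U hUV) (U.ι ⁻¹' Z) hZU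
  have hlft : LocallyOfFiniteType f := inferInstance
  have hpbV : IsPullback (𝟙 (U : Scheme.{u})) (f.resLE V U hUV) (f.resLE V U hUV ≫ V.ι) V.ι :=
    IsPullback.of_horiz_isIso_mono ⟨by simp⟩
  have hlft' : LocallyOfFiniteType (f.resLE V U hUV ≫ V.ι) := inferInstance
  have hE : {u : (U : Scheme.{u}) | Pr (f.resLE V U hUV) (U.ι ⁻¹' Z) u} =
      {u : (U : Scheme.{u}) | Pr f Z (U.ι u)} := by
    ext u
    simp only [Set.mem_ofPred_eq]
    have h1 := h.baseChange _ _ _ _ hpbV hlft' (U.ι ⁻¹' Z) u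
    have h2 : (𝟙 (U : Scheme.{u}) : (U : Scheme.{u}) ⟶ U) ⁻¹' (U.ι ⁻¹' Z) = U.ι ⁻¹' Z := rfl
    rw [h2] at h1
    rw [h1, Scheme.Hom.resLE_comp_ι]
    exact h.openImm U.ι f inferInstance hlft Z u
  rw [hE] at hc
  exact hc

end Groth.Agent.H99.FibrePropGenD
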