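import Mathlib
import Groth.Prelude.Def_Flat
import Groth.Agent.H17.Chev.CompDim
import Groth.Agent.H17.Chev.MaxPt
import Groth.Agent.H17.Chev.FibComp
import Groth.Agent.H17.Chev.FibreLocal
import Groth.Agent.H49.FibreDimAtBC
import Groth.Agent.H48.CompDimBC2
import Groth.Agent.H48.CycFib

/-!
# Equidimensionality of a fibre at a point, via fibre-maximal generizations (helper99; for S3451)

`FibEqui f x`: all generizations `ξ` of `x` inside the fibre of `f` through `x` which are maximal
in that fibre have the same local fibre dimension `FlatMor.fibreDimAt f ξ`. This is equivalent to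
the fibre being equidimensional at `x` (`fibEqui_iff`), it is invariant under base change
(`fibEqui_baseChange`) and under open immersions into the source (`fibEqui_openImm`).
-/

set_option autoImplicit false
set_option backward.isDefEq.respectTransparency.types false
set_option linter.style.haveILetI false
set_option linter.unusedSectionVars false
universe u

open AlgebraicGeometry CategoryTheory CategoryTheory.Limits TopologicalSpace

namespace Groth.Agent.H99.FibEqui

variable {X S : Scheme.{u}}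

/-- `ξ` has no proper generization inside its fibre. -/
def FibMax (f : X ⟶ S) (ξ : X) : Prop := ∀ ξ' : X, f ξ' = f ξ → ξ' ⤳ ξ → ξ' = ξ

/-- The fibre of `f` through `x` is equidimensional at `x` (formulation with points of `X`). -/
def FibEqui (f : X ⟶ S) (x : X) : Prop :=
  ∃ e : ℕ, ∀ ξ : X, ξ ⤳ x → f ξ = f x → FibMax f ξ → FlatMor.fibreDimAt f ξ = e

theorem mem_range_fiberι (f : X ⟶ S) (y : S) (ξ : X) (h : f ξ = y) :
    ∃ w : f.fiber y, f.fiberι y w = ξ := by
  have : ξ ∈ Set.range (f.fiberι y) := by rw [Scheme.Hom.range_fiberι]; exact h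
  exact this

/-- maximal points of the fibre scheme give fibre-maximal points. -/
theorem fibMax_fiberι (f : X ⟶ S) (y : S) (w : f.fiber y) (hw : ∀ t : f.fiber y, t ⤳ w → t = w) :
    FibMax f (f.fiberι y w) := by
  intro ξ' hξ' hsp
  have hy : f ξ' = y := hξ'.trans (Groth.Agent.H48.CycFib.map_fiberι f y w)
  obtain ⟨t, rfl⟩ := mem_range_fiberι f y ξ' hy
  rw [hw t ((Groth.Agent.H48.CycFib.fiberι_specializes_iff f y t w).mp hsp)]

theorem forall_specializes_of_fibMax (f : X ⟶ S) (y : S) (w : f.fiber y)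
    (h : FibMax f (f.fiberι y w)) : ∀ t : f.fiber y, t ⤳ w → t = w := by
  intro t ht
  have h1 := (Groth.Agent.H48.CycFib.fiberι_specializes_iff f y t w).mpr ht
  have h2 : f (f.fiberι y t) = f (f.fiberι y w) := by
    rw [Groth.Agent.H48.CycFib.map_fiberι, Groth.Agent.H48.CycFib.map_fiberι]
  exact (f.fiberι y).isEmbedding.injective (h _ h2 h1)

/-- every point has a fibre-maximal generization in its fibre. -/
theorem exists_fibMax_specializes (f : X ⟶ S) (ξ : X) :
    ∃ ζ : X, ζ ⤳ ξ ∧ f ζ = f ξ ∧ FibMax f ζ := by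
  obtain ⟨w, hw, hsp⟩ := Groth.Agent.H48.DimIneqSch.exists_generic_specializes (f.asFiber ξ)
  refine ⟨f.fiberι (f ξ) w, ?_, Groth.Agent.H48.CycFib.map_fiberι f (f ξ) w, ?_⟩
  · have := (Groth.Agent.H48.CycFib.fiberι_specializes_iff f (f ξ) w (f.asFiber ξ)).mpr hsp
    rwa [Scheme.Hom.fiberι_asFiber] at this
  · exact fibMax_fiberι f (f ξ) w fun t ht =>
      Groth.Agent.H48.CompDimBC2.eq_of_specializes_of_closure_mem_irreducibleComponents hw ht

section LFT

variable (f : X ⟶ S) [LocallyOfFiniteType f]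

/-- the local fibre dimension at a maximal point `w` of a fibre is the dimension of its closure. -/
theorem fibreDimAt_fiberι_of_max (y : S) (w : f.fiber y) (hw : ∀ t : f.fiber y, t ⤳ w → t = w) :
    FlatMor.fibreDimAt f (f.fiberι y w) = topologicalKrullDim ↥(closure ({w} : Set ↥(f.fiber y))) := by
  haveI : LocallyOfFiniteType (f.fiberToSpecResidueField y) :=
    inferInstanceAs (LocallyOfFiniteType (pullback.snd f (S.fromSpecResidueField y)))
  have hcomp : closure ({w} : Set ↥(f.fiber y)) ∈ irreducibleComponents (↥(f.fiber y) : Type u) :=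
    Groth.Agent.H17.Chev.closure_mem_irreducibleComponents_of_forall_specializes w
      (fun t ht => by rw [hw t ht])
  rw [← Groth.Agent.H49.FibreDimAtBC.localDim_fiber_eq f y w]
  exact (Groth.Agent.H17.Chev.dim_irreducibleComponent_eq_localDim (S.residueField y)
    (f.fiberToSpecResidueField y) _ hcomp w isGenericPoint_closure).symm

/-- the local fibre dimension at a fibre-maximal point is the dimension of its closure in the
fibre. -/
theorem fibreDimAt_of_fibMax (ξ : X) (hξ : FibMax f ξ) :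
    FlatMor.fibreDimAt f ξ = topologicalKrullDim ↥(closure ({ξ} : Set X) ∩ f ⁻¹' {f ξ}) := by
  have hw := forall_specializes_of_fibMax f (f ξ) (f.asFiber ξ) (by
    rw [Scheme.Hom.fiberι_asFiber]; exact hξ)
  have h1 := fibreDimAt_fiberι_of_max f (f ξ) (f.asFiber ξ) hw
  rw [Scheme.Hom.fiberι_asFiber] at h1
  rw [h1, Groth.Agent.H17.Chev.dim_closure_fiber_eq f (f ξ) (f.asFiber ξ)]
  have h2 : (f.fiberι (f ξ)).base (f.asFiber ξ) = ξ := Scheme.Hom.fiberι_asFiber f ξ
  rw [h2]

/-- **Bridge**: `FibEqui` is equidimensionality of the fibre at the point. -/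
theorem fibEqui_iff (x : X) :
    FibEqui f x ↔ ∃ e : ℕ, ∀ Z ∈ irreducibleComponents (↥(f.fiber (f x)) : Type u),
      f.asFiber x ∈ Z → topologicalKrullDim (↥Z : Type u) = e := by
  constructor
  · rintro ⟨e, he⟩
    refine ⟨e, fun Z hZ hxZ => ?_⟩
    obtain ⟨w, hw⟩ :=
      Groth.Agent.H48.CompDimBC2.exists_generic_of_mem_irreducibleComponents Z hZ
    have hwmax : ∀ t : f.fiber (f x), t ⤳ w → t = w := fun t ht =>
      Groth.Agent.H48.CompDimBC2.eq_of_specializes_of_closure_mem_irreducibleComponents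
        (by rw [hw]; exact hZ) ht
    have h1 : w ⤳ f.asFiber x := by
      rw [specializes_iff_mem_closure, hw]; exact hxZ
    have hξx : f.fiberι (f x) w ⤳ x := by
      have := (Groth.Agent.H48.CycFib.fiberι_specializes_iff f (f x) w (f.asFiber x)).mpr h1
      rwa [Scheme.Hom.fiberι_asFiber] at this
    have h2 := he _ hξx (Groth.Agent.H48.CycFib.map_fiberι f (f x) w)
      (fibMax_fiberι f (f x) w hwmax)
    rw [← h2, fibreDimAt_fiberι_of_max f (f x) w hwmax, hw]
  · rintro ⟨e, he⟩
    refine ⟨e, fun ξ hξx hfξ hmax => ?_⟩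
    obtain ⟨w, rfl⟩ := mem_range_fiberι f (f x) ξ hfξ
    have hwmax := forall_specializes_of_fibMax f (f x) w hmax
    have hw : w ⤳ f.asFiber x :=
      (Groth.Agent.H48.CycFib.fiberι_specializes_iff f (f x) w (f.asFiber x)).mp
        (by rwa [Scheme.Hom.fiberι_asFiber])
    have hcomp : closure ({w} : Set ↥(f.fiber (f x))) ∈
        irreducibleComponents (↥(f.fiber (f x)) : Type u) :=
      Groth.Agent.H17.Chev.closure_mem_irreducibleComponents_of_forall_specializes w
        (fun t ht => by rw [hwmax t ht])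
    rw [fibreDimAt_fiberι_of_max f (f x) w hwmax]
    exact he _ hcomp (specializes_iff_mem_closure.mp hw)

end LFT

section BaseChange

variable {X' S' : Scheme.{u}} (f : X ⟶ S) (f' : X' ⟶ S') (g' : X' ⟶ X) (g : S' ⟶ S)
  (h : IsPullback g' f' f g)

include h in
theorem comm_apply (z : X') : f (g' z) = g (f' z) := by
  have := congrArg (fun φ : X' ⟶ S => φ z) h.w
  simpa only [Scheme.Hom.comp_apply] using this

include h in
/-- generizations inside fibres lift along a base change. -/
theorem exists_fibre_generization [LocallyOfFiniteType f] (ξ' : X') (η : X) (hη : η ⤳ g' ξ')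
    (hfη : f η = f (g' ξ')) : ∃ η' : X', η' ⤳ ξ' ∧ g' η' = η ∧ f' η' = f' ξ' := by
  set s' := f' ξ' with hs'
  let c : f'.fiber s' ⟶ f.fiber (g s') :=
    pullback.map f' (S'.fromSpecResidueField s') f (S.fromSpecResidueField (g s')) g'
      (Spec.map (g.residueFieldMap s')) g h.w.symm (by simp)
  have hsq : IsPullback c (f'.fiberToSpecResidueField s') (f.fiberToSpecResidueField (g s'))
      (Spec.map (g.residueFieldMap s')) := isPullback_fiberToSpecResidueField_of_isPullback h s'
  haveI : LocallyOfFiniteType (f.fiberToSpecResidueField (g s')) :=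
    inferInstanceAs (LocallyOfFiniteType (pullback.snd f (S.fromSpecResidueField (g s'))))
  haveI : Flat c := Groth.Agent.H48.CompDimBC2.flat_of_isPullback_field
    (S.residueField (g s')) (S'.residueField s') (g.residueFieldMap s').hom
    (f.fiberToSpecResidueField (g s')) c (f'.fiberToSpecResidueField s') hsq
  have hgen : GeneralizingMap c := Flat.generalizingMap c
  have hcι : c ≫ f.fiberι (g s') = f'.fiberι s' ≫ g' := pullback.lift_fst _ _ _
  have hcι' : ∀ t : f'.fiber s', f.fiberι (g s') (c t) = g' (f'.fiberι s' t) := fun t => by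
    change (c ≫ f.fiberι (g s')) t = (f'.fiberι s' ≫ g') t
    rw [hcι]
  have hfη' : f η = g s' := by rw [hfη, comm_apply f f' g' g h]
  obtain ⟨t, rfl⟩ := mem_range_fiberι f (g s') η hfη'
  have ha : f.fiberι (g s') (c (f'.asFiber ξ')) = g' ξ' := by
    rw [hcι', Scheme.Hom.fiberι_asFiber]
  have ht : t ⤳ c (f'.asFiber ξ') := by
    rw [← Groth.Agent.H48.CycFib.fiberι_specializes_iff f (g s'), ha]
    exact hη
  obtain ⟨t', ht'1, ht'2⟩ := hgen ht
  refine ⟨f'.fiberι s' t', ?_, ?_, Groth.Agent.H48.CycFib.map_fiberι f' s' t'⟩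
  · have := (Groth.Agent.H48.CycFib.fiberι_specializes_iff f' s' t' (f'.asFiber ξ')).mpr ht'1
    rwa [Scheme.Hom.fiberι_asFiber] at this
  · rw [← hcι', ht'2]

include h in
/-- **Base change invariance.** -/
theorem fibEqui_baseChange [LocallyOfFiniteType f] (x' : X') :
    FibEqui f' x' ↔ FibEqui f (g' x') := by
  have hdim : ∀ z : X', FlatMor.fibreDimAt f' z = FlatMor.fibreDimAt f (g' z) := fun z =>
    Groth.Agent.H49.FibreDimAtBC.fibreDimAt_eq_of_isPullback f g f' g' h z
  constructor
  · rintro ⟨e, he⟩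
    refine ⟨e, fun ξ hξx hfξ hmax => ?_⟩
    obtain ⟨η', hη'1, hη'2, hη'3⟩ := exists_fibre_generization f f' g' g h x' ξ hξx hfξ
    obtain ⟨ζ', hζ'1, hζ'2, hζ'3⟩ := exists_fibMax_specializes f' η'
    have h1 : g' ζ' ⤳ ξ := by
      rw [← hη'2]; exact hζ'1.map g'.continuous
    have h2 : f (g' ζ') = f ξ := by
      rw [comm_apply f f' g' g h, hζ'2, ← comm_apply f f' g' g h, hη'2]
    have h3 : g' ζ' = ξ := hmax _ h2 h1
    rw [← h3, ← hdim]
    exact he ζ' (hζ'1.trans hη'1) (hζ'2.trans hη'3) hζ'3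
  · rintro ⟨e, he⟩
    refine ⟨e, fun ξ' hξx hfξ hmax => ?_⟩
    rw [hdim]
    refine he (g' ξ') (hξx.map g'.continuous) ?_ ?_
    · rw [comm_apply f f' g' g h, hfξ, ← comm_apply f f' g' g h]
    · intro η hfη hη
      obtain ⟨η', hη'1, hη'2, hη'3⟩ := exists_fibre_generization f f' g' g h ξ' η hη hfη
      rw [← hη'2, hmax η' hη'3 hη'1]

end BaseChange

section OpenImm

variable {U : Scheme.{u}} (j : U ⟶ X) (f : X ⟶ S) [IsOpenImmersion j]

theorem exists_of_specializes_openImm (u : U) (ξ : X) (hξ : ξ ⤳ j u) :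
    ∃ ξ₀ : U, j ξ₀ = ξ ∧ ξ₀ ⤳ u := by
  have hmem : ξ ∈ Set.range j := hξ.mem_open j.isOpenEmbedding.isOpen_range ⟨u, rfl⟩
  obtain ⟨ξ₀, rfl⟩ := hmem
  exact ⟨ξ₀, rfl, j.isEmbedding.isInducing.specializes_iff.mp hξ⟩

theorem fibMax_openImm_iff (ξ₀ : U) : FibMax (j ≫ f) ξ₀ ↔ FibMax f (j ξ₀) := by
  constructor
  · intro hm η hfη hη
    obtain ⟨η₀, rfl, hη₀⟩ := exists_of_specializes_openImm j ξ₀ η hη
    rw [hm η₀ (by simpa only [Scheme.Hom.comp_apply] using hfη) hη₀]
  · intro hm η₀ hfη hη
    apply j.isEmbedding.injective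
    exact hm (j η₀) (by simpa only [Scheme.Hom.comp_apply] using hfη) (hη.map j.continuous)

/-- **Invariance under open immersions into the source.** -/
theorem fibEqui_openImm (u : U) : FibEqui (j ≫ f) u ↔ FibEqui f (j u) := by
  have hdim : ∀ z : U, FlatMor.fibreDimAt (j ≫ f) z = FlatMor.fibreDimAt f (j z) := fun z =>
    Groth.Agent.H17.Chev.fibreDimAt_eq_of_isOpenImmersion f (j ≫ f) j (𝟙 S)
      Function.injective_id (Category.comp_id _) z
  constructor
  · rintro ⟨e, he⟩
    refine ⟨e, fun ξ hξx hfξ hmax => ?_⟩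
    obtain ⟨ξ₀, rfl, hξ₀⟩ := exists_of_specializes_openImm j u ξ hξx
    rw [← hdim]
    exact he ξ₀ hξ₀ (by simpa only [Scheme.Hom.comp_apply] using hfξ)
      ((fibMax_openImm_iff j f ξ₀).mpr hmax)
  · rintro ⟨e, he⟩
    refine ⟨e, fun ξ₀ hξx hfξ hmax => ?_⟩
    rw [hdim]
    exact he (j ξ₀) (hξx.map j.continuous) (by simpa only [Scheme.Hom.comp_apply] using hfξ)
      ((fibMax_openImm_iff j f ξ₀).mp hmax)

end OpenImm

end Groth.Agent.H99.FibEqui
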