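import Mathlib
import Groth.Agent.H99.FibEqui
import Groth.Agent.H99.DimCons
import Groth.Agent.H17.Chev.GenericConst
import Groth.Agent.H17.Chev.RedSubChev
import Groth.Agent.H17.FibreDimBound
import Groth.Agent.H51.ConnCompDim

/-!
# Generic openness of the locus where the fibres are equidimensional (helper99; for S3451)

Over an irreducible Noetherian base `S` and for `f : X ⟶ S` of finite type, there is a nonempty
open `U ⊆ S` such that `{x | FibEqui f x} ∩ f⁻¹ U` is open: over `U` the irreducible components of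
the fibres of `f` are exactly the irreducible components of the fibres of the (dominant)
irreducible components of `X`, with constant dimension.
-/

set_option autoImplicit false
set_option backward.isDefEq.respectTransparency.types false
set_option linter.style.haveILetI false
set_option linter.unusedSectionVars false
universe u

open AlgebraicGeometry CategoryTheory CategoryTheory.Limits TopologicalSpace Topology

namespace Groth.Agent.H99.FibEquiGen

open Groth.Agent.H99.FibEqui Groth.Agent.H17.Chev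

section Top

theorem isIrreducible_of_mem_of_subset_closure {T : Type*} [TopologicalSpace T] {A : Set T} {a : T}
    (ha : a ∈ A) (hA : A ⊆ closure {a}) : IsIrreducible A := by
  refine ⟨⟨a, ha⟩, ?_⟩
  rw [← isPreirreducible_iff_closure]
  have : closure A = closure {a} :=
    subset_antisymm (closure_minimal hA isClosed_closure)
      (closure_mono (Set.singleton_subset_iff.mpr ha))
  rw [this]
  exact isIrreducible_singleton.closure.isPreirreducible

theorem not_le_of_add_one_le {a : WithBot ℕ∞} {e : ℕ} (h2 : a + 1 ≤ (e : WithBot ℕ∞))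
    (h1 : (e : WithBot ℕ∞) ≤ a) : False := by
  induction a with
  | bot => simp at h1
  | coe b =>
    induction b with
    | top =>
      have : ((⊤ : ℕ∞) : WithBot ℕ∞) + 1 = ((⊤ : ℕ∞) : WithBot ℕ∞) := rfl
      rw [this] at h2
      have h3 : ((⊤ : ℕ∞) : WithBot ℕ∞) ≤ ((e : ℕ∞) : WithBot ℕ∞) := h2
      rw [WithBot.coe_le_coe] at h3
      simp at h3
    | coe n =>
      have h3 : n + 1 ≤ e := by exact_mod_cast h2
      have h4 : e ≤ n := by exact_mod_cast h1
      omega

end Top

variable {X S : Scheme.{u}} (f : X ⟶ S)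

/-- `ξ ∈ D` is maximal among the points of `D` in its fibre. -/
def RelMax (D : Set X) (ξ : X) : Prop :=
  ξ ∈ D ∧ ∀ ξ' ∈ D, f ξ' = f ξ → ξ' ⤳ ξ → ξ' = ξ

theorem exists_closedImmersion_range (D : Set X) (hD : IsClosed D) :
    ∃ (W : Scheme.{u}) (ι : W ⟶ X), IsClosedImmersion ι ∧ Set.range ι = D :=
  ⟨(Scheme.IdealSheafData.vanishingIdeal ⟨D, hD⟩).subscheme,
    (Scheme.IdealSheafData.vanishingIdeal ⟨D, hD⟩).subschemeι, inferInstance, by
      rw [Scheme.IdealSheafData.range_subschemeι, Scheme.IdealSheafData.coe_support_vanishingIdeal]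
      rfl⟩

section Closed

variable {W : Scheme.{u}} (ι : W ⟶ X) [IsClosedImmersion ι] {D : Set X} (hr : Set.range ι = D)

include hr in
theorem relMax_iff (ζ : W) : RelMax f D (ι ζ) ↔ FibMax (ι ≫ f) ζ := by
  constructor
  · rintro ⟨-, hm⟩ ζ' hfζ' hζ'
    apply ι.isEmbedding.injective
    exact hm (ι ζ') (hr ▸ ⟨ζ', rfl⟩) (by simpa only [Scheme.Hom.comp_apply] using hfζ')
      (hζ'.map ι.continuous)
  · intro hm
    refine ⟨hr ▸ ⟨ζ, rfl⟩, fun ξ' hξ'D hfξ' hξ' => ?_⟩
    obtain ⟨ζ', rfl⟩ : ξ' ∈ Set.range ι := hr ▸ hξ'D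
    rw [hm ζ' (by simpa only [Scheme.Hom.comp_apply] using hfξ')
      (ι.isEmbedding.isInducing.specializes_iff.mp hξ')]

include hr in
/-- every point of `D` has a generization in `D` and in its fibre which is maximal for these
properties. -/
theorem exists_relMax_specializes (x : X) (hx : x ∈ D) :
    ∃ ξ : X, RelMax f D ξ ∧ ξ ⤳ x ∧ f ξ = f x := by
  obtain ⟨z, rfl⟩ : x ∈ Set.range ι := hr ▸ hx
  obtain ⟨ζ, hζ1, hζ2, hζ3⟩ := exists_fibMax_specializes (ι ≫ f) z
  exact ⟨ι ζ, (relMax_iff f ι hr ζ).mpr hζ3, hζ1.map ι.continuous,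
    by simpa only [Scheme.Hom.comp_apply] using hζ2⟩

/-- transport of the closure of a point in its fibre along a closed immersion. -/
theorem dim_closure_inter_fibre_comp (z : W) :
    topologicalKrullDim ↥(closure ({z} : Set W) ∩ (ι ≫ f) ⁻¹' {(ι ≫ f) z}) =
      topologicalKrullDim ↥(closure ({ι z} : Set X) ∩ f ⁻¹' {f (ι z)}) := by
  refine Groth.Agent.H17.Chev.topologicalKrullDim_eq_of_isEmbedding
    (fun t : ↥(closure ({z} : Set W) ∩ (ι ≫ f) ⁻¹' {(ι ≫ f) z}) => ι t.1)
    (ι.isEmbedding.comp IsEmbedding.subtypeVal) _ ?_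
  ext y
  simp only [Set.mem_range, Subtype.exists, Set.mem_inter_iff, Set.mem_preimage,
    Set.mem_singleton_iff, exists_prop]
  constructor
  · rintro ⟨t, ⟨ht1, ht2⟩, rfl⟩
    refine ⟨?_, by simpa only [Scheme.Hom.comp_apply] using ht2⟩
    have := image_closure_subset_closure_image ι.continuous (s := {z}) ⟨t, ht1, rfl⟩
    rwa [Set.image_singleton] at this
  · rintro ⟨hy1, hy2⟩
    have hyr : y ∈ Set.range ι :=
      closure_minimal (Set.singleton_subset_iff.mpr (Set.mem_range_self z))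
        ι.isClosedEmbedding.isClosed_range hy1
    obtain ⟨t, rfl⟩ := hyr
    refine ⟨t, ⟨?_, by simpa only [Scheme.Hom.comp_apply] using hy2⟩, rfl⟩
    rw [ι.isEmbedding.isInducing.closure_eq_preimage_closure_image, Set.image_singleton]
    exact hy1

end Closed

section Noeth

variable [IsNoetherian S] [IrreducibleSpace S] [LocallyOfFiniteType f] [QuasiCompact f]

/-- **Lemma B**: the dimension of the trace of a closed subset on the fibres is generically
constant. -/
theorem exists_open_dim_inter_fiber_eq (D : Set X) (hD : IsClosed D) :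
    ∃ O : Set S, IsOpen O ∧ genericPoint S ∈ O ∧ ∀ s ∈ O,
      topologicalKrullDim ↥(D ∩ f ⁻¹' {s}) = topologicalKrullDim ↥(D ∩ f ⁻¹' {genericPoint S}) := by
  obtain ⟨W, ι, hι, hr⟩ := exists_closedImmersion_range D hD
  obtain ⟨O, hO, hη, hdim⟩ := Groth.Agent.H99.DimCons.exists_open_dim_fiber_eq (ι ≫ f)
  have key : ∀ s : S, topologicalKrullDim ↥((ι ≫ f).fiber s) =
      topologicalKrullDim ↥(D ∩ f ⁻¹' {s}) := by
    intro s
    have := sq_dim_fiber f ι (𝟙 S) (ι ≫ f) (Category.comp_id _) Function.injective_id s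
    rw [this]
    exact topologicalKrullDim_subtype_congr (by rw [← hr]; rfl)
  refine ⟨O, hO, hη, fun s hs => ?_⟩
  rw [← key, ← key, hdim s hs]

/-- **Lemma A**: for an irreducible closed subset dominating `S`, generically the irreducible
components of its fibres all have the dimension of the generic fibre. -/
theorem exists_open_dim_closure_eq (C : Set X) (hC : IsClosed C) (ξC : X)
    (hξC : IsGenericPoint ξC C) (hdom : f ξC = genericPoint S) :
    ∃ (e : ℕ) (U : S.Opens), genericPoint S ∈ U ∧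
      topologicalKrullDim ↥(C ∩ f ⁻¹' {genericPoint S}) = e ∧
      ∀ ξ, RelMax f C ξ → f ξ ∈ U →
        topologicalKrullDim ↥(closure ({ξ} : Set X) ∩ f ⁻¹' {f ξ}) = e := by
  obtain ⟨W, ι, hι, hr⟩ := exists_closedImmersion_range C hC
  obtain ⟨aξ, rfl⟩ : ξC ∈ Set.range ι := hr ▸ hξC.mem
  obtain ⟨hW, hclW⟩ := irreducibleSpace_of_isEmbedding ι.base ι.isEmbedding aξ
    (by rw [hr, hξC.def])
  set g := ι ≫ f with hg
  have hgen : genericPoint W = aξ :=
    ((genericPoint_spec W).eq (show IsGenericPoint aξ (Set.univ : Set W) from hclW))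
  have hgaξ : g aξ = genericPoint S := by
    rw [hg, Scheme.Hom.comp_apply]; exact hdom
  have hdomg : IsDominant g := by
    constructor
    rw [DenseRange, dense_iff_closure_eq, Set.eq_univ_iff_forall]
    intro t
    have h1 : closure {g aξ} ⊆ closure (Set.range g) :=
      closure_mono (Set.singleton_subset_iff.mpr ⟨aξ, rfl⟩)
    apply h1
    rw [hgaξ, (genericPoint_spec S).def]
    exact Set.mem_univ t
  -- the dimension of the generic fibre is a natural number
  obtain ⟨n, hn⟩ := Groth.Agent.H17.exists_fiber_dim_le g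
  have hne : Nonempty ↥(g.fiber (genericPoint S)) := by
    rw [← hgaξ]
    exact ⟨g.asFiber aξ⟩
  have h0 : (0 : WithBot ℕ∞) ≤ topologicalKrullDim ↥(g.fiber (genericPoint S)) := by
    obtain ⟨z⟩ := hne
    have : Nonempty (IrreducibleCloseds ↥(g.fiber (genericPoint S))) :=
      ⟨⟨closure {z}, isIrreducible_singleton.closure, isClosed_closure⟩⟩
    exact Order.krullDim_nonneg
  obtain ⟨e, he, -⟩ := exists_nat_eq_of_le h0 (hn (genericPoint S))
  obtain ⟨U, hηU, hU⟩ := exists_open_forall_fibreDimAt_le g e he.le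
  refine ⟨e, U, hηU, ?_, ?_⟩
  · rw [← he, sq_dim_fiber f ι (𝟙 S) g (Category.comp_id _) Function.injective_id (genericPoint S)]
    exact topologicalKrullDim_subtype_congr (by rw [← hr]; rfl)
  · intro ξ hξ hξU
    obtain ⟨ζ, rfl⟩ : ξ ∈ Set.range ι := hr ▸ hξ.1
    have hmax : FibMax g ζ := (relMax_iff f ι hr ζ).mp hξ
    have h1 : FlatMor.fibreDimAt g ζ = e := by
      apply le_antisymm
      · exact hU ζ hξU
      · rw [← he]
        exact dim_genericFiber_le_fibreDimAt g ζ
    rw [← dim_closure_inter_fibre_comp f ι ζ, ← fibreDimAt_of_fibMax g ζ hmax, h1]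

/-- **Generic openness** of the locus where the fibres are equidimensional. -/
theorem generic_isOpen :
    ∃ U : S.Opens, genericPoint S ∈ U ∧ IsOpen ({x : X | FibEqui f x} ∩ f ⁻¹' (U : Set S)) := by
  haveI : IsLocallyNoetherian X := LocallyOfFiniteType.isLocallyNoetherian f
  haveI : CompactSpace X := QuasiCompact.compactSpace_of_compactSpace f
  haveI : IsNoetherian X := {}
  haveI : NoetherianSpace X := inferInstance
  set η := genericPoint S with hη
  have hfin : (irreducibleComponents X).Finite := NoetherianSpace.finite_irreducibleComponents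
  have hcl : ∀ C ∈ irreducibleComponents X, IsClosed C := fun C hC =>
    isClosed_of_mem_irreducibleComponents C hC
  let Dom : Set X → Prop := fun C => ∃ ξ, IsGenericPoint ξ C ∧ f ξ = η
  have hA : ∀ C ∈ irreducibleComponents X, ∃ (e : ℕ) (U : S.Opens), η ∈ U ∧
      (Dom C → topologicalKrullDim ↥(C ∩ f ⁻¹' {η}) = e ∧ ∀ ξ, RelMax f C ξ → f ξ ∈ U →
        topologicalKrullDim ↥(closure ({ξ} : Set X) ∩ f ⁻¹' {f ξ}) = e) ∧
      (¬ Dom C → ∀ x ∈ C, f x ∉ U) := by
    intro C hC
    by_cases hd : Dom C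
    · obtain ⟨ξ, hξ, hfξ⟩ := hd
      obtain ⟨e, U, hU, h1, h2⟩ := exists_open_dim_closure_eq f C (hcl C hC) ξ hξ hfξ
      exact ⟨e, U, hU, fun _ => ⟨h1, h2⟩, fun h => absurd ⟨ξ, hξ, hfξ⟩ h⟩
    · obtain ⟨ξ, hξ⟩ := QuasiSober.sober hC.1 (hcl C hC)
      refine ⟨0, ⟨(closure {f ξ})ᶜ, isClosed_closure.isOpen_compl⟩, ?_, fun h => absurd h hd,
        fun _ x hx hfx => hfx ?_⟩
      · intro hmem
        apply hd
        refine ⟨ξ, hξ, ?_⟩
        have h1 : f ξ ⤳ η := specializes_iff_mem_closure.mpr hmem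
        have h2 : η ⤳ f ξ := (genericPoint_spec S).specializes (Set.mem_univ _)
        exact (h1.antisymm h2).eq
      · have : ξ ⤳ x := hξ.specializes hx
        exact specializes_iff_mem_closure.mp (this.map f.continuous)
  choose! e U hU hdomC hndomC using hA
  have hB : ∀ C ∈ irreducibleComponents X, ∀ C' ∈ irreducibleComponents X, ∃ O : Set S,
      IsOpen O ∧ η ∈ O ∧ ∀ s ∈ O, topologicalKrullDim ↥((C ∩ C') ∩ f ⁻¹' {s}) =
        topologicalKrullDim ↥((C ∩ C') ∩ f ⁻¹' {η}) := fun C hC C' hC' =>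
    exists_open_dim_inter_fiber_eq f (C ∩ C') ((hcl C hC).inter (hcl C' hC'))
  choose! O hOo hOη hOeq using hB
  let U₀ : Set S := (⋂ C ∈ irreducibleComponents X, (U C : Set S)) ∩
    ⋂ C ∈ irreducibleComponents X, ⋂ C' ∈ irreducibleComponents X, O C C'
  have hU₀o : IsOpen U₀ := (hfin.isOpen_biInter fun C _ => (U C).2).inter
    (hfin.isOpen_biInter fun C hC => hfin.isOpen_biInter fun C' hC' => hOo C hC C' hC')
  have hU₀η : η ∈ U₀ := ⟨Set.mem_iInter₂.mpr fun C hC => hU C hC,
    Set.mem_iInter₂.mpr fun C hC => Set.mem_iInter₂.mpr fun C' hC' => hOη C hC C' hC'⟩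
  have hU₀U : ∀ s ∈ U₀, ∀ C ∈ irreducibleComponents X, s ∈ U C := fun s hs C hC =>
    Set.mem_iInter₂.mp hs.1 C hC
  have hU₀O : ∀ s ∈ U₀, ∀ C ∈ irreducibleComponents X, ∀ C' ∈ irreducibleComponents X,
      s ∈ O C C' := fun s hs C hC C' hC' =>
    Set.mem_iInter₂.mp (Set.mem_iInter₂.mp hs.2 C hC) C' hC'
  refine ⟨⟨U₀, hU₀o⟩, hU₀η, ?_⟩
  let Bad : Set X := ⋃ C ∈ irreducibleComponents X, ⋃ C' ∈ irreducibleComponents X,
    ⋃ (_ : e C ≠ e C'), C ∩ C'
  have hBad : IsClosed Bad := hfin.isClosed_biUnion fun C hC => hfin.isClosed_biUnion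
    fun C' hC' => isClosed_iUnion_of_finite fun _ => (hcl C hC).inter (hcl C' hC')
  -- (c0) components meeting the fibres over `U₀` dominate
  have c0 : ∀ y : X, f y ∈ U₀ → ∀ C ∈ irreducibleComponents X, y ∈ C → Dom C := by
    intro y hy C hC hyC
    by_contra hd
    exact hndomC C hC hd y hyC (hU₀U _ hy C hC)
  -- (c1) dimension of the closure of a relatively maximal point
  have c1 : ∀ ξ : X, f ξ ∈ U₀ → ∀ C ∈ irreducibleComponents X, RelMax f C ξ →
      topologicalKrullDim ↥(closure ({ξ} : Set X) ∩ f ⁻¹' {f ξ}) = e C := by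
    intro ξ hξ C hC hm
    exact (hdomC C hC (c0 ξ hξ C hC hm.1)).2 ξ hm (hU₀U _ hξ C hC)
  -- (c2) relatively maximal points are fibre-maximal
  have c2 : ∀ ξ : X, f ξ ∈ U₀ → ∀ C ∈ irreducibleComponents X, RelMax f C ξ → FibMax f ξ := by
    intro ξ hξ C hC hm ξ' hfξ' hξ'
    by_cases hξ'C : ξ' ∈ C
    · exact hm.2 ξ' hξ'C hfξ' hξ'
    · exfalso
      set C' := irreducibleComponent ξ' with hC'def
      have hC' : C' ∈ irreducibleComponents X := irreducibleComponent_mem_irreducibleComponents ξ'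
      have hξ'C' : ξ' ∈ C' := mem_irreducibleComponent
      have hξC' : ξ ∈ C' := hξ'.mem_closed (hcl C' hC') hξ'C'
      have hdC : Dom C := c0 ξ hξ C hC hm.1
      obtain ⟨ξC, hξC, hfξC⟩ := hdC
      have hdimC := (hdomC C hC ⟨ξC, hξC, hfξC⟩).1
      -- the generic fibre
      have hξCmem : ξC ∈ C ∩ f ⁻¹' {η} := ⟨hξC.mem, hfξC⟩
      have hirr : IsIrreducible (C ∩ f ⁻¹' {η}) :=
        isIrreducible_of_mem_of_subset_closure hξCmem (by
          rw [hξC.def]; exact Set.inter_subset_left)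
      have hne : (C ∩ C') ∩ f ⁻¹' {η} ≠ C ∩ f ⁻¹' {η} := by
        intro heq
        have h1 : ξC ∈ (C ∩ C') ∩ f ⁻¹' {η} := heq ▸ hξCmem
        have h2 : C ⊆ C' := by
          rw [← hξC.def]
          exact closure_minimal (Set.singleton_subset_iff.mpr h1.1.2) (hcl C' hC')
        exact hξ'C (hC.2 hC'.1 h2 hξ'C')
      have hT2 := Groth.Agent.H51.topologicalKrullDim_add_one_le_of_ssubset (C ∩ f ⁻¹' {η})
        ((C ∩ C') ∩ f ⁻¹' {η}) hirr
        (fun t ht => ⟨ht.1.1, ht.2⟩) C' (hcl C' hC')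
        (by ext t; simp only [Set.mem_inter_iff]; tauto) hne
      rw [hdimC] at hT2
      have hsub : closure ({ξ} : Set X) ∩ f ⁻¹' {f ξ} ⊆ (C ∩ C') ∩ f ⁻¹' {f ξ} := by
        intro t ht
        refine ⟨⟨?_, ?_⟩, ht.2⟩
        · exact closure_minimal (Set.singleton_subset_iff.mpr hm.1) (hcl C hC) ht.1
        · exact closure_minimal (Set.singleton_subset_iff.mpr hξC') (hcl C' hC') ht.1
      have hle : topologicalKrullDim ↥(closure ({ξ} : Set X) ∩ f ⁻¹' {f ξ}) ≤
          topologicalKrullDim ↥((C ∩ C') ∩ f ⁻¹' {f ξ}) :=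
        (IsEmbedding.inclusion hsub).isInducing.topologicalKrullDim_le
      rw [c1 ξ hξ C hC hm, hOeq C hC C' hC' (f ξ) (hU₀O _ hξ C hC C' hC')] at hle
      exact not_le_of_add_one_le hT2 hle
  -- the main identification
  have key : {x : X | FibEqui f x} ∩ f ⁻¹' U₀ = Badᶜ ∩ f ⁻¹' U₀ := by
    ext x
    simp only [Set.mem_inter_iff, Set.mem_ofPred_eq, Set.mem_preimage, Set.mem_compl_iff]
    refine and_congr_left fun hx => ?_
    constructor
    · rintro ⟨e₀, he₀⟩ hbad
      simp only [Bad, Set.mem_iUnion, exists_prop] at hbad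
      obtain ⟨C, hC, C', hC', hne, hxC, hxC'⟩ := hbad
      have aux : ∀ D ∈ irreducibleComponents X, x ∈ D → e D = e₀ := by
        intro D hD hxD
        obtain ⟨W, ι, hι, hr⟩ := exists_closedImmersion_range D (hcl D hD)
        obtain ⟨ξ, hξm, hξx, hfξ⟩ := exists_relMax_specializes f ι hr x hxD
        have hfξU : f ξ ∈ U₀ := by rw [hfξ]; exact hx
        have hmax := c2 ξ hfξU D hD hξm
        have h1 := he₀ ξ hξx hfξ hmax
        rw [fibreDimAt_of_fibMax f ξ hmax, c1 ξ hfξU D hD hξm] at h1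
        exact_mod_cast h1
      exact hne ((aux C hC hxC).trans (aux C' hC' hxC').symm)
    · intro hbad
      set C₀ := irreducibleComponent x with hC₀def
      have hC₀ : C₀ ∈ irreducibleComponents X := irreducibleComponent_mem_irreducibleComponents x
      have hxC₀ : x ∈ C₀ := mem_irreducibleComponent
      refine ⟨e C₀, fun ξ hξx hfξ hmax => ?_⟩
      set C := irreducibleComponent ξ with hCdef
      have hC : C ∈ irreducibleComponents X := irreducibleComponent_mem_irreducibleComponents ξ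
      have hξC : ξ ∈ C := mem_irreducibleComponent
      have hxC : x ∈ C := hξx.mem_closed (hcl C hC) hξC
      have hfξU : f ξ ∈ U₀ := by rw [hfξ]; exact hx
      have hm : RelMax f C ξ := ⟨hξC, fun ξ' _ hfξ' hξ' => hmax ξ' hfξ' hξ'⟩
      rw [fibreDimAt_of_fibMax f ξ hmax, c1 ξ hfξU C hC hm]
      by_contra hne
      apply hbad
      simp only [Bad, Set.mem_iUnion, exists_prop]
      exact ⟨C, hC, C₀, hC₀, fun h => hne (by rw [h]), hxC, hxC₀⟩
  change IsOpen ({x : X | FibEqui f x} ∩ f ⁻¹' U₀)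
  rw [key]
  exact hBad.isOpen_compl.inter (hU₀o.preimage f.continuous)

end Noeth

end Groth.Agent.H99.FibEquiGen
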