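import Mathlib
import Groth.Agent.H99.FibEquiGen
import Groth.Agent.H49.SmoothFibreConstr

/-!
# The geometric `(R_k)` condition on fibres, topological form (helper99; for S3454)

`PrRk k f x`: every generization `ξ` of `x` inside the fibre of `f` through `x` at which the fibre
is not smooth has "codimension `> k`" in the fibre, in the sense that some further generization `w`
of `ξ` inside the fibre has `dim (closure {w} ∩ fibre) ≥ dim (closure {ξ} ∩ fibre) + k + 1`.
We prove invariance under base change and under open immersions into the source.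
-/

set_option autoImplicit false
set_option backward.isDefEq.respectTransparency.types false
set_option linter.style.haveILetI false
set_option linter.unusedSectionVars false
universe u

open AlgebraicGeometry CategoryTheory CategoryTheory.Limits TopologicalSpace Topology

namespace Groth.Agent.H99.RkTop

open Groth.Agent.H99.FibEqui Groth.Agent.H99.FibEquiGen Groth.Agent.H17.Chev
  Groth.Agent.H49.SmoothFibreConstr

variable {X S : Scheme.{u}}

/-- the dimension of the closure of a point inside its fibre. -/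
noncomputable def fdim (f : X ⟶ S) (ξ : X) : WithBot ℕ∞ :=
  topologicalKrullDim ↥(closure ({ξ} : Set X) ∩ f ⁻¹' {f ξ})

/-- The fibre of `f` through `x` has the geometric property `(R_k)` at `x`, topological form. -/
def PrRk (k : ℕ) : ∀ ⦃X S : Scheme.{u}⦄, (X ⟶ S) → X → Prop := fun _ _ f x =>
  ∀ ξ, ξ ⤳ x → f ξ = f x → ¬ FibSm f ξ →
    ∃ w, w ⤳ ξ ∧ f w = f ξ ∧ fdim f ξ + ((k + 1 : ℕ) : WithBot ℕ∞) ≤ fdim f w

theorem fdim_mono (f : X ⟶ S) {w ξ : X} (h : w ⤳ ξ) (hf : f w = f ξ) : fdim f ξ ≤ fdim f w := by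
  have hsub : closure ({ξ} : Set X) ∩ f ⁻¹' {f ξ} ⊆ closure ({w} : Set X) ∩ f ⁻¹' {f w} := by
    intro t ht
    refine ⟨?_, by rw [hf]; exact ht.2⟩
    exact closure_minimal (Set.singleton_subset_iff.mpr h.mem_closure) isClosed_closure ht.1
  exact (IsEmbedding.inclusion hsub).isInducing.topologicalKrullDim_le

section Closed

variable {W : Scheme.{u}} (f : X ⟶ S) (ι : W ⟶ X) [IsClosedImmersion ι]

theorem fibMax_of_range_eq_closure (ζ : W) (hr : Set.range ι = closure {ι ζ}) :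
    FibMax (ι ≫ f) ζ := by
  intro ζ' _ hsp
  have h1 : ι ζ ⤳ ι ζ' := specializes_iff_mem_closure.mpr (hr ▸ Set.mem_range_self ζ')
  have h2 : ζ ⤳ ζ' := ι.isEmbedding.isInducing.specializes_iff.mp h1
  exact (hsp.antisymm h2).eq

theorem fdim_eq_of_fibMax [LocallyOfFiniteType f] (ζ : W) (hm : FibMax (ι ≫ f) ζ) :
    fdim f (ι ζ) = FlatMor.fibreDimAt (ι ≫ f) ζ := by
  rw [fibreDimAt_of_fibMax (ι ≫ f) ζ hm]
  exact (dim_closure_inter_fibre_comp f ι ζ).symm

end Closed

section BaseChange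

variable {X' S' : Scheme.{u}} (f : X ⟶ S) (f' : X' ⟶ S') (g' : X' ⟶ X) (g : S' ⟶ S)
  (h : IsPullback g' f' f g)

include h in
/-- fibrewise generizations lift along a base change, with the same fibre dimension. -/
theorem exists_lift_fdim [LocallyOfFiniteType f] (x' : X') (ξ : X) (hξ : ξ ⤳ g' x')
    (hfξ : f ξ = f (g' x')) :
    ∃ ξ' : X', ξ' ⤳ x' ∧ f' ξ' = f' x' ∧ g' ξ' = ξ ∧ fdim f' ξ' = fdim f ξ := by
  haveI : LocallyOfFiniteType f' := MorphismProperty.of_isPullback h inferInstance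
  obtain ⟨W, ι, hι, hr⟩ := exists_closedImmersion_range (closure ({ξ} : Set X)) isClosed_closure
  obtain ⟨ζ, hζ⟩ : ξ ∈ Set.range ι := hr ▸ subset_closure rfl
  let ι' : pullback ι g' ⟶ X' := pullback.snd ι g'
  let gW : pullback ι g' ⟶ W := pullback.fst ι g'
  have hsq1 : IsPullback gW ι' ι g' := IsPullback.of_hasPullback ι g'
  have hsq : IsPullback gW (ι' ≫ f') (ι ≫ f) g := hsq1.paste_vert h
  haveI : IsClosedImmersion ι' := inferInstanceAs (IsClosedImmersion (pullback.snd ι g'))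
  have hcomm1 : ∀ t : ↥(pullback ι g'), ι (gW t) = g' (ι' t) := fun t => by
    have := congrArg (fun φ : pullback ι g' ⟶ X => φ t) hsq1.w
    simpa only [Scheme.Hom.comp_apply] using this
  have hx' : x' ∈ Set.range ι' := by
    have : Set.range ι' = g' ⁻¹' Set.range ι := Scheme.Pullback.range_snd ι g'
    rw [this, Set.mem_preimage, hr]
    exact hξ.mem_closure
  obtain ⟨z', rfl⟩ := hx'
  obtain ⟨ζ', hζ'1, hζ'2, hζ'3⟩ := exists_fibMax_specializes (ι' ≫ f') z'
  have hmax : FibMax (ι ≫ f) (gW ζ') := by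
    intro t ht hsp
    obtain ⟨t', ht'1, ht'2, ht'3⟩ :=
      exists_fibre_generization (ι ≫ f) (ι' ≫ f') gW g hsq ζ' t hsp ht
    rw [← ht'2, hζ'3 t' ht'3 ht'1]
  have hsp : ζ ⤳ gW ζ' := by
    have h1 : ι ζ ⤳ ι (gW ζ') := by
      rw [hζ]
      exact specializes_iff_mem_closure.mpr (hr ▸ Set.mem_range_self (gW ζ'))
    exact ι.isEmbedding.isInducing.specializes_iff.mp h1
  have hfeq : (ι ≫ f) ζ = (ι ≫ f) (gW ζ') := by
    have e1 : (ι ≫ f) ζ = f (g' (ι' z')) := by
      rw [Scheme.Hom.comp_apply, hζ, hfξ]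
    have e2 : (ι ≫ f) (gW ζ') = g ((ι' ≫ f') ζ') := (comm_apply (ι ≫ f) (ι' ≫ f') gW g hsq ζ')
    have e3 : f (g' (ι' z')) = g (f' (ι' z')) := comm_apply f f' g' g h (ι' z')
    rw [e1, e2, e3, hζ'2, Scheme.Hom.comp_apply]
  have hζeq : ζ = gW ζ' := hmax ζ hfeq hsp
  refine ⟨ι' ζ', hζ'1.map ι'.continuous, ?_, ?_, ?_⟩
  · simpa only [Scheme.Hom.comp_apply] using hζ'2
  · rw [← hcomm1, ← hζeq, hζ]
  · rw [fdim_eq_of_fibMax f' ι' ζ' hζ'3,
      Groth.Agent.H49.FibreDimAtBC.fibreDimAt_eq_of_isPullback (ι ≫ f) g (ι' ≫ f') gW hsq ζ',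
      ← hζeq, ← fdim_eq_of_fibMax f ι ζ (hζeq ▸ hmax), hζ]

include h in
theorem fdim_baseChange_le [LocallyOfFiniteType f] (z' : X') : fdim f' z' ≤ fdim f (g' z') := by
  obtain ⟨ξ', h1, h2, -, h4⟩ := exists_lift_fdim f f' g' g h z' (g' z') specializes_rfl rfl
  rw [← h4]
  exact fdim_mono f' h1 h2

include h in
/-- **Base change invariance.** -/
theorem prRk_baseChange (k : ℕ) [LocallyOfFiniteType f] (x' : X') :
    PrRk k f' x' ↔ PrRk k f (g' x') := by
  constructor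
  · intro hP ξ hξ hfξ hns
    obtain ⟨ξ', h1, h2, h3, h4⟩ := exists_lift_fdim f f' g' g h x' ξ hξ hfξ
    have hns' : ¬ FibSm f' ξ' := by
      rw [fibSm_baseChange f f' g' g h ξ', h3]; exact hns
    obtain ⟨w', hw1, hw2, hw3⟩ := hP ξ' h1 h2 hns'
    refine ⟨g' w', ?_, ?_, ?_⟩
    · rw [← h3]; exact hw1.map g'.continuous
    · rw [← h3, comm_apply f f' g' g h, comm_apply f f' g' g h, hw2]
    · rw [← h4]
      exact hw3.trans (fdim_baseChange_le f f' g' g h w')
  · intro hP ξ' hξ' hfξ' hns'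
    have hns : ¬ FibSm f (g' ξ') := by rwa [← fibSm_baseChange f f' g' g h ξ']
    obtain ⟨w, hw1, hw2, hw3⟩ := hP (g' ξ') (hξ'.map g'.continuous)
      (by rw [comm_apply f f' g' g h, comm_apply f f' g' g h, hfξ']) hns
    obtain ⟨w', h1, h2, -, h4⟩ := exists_lift_fdim f f' g' g h ξ' w hw1 hw2
    refine ⟨w', h1, h2, ?_⟩
    rw [h4]
    exact (add_le_add (fdim_baseChange_le f f' g' g h ξ') le_rfl).trans hw3

end BaseChange

section OpenImm

variable {U : Scheme.{u}} (j : U ⟶ X) [IsOpenImmersion j] (f : X ⟶ S)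

theorem fdim_openImm [LocallyOfFiniteType f] (u : U) : fdim (j ≫ f) u = fdim f (j u) := by
  obtain ⟨W, ι, hι, hr⟩ :=
    exists_closedImmersion_range (closure ({j u} : Set X)) isClosed_closure
  obtain ⟨ζ, hζ⟩ : j u ∈ Set.range ι := hr ▸ subset_closure rfl
  let ιU : pullback ι j ⟶ U := pullback.snd ι j
  let jW : pullback ι j ⟶ W := pullback.fst ι j
  have hsq1 : IsPullback jW ιU ι j := IsPullback.of_hasPullback ι j
  haveI : IsClosedImmersion ιU := inferInstanceAs (IsClosedImmersion (pullback.snd ι j))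
  haveI : IsOpenImmersion jW := inferInstanceAs (IsOpenImmersion (pullback.fst ι j))
  have hcomm1 : ∀ t : ↥(pullback ι j), ι (jW t) = j (ιU t) := fun t => by
    have := congrArg (fun φ : pullback ι j ⟶ X => φ t) hsq1.w
    simpa only [Scheme.Hom.comp_apply] using this
  have hu : u ∈ Set.range ιU := by
    have : Set.range ιU = j ⁻¹' Set.range ι := Scheme.Pullback.range_snd ι j
    rw [this, Set.mem_preimage]
    exact ⟨ζ, hζ⟩
  obtain ⟨ζU, rfl⟩ := hu
  have hjW : jW ζU = ζ := by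
    apply ι.isEmbedding.injective
    rw [hcomm1, hζ]
  have hr' : Set.range ι = closure {ι ζ} := by rw [hr, hζ]
  have hmax : FibMax (ι ≫ f) ζ := fibMax_of_range_eq_closure f ι ζ hr'
  have hmor : ιU ≫ (j ≫ f) = jW ≫ (ι ≫ f) := by
    rw [← Category.assoc, ← Category.assoc, hsq1.w]
  have hmaxU : FibMax (ιU ≫ (j ≫ f)) ζU := by
    rw [hmor, fibMax_openImm_iff jW (ι ≫ f) ζU, hjW]
    exact hmax
  rw [fdim_eq_of_fibMax (j ≫ f) ιU ζU hmaxU, ← hζ, fdim_eq_of_fibMax f ι ζ hmax, ← hjW]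
  have e : FlatMor.fibreDimAt (ιU ≫ (j ≫ f)) ζU = FlatMor.fibreDimAt (jW ≫ (ι ≫ f)) ζU := by
    rw [hmor]
  rw [e]
  exact Groth.Agent.H17.Chev.fibreDimAt_eq_of_isOpenImmersion (ι ≫ f) (jW ≫ (ι ≫ f)) jW (𝟙 S)
    Function.injective_id (Category.comp_id _) ζU

/-- **Invariance under open immersions into the source.** -/
theorem prRk_openImm (k : ℕ) [LocallyOfFiniteType f] (u : U) :
    PrRk k (j ≫ f) u ↔ PrRk k f (j u) := by
  constructor
  · intro hP ξ hξ hfξ hns
    obtain ⟨ξ₀, rfl, hξ₀⟩ := exists_of_specializes_openImm j u ξ hξ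
    have hns' : ¬ FibSm (j ≫ f) ξ₀ := by
      rwa [fibSm_comp_of_isOpenImmersion j f ξ₀]
    obtain ⟨w₀, hw1, hw2, hw3⟩ := hP ξ₀ hξ₀
      (by simpa only [Scheme.Hom.comp_apply] using hfξ) hns'
    refine ⟨j w₀, hw1.map j.continuous, by simpa only [Scheme.Hom.comp_apply] using hw2, ?_⟩
    rw [← fdim_openImm j f ξ₀, ← fdim_openImm j f w₀]
    exact hw3
  · intro hP ξ₀ hξ₀ hfξ₀ hns₀
    have hns : ¬ FibSm f (j ξ₀) := by
      rwa [← fibSm_comp_of_isOpenImmersion j f ξ₀]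
    obtain ⟨w, hw1, hw2, hw3⟩ := hP (j ξ₀) (hξ₀.map j.continuous)
      (by simpa only [Scheme.Hom.comp_apply] using hfξ₀) hns
    obtain ⟨w₀, rfl, hw₀⟩ := exists_of_specializes_openImm j ξ₀ w hw1
    refine ⟨w₀, hw₀, by simpa only [Scheme.Hom.comp_apply] using hw2, ?_⟩
    rw [fdim_openImm j f ξ₀, fdim_openImm j f w₀]
    exact hw3

end OpenImm

end Groth.Agent.H99.RkTop
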