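import Mathlib
import Groth.Agent.H99.RkTop
import Groth.Agent.H46.GenFree.Scheme
import Groth.Agent.H22.RedImm

/-!
# Generic openness of the geometric `(R_k)` locus of the fibres (helper99; for S3454)

Over an irreducible Noetherian base `S`, for `f : X ⟶ S` of finite type such that the locus `N`
where the fibres are not smooth is closed, there is a nonempty open `U ⊆ S` such that
`{x | PrRk k f x} ∩ f⁻¹ U` is open: over `U` its complement is the union of those irreducible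
components `D` of `N` whose generic fibre has codimension `≤ k` in the generic fibre of `X`.
-/

set_option autoImplicit false
set_option backward.isDefEq.respectTransparency.types false
set_option linter.style.haveILetI false
set_option linter.unusedSectionVars false
universe u

open AlgebraicGeometry CategoryTheory CategoryTheory.Limits TopologicalSpace Topology

namespace Groth.Agent.H99.RkGen

open Groth.Agent.H99.FibEqui Groth.Agent.H99.FibEquiGen Groth.Agent.H17.Chev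
  Groth.Agent.H49.SmoothFibreConstr Groth.Agent.H99.RkTop

variable {X S : Scheme.{u}} (f : X ⟶ S)

/-- for flat morphisms locally of finite presentation the non-smooth locus of the fibres is the
complement of the smooth locus. -/
theorem fibSm_iff_mem_smoothLocus [Flat f] [LocallyOfFinitePresentation f] (x : X) :
    FibSm f x ↔ x ∈ f.smoothLocus := by
  haveI := lfp_fiberToSpecResidueField f (f x)
  constructor
  · intro hx
    exact Groth.Agent.H25.FibreSmoothPt.mem_smoothLocus_of_flat_of_fibre f x (Flat.stalkMap f x) hx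
  · intro hx
    exact (Groth.Agent.H25.FibreSmoothPt.flat_and_fibre_of_mem_smoothLocus f x hx).2

section Noeth

variable [IsNoetherian S] [IrreducibleSpace S] [LocallyOfFiniteType f] [QuasiCompact f]

/-- generic data for a finite family of irreducible closed subsets: over a nonempty open of the
base, the relatively maximal points of each member `C` have fibre dimension `e C`, and they lie in
no other member of the family unless it contains `C`. -/
theorem exists_generic_data (𝒜 : Set (Set X)) (hfin : 𝒜.Finite)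
    (hirr : ∀ C ∈ 𝒜, IsIrreducible C) (hcl : ∀ C ∈ 𝒜, IsClosed C) :
    ∃ (e : Set X → ℕ) (U₀ : S.Opens), genericPoint S ∈ U₀ ∧
      (∀ C ∈ 𝒜, ∀ ξ, RelMax f C ξ → f ξ ∈ U₀ → fdim f ξ = e C) ∧
      (∀ C ∈ 𝒜, ∀ C' ∈ 𝒜, ∀ ξ, RelMax f C ξ → f ξ ∈ U₀ → ξ ∈ C' → C ⊆ C') := by
  haveI : IsLocallyNoetherian X := LocallyOfFiniteType.isLocallyNoetherian f
  haveI : CompactSpace X := QuasiCompact.compactSpace_of_compactSpace f
  haveI : IsNoetherian X := {}
  haveI : NoetherianSpace X := inferInstance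
  set η := genericPoint S with hη
  let Dom : Set X → Prop := fun C => ∃ ξ, IsGenericPoint ξ C ∧ f ξ = η
  have hA : ∀ C ∈ 𝒜, ∃ (e : ℕ) (U : S.Opens), η ∈ U ∧
      (Dom C → topologicalKrullDim ↥(C ∩ f ⁻¹' {η}) = e ∧ ∀ ξ, RelMax f C ξ → f ξ ∈ U →
        topologicalKrullDim ↥(closure ({ξ} : Set X) ∩ f ⁻¹' {f ξ}) = e) ∧
      (¬ Dom C → ∀ x ∈ C, f x ∉ U) := by
    intro C hC
    by_cases hd : Dom C
    · obtain ⟨ξ, hξ, hfξ⟩ := hd
      obtain ⟨e, U, hU, h1, h2⟩ := exists_open_dim_closure_eq f C (hcl C hC) ξ hξ hfξ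
      exact ⟨e, U, hU, fun _ => ⟨h1, h2⟩, fun h => absurd ⟨ξ, hξ, hfξ⟩ h⟩
    · obtain ⟨ξ, hξ⟩ := QuasiSober.sober (hirr C hC) (hcl C hC)
      refine ⟨0, ⟨(closure {f ξ})ᶜ, isClosed_closure.isOpen_compl⟩, ?_, fun h => absurd h hd,
        fun _ x hx hfx => hfx ?_⟩
      · intro hmem
        apply hd
        refine ⟨ξ, hξ, ?_⟩
        have h1 : f ξ ⤳ η := specializes_iff_mem_closure.mpr hmem
        have h2 : η ⤳ f ξ := (genericPoint_spec S).specializes (Set.mem_univ _)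
        exact (h1.antisymm h2).eq
      · have : ξ ⤳ x := hξ.specializes hx
        exact specializes_iff_mem_closure.mp (this.map f.continuous)
  choose! e U hU hdomC hndomC using hA
  have hB : ∀ C ∈ 𝒜, ∀ C' ∈ 𝒜, ∃ O : Set S,
      IsOpen O ∧ η ∈ O ∧ ∀ s ∈ O, topologicalKrullDim ↥((C ∩ C') ∩ f ⁻¹' {s}) =
        topologicalKrullDim ↥((C ∩ C') ∩ f ⁻¹' {η}) := fun C hC C' hC' =>
    exists_open_dim_inter_fiber_eq f (C ∩ C') ((hcl C hC).inter (hcl C' hC'))
  choose! O hOo hOη hOeq using hB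
  let U₀ : Set S := (⋂ C ∈ 𝒜, (U C : Set S)) ∩ ⋂ C ∈ 𝒜, ⋂ C' ∈ 𝒜, O C C'
  have hU₀o : IsOpen U₀ := (hfin.isOpen_biInter fun C _ => (U C).2).inter
    (hfin.isOpen_biInter fun C hC => hfin.isOpen_biInter fun C' hC' => hOo C hC C' hC')
  have hU₀η : η ∈ U₀ := ⟨Set.mem_iInter₂.mpr fun C hC => hU C hC,
    Set.mem_iInter₂.mpr fun C hC => Set.mem_iInter₂.mpr fun C' hC' => hOη C hC C' hC'⟩
  have hU₀U : ∀ s ∈ U₀, ∀ C ∈ 𝒜, s ∈ U C := fun s hs C hC =>
    Set.mem_iInter₂.mp hs.1 C hC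
  have hU₀O : ∀ s ∈ U₀, ∀ C ∈ 𝒜, ∀ C' ∈ 𝒜, s ∈ O C C' := fun s hs C hC C' hC' =>
    Set.mem_iInter₂.mp (Set.mem_iInter₂.mp hs.2 C hC) C' hC'
  -- (c0) members meeting the fibres over `U₀` dominate
  have c0 : ∀ y : X, f y ∈ U₀ → ∀ C ∈ 𝒜, y ∈ C → Dom C := by
    intro y hy C hC hyC
    by_contra hd
    exact hndomC C hC hd y hyC (hU₀U _ hy C hC)
  -- (c1) dimension of the closure of a relatively maximal point
  have c1 : ∀ ξ : X, f ξ ∈ U₀ → ∀ C ∈ 𝒜, RelMax f C ξ →
      topologicalKrullDim ↥(closure ({ξ} : Set X) ∩ f ⁻¹' {f ξ}) = e C := by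
    intro ξ hξ C hC hm
    exact (hdomC C hC (c0 ξ hξ C hC hm.1)).2 ξ hm (hU₀U _ hξ C hC)
  refine ⟨e, ⟨U₀, hU₀o⟩, hU₀η, fun C hC ξ hm hξ => c1 ξ hξ C hC hm, ?_⟩
  intro C hC C' hC' ξ hm hξ hξC'
  by_contra hsub
  have hdC : Dom C := c0 ξ hξ C hC hm.1
  obtain ⟨ξC, hξC, hfξC⟩ := hdC
  have hdimC := (hdomC C hC ⟨ξC, hξC, hfξC⟩).1
  have hξCmem : ξC ∈ C ∩ f ⁻¹' {η} := ⟨hξC.mem, hfξC⟩
  have hirr' : IsIrreducible (C ∩ f ⁻¹' {η}) :=
    isIrreducible_of_mem_of_subset_closure hξCmem (by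
      rw [hξC.def]; exact Set.inter_subset_left)
  have hne : (C ∩ C') ∩ f ⁻¹' {η} ≠ C ∩ f ⁻¹' {η} := by
    intro heq
    have h1 : ξC ∈ (C ∩ C') ∩ f ⁻¹' {η} := heq ▸ hξCmem
    apply hsub
    rw [← hξC.def]
    exact closure_minimal (Set.singleton_subset_iff.mpr h1.1.2) (hcl C' hC')
  have hT2 := Groth.Agent.H51.topologicalKrullDim_add_one_le_of_ssubset (C ∩ f ⁻¹' {η})
    ((C ∩ C') ∩ f ⁻¹' {η}) hirr'
    (fun t ht => ⟨ht.1.1, ht.2⟩) C' (hcl C' hC')
    (by ext t; simp only [Set.mem_inter_iff]; tauto) hne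
  rw [hdimC] at hT2
  have hsub' : closure ({ξ} : Set X) ∩ f ⁻¹' {f ξ} ⊆ (C ∩ C') ∩ f ⁻¹' {f ξ} := by
    intro t ht
    refine ⟨⟨?_, ?_⟩, ht.2⟩
    · exact closure_minimal (Set.singleton_subset_iff.mpr hm.1) (hcl C hC) ht.1
    · exact closure_minimal (Set.singleton_subset_iff.mpr hξC') (hcl C' hC') ht.1
  have hle : topologicalKrullDim ↥(closure ({ξ} : Set X) ∩ f ⁻¹' {f ξ}) ≤
      topologicalKrullDim ↥((C ∩ C') ∩ f ⁻¹' {f ξ}) :=
    (IsEmbedding.inclusion hsub').isInducing.topologicalKrullDim_le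
  rw [c1 ξ hξ C hC hm, hOeq C hC C' hC' (f ξ) (hU₀O _ hξ C hC C' hC')] at hle
  exact not_le_of_add_one_le hT2 hle

/-- relatively maximal generizations exist in closed subsets. -/
theorem exists_relMax_specializes' (D : Set X) (hD : IsClosed D) (x : X) (hx : x ∈ D) :
    ∃ ξ, RelMax f D ξ ∧ ξ ⤳ x ∧ f ξ = f x := by
  obtain ⟨W, ι, hι, hr⟩ := exists_closedImmersion_range D hD
  exact exists_relMax_specializes f ι hr x hx

/-- **Generic openness** of the geometric `(R_k)` locus, when the non-smooth locus of the fibres is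
closed. -/
theorem generic_isOpen_of_isClosed (k : ℕ) (N : Set X) (hNc : IsClosed N)
    (hN : ∀ x, x ∈ N ↔ ¬ FibSm f x) :
    ∃ U : S.Opens, genericPoint S ∈ U ∧ IsOpen ({x : X | PrRk k f x} ∩ f ⁻¹' (U : Set S)) := by
  haveI : IsLocallyNoetherian X := LocallyOfFiniteType.isLocallyNoetherian f
  haveI : CompactSpace X := QuasiCompact.compactSpace_of_compactSpace f
  haveI : IsNoetherian X := {}
  haveI : NoetherianSpace X := inferInstance
  obtain ⟨𝒳, h𝒳f, h𝒳c, h𝒳i, h𝒳U⟩ := NoetherianSpace.exists_finite_set_isClosed_irreducible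
    (isClosed_univ : IsClosed (Set.univ : Set X))
  obtain ⟨𝒩, h𝒩f, h𝒩c, h𝒩i, h𝒩U⟩ := NoetherianSpace.exists_finite_set_isClosed_irreducible hNc
  obtain ⟨e, U₀, hη, c1, c3⟩ := exists_generic_data f (𝒳 ∪ 𝒩) (h𝒳f.union h𝒩f)
    (fun C hC => hC.elim (h𝒳i C) (h𝒩i C)) (fun C hC => hC.elim (h𝒳c C) (h𝒩c C))
  refine ⟨U₀, hη, ?_⟩
  let BadD : Set X → Prop := fun D => ∀ C ∈ 𝒳, D ⊆ C → e C < e D + (k + 1)
  let Bad : Set X := ⋃ D ∈ 𝒩, ⋃ (_ : BadD D), D
  have hBad : IsClosed Bad := h𝒩f.isClosed_biUnion fun D hD =>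
    isClosed_iUnion_of_finite fun _ => h𝒩c D hD
  have key : {x : X | PrRk k f x} ∩ f ⁻¹' (U₀ : Set S) = Badᶜ ∩ f ⁻¹' (U₀ : Set S) := by
    ext x
    simp only [Set.mem_inter_iff, Set.mem_ofPred_eq, Set.mem_preimage, Set.mem_compl_iff]
    refine and_congr_left fun hx => ?_
    constructor
    · intro hP hbad
      simp only [Bad, Set.mem_iUnion, exists_prop] at hbad
      obtain ⟨D, hD, hDbad, hxD⟩ := hbad
      obtain ⟨ξ, hξm, hξx, hfξ⟩ := exists_relMax_specializes' f D (h𝒩c D hD) x hxD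
      have hξN : ξ ∈ N := by rw [h𝒩U]; exact ⟨D, hD, hξm.1⟩
      have hfξU : f ξ ∈ (U₀ : Set S) := by rw [hfξ]; exact hx
      obtain ⟨w, hw1, hw2, hw3⟩ := hP ξ hξx hfξ ((hN ξ).mp hξN)
      obtain ⟨C, hC, hwC⟩ : ∃ C ∈ 𝒳, w ∈ C := by
        have : w ∈ ⋃₀ 𝒳 := h𝒳U ▸ Set.mem_univ w
        exact this
      obtain ⟨w₁, hw₁m, hw₁w, hfw₁⟩ := exists_relMax_specializes' f C (h𝒳c C hC) w hwC
      have hfw₁U : f w₁ ∈ (U₀ : Set S) := by rw [hfw₁, hw2]; exact hfξU
      have h1 : fdim f w ≤ fdim f w₁ := fdim_mono f hw₁w hfw₁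
      rw [c1 C (Or.inl hC) w₁ hw₁m hfw₁U] at h1
      have hξC : ξ ∈ C := hw1.mem_closed (h𝒳c C hC) hwC
      have hDC : D ⊆ C := c3 D (Or.inr hD) C (Or.inl hC) ξ hξm hfξU hξC
      have h2 := hDbad C hC hDC
      rw [c1 D (Or.inr hD) ξ hξm hfξU] at hw3
      have h3 : ((e D : ℕ) : WithBot ℕ∞) + ((k + 1 : ℕ) : WithBot ℕ∞) ≤ (e C : WithBot ℕ∞) :=
        hw3.trans h1
      have h4 : e D + (k + 1) ≤ e C := by exact_mod_cast h3
      omega
    · intro hbad ξ hξx hfξ hns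
      have hξN : ξ ∈ N := (hN ξ).mpr hns
      obtain ⟨D, hD, hξD⟩ : ∃ D ∈ 𝒩, ξ ∈ D := by rw [h𝒩U] at hξN; exact hξN
      have hfξU : f ξ ∈ (U₀ : Set S) := by rw [hfξ]; exact hx
      obtain ⟨ξ₁, hξ₁m, hξ₁ξ, hfξ₁⟩ := exists_relMax_specializes' f D (h𝒩c D hD) ξ hξD
      have hfξ₁U : f ξ₁ ∈ (U₀ : Set S) := by rw [hfξ₁]; exact hfξU
      have hxD : x ∈ D := hξx.mem_closed (h𝒩c D hD) hξD
      have hnb : ¬ BadD D := fun hb => hbad (by
        simp only [Bad, Set.mem_iUnion, exists_prop]; exact ⟨D, hD, hb, hxD⟩)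
      simp only [BadD, not_forall, not_lt] at hnb
      obtain ⟨C, hC, hDC, hle⟩ := hnb
      have hξ₁C : ξ₁ ∈ C := hDC hξ₁m.1
      obtain ⟨w, hwm, hwξ₁, hfw⟩ := exists_relMax_specializes' f C (h𝒳c C hC) ξ₁ hξ₁C
      have hfwU : f w ∈ (U₀ : Set S) := by rw [hfw]; exact hfξ₁U
      refine ⟨w, hwξ₁.trans hξ₁ξ, hfw.trans hfξ₁, ?_⟩
      rw [c1 C (Or.inl hC) w hwm hfwU]
      have h1 : fdim f ξ ≤ fdim f ξ₁ := fdim_mono f hξ₁ξ hfξ₁
      rw [c1 D (Or.inr hD) ξ₁ hξ₁m hfξ₁U] at h1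
      calc fdim f ξ + ((k + 1 : ℕ) : WithBot ℕ∞)
          ≤ (e D : WithBot ℕ∞) + ((k + 1 : ℕ) : WithBot ℕ∞) := add_le_add h1 le_rfl
        _ ≤ (e C : WithBot ℕ∞) := by exact_mod_cast hle
  rw [key]
  exact hBad.isOpen_compl.inter (U₀.2.preimage f.continuous)

/-- **Generic openness**, flat case. -/
theorem generic_isOpen_of_flat (k : ℕ) [Flat f] [LocallyOfFinitePresentation f] :
    ∃ U : S.Opens, genericPoint S ∈ U ∧ IsOpen ({x : X | PrRk k f x} ∩ f ⁻¹' (U : Set S)) := by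
  refine generic_isOpen_of_isClosed f k ((f.smoothLocus : Set X)ᶜ)
    f.smoothLocus.isOpen.isClosed_compl fun x => ?_
  rw [Set.mem_compl_iff, fibSm_iff_mem_smoothLocus f x]
  rfl

end Noeth

section Transfer

variable {X' S' : Scheme.{u}} (f' : X' ⟶ S') (g' : X' ⟶ X) (g : S' ⟶ S)
  (h : IsPullback g' f' f g)

include h in
/-- transfer of generic openness along a base change which is topologically an open embedding. -/
theorem generic_of_isOpenEmbedding (k : ℕ) [LocallyOfFiniteType f] (hg : IsOpenEmbedding g)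
    (hg' : IsOpenEmbedding g')
    (H : ∃ U' : S'.Opens, (U' : Set S').Nonempty ∧
      IsOpen ({x : X' | PrRk k f' x} ∩ f' ⁻¹' (U' : Set S'))) :
    ∃ U : S.Opens, (U : Set S).Nonempty ∧ IsOpen ({x : X | PrRk k f x} ∩ f ⁻¹' (U : Set S)) := by
  obtain ⟨U', hne, hO⟩ := H
  refine ⟨⟨g '' (U' : Set S'), hg.isOpenMap _ U'.2⟩, hne.image _, ?_⟩
  have key : {x : X | PrRk k f x} ∩ f ⁻¹' (g '' (U' : Set S')) =
      g' '' ({x : X' | PrRk k f' x} ∩ f' ⁻¹' (U' : Set S')) := by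
    ext x
    simp only [Set.mem_inter_iff, Set.mem_ofPred_eq, Set.mem_preimage, Set.mem_image]
    constructor
    · rintro ⟨hx, u', hu', hu'x⟩
      obtain ⟨z, hz1, hz2⟩ := Scheme.exists_preimage_of_isPullback h x u' hu'x.symm
      refine ⟨z, ⟨?_, ?_⟩, hz1⟩
      · rw [prRk_baseChange f f' g' g h k z]
        rw [show g' z = x from hz1]
        exact hx
      · change f' z ∈ U'
        rw [show f' z = u' from hz2]
        exact hu'
    · rintro ⟨z, ⟨hz1, hz2⟩, rfl⟩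
      refine ⟨(prRk_baseChange f f' g' g h k z).mp hz1, f' z, hz2, ?_⟩
      exact (comm_apply f f' g' g h z).symm
  change IsOpen ({x : X | PrRk k f x} ∩ f ⁻¹' (g '' (U' : Set S')))
  rw [key]
  exact hg'.isOpenMap _ hO

end Transfer

section General

variable [IsNoetherian S] [IrreducibleSpace S] [LocallyOfFiniteType f] [QuasiCompact f]

/-- **Generic openness**, reduced base: generic flatness. -/
theorem generic_of_isReduced (k : ℕ) [IsReduced S] :
    ∃ U : S.Opens, (U : Set S).Nonempty ∧ IsOpen ({x : X | PrRk k f x} ∩ f ⁻¹' (U : Set S)) := by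
  obtain ⟨U, hUd, hfl, hfp⟩ := Groth.Agent.H46.GenFree.generic_flatness f
  have hUne : (U : Set S).Nonempty := hUd.nonempty
  have hηU : genericPoint S ∈ U := by
    obtain ⟨u, hu⟩ := hUne
    exact ((genericPoint_spec S).specializes (Set.mem_univ u)).mem_open U.2 hu
  haveI : NoetherianSpace S := inferInstance
  have hcU : CompactSpace ↥(U : Scheme.{u}) :=
    isCompact_iff_compactSpace.mp (NoetherianSpace.isCompact (U : Set S))
  haveI : IsNoetherian (U : Scheme.{u}) := (isNoetherian_iff _).mpr ⟨inferInstance, hcU⟩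
  haveI : IrreducibleSpace ↥(U : Scheme.{u}) :=
    (Groth.Agent.H17.Chev.irreducibleSpace_of_isEmbedding (Subtype.val : ↥U → S)
      IsEmbedding.subtypeVal ⟨genericPoint S, hηU⟩ (by
        rw [(genericPoint_spec S).def]; exact Set.subset_univ _)).1
  have hsq : IsPullback (f ⁻¹ᵁ U).ι (f ∣_ U) f U.ι := (isPullback_morphismRestrict f U).flip
  obtain ⟨V, hV, hO⟩ := generic_isOpen_of_flat (f ∣_ U) k
  exact generic_of_isOpenEmbedding f (f ∣_ U) (f ⁻¹ᵁ U).ι U.ι hsq k U.ι.isOpenEmbedding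
    (f ⁻¹ᵁ U).ι.isOpenEmbedding ⟨V, ⟨_, hV⟩, hO⟩

/-- **Generic openness** of the geometric `(R_k)` locus over an irreducible Noetherian base. -/
theorem generic (k : ℕ) :
    ∃ U : S.Opens, (U : Set S).Nonempty ∧ IsOpen ({x : X | PrRk k f x} ∩ f ⁻¹' (U : Set S)) := by
  let I := Scheme.IdealSheafData.vanishingIdeal (⊤ : Closeds S)
  let r : I.subscheme ⟶ S := I.subschemeι
  haveI : IsReduced I.subscheme := Groth.Agent.H22.isReduced_subscheme_vanishingIdeal ⊤
  have hrange : Set.range r = Set.univ := by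
    rw [Scheme.IdealSheafData.range_subschemeι, Scheme.IdealSheafData.coe_support_vanishingIdeal]
    rfl
  have hsurj : Function.Surjective r := Set.range_eq_univ.mp hrange
  have hr : IsOpenEmbedding r :=
    (r.isClosedEmbedding.isEmbedding.toHomeomorphOfSurjective hsurj).isOpenEmbedding
  haveI : IsLocallyNoetherian I.subscheme := LocallyOfFiniteType.isLocallyNoetherian r
  haveI : CompactSpace I.subscheme := r.isClosedEmbedding.compactSpace
  haveI : IsNoetherian I.subscheme := {}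
  haveI : IrreducibleSpace I.subscheme := by
    obtain ⟨a, ha⟩ := hsurj (genericPoint S)
    exact (Groth.Agent.H17.Chev.irreducibleSpace_of_isEmbedding r r.isEmbedding a (by
      rw [ha, (genericPoint_spec S).def]; exact Set.subset_univ _)).1
  let g' := pullback.fst f r
  let f' := pullback.snd f r
  have hpb : IsPullback g' f' f r := IsPullback.of_hasPullback f r
  haveI : IsClosedImmersion g' := inferInstanceAs (IsClosedImmersion (pullback.fst f r))
  have hsurj' : Function.Surjective g' := by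
    intro x
    obtain ⟨a, ha⟩ := hsurj (f x)
    obtain ⟨z, hz1, -⟩ := Scheme.exists_preimage_of_isPullback hpb x a ha.symm
    exact ⟨z, hz1⟩
  have hg' : IsOpenEmbedding g' :=
    (g'.isClosedEmbedding.isEmbedding.toHomeomorphOfSurjective hsurj').isOpenEmbedding
  exact generic_of_isOpenEmbedding f f' g' r hpb k hr hg' (generic_of_isReduced f' k)

end General

end Groth.Agent.H99.RkGen
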