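import Mathlib
import Groth.Agent.H99.RkGen
import Groth.Agent.H99.FibrePropGenD
import Groth.Agent.H12.Constr
import Groth.Agent.H17.Chev.DimEqScheme

/-!
# Dimensions of the irreducible components of the fibres of a constructible subset
(helper99; EGA IV 9.5.5 / 9.8.5 pattern; for S4798)

`NdPr d f Z x`: the point `x` lies in the closure (inside its fibre) of a point `ξ` of `Z` which is
maximal among the points of `Z` in that fibre and with `fdim f ξ = d`.  The property is invariant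
under base change and under open immersions into the source, and generically constructible.
-/

set_option autoImplicit false
set_option backward.isDefEq.respectTransparency.types false
set_option linter.style.haveILetI false
set_option linter.unusedSectionVars false
universe u

open AlgebraicGeometry CategoryTheory CategoryTheory.Limits TopologicalSpace Topology

namespace Groth.Agent.H99.CompDims

open Groth.Agent.H99.FibEqui Groth.Agent.H99.FibEquiGen Groth.Agent.H17.Chev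
  Groth.Agent.H99.RkTop Groth.Agent.H99.RkGen

variable {X S : Scheme.{u}}

/-- `x` lies in the fibrewise closure of a maximal point of `Z ∩ fibre` of fibre dimension `d`. -/
def NdPr (d : WithBot ℕ∞) : ∀ ⦃X S : Scheme.{u}⦄, (X ⟶ S) → Set X → X → Prop := fun _ _ f Z x =>
  ∃ ξ ∈ Z, ξ ⤳ x ∧ f ξ = f x ∧ (∀ w ∈ Z, w ⤳ ξ → f w = f ξ → ξ ⤳ w) ∧ fdim f ξ = d

theorem exists_nat_eq_fdim (f : X ⟶ S) [LocallyOfFiniteType f] (ξ : X) :
    ∃ n : ℕ, fdim f ξ = n := by
  obtain ⟨W, ι, hι, hr⟩ := exists_closedImmersion_range (closure ({ξ} : Set X)) isClosed_closure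
  obtain ⟨ζ, hζ⟩ : ξ ∈ Set.range ι := hr ▸ subset_closure rfl
  have hr' : Set.range ι = closure {ι ζ} := by rw [hr, hζ]
  have hmax : FibMax (ι ≫ f) ζ := fibMax_of_range_eq_closure f ι ζ hr'
  obtain ⟨n, hn⟩ := exists_nat_eq_fibreDimAt (ι ≫ f) ζ
  exact ⟨n, by rw [← hζ, fdim_eq_of_fibMax f ι ζ hmax, hn]⟩

theorem fdim_add_one_le (f : X ⟶ S) {w ξ : X} (h : w ⤳ ξ) (hf : f w = f ξ) (hn : ¬ ξ ⤳ w) :
    fdim f ξ + 1 ≤ fdim f w := by
  have hcl : closure ({ξ} : Set X) ⊆ closure ({w} : Set X) :=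
    closure_minimal (Set.singleton_subset_iff.mpr h.mem_closure) isClosed_closure
  refine Groth.Agent.H51.topologicalKrullDim_add_one_le_of_ssubset
    (closure ({w} : Set X) ∩ f ⁻¹' {f w}) (closure ({ξ} : Set X) ∩ f ⁻¹' {f ξ}) ?_ ?_
    (closure ({ξ} : Set X)) isClosed_closure ?_ ?_
  · exact isIrreducible_of_mem_of_subset_closure (a := w) ⟨subset_closure rfl, rfl⟩
      Set.inter_subset_left
  · intro t ht
    exact ⟨hcl ht.1, by rw [hf]; exact ht.2⟩
  · ext t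
    simp only [Set.mem_inter_iff, Set.mem_preimage, Set.mem_singleton_iff]
    constructor
    · rintro ⟨h1, h2⟩
      exact ⟨⟨hcl h1, by rw [hf]; exact h2⟩, h1⟩
    · rintro ⟨⟨-, h2⟩, h3⟩
      exact ⟨h3, by rw [← hf]; exact h2⟩
  · intro heq
    have : w ∈ closure ({ξ} : Set X) ∩ f ⁻¹' {f ξ} := by
      rw [heq]; exact ⟨subset_closure rfl, rfl⟩
    exact hn (specializes_iff_mem_closure.mpr this.1)

theorem specializes_of_fdim_le (f : X ⟶ S) [LocallyOfFiniteType f] {w ξ : X} (h : w ⤳ ξ)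
    (hf : f w = f ξ) (hle : fdim f w ≤ fdim f ξ) : ξ ⤳ w := by
  by_contra hn
  have h1 := fdim_add_one_le f h hf hn
  obtain ⟨n, hn'⟩ := exists_nat_eq_fdim f w
  rw [hn'] at h1 hle
  exact not_le_of_add_one_le h1 hle

section BaseChange

variable {X' S' : Scheme.{u}} (f : X ⟶ S) (f' : X' ⟶ S') (g' : X' ⟶ X) (g : S' ⟶ S)
  (h : IsPullback g' f' f g)

include h in
theorem ndPr_baseChange (d : WithBot ℕ∞) [LocallyOfFiniteType f] (Z : Set X) (x' : X') :
    NdPr d f' (g' ⁻¹' Z) x' ↔ NdPr d f Z (g' x') := by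
  haveI : LocallyOfFiniteType f' := MorphismProperty.of_isPullback h inferInstance
  have hcomm := comm_apply f f' g' g h
  constructor
  · rintro ⟨ξ', hξ'Z, hξ'x, hfξ', hmax', hd⟩
    refine ⟨g' ξ', hξ'Z, hξ'x.map g'.continuous, ?_, ?_, ?_⟩
    · rw [hcomm, hcomm, hfξ']
    · intro w hwZ hw hfw
      obtain ⟨w', hw'1, hw'2, hw'3, -⟩ := exists_lift_fdim f f' g' g h ξ' w hw hfw
      have hw'Z : w' ∈ g' ⁻¹' Z := by rw [Set.mem_preimage, hw'3]; exact hwZ
      have := hmax' w' hw'Z hw'1 hw'2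
      rw [← hw'3]
      exact this.map g'.continuous
    · obtain ⟨ξ'', h1, h2, h3, h4⟩ :=
        exists_lift_fdim f f' g' g h ξ' (g' ξ') specializes_rfl rfl
      have hξ''Z : ξ'' ∈ g' ⁻¹' Z := by rw [Set.mem_preimage, h3]; exact hξ'Z
      have h5 := hmax' ξ'' hξ''Z h1 h2
      rw [← h4, ← hd]
      exact le_antisymm (fdim_mono f' h5 h2.symm) (fdim_mono f' h1 h2)
  · rintro ⟨ξ, hξZ, hξx, hfξ, hmax, hd⟩
    obtain ⟨ξ', h1, h2, h3, h4⟩ := exists_lift_fdim f f' g' g h x' ξ hξx hfξ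
    refine ⟨ξ', by rw [Set.mem_preimage, h3]; exact hξZ, h1, h2, ?_, by rw [h4, hd]⟩
    intro w' hw'Z hw' hfw'
    have hgw : g' w' ⤳ ξ := by rw [← h3]; exact hw'.map g'.continuous
    have hfgw : f (g' w') = f ξ := by rw [← h3, hcomm, hcomm, hfw']
    have hξw : ξ ⤳ g' w' := hmax (g' w') hw'Z hgw hfgw
    have heq : g' w' = ξ := (hgw.antisymm hξw).eq
    apply specializes_of_fdim_le f' hw' hfw'
    calc fdim f' w' ≤ fdim f (g' w') := fdim_baseChange_le f f' g' g h w'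
      _ = fdim f ξ := by rw [heq]
      _ = fdim f' ξ' := h4.symm

end BaseChange

section OpenImm

variable {U : Scheme.{u}} (j : U ⟶ X) [IsOpenImmersion j] (f : X ⟶ S)

theorem ndPr_openImm (d : WithBot ℕ∞) [LocallyOfFiniteType f] (Z : Set X) (u : U) :
    NdPr d (j ≫ f) (j ⁻¹' Z) u ↔ NdPr d f Z (j u) := by
  constructor
  · rintro ⟨ξ₀, hZ, hsp, hf, hmax, hd⟩
    refine ⟨j ξ₀, hZ, hsp.map j.continuous, by simpa only [Scheme.Hom.comp_apply] using hf, ?_,
      by rw [← fdim_openImm j f ξ₀]; exact hd⟩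
    intro w hwZ hw hfw
    obtain ⟨w₀, rfl, hw₀⟩ := exists_of_specializes_openImm j ξ₀ w hw
    exact (hmax w₀ hwZ hw₀ (by simpa only [Scheme.Hom.comp_apply] using hfw)).map j.continuous
  · rintro ⟨ξ, hZ, hsp, hf, hmax, hd⟩
    obtain ⟨ξ₀, rfl, hξ₀⟩ := exists_of_specializes_openImm j u ξ hsp
    refine ⟨ξ₀, hZ, hξ₀, by simpa only [Scheme.Hom.comp_apply] using hf, ?_,
      by rw [fdim_openImm j f ξ₀]; exact hd⟩
    intro w₀ hw₀Z hw₀ hfw₀
    have := hmax (j w₀) hw₀Z (hw₀.map j.continuous)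
      (by simpa only [Scheme.Hom.comp_apply] using hfw₀)
    exact j.isEmbedding.isInducing.specializes_iff.mp this

end OpenImm

section Generic

variable (f : X ⟶ S) [IsNoetherian S] [IrreducibleSpace S] [LocallyOfFiniteType f] [QuasiCompact f]

/-- generic description: over a nonempty open of the base, `NdPr d f Z` is the union of the
irreducible components of the closure of `Z` whose generic fibre dimension is `d`. -/
theorem exists_open_ndPr_iff (d : WithBot ℕ∞) (Z : Set X) (hZ : IsConstructible Z) :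
    ∃ (U₀ : S.Opens) (C : Set X), genericPoint S ∈ U₀ ∧ IsClosed C ∧
      ∀ x : X, f x ∈ U₀ → (NdPr d f Z x ↔ x ∈ C) := by
  haveI : IsLocallyNoetherian X := LocallyOfFiniteType.isLocallyNoetherian f
  haveI : CompactSpace X := QuasiCompact.compactSpace_of_compactSpace f
  haveI : IsNoetherian X := {}
  haveI : NoetherianSpace X := inferInstance
  obtain ⟨ℱ₀, hℱ₀f, hℱ₀c, hℱ₀i, hℱ₀U⟩ :=
    NoetherianSpace.exists_finite_set_isClosed_irreducible (isClosed_closure (s := Z))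
  let ℱ : Set (Set X) := {F | Maximal (· ∈ ℱ₀) F}
  have hℱsub : ℱ ⊆ ℱ₀ := fun F hF => hF.prop
  have hℱf : ℱ.Finite := hℱ₀f.subset hℱsub
  have hℱc : ∀ F ∈ ℱ, IsClosed F := fun F hF => hℱ₀c F (hℱsub hF)
  have hℱi : ∀ F ∈ ℱ, IsIrreducible F := fun F hF => hℱ₀i F (hℱsub hF)
  have hℱU : closure Z = ⋃₀ ℱ := by
    apply subset_antisymm
    · rw [hℱ₀U]
      rintro x ⟨F₀, hF₀, hx⟩
      obtain ⟨F, hF₀F, hF⟩ := hℱ₀f.exists_le_maximal hF₀
      exact ⟨F, hF, hF₀F hx⟩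
    · rw [hℱ₀U]
      exact Set.sUnion_mono hℱsub
  have hℱirr : ∀ F ∈ ℱ, ∀ F' ∈ ℱ, F ⊆ F' → F = F' := fun F hF F' hF' hsub =>
    subset_antisymm hsub (hF.le_of_ge hF'.prop hsub)
  -- `Z ∩ F` is dense in `F`
  have hdense : ∀ F ∈ ℱ, F ⊆ closure (Z ∩ F) := by
    intro F hF
    have h1 : Z = ⋃ F' ∈ ℱ, Z ∩ F' := by
      ext t
      simp only [Set.mem_iUnion, Set.mem_inter_iff, exists_prop]
      constructor
      · intro ht
        have : t ∈ ⋃₀ ℱ := hℱU ▸ subset_closure ht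
        obtain ⟨F', hF', htF'⟩ := this
        exact ⟨F', hF', ht, htF'⟩
      · rintro ⟨F', -, ht, -⟩
        exact ht
    have h2 : closure Z = ⋃ F' ∈ ℱ, closure (Z ∩ F') := by
      conv_lhs => rw [h1]
      exact hℱf.closure_biUnion _
    have h3 : F ⊆ ⋃₀ ((fun F' => closure (Z ∩ F')) '' ℱ) := by
      rw [Set.sUnion_image, ← h2, hℱU]
      exact Set.subset_sUnion_of_mem hF
    obtain ⟨_, hmem, hsub⟩ := isIrreducible_iff_sUnion_isClosed.mp (hℱi F hF)
      (hℱf.image (fun F' => closure (Z ∩ F'))).toFinset (by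
        intro z hz
        rw [Set.Finite.mem_toFinset] at hz
        obtain ⟨F', -, rfl⟩ := hz
        exact isClosed_closure) (by rwa [Set.Finite.coe_toFinset])
    rw [Set.Finite.mem_toFinset] at hmem
    obtain ⟨F', hF', rfl⟩ := hmem
    have hFF' : F ⊆ F' := hsub.trans (closure_minimal Set.inter_subset_right (hℱc F' hF'))
    have := hℱirr F hF F' hF' hFF'
    subst this
    exact hsub
  have hO : ∀ F ∈ ℱ, ∃ O : Set X, IsOpen O ∧ (O ∩ F).Nonempty ∧ O ∩ F ⊆ Z := fun F hF =>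
    (Groth.Agent.H12.dense_preimage_iff (hℱi F hF) hZ).mp
      ((Groth.Agent.H12.dense_preimage_val_iff F Z).mpr (hdense F hF))
  choose! O hOo hOne hOZ using hO
  have hD : ∀ F ∈ ℱ, ∃ 𝒟 : Set (Set X), 𝒟.Finite ∧ (∀ D ∈ 𝒟, IsClosed D) ∧
      (∀ D ∈ 𝒟, IsIrreducible D) ∧ F \ O F = ⋃₀ 𝒟 := fun F hF =>
    NoetherianSpace.exists_finite_set_isClosed_irreducible ((hℱc F hF).sdiff (hOo F hF))
  choose! 𝒟 h𝒟f h𝒟c h𝒟i h𝒟U using hD
  let 𝒜 : Set (Set X) := ℱ ∪ ⋃ F ∈ ℱ, 𝒟 F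
  have h𝒜f : 𝒜.Finite := hℱf.union (hℱf.biUnion fun F hF => h𝒟f F hF)
  have h𝒜i : ∀ C ∈ 𝒜, IsIrreducible C := by
    rintro C (hC | hC)
    · exact hℱi C hC
    · simp only [Set.mem_iUnion, exists_prop] at hC
      obtain ⟨F, hF, hCF⟩ := hC
      exact h𝒟i F hF C hCF
  have h𝒜c : ∀ C ∈ 𝒜, IsClosed C := by
    rintro C (hC | hC)
    · exact hℱc C hC
    · simp only [Set.mem_iUnion, exists_prop] at hC
      obtain ⟨F, hF, hCF⟩ := hC
      exact h𝒟c F hF C hCF
  obtain ⟨e, U₀, hη, c1, c3⟩ := exists_generic_data f 𝒜 h𝒜f h𝒜i h𝒜c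
  -- relatively maximal points of members of `ℱ` over `U₀` lie in `Z`
  have hrelZ : ∀ F ∈ ℱ, ∀ ξ, RelMax f F ξ → f ξ ∈ U₀ → ξ ∈ Z := by
    intro F hF ξ hm hξ
    apply hOZ F hF
    refine ⟨?_, hm.1⟩
    by_contra hξO
    have hξD : ξ ∈ F \ O F := ⟨hm.1, hξO⟩
    rw [h𝒟U F hF] at hξD
    obtain ⟨D, hD, hξD'⟩ := hξD
    have hDA : D ∈ 𝒜 := Or.inr (by
      simp only [Set.mem_iUnion, exists_prop]; exact ⟨F, hF, hD⟩)
    have hFD : F ⊆ D := c3 F (Or.inl hF) D hDA ξ hm hξ hξD'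
    obtain ⟨t, htO, htF⟩ := hOne F hF
    have : t ∈ F \ O F := by rw [h𝒟U F hF]; exact ⟨D, hD, hFD htF⟩
    exact this.2 htO
  refine ⟨U₀, ⋃ F ∈ {F ∈ ℱ | (e F : WithBot ℕ∞) = d}, F, hη, ?_, fun x hx => ?_⟩
  · exact (hℱf.subset (Set.sep_subset _ _)).isClosed_biUnion fun F hF => hℱc F hF.1
  simp only [Set.mem_ofPred_eq, Set.mem_iUnion, exists_prop]
  constructor
  · rintro ⟨ξ, hξZ, hξx, hfξ, hmax, hd⟩
    have hξcl : ξ ∈ ⋃₀ ℱ := hℱU ▸ subset_closure hξZ
    obtain ⟨F, hF, hξF⟩ := hξcl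
    obtain ⟨ξ₁, hm, hsp, hf₁⟩ := exists_relMax_specializes' f F (hℱc F hF) ξ hξF
    have hξ₁U : f ξ₁ ∈ U₀ := by rw [hf₁, hfξ]; exact hx
    have hξ₁Z : ξ₁ ∈ Z := hrelZ F hF ξ₁ hm hξ₁U
    have hback : ξ ⤳ ξ₁ := hmax ξ₁ hξ₁Z hsp hf₁
    have heq : ξ₁ = ξ := (hsp.antisymm hback).eq
    subst heq
    refine ⟨F, ⟨hF, ?_⟩, ?_⟩
    · rw [← c1 F (Or.inl hF) ξ₁ hm hξ₁U, hd]
    · exact (hℱc F hF).closure_subset_iff.mpr (Set.singleton_subset_iff.mpr hξF) hξx.mem_closure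
  · rintro ⟨F, ⟨hF, heF⟩, hxF⟩
    obtain ⟨ξ, hm, hsp, hfξ⟩ := exists_relMax_specializes' f F (hℱc F hF) x hxF
    have hξU : f ξ ∈ U₀ := by rw [hfξ]; exact hx
    refine ⟨ξ, hrelZ F hF ξ hm hξU, hsp, hfξ, ?_, ?_⟩
    · intro w hwZ hw hfw
      have hwcl : w ∈ ⋃₀ ℱ := hℱU ▸ subset_closure hwZ
      obtain ⟨F', hF', hwF'⟩ := hwcl
      have hξF' : ξ ∈ F' :=
        (hℱc F' hF').closure_subset_iff.mpr (Set.singleton_subset_iff.mpr hwF') hw.mem_closure
      have hFF' : F ⊆ F' := c3 F (Or.inl hF) F' (Or.inl hF') ξ hm hξU hξF'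
      have := hℱirr F hF F' hF' hFF'
      subst this
      rw [hm.2 w hwF' hfw hw]
    · rw [c1 F (Or.inl hF) ξ hm hξU, heF]

/-- **Generic constructibility.** -/
theorem ndPr_generic (d : WithBot ℕ∞) (Z : Set X) (hZ : IsConstructible Z) :
    ∃ U : S.Opens, (U : Set S).Nonempty ∧
      IsConstructible ({x : X | NdPr d f Z x} ∩ f ⁻¹' (U : Set S)) := by
  haveI : IsLocallyNoetherian X := LocallyOfFiniteType.isLocallyNoetherian f
  haveI : CompactSpace X := QuasiCompact.compactSpace_of_compactSpace f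
  haveI : IsNoetherian X := {}
  haveI : NoetherianSpace X := inferInstance
  obtain ⟨U₀, C, hη, hC, hU₀⟩ := exists_open_ndPr_iff f d Z hZ
  refine ⟨U₀, ⟨_, hη⟩, ?_⟩
  have key : {x : X | NdPr d f Z x} ∩ f ⁻¹' (U₀ : Set S) = C ∩ f ⁻¹' (U₀ : Set S) := by
    ext x
    simp only [Set.mem_inter_iff, Set.mem_ofPred_eq, Set.mem_preimage]
    exact and_congr_left fun hx => hU₀ x hx
  rw [key]
  exact (Groth.Agent.H12.isConstructible_of_isClosed hC).inter
    (Groth.Agent.H12.isConstructible_of_isOpen (U₀.2.preimage f.continuous))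

end Generic

theorem isGoodGenD_ndPr (d : WithBot ℕ∞) :
    Groth.Agent.H99.FibrePropGenD.IsGoodGenD (NdPr.{u} d) where
  baseChange := fun X S X' S' f f' g' g h hlft Z x' => by
    have := hlft
    exact ndPr_baseChange f f' g' g h d Z x'
  openImm := fun U X S j f hj hlft Z u => by
    have := hj
    have := hlft
    exact ndPr_openImm j f d Z u
  generic := fun X S f hN hI hlft hqc Z hZ => by
    have := hN
    have := hI
    have := hlft
    have := hqc
    exact ndPr_generic f d Z hZ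

/-- the set of points lying on a `d`-dimensional irreducible component of the trace of `Z` on their
fibre is locally constructible. -/
theorem isLocallyConstructible_ndPr (d : WithBot ℕ∞) {X S : Scheme.{u}} (f : X ⟶ S)
    [LocallyOfFinitePresentation f] (Z : Set X) (hZ : IsLocallyConstructible Z) :
    IsLocallyConstructible {x : X | NdPr d f Z x} :=
  Groth.Agent.H99.FibrePropGenD.isLocallyConstructible (isGoodGenD_ndPr d) f Z hZ

end Groth.Agent.H99.CompDims
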