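import Mathlib
import Groth.Agent.H99.CompDims
import Groth.Agent.H17.Chev.Main
import Groth.Agent.H17.ProConsCompl

/-!
# The set of dimensions of the irreducible components of the fibres of a locally constructible
subset is a locally constructible function (helper99; EGA IV 9.5.5-type; for S4798)
-/

set_option autoImplicit false
set_option backward.isDefEq.respectTransparency.types false
set_option linter.style.haveILetI false
set_option linter.unusedSectionVars false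
universe u

open AlgebraicGeometry CategoryTheory CategoryTheory.Limits TopologicalSpace Topology

namespace Groth.Agent.H99.CompDimsMain

open Groth.Agent.H99.FibEqui Groth.Agent.H99.FibEquiGen Groth.Agent.H17.Chev
  Groth.Agent.H99.RkTop Groth.Agent.H99.CompDims

variable {X S : Scheme.{u}} (f : X ⟶ S)

/-- a neighbourhood (in the fibre) of a point in its fibrewise closure has the same dimension. -/
theorem dim_inter_open_eq_fdim [LocallyOfFiniteType f] (ξ : X) (O : Set X) (hO : IsOpen O)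
    (hξ : ξ ∈ O) :
    topologicalKrullDim ↥(closure ({ξ} : Set X) ∩ f ⁻¹' {f ξ} ∩ O) = fdim f ξ := by
  let U : X.Opens := ⟨O, hO⟩
  let u : (U : Scheme.{u}) := ⟨ξ, hξ⟩
  have h1 : fdim (U.ι ≫ f) u = fdim f (U.ι u) := fdim_openImm U.ι f u
  have h2 : U.ι u = ξ := rfl
  rw [h2] at h1
  rw [← h1]
  unfold fdim
  symm
  refine topologicalKrullDim_eq_of_isEmbedding
    (fun t : ↥(closure ({u} : Set (U : Scheme.{u})) ∩ (U.ι ≫ f) ⁻¹' {(U.ι ≫ f) u}) => U.ι t.1)
    (U.ι.isEmbedding.comp IsEmbedding.subtypeVal) _ ?_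
  ext y
  simp only [Set.mem_range, Subtype.exists, Set.mem_inter_iff, Set.mem_preimage,
    Set.mem_singleton_iff, exists_prop]
  constructor
  · rintro ⟨t, ⟨ht1, ht2⟩, rfl⟩
    refine ⟨⟨?_, ?_⟩, t.2⟩
    · have := image_closure_subset_closure_image U.ι.continuous (s := {u}) ⟨t, ht1, rfl⟩
      rwa [Set.image_singleton] at this
    · have : f (U.ι t) = f (U.ι u) := by simpa only [Scheme.Hom.comp_apply] using ht2
      exact this
  · rintro ⟨⟨hy1, hy2⟩, hy3⟩
    refine ⟨⟨y, hy3⟩, ⟨?_, ?_⟩, rfl⟩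
    · rw [U.ι.isEmbedding.isInducing.closure_eq_preimage_closure_image, Set.image_singleton]
      exact hy1
    · simp only [Scheme.Hom.comp_apply]
      exact hy2

/-- generic points of irreducible subsets of the trace of `Z` on a fibre lie in that trace, when
the trace is locally closed in the fibre. -/
theorem exists_generic_mem (Z : Set X) (s : S)
    (hZs : IsLocallyClosed (Subtype.val ⁻¹' Z : Set ↥(f ⁻¹' {s})))
    (A : Set X) (hA : IsIrreducible A) (hAZ : A ⊆ Z ∩ f ⁻¹' {s}) :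
    ∃ γ : X, IsGenericPoint γ (closure A) ∧ γ ∈ Z ∧ f γ = s := by
  obtain ⟨γ, hγ⟩ := QuasiSober.sober hA.closure isClosed_closure
  obtain ⟨a, ha⟩ := hA.nonempty
  have hγa : γ ⤳ a := hγ.specializes (subset_closure ha)
  have hfa : f a = s := (hAZ ha).2
  have hfγ : f γ = s := by
    have h1 : f γ ⤳ s := hfa ▸ hγa.map f.continuous
    have h2 : s ⤳ f γ := by
      have : closure A ⊆ f ⁻¹' closure {s} :=
        closure_minimal (fun t ht => subset_closure (hAZ ht).2)
          (isClosed_closure.preimage f.continuous)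
      exact specializes_iff_mem_closure.mpr (this hγ.mem)
    exact (h1.antisymm h2).eq
  refine ⟨γ, hγ, ?_, hfγ⟩
  obtain ⟨U, C, hU, hC, hUC⟩ := hZs
  let γs : ↥(f ⁻¹' {s}) := ⟨γ, hfγ⟩
  let as : ↥(f ⁻¹' {s}) := ⟨a, hfa⟩
  have hsp : γs ⤳ as := (subtype_specializes_iff _ _).mpr hγa
  have has : as ∈ U ∩ C := by
    rw [← hUC]; exact (hAZ ha).1
  have hγU : γs ∈ U := hsp.mem_open hU has.1
  have hγC : γs ∈ C := by
    have h1 : closure (Subtype.val ⁻¹' A : Set ↥(f ⁻¹' {s})) ⊆ C := by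
      refine closure_minimal (fun t ht => ?_) hC
      have : t ∈ U ∩ C := by
        rw [← hUC]; exact (hAZ ht).1
      exact this.2
    apply h1
    rw [Groth.Agent.H12.closure_preimage_val]
    have : A ∩ f ⁻¹' {s} = A := Set.inter_eq_left.mpr (fun t ht => (hAZ ht).2)
    rw [this]
    exact hγ.mem
  have : γs ∈ (Subtype.val ⁻¹' Z : Set ↥(f ⁻¹' {s})) := by
    rw [hUC]; exact ⟨hγU, hγC⟩
  exact this

/-- the dimension of the closure of a point of the trace of `Z` on a fibre, inside this trace. -/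
theorem dim_closure_trace [LocallyOfFiniteType f] (Z : Set X) (s : S)
    (hZs : IsLocallyClosed (Subtype.val ⁻¹' Z : Set ↥(f ⁻¹' {s})))
    (y : ↥(Z ∩ f ⁻¹' {s})) :
    topologicalKrullDim ↥(closure ({y} : Set ↥(Z ∩ f ⁻¹' {s}))) = fdim f y.1 := by
  obtain ⟨U, C, hU, hC, hUC⟩ := hZs
  obtain ⟨O, hO, rfl⟩ := isOpen_induced_iff.mp hU
  have hfy : f y.1 = s := y.2.2
  have hmem : ∀ t : X, ∀ ht : f t = s, t ∈ Z ↔
      t ∈ O ∧ (⟨t, ht⟩ : ↥(f ⁻¹' {s})) ∈ C := by
    intro t ht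
    have : (⟨t, ht⟩ : ↥(f ⁻¹' {s})) ∈ (Subtype.val ⁻¹' Z : Set ↥(f ⁻¹' {s})) ↔
        (⟨t, ht⟩ : ↥(f ⁻¹' {s})) ∈ Subtype.val ⁻¹' O ∩ C := by rw [hUC]
    exact this
  have hyOC := (hmem y.1 hfy).mp y.2.1
  rw [← dim_inter_open_eq_fdim f y.1 O hO hyOC.1]
  refine topologicalKrullDim_eq_of_isEmbedding
    (fun t : ↥(closure ({y} : Set ↥(Z ∩ f ⁻¹' {s}))) => (t.1.1 : X))
    (IsEmbedding.subtypeVal.comp IsEmbedding.subtypeVal) _ ?_
  ext t
  simp only [Set.mem_range, Subtype.exists, Set.mem_inter_iff, Set.mem_preimage,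
    Set.mem_singleton_iff, exists_prop]
  constructor
  · rintro ⟨t', ht'Y, ht'cl, rfl⟩
    have hsp : y.1 ⤳ t' := by
      have : y ⤳ (⟨t', ht'Y⟩ : ↥(Z ∩ f ⁻¹' {s})) := specializes_iff_mem_closure.mpr ht'cl
      exact (subtype_specializes_iff _ _).mp this
    refine ⟨⟨hsp.mem_closure, ?_⟩, ?_⟩
    · rw [hfy]; exact ht'Y.2
    · exact ((hmem t' ht'Y.2).mp ht'Y.1).1
  · rintro ⟨⟨ht1, ht2⟩, ht3⟩
    have hts : f t = s := by rw [← hfy]; exact ht2
    have hsp : y.1 ⤳ t := specializes_iff_mem_closure.mpr ht1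
    have htC : (⟨t, hts⟩ : ↥(f ⁻¹' {s})) ∈ C := by
      have hsp' : (⟨y.1, hfy⟩ : ↥(f ⁻¹' {s})) ⤳ ⟨t, hts⟩ := (subtype_specializes_iff _ _).mpr hsp
      exact hsp'.mem_closed hC hyOC.2
    have htZ : t ∈ Z := (hmem t hts).mpr ⟨ht3, htC⟩
    refine ⟨t, ⟨htZ, hts⟩, ?_, rfl⟩
    have : y ⤳ (⟨t, ⟨htZ, hts⟩⟩ : ↥(Z ∩ f ⁻¹' {s})) := (subtype_specializes_iff _ _).mpr hsp
    exact this.mem_closure

/-- **Key identification**: `d` is the dimension of an irreducible component of the trace of `Z`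
on the fibre over `s` iff some point over `s` satisfies `NdPr d f Z`. -/
theorem mem_image_dim_iff [LocallyOfFiniteType f] (Z : Set X) (s : S)
    (hZs : IsLocallyClosed (Subtype.val ⁻¹' Z : Set ↥(f ⁻¹' {s}))) (d : WithBot ℕ∞) :
    d ∈ (fun T : Set ↥(Z ∩ f ⁻¹' {s}) => topologicalKrullDim ↥T) ''
        irreducibleComponents ↥(Z ∩ f ⁻¹' {s}) ↔
      ∃ x, f x = s ∧ NdPr d f Z x := by
  constructor
  · rintro ⟨T, hT, rfl⟩
    have hTi : IsIrreducible T := hT.prop
    have hAi : IsIrreducible (Subtype.val '' T : Set X) :=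
      hTi.image _ continuous_subtype_val.continuousOn
    have hAZ : (Subtype.val '' T : Set X) ⊆ Z ∩ f ⁻¹' {s} := by
      rintro _ ⟨t, -, rfl⟩
      exact t.2
    obtain ⟨γ, hγ, hγZ, hfγ⟩ := exists_generic_mem f Z s hZs _ hAi hAZ
    let yγ : ↥(Z ∩ f ⁻¹' {s}) := ⟨γ, hγZ, hfγ⟩
    have hsub : T ⊆ closure {yγ} := by
      intro t ht
      have h1 : γ ⤳ t.1 := hγ.specializes (subset_closure ⟨t, ht, rfl⟩)
      have : yγ ⤳ t := (subtype_specializes_iff _ _).mpr h1
      exact this.mem_closure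
    have hTeq : T = closure {yγ} :=
      subset_antisymm hsub (hT.le_of_ge isIrreducible_singleton.closure hsub)
    refine ⟨γ, hfγ, γ, hγZ, specializes_rfl, rfl, ?_, ?_⟩
    · intro w hwZ hw hfw
      let yw : ↥(Z ∩ f ⁻¹' {s}) := ⟨w, hwZ, hfw.trans hfγ⟩
      have hyw : yw ⤳ yγ := (subtype_specializes_iff _ _).mpr hw
      have h1 : T ⊆ closure {yw} := by
        rw [hTeq]
        exact closure_minimal (Set.singleton_subset_iff.mpr hyw.mem_closure) isClosed_closure
      have h2 : closure {yw} ⊆ T := hT.le_of_ge isIrreducible_singleton.closure h1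
      have h3 : yw ∈ closure {yγ} := hTeq ▸ h2 (subset_closure rfl)
      have h4 : yγ ⤳ yw := specializes_iff_mem_closure.mpr h3
      exact (subtype_specializes_iff _ _).mp h4
    · have := dim_closure_trace f Z s hZs yγ
      rw [← hTeq] at this
      exact this.symm
  · rintro ⟨x, hfx, ξ, hξZ, hξx, hfξ, hmax, hd⟩
    have hfξs : f ξ = s := hfξ.trans hfx
    let yξ : ↥(Z ∩ f ⁻¹' {s}) := ⟨ξ, hξZ, hfξs⟩
    refine ⟨closure {yξ}, ⟨isIrreducible_singleton.closure, ?_⟩, ?_⟩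
    · intro T' hT'i hT'
      have hAi : IsIrreducible (Subtype.val '' T' : Set X) :=
        hT'i.image _ continuous_subtype_val.continuousOn
      have hAZ : (Subtype.val '' T' : Set X) ⊆ Z ∩ f ⁻¹' {s} := by
        rintro _ ⟨t, -, rfl⟩
        exact t.2
      obtain ⟨γ, hγ, hγZ, hfγ⟩ := exists_generic_mem f Z s hZs _ hAi hAZ
      have hξA : ξ ∈ (Subtype.val '' T' : Set X) := ⟨yξ, hT' (subset_closure rfl), rfl⟩
      have hγξ : γ ⤳ ξ := hγ.specializes (subset_closure hξA)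
      have hξγ : ξ ⤳ γ := hmax γ hγZ hγξ (hfγ.trans hfξs.symm)
      intro t ht
      have h1 : γ ⤳ t.1 := hγ.specializes (subset_closure ⟨t, ht, rfl⟩)
      have h2 : ξ ⤳ t.1 := hξγ.trans h1
      have : yξ ⤳ t := (subtype_specializes_iff _ _).mpr h2
      exact this.mem_closure
    · change topologicalKrullDim ↥(closure ({yξ} : Set ↥(Z ∩ f ⁻¹' {s}))) = d
      rw [dim_closure_trace f Z s hZs yξ]
      exact hd

/-- fibre dimensions are bounded over quasi-compact opens of the base. -/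
theorem exists_fdim_le [LocallyOfFiniteType f] [QuasiCompact f] (V : S.Opens)
    (hV : IsCompact (V : Set S)) :
    ∃ n : ℕ, ∀ ξ : X, f ξ ∈ V → fdim f ξ ≤ n := by
  have hK : IsCompact (f ⁻¹' (V : Set S)) := QuasiCompact.isCompact_preimage _ V.2 hV
  have hcov : f ⁻¹' (V : Set S) ⊆
      ⋃ n : ℕ, {x : X | FlatMor.fibreDimAt f x ≤ (n : WithBot ℕ∞)} := by
    intro x _
    obtain ⟨n, hn⟩ := exists_nat_eq_fibreDimAt f x
    exact Set.mem_iUnion.mpr ⟨n, hn.le⟩
  obtain ⟨n, hn⟩ := hK.elim_directed_cover _ (fun n => isOpen_setOf_fibreDimAt_le f n) hcov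
    (directed_of_isDirected_le (fun a b hab x (hx : FlatMor.fibreDimAt f x ≤ (a : WithBot ℕ∞)) =>
      show FlatMor.fibreDimAt f x ≤ (b : WithBot ℕ∞) from hx.trans (by exact_mod_cast hab)))
  refine ⟨n, fun ξ hξ => ?_⟩
  obtain ⟨ζ, h1, h2, h3⟩ := exists_fibMax_specializes f ξ
  calc fdim f ξ ≤ fdim f ζ := fdim_mono f h1 h2
    _ = FlatMor.fibreDimAt f ζ := (fibreDimAt_of_fibMax f ζ h3).symm
    _ ≤ n := hn (show ζ ∈ f ⁻¹' (V : Set S) by rw [Set.mem_preimage, h2]; exact hξ)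

end Groth.Agent.H99.CompDimsMain
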