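import Mathlib
import Groth.Agent.H49.CMMorBC
import Groth.Agent.H49.CMLocusConstr

/-!
# Properties of the local rings of the fibres of a morphism (helper99; for S3453, S3422)

For a property `P` of (Noetherian local) rings which is invariant under ring isomorphisms and under
extension of the base field (in the form `P (S_q) ↔ P ((S ⊗_k k')_{q'})`), the pointwise property
`FibP P f x := P (O_{X_{f x}, x})` is invariant under base change and under open immersions into
the source.  This abstracts helper49's treatment of the Cohen–Macaulay property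
(`Groth.Agent.H49.CMFieldBC`, `Groth.Agent.H49.CMMorBC`).
-/

set_option autoImplicit false
set_option linter.style.haveILetI false
set_option linter.unusedSectionVars false
universe u

open CategoryTheory CategoryTheory.Limits AlgebraicGeometry TensorProduct IsLocalRing

namespace Groth.Agent.H99.FibLocProp

/-- hypotheses on a property of rings: invariance under isomorphisms and under extension of the
base field at localizations. -/
structure IsLocProp (P : ∀ (R : Type u) [CommRing R], Prop) : Prop where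
  iso : ∀ {R R' : Type u} [CommRing R] [CommRing R'], (R ≃+* R') → P R → P R'
  tensor : ∀ (k S k' : Type u) [Field k] [CommRing S] [Algebra k S] [IsNoetherianRing S]
    [Field k'] [Algebra k k'], (Algebra.FiniteType k S ∨ Algebra.EssFiniteType k k') →
    ∀ [IsNoetherianRing (S ⊗[k] k')] (q' : Ideal (S ⊗[k] k')) [q'.IsPrime],
      (P (Localization.AtPrime (q'.comap (algebraMap S (S ⊗[k] k')))) ↔
        P (Localization.AtPrime q'))

variable {P : ∀ (R : Type u) [CommRing R], Prop}

theorem IsLocProp.iso_iff (hP : IsLocProp P) {R R' : Type u} [CommRing R] [CommRing R']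
    (e : R ≃+* R') : P R ↔ P R' :=
  ⟨hP.iso e, hP.iso e.symm⟩

/-- Pushout form with abstract localizations. -/
theorem iff_of_isPushout (hP : IsLocProp P) (k K S T : Type u) [Field k] [Field K] [Algebra k K]
    [CommRing S] [CommRing T] [Algebra k S] [Algebra S T] [Algebra K T] [Algebra k T]
    [IsScalarTower k S T] [IsScalarTower k K T] [IsNoetherianRing S]
    [hpo : Algebra.IsPushout k S K T]
    (hft : Algebra.FiniteType k S ∨ Algebra.EssFiniteType k K)
    (qT : Ideal T) [qT.IsPrime]
    (A B : Type u) [CommRing A] [CommRing B] [Algebra S A] [Algebra T B]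
    [IsLocalization.AtPrime A (qT.comap (algebraMap S T))] [IsLocalization.AtPrime B qT] :
    P A ↔ P B := by
  haveI := Groth.Agent.H49.CMFieldBC.isNoetherianRing_tensor k S K hft
  let e : S ⊗[k] K ≃ₐ[S] T := Algebra.IsPushout.equiv k S K T
  let q' : Ideal (S ⊗[k] K) := qT.comap (e : S ⊗[k] K →+* T)
  haveI : q'.IsPrime := Ideal.comap_isPrime _ _
  have hq : q'.comap (algebraMap S (S ⊗[k] K)) = qT.comap (algebraMap S T) := by
    ext s
    simp only [q', Ideal.mem_comap]
    have : (e : S ⊗[k] K →+* T) (algebraMap S (S ⊗[k] K) s) = algebraMap S T s := e.commutes s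
    rw [this]
  have h1 := hP.tensor k S K hft q'
  let eB : Localization.AtPrime q' ≃+* Localization.AtPrime qT :=
    Localization.localRingEquiv q' qT e.toRingEquiv rfl
  let eB' : Localization.AtPrime qT ≃+* B :=
    (IsLocalization.algEquiv qT.primeCompl (Localization.AtPrime qT) B).toRingEquiv
  haveI : IsLocalization.AtPrime A (q'.comap (algebraMap S (S ⊗[k] K))) := by
    have : (q'.comap (algebraMap S (S ⊗[k] K))).primeCompl =
        (qT.comap (algebraMap S T)).primeCompl := by
      ext s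
      simp only [Ideal.mem_primeCompl_iff, hq]
    show IsLocalization (q'.comap (algebraMap S (S ⊗[k] K))).primeCompl A
    rw [this]
    infer_instance
  let eA : Localization.AtPrime (q'.comap (algebraMap S (S ⊗[k] K))) ≃+* A :=
    (IsLocalization.algEquiv (q'.comap (algebraMap S (S ⊗[k] K))).primeCompl
      (Localization.AtPrime (q'.comap (algebraMap S (S ⊗[k] K)))) A).toRingEquiv
  constructor
  · intro hA
    have h2 := h1.mp (hP.iso eA.symm hA)
    exact hP.iso (eB.trans eB') h2
  · intro hB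
    have h2 := h1.mpr (hP.iso (eB.trans eB').symm hB)
    exact hP.iso eA h2

/-- **`P` of a stalk is invariant under extension of the base field**, when the scheme is locally
Noetherian and either locally of finite type over `k` or the field extension is finitely
generated. -/
theorem stalk_iff_of_isPullback_field (hP : IsLocProp P) {Z W : Scheme.{u}} (k K : Type u)
    [Field k] [Field K]
    (φ : k →+* K) (z : Z ⟶ Spec (.of k)) (p : W ⟶ Z)
    (q : W ⟶ Spec (.of K)) (hpb : IsPullback p q z (Spec.map (CommRingCat.ofHom φ)))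
    [IsLocallyNoetherian Z] (hft : LocallyOfFiniteType z ∨ φ.EssFiniteType) (w : W) :
    P (Z.presheaf.stalk (p w)) ↔ P (W.presheaf.stalk w) := by
  obtain ⟨U, hU, hwU, -⟩ := exists_isAffineOpen_mem_and_subset (x := p w) (U := ⊤) trivial
  obtain ⟨hV, hpo'⟩ := Groth.Agent.H49.CMFieldBC.isPushout_sections k K φ z p q hpb hU
  have hwV : w ∈ p ⁻¹ᵁ U := hwU
  have hUSX : U ≤ z ⁻¹ᵁ ⊤ := by simp
  let e₁ := Scheme.ΓSpecIso (CommRingCat.of k)
  let e₃ := Scheme.ΓSpecIso (CommRingCat.of K)
  let _ : Algebra k K := φ.toAlgebra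
  let _ : Algebra k Γ(Z, U) := (e₁.inv ≫ z.appLE ⊤ U hUSX).hom.toAlgebra
  let _ : Algebra Γ(Z, U) Γ(W, p ⁻¹ᵁ U) := (p.appLE U (p ⁻¹ᵁ U) le_rfl).hom.toAlgebra
  let _ : Algebra K Γ(W, p ⁻¹ᵁ U) := (e₃.inv ≫ q.appLE ⊤ (p ⁻¹ᵁ U) (by simp)).hom.toAlgebra
  let _ : Algebra k Γ(W, p ⁻¹ᵁ U) :=
    ((e₁.inv ≫ z.appLE ⊤ U hUSX) ≫ (p.appLE U (p ⁻¹ᵁ U) le_rfl)).hom.toAlgebra
  have t1 : IsScalarTower k Γ(Z, U) Γ(W, p ⁻¹ᵁ U) :=
    IsScalarTower.of_algebraMap_eq fun r => rfl
  have t2 : IsScalarTower k K Γ(W, p ⁻¹ᵁ U) :=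
    IsScalarTower.of_algebraMap_eq fun r => congr($(hpo'.w).hom r)
  have hpo'' : Algebra.IsPushout k Γ(Z, U) K Γ(W, p ⁻¹ᵁ U) :=
    CommRingCat.isPushout_iff_isPushout.mp hpo'
  have hft' : Algebra.FiniteType k Γ(Z, U) ∨ Algebra.EssFiniteType k K := by
    rcases hft with h | h
    · left
      have hft : RingHom.FiniteType (z.appLE ⊤ U hUSX).hom :=
        HasRingHomProperty.appLE @LocallyOfFiniteType z h ⟨⊤, isAffineOpen_top _⟩
          ⟨U, hU⟩ hUSX
      have : RingHom.FiniteType (e₁.inv ≫ z.appLE ⊤ U hUSX).hom := by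
        rw [CommRingCat.hom_comp]
        refine hft.comp ?_
        exact RingHom.FiniteType.of_surjective _
          (ConcreteCategory.bijective_of_isIso e₁.inv).2
      exact this
    · right
      exact h
  haveI : IsNoetherianRing Γ(Z, U) := IsLocallyNoetherian.component_noetherian ⟨U, hU⟩
  letI := W.presheaf.algebra_section_stalk ⟨w, hwV⟩
  haveI hlocW := hV.isLocalization_stalk ⟨w, hwV⟩
  letI := Z.presheaf.algebra_section_stalk ⟨p w, hwU⟩
  haveI hlocZ := hU.isLocalization_stalk ⟨p w, hwU⟩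
  have hcomap : (hV.primeIdealOf ⟨w, hwV⟩).asIdeal.comap
      (algebraMap Γ(Z, U) Γ(W, p ⁻¹ᵁ U)) = (hU.primeIdealOf ⟨p w, hwU⟩).asIdeal :=
    congr($(IsAffineOpen.comap_primeIdealOf_appLE U hU (p ⁻¹ᵁ U) hV le_rfl hwV).1)
  haveI : IsLocalization.AtPrime (Z.presheaf.stalk (p w))
      ((hV.primeIdealOf ⟨w, hwV⟩).asIdeal.comap (algebraMap Γ(Z, U) Γ(W, p ⁻¹ᵁ U))) := by
    have : ((hV.primeIdealOf ⟨w, hwV⟩).asIdeal.comap
        (algebraMap Γ(Z, U) Γ(W, p ⁻¹ᵁ U))).primeCompl =
        (hU.primeIdealOf ⟨p w, hwU⟩).asIdeal.primeCompl := by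
      ext s
      simp only [Ideal.mem_primeCompl_iff, hcomap]
    show IsLocalization ((hV.primeIdealOf ⟨w, hwV⟩).asIdeal.comap
        (algebraMap Γ(Z, U) Γ(W, p ⁻¹ᵁ U))).primeCompl _
    rw [this]
    exact hlocZ
  exact iff_of_isPushout hP k K Γ(Z, U) Γ(W, p ⁻¹ᵁ U) hft' (hV.primeIdealOf ⟨w, hwV⟩).asIdeal
    (Z.presheaf.stalk (p w)) (W.presheaf.stalk w)

/-- the pointwise property `P (O_{X_{f x}, x})`. -/
def FibP (P : ∀ (R : Type u) [CommRing R], Prop) : ∀ ⦃X S : Scheme.{u}⦄, (X ⟶ S) → X → Prop :=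
  fun _ _ f x => P ((f.fiber (f x)).presheaf.stalk (f.asFiber x))

variable {X Y X' Y' : Scheme.{u}}

open Groth.Agent.H49.FibreStalk Groth.Agent.H49.CMMor

theorem fibP_iff_quotient (hP : IsLocProp P) (f : X ⟶ Y) (x : X) :
    FibP P f x ↔ P (X.presheaf.stalk x ⧸ fibreIdeal f x) :=
  (hP.iso_iff (quotientEquivStalkAsFiber f x)).symm

theorem fiber_stalk_iff_asFiber (f : X ⟶ Y) (x : X) (y : Y) (hy : f x = y) (z0 : f.fiber y)
    (hz : f.fiberι y z0 = x) :
    P ((f.fiber y).presheaf.stalk z0) ↔ P ((f.fiber (f x)).presheaf.stalk (f.asFiber x)) := by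
  subst hy
  have : z0 = f.asFiber x := by
    apply (f.fiberι (f x)).isEmbedding.injective
    rw [hz, Scheme.Hom.fiberι_asFiber]
  rw [this]

/-- **`P` of the fibre stalk is invariant under base change.** -/
theorem fibP_baseChange (hP : IsLocProp P) (f : X ⟶ Y) (f' : X' ⟶ Y') (g' : X' ⟶ X) (g : Y' ⟶ Y)
    (hc : IsPullback g' f' f g) [LocallyOfFiniteType f] (x' : X') :
    FibP P f' x' ↔ FibP P f (g' x') := by
  haveI := Groth.Agent.H49.CMChart.isLocallyNoetherian_fiber f (g (f' x'))
  have hsq := isPullback_fiberToSpecResidueField_of_isPullback hc (f' x')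
  have hft' : LocallyOfFiniteType (f.fiberToSpecResidueField (g (f' x'))) ∨
      (g.residueFieldMap (f' x')).hom.EssFiniteType := by
    left
    exact inferInstanceAs
      (LocallyOfFiniteType (pullback.snd f (Y.fromSpecResidueField (g (f' x')))))
  have hL := stalk_iff_of_isPullback_field hP
    (Y.residueField (g (f' x'))) (Y'.residueField (f' x')) (g.residueFieldMap (f' x')).hom
    (f.fiberToSpecResidueField (g (f' x'))) _ (f'.fiberToSpecResidueField (f' x')) hsq hft'
    (f'.asFiber x')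
  refine Iff.symm (Iff.trans (Iff.symm ?_) hL)
  have hfx : f (g' x') = g (f' x') := by
    rw [← Scheme.Hom.comp_apply, ← Scheme.Hom.comp_apply, hc.w]
  refine fiber_stalk_iff_asFiber f (g' x') (g (f' x')) hfx _ ?_
  have hmap : pullback.map _ _ _ _ g' (Spec.map (g.residueFieldMap (f' x'))) g hc.w.symm
      (by simp) ≫ f.fiberι (g (f' x')) = f'.fiberι (f' x') ≫ g' :=
    pullback.lift_fst _ _ _
  have h6 := congrArg (fun h : (f'.fiber (f' x')) ⟶ X => h (f'.asFiber x')) hmap
  simp only [Scheme.Hom.comp_apply, Scheme.Hom.fiberι_asFiber] at h6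
  exact h6

/-- **`P` of the fibre stalk is invariant under open immersions into the source.** -/
theorem fibP_openImm (hP : IsLocProp P) {U X S : Scheme.{u}} (j : U ⟶ X) [IsOpenImmersion j]
    (f : X ⟶ S) (u : U) : FibP P (j ≫ f) u ↔ FibP P f (j u) := by
  rw [fibP_iff_quotient hP, fibP_iff_quotient hP]
  haveI hiso : IsIso (j.stalkMap u) := inferInstance
  let e : X.presheaf.stalk (j u) ≃+* U.presheaf.stalk u :=
    (asIso (j.stalkMap u)).commRingCatIsoToRingEquiv
  have hI : fibreIdeal (j ≫ f) u = (fibreIdeal f (j u)).map (e : _ →+* _) :=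
    fibreIdeal_comp j f u
  let e' := Ideal.quotientEquiv (fibreIdeal f (j u)) (fibreIdeal (j ≫ f) u) e hI
  exact ⟨hP.iso e'.symm, hP.iso e'⟩

end Groth.Agent.H99.FibLocProp
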