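import Mathlib
import Groth.Agent.H99.FibLocProp
import Groth.Agent.H26.SkFieldExt
import Groth.Agent.H72.FlatCM
import Groth.Agent.H49.FibreDepth
import Groth.Agent.H29.CodepthLocusQuot
import Groth.Agent.H14.SkDescent

/-!
# The property `codepth ≤ n` of Noetherian local rings (helper99; for S3453, S3422)
-/

set_option autoImplicit false
set_option linter.style.haveILetI false
set_option linter.unusedSectionVars false
universe u

open TensorProduct IsLocalRing

namespace Groth.Agent.H99.CodepthProp

open Groth.Agent.H99.FibLocProp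

/-- `dim R ≤ depth R + n` (for Noetherian local `R`). -/
def CodepthLE (n : ℕ) (R : Type u) [CommRing R] : Prop :=
  ∀ [IsLocalRing R] [IsNoetherianRing R],
    ringKrullDim R ≤ ((LocCoh.depth R R : ℕ∞) : WithBot ℕ∞) + (n : WithBot ℕ∞)

/-- dimension and depth of a Noetherian local ring are natural numbers `e ≤ d`. -/
theorem exists_dim_depth (X : Type u) [CommRing X] [IsLocalRing X] [IsNoetherianRing X] :
    ∃ d e : ℕ, ringKrullDim X = (d : WithBot ℕ∞) ∧ LocCoh.depth X X = (e : ℕ∞) ∧ e ≤ d := by
  obtain ⟨d, hd⟩ := Groth.Agent.H72.FlatCM.exists_ringKrullDim_eq_natCast X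
  have h1 := Groth.Agent.H72.FlatCM.depth_le_ringKrullDim X
  rw [hd] at h1
  have h2 : LocCoh.depth X X ≤ (d : ℕ∞) := by exact_mod_cast h1
  obtain ⟨e, he⟩ := ENat.ne_top_iff_exists.mp (ne_top_of_le_ne_top (ENat.natCast_ne_top d) h2)
  rw [← he] at h2
  have h3 : e ≤ d := by exact_mod_cast h2
  exact ⟨d, e, hd, he.symm, h3⟩

theorem codepthLE_iff_of_eq (n : ℕ) (X : Type u) [CommRing X] [IsLocalRing X]
    [IsNoetherianRing X] (d e : ℕ) (hd : ringKrullDim X = (d : WithBot ℕ∞))
    (he : LocCoh.depth X X = (e : ℕ∞)) : CodepthLE n X ↔ d ≤ e + n := by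
  constructor
  · intro h
    have h1 := h
    rw [hd, he] at h1
    exact_mod_cast h1
  · intro h _ _
    rw [hd, he]
    exact_mod_cast h

theorem codepthLE_iso (n : ℕ) {R R' : Type u} [CommRing R] [CommRing R'] (e : R ≃+* R')
    (h : CodepthLE n R) : CodepthLE n R' := by
  intro _ _
  haveI : IsLocalRing R := e.symm.isLocalRing
  haveI : IsNoetherianRing R := isNoetherianRing_of_ringEquiv R' e.symm
  have h1 := h
  rw [ringKrullDim_eq_of_ringEquiv e,
    Groth.Agent.H49.FibreDepth.depth_eq_of_ringEquiv e] at h1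
  exact h1

theorem isLocProp_codepthLE (n : ℕ) : IsLocProp (CodepthLE.{u} n) where
  iso := fun e h => codepthLE_iso n e h
  tensor := by
    intro k S k' _ _ _ _ _ _ hft _ q' _
    have key := Groth.Agent.H26.SkFieldExt.codepth_eq k S k' hft q'
    obtain ⟨a, α, ha, hα, -⟩ := exists_dim_depth
      (Localization.AtPrime (q'.comap (algebraMap S (S ⊗[k] k'))))
    obtain ⟨b, β, hb, hβ, -⟩ := exists_dim_depth (Localization.AtPrime q')
    rw [codepthLE_iff_of_eq n _ a α ha hα, codepthLE_iff_of_eq n _ b β hb hβ]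
    rw [ha, hb, hα, hβ] at key
    have key' : a + β = b + α := by exact_mod_cast key
    omega

/-- **flat local homomorphism with Cohen–Macaulay source**: the codepth of the target is the codepth
of the closed fibre. -/
theorem codepthLE_iff_of_flat (n : ℕ) {A B : Type u} [CommRing A] [CommRing B] [Algebra A B]
    [IsNoetherianRing A] [IsLocalRing A] [IsNoetherianRing B] [IsLocalRing B]
    [IsLocalHom (algebraMap A B)] [Module.Flat A B] (hA : CodepthLE 0 A) :
    CodepthLE n B ↔ CodepthLE n (B ⧸ (maximalIdeal A).map (algebraMap A B)) := by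
  have h1 := Groth.Agent.H72.FlatCM.ringKrullDim_eq_add_of_flat (A := A) (B := B)
  have h2 := Groth.Agent.H72.FlatCM.depth_eq_add_of_flat (A := A) (B := B)
  obtain ⟨a, α, ha, hα, hαa⟩ := exists_dim_depth A
  obtain ⟨b, β, hb, hβ, -⟩ := exists_dim_depth B
  obtain ⟨c, γ, hc, hγ, -⟩ := exists_dim_depth (B ⧸ (maximalIdeal A).map (algebraMap A B))
  have hA' := (codepthLE_iff_of_eq 0 A a α ha hα).mp hA
  rw [codepthLE_iff_of_eq n _ b β hb hβ, codepthLE_iff_of_eq n _ c γ hc hγ]
  rw [ha, hb, hc] at h1
  rw [hα, hβ, hγ] at h2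
  have h1' : b = a + c := by exact_mod_cast h1
  have h2' : β = α + γ := by exact_mod_cast h2
  omega

/-- the codepth `= n` condition in terms of `CodepthLE`. -/
theorem codepth_eq_iff (n : ℕ) (X : Type u) [CommRing X] [IsLocalRing X] [IsNoetherianRing X] :
    ringKrullDim X = ((LocCoh.depth X X : ℕ∞) : WithBot ℕ∞) + (n : WithBot ℕ∞) ↔
      CodepthLE n X ∧ (n = 0 ∨ ¬ CodepthLE (n - 1) X) := by
  obtain ⟨d, e, hd, he, hed⟩ := exists_dim_depth X
  rw [codepthLE_iff_of_eq n X d e hd he, codepthLE_iff_of_eq (n - 1) X d e hd he, hd, he]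
  have : ((d : ℕ) : WithBot ℕ∞) = (((e : ℕ) : ℕ∞) : WithBot ℕ∞) + ((n : ℕ) : WithBot ℕ∞) ↔
      d = e + n := by
    exact_mod_cast Iff.rfl
  rw [this]
  omega

/-- the codepth `≤ n` locus of a quotient of a regular ring is open. -/
theorem isOpen_codepthLE (R B : Type u) [CommRing R] [CommRing B] [IsRegularRing R] [Algebra R B]
    (hs : Function.Surjective (algebraMap R B)) (n : ℕ) :
    IsOpen {p : PrimeSpectrum B | CodepthLE n (Localization.AtPrime p.asIdeal)} := by
  haveI : IsNoetherianRing B := isNoetherianRing_of_surjective R B (algebraMap R B) hs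
  convert Groth.Agent.H29.CodepthLocusQuot.isOpen_codepth_le R B B hs n using 1
  ext p
  simp only [Set.mem_ofPred_eq]
  have hdim : Module.supportDim (Localization.AtPrime p.asIdeal)
      (LocalizedModule p.asIdeal.primeCompl B) = ringKrullDim (Localization.AtPrime p.asIdeal) := by
    rw [Module.supportDim_eq_of_equiv (Groth.Agent.H14.localizedModuleSelfEquiv p.asIdeal),
      Module.supportDim_self_eq_ringKrullDim]
  have hdepth : LocCoh.depth (Localization.AtPrime p.asIdeal)
      (LocalizedModule p.asIdeal.primeCompl B) =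
      LocCoh.depth (Localization.AtPrime p.asIdeal) (Localization.AtPrime p.asIdeal) :=
    Groth.Agent.H14.depth_localizedModule_self p.asIdeal
  rw [hdim, hdepth]
  constructor
  · intro h
    exact h
  · intro h _ _
    exact h

end Groth.Agent.H99.CodepthProp
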