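import Mathlib
import Groth.Agent.H99.CodepthProp
import Groth.Agent.H99.FibrePropGenR
import Groth.Agent.H46.GenFree.Scheme
import Groth.Agent.H25.StalkBC

/-!
# The codepth loci of the fibres of a morphism locally of finite presentation are locally
constructible (helper99; for S3453)
-/

set_option autoImplicit false
set_option backward.isDefEq.respectTransparency.types false
set_option linter.style.haveILetI false
set_option linter.unusedSectionVars false
universe u

open AlgebraicGeometry CategoryTheory CategoryTheory.Limits TopologicalSpace Topology IsLocalRing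

namespace Groth.Agent.H99.CodepthFib

open Groth.Agent.H99.FibLocProp Groth.Agent.H99.CodepthProp Groth.Agent.H99.FibrePropGenR
  Groth.Agent.H49.FibreStalk

/-- the codepth `≤ n` locus of a scheme locally of finite type over a quotient of a regular ring
is open. -/
theorem isOpen_codepthLE_stalk (n : ℕ) (A : CommRingCat.{u}) (hQ : QReg A) {X : Scheme.{u}}
    (f : X ⟶ Spec A) [LocallyOfFiniteType f] :
    IsOpen {x : X | CodepthLE n (X.presheaf.stalk x)} := by
  rw [isOpen_iff_forall_mem_open]
  intro x hx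
  obtain ⟨_, ⟨V, hV, rfl⟩, hxV, -⟩ :=
    X.isBasis_affineOpens.exists_subset_of_mem_open (Set.mem_univ x) isOpen_univ
  have hU : IsAffineOpen (⊤ : (Spec A).Opens) := isAffineOpen_top _
  have hVU : V ≤ f ⁻¹ᵁ ⊤ := le_top
  have hft := f.finiteType_appLE hU hV hVU
  let φ : A →+* Γ(X, V) := (f.appLE ⊤ V hVU).hom.comp (Scheme.ΓSpecIso A).inv.hom
  have hφ : φ.FiniteType := by
    refine hft.comp ?_
    exact RingHom.FiniteType.of_surjective _
      (ConcreteCategory.bijective_of_isIso (Scheme.ΓSpecIso A).inv).2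
  have hQB : QReg Γ(X, V) := by
    algebraize [φ]
    exact hQ.of_finiteType
  obtain ⟨R, _, _, ψ, hψ⟩ := hQB
  letI : Algebra R Γ(X, V) := ψ.toAlgebra
  have hopen := isOpen_codepthLE R Γ(X, V) hψ n
  have key : ∀ z : V, CodepthLE n (X.presheaf.stalk z.1) ↔
      CodepthLE n (Localization.AtPrime (hV.primeIdealOf z).asIdeal) := by
    intro z
    letI := X.presheaf.algebra_section_stalk z
    haveI := hV.isLocalization_stalk z
    let e2 : X.presheaf.stalk z.1 ≃+* Localization.AtPrime (hV.primeIdealOf z).asIdeal :=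
      (IsLocalization.algEquiv (hV.primeIdealOf z).asIdeal.primeCompl (X.presheaf.stalk z.1)
        (Localization.AtPrime (hV.primeIdealOf z).asIdeal)).toRingEquiv
    exact (isLocProp_codepthLE n).iso_iff e2
  have hcont : Continuous (fun z : V => hV.primeIdealOf z) := hV.isoSpec.hom.continuous
  refine ⟨Subtype.val '' ((fun z : V => hV.primeIdealOf z) ⁻¹'
    {p | CodepthLE n (Localization.AtPrime p.asIdeal)}), ?_, ?_, ?_⟩
  · rintro _ ⟨z, hz, rfl⟩
    exact (key z).mpr hz
  · exact V.isOpen.isOpenEmbedding_subtypeVal.isOpenMap _ (hopen.preimage hcont)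
  · exact ⟨⟨x, hxV⟩, (key ⟨x, hxV⟩).mp hx, rfl⟩

/-- for a morphism flat at `x` with Cohen–Macaulay local ring of the base at `f x`, the codepth of
`O_{X,x}` is the codepth of the local ring of the fibre at `x`. -/
theorem codepthLE_stalk_iff_fibP (n : ℕ) {X S : Scheme.{u}} [IsLocallyNoetherian X]
    [IsLocallyNoetherian S] (f : X ⟶ S) (x : X) (hfl : (f.stalkMap x).hom.Flat)
    (hCM : CodepthLE 0 (S.presheaf.stalk (f x))) :
    CodepthLE n (X.presheaf.stalk x) ↔ FibP (CodepthLE n) f x := by
  rw [fibP_iff_quotient (isLocProp_codepthLE n)]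
  algebraize [(f.stalkMap x).hom]
  haveI : IsLocalHom (algebraMap (S.presheaf.stalk (f x)) (X.presheaf.stalk x)) :=
    inferInstanceAs (IsLocalHom (f.stalkMap x).hom)
  exact codepthLE_iff_of_flat n hCM

/-- flatness of a stalk map can be checked after an open immersion into the source. -/
theorem flat_stalkMap_of_flat_comp {W X S : Scheme.{u}} (j : W ⟶ X) [IsOpenImmersion j]
    (f : X ⟶ S) [Flat (j ≫ f)] (w : W) : (f.stalkMap (j w)).hom.Flat := by
  have h := Flat.stalkMap (j ≫ f) w
  rw [Scheme.Hom.stalkMap_comp] at h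
  have h' : ((j.stalkMap w).hom.comp (f.stalkMap (j w)).hom).Flat := h
  haveI hiso : IsIso (j.stalkMap w) := inferInstance
  let e : X.presheaf.stalk (j w) ≃+* W.presheaf.stalk w :=
    (asIso (j.stalkMap w)).commRingCatIsoToRingEquiv
  have heq : (f.stalkMap (j w)).hom =
      (e.symm : W.presheaf.stalk w →+* X.presheaf.stalk (j w)).comp
        ((j.stalkMap w).hom.comp (f.stalkMap (j w)).hom) := by
    ext a
    have : e.symm (e ((f.stalkMap (j w)).hom a)) = (f.stalkMap (j w)).hom a :=
      e.symm_apply_apply _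
    exact this.symm
  rw [heq]
  exact RingHom.Flat.comp h' (RingHom.Flat.of_bijective e.symm.bijective)

/-- the stalk maps of `f` are flat over an open over which `f` is flat. -/
theorem flat_stalkMap_of_flat_restrict {X S : Scheme.{u}} (f : X ⟶ S) (U : S.Opens)
    [Flat (f ∣_ U)] (x : X) (hx : f x ∈ U) : (f.stalkMap x).hom.Flat := by
  haveI : Flat ((f ⁻¹ᵁ U).ι ≫ f) := by
    rw [← morphismRestrict_ι]
    infer_instance
  have hx' : x ∈ f ⁻¹ᵁ U := hx
  exact flat_stalkMap_of_flat_comp (f ⁻¹ᵁ U).ι f ⟨x, hx'⟩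

/-- **generic step**: over a nonempty open of the spectrum of a domain which is a quotient of a
regular ring, the fibrewise codepth `≤ n` locus is open. -/
theorem generic_codepthLE (n : ℕ) (A : CommRingCat.{u}) (hdom : IsDomain A) (hQ : QReg A)
    {X : Scheme.{u}} (f : X ⟶ Spec A) (hft : LocallyOfFiniteType f) (hqc : QuasiCompact f) :
    ∃ U : (Spec A).Opens, (U : Set ↥(Spec A)).Nonempty ∧
      IsConstructible ({x : X | FibP (CodepthLE n) f x} ∩ f ⁻¹' (U : Set ↥(Spec A))) := by
  haveI : IsNoetherianRing A := hQ.isNoetherianRing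
  haveI : IsLocallyNoetherian X := LocallyOfFiniteType.isLocallyNoetherian f
  haveI : CompactSpace X := QuasiCompact.compactSpace_of_compactSpace f
  haveI : IsNoetherian X := {}
  haveI : NoetherianSpace X := inferInstance
  obtain ⟨U₁, hU₁d, hfl, -⟩ := Groth.Agent.H46.GenFree.generic_flatness f
  have hQ' := hQ
  obtain ⟨R, _, _, ψ, hψ⟩ := hQ'
  letI : Algebra R A := ψ.toAlgebra
  have hopen2 := isOpen_codepthLE R A hψ 0
  let U₂ : (Spec A).Opens := ⟨{p | CodepthLE 0 (Localization.AtPrime p.asIdeal)}, hopen2⟩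
  have hne2 : (U₂ : Set (Spec A)).Nonempty := by
    refine ⟨⟨⊥, Ideal.isPrime_bot⟩, ?_⟩
    show CodepthLE 0 (Localization.AtPrime (⊥ : Ideal A))
    intro _ _
    rw [IsLocalization.AtPrime.ringKrullDim_eq_height (⊥ : Ideal A), Ideal.height_bot]
    simp
  obtain ⟨s, hs1, hs2⟩ := hU₁d.inter_open_nonempty _ U₂.2 hne2
  refine ⟨U₁ ⊓ U₂, ⟨s, hs2, hs1⟩, ?_⟩
  have hset : {x : X | FibP (CodepthLE n) f x} ∩ f ⁻¹' ((U₁ ⊓ U₂ : (Spec A).Opens) : Set (Spec A))
      = {x : X | CodepthLE n (X.presheaf.stalk x)} ∩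
        f ⁻¹' ((U₁ ⊓ U₂ : (Spec A).Opens) : Set (Spec A)) := by
    ext x
    have hiff : f x ∈ U₁ ⊓ U₂ → (CodepthLE n (X.presheaf.stalk x) ↔ FibP (CodepthLE n) f x) := by
      rintro ⟨h1, h2⟩
      refine codepthLE_stalk_iff_fibP n f x (flat_stalkMap_of_flat_restrict f U₁ x h1) ?_
      exact codepthLE_iso 0 (Groth.Agent.H25.StalkBC.specStalkEquiv A (f x)).symm h2
    constructor
    · rintro ⟨h1, h2⟩
      exact ⟨(hiff h2).mpr h1, h2⟩
    · rintro ⟨h1, h2⟩
      exact ⟨(hiff h2).mp h1, h2⟩
  rw [hset]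
  exact Groth.Agent.H12.isConstructible_of_isOpen
    ((isOpen_codepthLE_stalk n A hQ f).inter ((U₁ ⊓ U₂).2.preimage f.continuous))

theorem isGoodGenR_fibCodepthLE (n : ℕ) : IsGoodGenR (FibP (CodepthLE.{u} n)) where
  baseChange := by
    intro X S X' S' f f' g' g hc hft x'
    haveI := hft
    exact fibP_baseChange (isLocProp_codepthLE n) f f' g' g hc x'
  openImm := by
    intro U X S j f hj _ u
    exact fibP_openImm (isLocProp_codepthLE n) j f u
  generic := by
    intro A hdom hQ X f hft hqc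
    exact generic_codepthLE n A hdom hQ f hft hqc

/-- EGA IV 9.9.2: the fibrewise codepth `≤ n` locus is locally constructible. -/
theorem isLocallyConstructible_fibCodepthLE (n : ℕ) {X S : Scheme.{u}} (f : X ⟶ S)
    [LocallyOfFinitePresentation f] :
    IsLocallyConstructible {x : X | FibP (CodepthLE n) f x} :=
  Groth.Agent.H99.FibrePropGenR.isLocallyConstructible (isGoodGenR_fibCodepthLE n) f

end Groth.Agent.H99.CodepthFib
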