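import Mathlib
import Groth.Agent.H99.RkGen
import Groth.Agent.H99.FieldDim
import Groth.Agent.H15.StalkLoc
import Groth.Agent.H25.GeomRegSmooth
import Groth.Agent.H47.SmoothLocusField

/-!
# The geometric `(R_k)` condition over a field (helper99; for S3454)

For `p : Y ⟶ Spec K` locally of finite type over a field: `PrRk k p y` implies Serre's condition
`(R_k)` for the local ring `O_{Y,y}`, and conversely when `K` is perfect.
-/

set_option autoImplicit false
set_option backward.isDefEq.respectTransparency.types false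
set_option linter.style.haveILetI false
set_option linter.unusedSectionVars false
universe u

open AlgebraicGeometry CategoryTheory CategoryTheory.Limits TopologicalSpace Topology

namespace Groth.Agent.H99.RkField

open Groth.Agent.H99.RkTop Groth.Agent.H99.RkGen Groth.Agent.H49.SmoothFibreConstr
  Groth.Agent.H15.StalkLoc Groth.Agent.H48.DimFunSch Groth.Agent.H99.FieldDim

section Stalk

variable {X : Scheme.{u}} [IsLocallyNoetherian X] [JacobsonSpace X] (δ : X → ℤ)
  (hδ : Cyc.IsDimFun X δ)

include hδ in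
/-- the dimension of a local ring is attained by some generization. -/
theorem exists_gen_ringKrullDim_le (x : X) :
    ∃ w : X, w ⤳ x ∧
      ringKrullDim (X.presheaf.stalk x) ≤ (((δ w - δ x).toNat : ℕ∞) : WithBot ℕ∞) := by
  obtain ⟨U, hU, hxU, -⟩ := exists_isAffineOpen_mem_and_subset (x := x) (U := ⊤) trivial
  haveI : IsNoetherianRing Γ(X, U) := IsLocallyNoetherian.component_noetherian ⟨U, hU⟩
  set b : PrimeSpectrum Γ(X, U) := hU.primeIdealOf ⟨x, hxU⟩ with hb
  have hfb : hU.fromSpec b = x := hU.fromSpec_primeIdealOf ⟨x, hxU⟩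
  have hdim : ringKrullDim (X.presheaf.stalk x) = ((b.asIdeal.height : ℕ∞) : WithBot ℕ∞) := by
    letI := X.presheaf.algebra_section_stalk ⟨x, hxU⟩
    haveI := hU.isLocalization_stalk ⟨x, hxU⟩
    exact IsLocalization.AtPrime.ringKrullDim_eq_height b.asIdeal _
  obtain ⟨q₀, hq₀min, hq₀le, hht⟩ :=
    Groth.Agent.H48.DimIneq.exists_minimalPrimes_height_le b.asIdeal
  let a : PrimeSpectrum Γ(X, U) := ⟨q₀, hq₀min.1.1⟩
  have hab : a ≤ b := hq₀le
  have hsp : hU.fromSpec a ⤳ x := by
    rw [← hfb, fromSpec_specializes_iff]; exact hab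
  have h1 := height_map_mk_eq hU δ hδ a b hab
  rw [hfb] at h1
  refine ⟨hU.fromSpec a, hsp, ?_⟩
  rw [hdim, ← h1]
  exact WithBot.coe_le_coe.mpr hht

include hδ in
/-- every generization bounds the dimension of the local ring from below. -/
theorem le_ringKrullDim_of_specializes (x w : X) (h : w ⤳ x) :
    (((δ w - δ x).toNat : ℕ∞) : WithBot ℕ∞) ≤ ringKrullDim (X.presheaf.stalk x) := by
  rw [← Groth.Agent.H48.CycDim6.ringKrullDim_locQuot X δ hδ w x h]
  exact ringKrullDim_quotient_le _

end Stalk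

section Prime

variable {X : Scheme.{u}}

/-- every prime of the local ring at `y` is the prime of a generization of `y`. -/
theorem exists_genPrime_eq (y : X) (P : Ideal (X.presheaf.stalk y)) [hP : P.IsPrime] :
    ∃ (ξ : X) (h : ξ ⤳ y), genPrime h = P := by
  obtain ⟨U, hU, hyU, -⟩ := exists_isAffineOpen_mem_and_subset (x := y) (U := ⊤) trivial
  letI := X.presheaf.algebra_section_stalk ⟨y, hyU⟩
  haveI hloc := hU.isLocalization_stalk ⟨y, hyU⟩
  set b : PrimeSpectrum Γ(X, U) := hU.primeIdealOf ⟨y, hyU⟩ with hb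
  have hfb : hU.fromSpec b = y := hU.fromSpec_primeIdealOf ⟨y, hyU⟩
  let a : PrimeSpectrum Γ(X, U) := ⟨P.comap (algebraMap Γ(X, U) (X.presheaf.stalk y)), inferInstance⟩
  have hab : a ≤ b := by
    have h1 : P ≤ IsLocalRing.maximalIdeal (X.presheaf.stalk y) :=
      IsLocalRing.le_maximalIdeal hP.ne_top
    have h2 := IsLocalization.AtPrime.under_maximalIdeal (X.presheaf.stalk y) b.asIdeal
    change a.asIdeal ≤ b.asIdeal
    rw [← h2]
    exact Ideal.comap_mono h1
  have hsp : hU.fromSpec a ⤳ y := by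
    rw [← hfb, fromSpec_specializes_iff]; exact hab
  refine ⟨hU.fromSpec a, hsp, ?_⟩
  have hξU : hU.fromSpec a ∈ U := fromSpec_mem hU a
  -- compare the contractions to `Γ(X, U)`
  have hcomap : (genPrime hsp).comap (algebraMap Γ(X, U) (X.presheaf.stalk y)) =
      P.comap (algebraMap Γ(X, U) (X.presheaf.stalk y)) := by
    letI := X.presheaf.algebra_section_stalk ⟨hU.fromSpec a, hξU⟩
    haveI hloc' := hU.isLocalization_stalk ⟨hU.fromSpec a, hξU⟩
    have h3 := IsLocalization.AtPrime.under_maximalIdeal (X.presheaf.stalk (hU.fromSpec a))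
      (hU.primeIdealOf ⟨hU.fromSpec a, hξU⟩).asIdeal
    have h4 : hU.primeIdealOf ⟨hU.fromSpec a, hξU⟩ = a := by
      apply fromSpec_injective hU
      exact hU.fromSpec_primeIdealOf ⟨hU.fromSpec a, hξU⟩
    have h3' := h3.trans (congrArg PrimeSpectrum.asIdeal h4)
    change _ = a.asIdeal
    rw [← h3']
    unfold genPrime
    change Ideal.comap _ (Ideal.comap _ _) = Ideal.comap _ _
    rw [Ideal.comap_comap]
    congr 1
    ext r
    change (X.presheaf.stalkSpecializes hsp).hom ((X.presheaf.germ U y hyU).hom r) =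
      (X.presheaf.germ U (hU.fromSpec a) hξU).hom r
    rw [← CommRingCat.comp_apply, X.presheaf.germ_stalkSpecializes]
  have e1 := IsLocalization.map_under b.asIdeal.primeCompl (X.presheaf.stalk y) (genPrime hsp)
  have e2 := IsLocalization.map_under b.asIdeal.primeCompl (X.presheaf.stalk y) P
  rw [← e1, ← e2]
  exact congrArg (Ideal.map (algebraMap Γ(X, U) (X.presheaf.stalk y))) hcomap

end Prime

section Field

variable {K : Type u} [Field K] {Y : Scheme.{u}} (p : Y ⟶ Spec (CommRingCat.of K))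
  [LocallyOfFiniteType p]

theorem fdim_eq (ξ : Y) : fdim p ξ = (((delta p ξ).toNat : ℕ∞) : WithBot ℕ∞) := by
  have h : closure ({ξ} : Set Y) ∩ p ⁻¹' {p ξ} = closure {ξ} := by
    rw [Set.inter_eq_left]
    intro t _
    exact Subsingleton.elim _ _
  unfold fdim
  rw [Groth.Agent.H17.Chev.topologicalKrullDim_subtype_congr h]
  exact topologicalKrullDim_closure p ξ

/-- `PrRk` implies `(R_k)` for the local ring. -/
theorem hasRk_of_prRk (k : ℕ) (y : Y) (hP : PrRk k p y) :
    LocCoh.HasRk k (Y.presheaf.stalk y) := by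
  haveI : IsLocallyNoetherian Y := isLocallyNoetherian p
  haveI : JacobsonSpace Y := jacobsonSpace p
  intro P hPprime hht
  obtain ⟨ξ, hξ, hgen⟩ := exists_genPrime_eq y P
  subst hgen
  letI := (Y.presheaf.stalkSpecializes hξ).hom.toAlgebra
  haveI := isLocalization_stalkSpecializes hξ
  let e : Localization.AtPrime (genPrime hξ) ≃+* Y.presheaf.stalk ξ :=
    (IsLocalization.algEquiv (genPrime hξ).primeCompl _ _).toRingEquiv
  have hdim : ringKrullDim (Y.presheaf.stalk ξ) =
      (((genPrime hξ).height : ℕ∞) : WithBot ℕ∞) :=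
    IsLocalization.AtPrime.ringKrullDim_eq_height (genPrime hξ) _
  by_cases hsm : FibSm p ξ
  · have hmem : ξ ∈ p.smoothLocus := (fibSm_iff_mem_smoothLocus p ξ).mp hsm
    haveI := Groth.Agent.H25.GeomRegSmooth.isRegularLocalRing_of_mem_smoothLocus K p ξ hmem
    exact IsRegularLocalRing.of_ringEquiv e.symm
  · exfalso
    obtain ⟨w, hw1, -, hw3⟩ := hP ξ hξ (Subsingleton.elim _ _) hsm
    rw [fdim_eq, fdim_eq] at hw3
    have hdown := le_ringKrullDim_of_specializes (delta p) (isDimFun p) ξ w hw1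
    rw [hdim] at hdown
    have h1 : (delta p ξ).toNat + (k + 1) ≤ (delta p w).toNat := by exact_mod_cast hw3
    have h0 := delta_nonneg' p ξ
    have h2 : k + 1 ≤ (delta p w - delta p ξ).toNat := by omega
    have h3 : (((delta p w - delta p ξ).toNat : ℕ) : ℕ∞) ≤ (k : ℕ∞) :=
      (WithBot.coe_le_coe.mp hdown).trans hht
    have h4 : (delta p w - delta p ξ).toNat ≤ k := by exact_mod_cast h3
    omega

/-- over a perfect field, `(R_k)` for the local ring implies `PrRk`. -/
theorem prRk_of_hasRk [PerfectField K] (k : ℕ) (y : Y)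
    (hR : LocCoh.HasRk k (Y.presheaf.stalk y)) : PrRk k p y := by
  haveI : IsLocallyNoetherian Y := isLocallyNoetherian p
  haveI : JacobsonSpace Y := jacobsonSpace p
  intro ξ hξ _ hns
  have hnsm : ξ ∉ p.smoothLocus := fun h => hns ((fibSm_iff_mem_smoothLocus p ξ).mpr h)
  rw [Groth.Agent.H47.SLF.mem_smoothLocus_iff_isRegularLocalRing_of_perfectField K p ξ] at hnsm
  letI := (Y.presheaf.stalkSpecializes hξ).hom.toAlgebra
  haveI := isLocalization_stalkSpecializes hξ
  let e : Localization.AtPrime (genPrime hξ) ≃+* Y.presheaf.stalk ξ :=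
    (IsLocalization.algEquiv (genPrime hξ).primeCompl _ _).toRingEquiv
  have hdim : ringKrullDim (Y.presheaf.stalk ξ) =
      (((genPrime hξ).height : ℕ∞) : WithBot ℕ∞) :=
    IsLocalization.AtPrime.ringKrullDim_eq_height (genPrime hξ) _
  have hht : ¬ (genPrime hξ).height ≤ k := fun hle => hnsm (by
    haveI := hR (genPrime hξ) hle
    exact IsRegularLocalRing.of_ringEquiv e)
  obtain ⟨w, hw, hle⟩ := exists_gen_ringKrullDim_le (delta p) (isDimFun p) ξ
  refine ⟨w, hw, Subsingleton.elim _ _, ?_⟩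
  rw [fdim_eq, fdim_eq]
  rw [hdim] at hle
  have h1 : (genPrime hξ).height ≤ (((delta p w - delta p ξ).toNat : ℕ) : ℕ∞) :=
    WithBot.coe_le_coe.mp hle
  have h2 : ((k : ℕ) : ℕ∞) < (((delta p w - delta p ξ).toNat : ℕ) : ℕ∞) :=
    lt_of_lt_of_le (not_le.mp hht) h1
  have h3 : k < (delta p w - delta p ξ).toNat := by exact_mod_cast h2
  have h0 := delta_nonneg' p ξ
  have h4 : (delta p ξ).toNat + (k + 1) ≤ (delta p w).toNat := by omega
  exact_mod_cast h4

end Field

end Groth.Agent.H99.RkField
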