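import Mathlib
import Groth.Agent.H99.RkGen

/-!
# Fibrewise codimension conditions relative to a pointwise property (helper99; for S3422)

`PrCod Q m f x`: every generization `ξ` of `x` inside the fibre of `f` through `x` at which `Q f ξ`
holds has "codimension `> m`" in the fibre: some further generization `w` of `ξ` inside the fibre
has `dim (closure {w} ∩ fibre) ≥ dim (closure {ξ} ∩ fibre) + m + 1`.  This generalizes
`Groth.Agent.H99.RkTop.PrRk` (where `Q` is "the fibre is not smooth at `ξ`").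
-/

set_option autoImplicit false
set_option backward.isDefEq.respectTransparency.types false
set_option linter.style.haveILetI false
set_option linter.unusedSectionVars false
universe u

open AlgebraicGeometry CategoryTheory CategoryTheory.Limits TopologicalSpace Topology

namespace Groth.Agent.H99.SkTop

open Groth.Agent.H99.FibEqui Groth.Agent.H99.FibEquiGen Groth.Agent.H17.Chev
  Groth.Agent.H99.RkTop Groth.Agent.H99.RkGen

/-- invariance of a pointwise property of morphisms under base change and open immersions into the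
source. -/
structure IsFibInv (Q : ∀ ⦃X S : Scheme.{u}⦄, (X ⟶ S) → X → Prop) : Prop where
  baseChange : ∀ ⦃X S X' S' : Scheme.{u}⦄ (f : X ⟶ S) (f' : X' ⟶ S') (g' : X' ⟶ X) (g : S' ⟶ S),
    IsPullback g' f' f g → LocallyOfFiniteType f → ∀ x' : X', Q f' x' ↔ Q f (g' x')
  openImm : ∀ ⦃U X S : Scheme.{u}⦄ (j : U ⟶ X) (f : X ⟶ S), IsOpenImmersion j →
    LocallyOfFiniteType f → ∀ u : U, Q (j ≫ f) u ↔ Q f (j u)

/-- the fibrewise codimension condition. -/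
def PrCod (Q : ∀ ⦃X S : Scheme.{u}⦄, (X ⟶ S) → X → Prop) (m : ℕ) :
    ∀ ⦃X S : Scheme.{u}⦄, (X ⟶ S) → X → Prop := fun _ _ f x =>
  ∀ ξ, ξ ⤳ x → f ξ = f x → Q f ξ →
    ∃ w, w ⤳ ξ ∧ f w = f ξ ∧ fdim f ξ + ((m + 1 : ℕ) : WithBot ℕ∞) ≤ fdim f w

variable {Q : ∀ ⦃X S : Scheme.{u}⦄, (X ⟶ S) → X → Prop} {X S : Scheme.{u}}

section BaseChange

variable {X' S' : Scheme.{u}} (f : X ⟶ S) (f' : X' ⟶ S') (g' : X' ⟶ X) (g : S' ⟶ S)
  (h : IsPullback g' f' f g)

include h in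
/-- **Base change invariance.** -/
theorem prCod_baseChange (hQ : IsFibInv Q) (m : ℕ) [hlft : LocallyOfFiniteType f] (x' : X') :
    PrCod Q m f' x' ↔ PrCod Q m f (g' x') := by
  constructor
  · intro hP ξ hξ hfξ hns
    obtain ⟨ξ', h1, h2, h3, h4⟩ := exists_lift_fdim f f' g' g h x' ξ hξ hfξ
    have hns' : Q f' ξ' := by
      rw [hQ.baseChange f f' g' g h hlft ξ', h3]; exact hns
    obtain ⟨w', hw1, hw2, hw3⟩ := hP ξ' h1 h2 hns'
    refine ⟨g' w', ?_, ?_, ?_⟩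
    · rw [← h3]; exact hw1.map g'.continuous
    · rw [← h3, comm_apply f f' g' g h, comm_apply f f' g' g h, hw2]
    · rw [← h4]
      exact hw3.trans (fdim_baseChange_le f f' g' g h w')
  · intro hP ξ' hξ' hfξ' hns'
    have hns : Q f (g' ξ') := by rwa [← hQ.baseChange f f' g' g h hlft ξ']
    obtain ⟨w, hw1, hw2, hw3⟩ := hP (g' ξ') (hξ'.map g'.continuous)
      (by rw [comm_apply f f' g' g h, comm_apply f f' g' g h, hfξ']) hns
    obtain ⟨w', h1, h2, -, h4⟩ := exists_lift_fdim f f' g' g h ξ' w hw1 hw2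
    refine ⟨w', h1, h2, ?_⟩
    rw [h4]
    exact (add_le_add (fdim_baseChange_le f f' g' g h ξ') le_rfl).trans hw3

end BaseChange

section OpenImm

variable {U : Scheme.{u}} (j : U ⟶ X) [hj : IsOpenImmersion j] (f : X ⟶ S)

/-- **Invariance under open immersions into the source.** -/
theorem prCod_openImm (hQ : IsFibInv Q) (m : ℕ) [hlft : LocallyOfFiniteType f] (u : U) :
    PrCod Q m (j ≫ f) u ↔ PrCod Q m f (j u) := by
  constructor
  · intro hP ξ hξ hfξ hns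
    obtain ⟨ξ₀, rfl, hξ₀⟩ := exists_of_specializes_openImm j u ξ hξ
    have hns' : Q (j ≫ f) ξ₀ := by
      rwa [hQ.openImm j f hj hlft ξ₀]
    obtain ⟨w₀, hw1, hw2, hw3⟩ := hP ξ₀ hξ₀
      (by simpa only [Scheme.Hom.comp_apply] using hfξ) hns'
    refine ⟨j w₀, hw1.map j.continuous, by simpa only [Scheme.Hom.comp_apply] using hw2, ?_⟩
    rw [← fdim_openImm j f ξ₀, ← fdim_openImm j f w₀]
    exact hw3
  · intro hP ξ₀ hξ₀ hfξ₀ hns₀
    have hns : Q f (j ξ₀) := by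
      rwa [← hQ.openImm j f hj hlft ξ₀]
    obtain ⟨w, hw1, hw2, hw3⟩ := hP (j ξ₀) (hξ₀.map j.continuous)
      (by simpa only [Scheme.Hom.comp_apply] using hfξ₀) hns
    obtain ⟨w₀, rfl, hw₀⟩ := exists_of_specializes_openImm j ξ₀ w hw1
    refine ⟨w₀, hw₀, by simpa only [Scheme.Hom.comp_apply] using hw2, ?_⟩
    rw [fdim_openImm j f ξ₀, fdim_openImm j f w₀]
    exact hw3

end OpenImm

theorem isFibInv_prCod (hQ : IsFibInv Q) (m : ℕ) : IsFibInv (PrCod Q m) where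
  baseChange := fun X S X' S' f f' g' g h hlft x' => by
    have := hlft
    exact prCod_baseChange f f' g' g h hQ m x'
  openImm := fun U X S j f hj hlft u => by
    have := hj
    have := hlft
    exact prCod_openImm j f hQ m u

section Noeth

variable (f : X ⟶ S) [IsNoetherian S] [IrreducibleSpace S] [LocallyOfFiniteType f]
  [QuasiCompact f]

/-- **Generic openness** of the `PrCod Q m` locus, when the `Q`-locus is closed over an open
neighbourhood of the generic point of the base. -/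
theorem generic_isOpen_of_isClosed_on (m : ℕ) (N : Set X) (hNc : IsClosed N) (U₁ : S.Opens)
    (hη₁ : genericPoint S ∈ U₁) (hN : ∀ x, f x ∈ U₁ → (x ∈ N ↔ Q f x)) :
    ∃ U : S.Opens, genericPoint S ∈ U ∧
      IsOpen ({x : X | PrCod Q m f x} ∩ f ⁻¹' (U : Set S)) := by
  haveI : IsLocallyNoetherian X := LocallyOfFiniteType.isLocallyNoetherian f
  haveI : CompactSpace X := QuasiCompact.compactSpace_of_compactSpace f
  haveI : IsNoetherian X := {}
  haveI : NoetherianSpace X := inferInstance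
  obtain ⟨𝒳, h𝒳f, h𝒳c, h𝒳i, h𝒳U⟩ := NoetherianSpace.exists_finite_set_isClosed_irreducible
    (isClosed_univ : IsClosed (Set.univ : Set X))
  obtain ⟨𝒩, h𝒩f, h𝒩c, h𝒩i, h𝒩U⟩ := NoetherianSpace.exists_finite_set_isClosed_irreducible hNc
  obtain ⟨e, U₀, hη, c1, c3⟩ := exists_generic_data f (𝒳 ∪ 𝒩) (h𝒳f.union h𝒩f)
    (fun C hC => hC.elim (h𝒳i C) (h𝒩i C)) (fun C hC => hC.elim (h𝒳c C) (h𝒩c C))
  refine ⟨U₀ ⊓ U₁, ⟨hη, hη₁⟩, ?_⟩
  let BadD : Set X → Prop := fun D => ∀ C ∈ 𝒳, D ⊆ C → e C < e D + (m + 1)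
  let Bad : Set X := ⋃ D ∈ 𝒩, ⋃ (_ : BadD D), D
  have hBad : IsClosed Bad := h𝒩f.isClosed_biUnion fun D hD =>
    isClosed_iUnion_of_finite fun _ => h𝒩c D hD
  have key : {x : X | PrCod Q m f x} ∩ f ⁻¹' ((U₀ ⊓ U₁ : S.Opens) : Set S) =
      Badᶜ ∩ f ⁻¹' ((U₀ ⊓ U₁ : S.Opens) : Set S) := by
    ext x
    simp only [Set.mem_inter_iff, Set.mem_ofPred_eq, Set.mem_preimage, Set.mem_compl_iff]
    refine and_congr_left fun hx => ?_
    have hx0 : f x ∈ (U₀ : Set S) := hx.1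
    have hx1 : f x ∈ U₁ := hx.2
    constructor
    · intro hP hbad
      simp only [Bad, Set.mem_iUnion, exists_prop] at hbad
      obtain ⟨D, hD, hDbad, hxD⟩ := hbad
      obtain ⟨ξ, hξm, hξx, hfξ⟩ := exists_relMax_specializes' f D (h𝒩c D hD) x hxD
      have hξN : ξ ∈ N := by rw [h𝒩U]; exact ⟨D, hD, hξm.1⟩
      have hfξU : f ξ ∈ (U₀ : Set S) := by rw [hfξ]; exact hx0
      have hfξU₁ : f ξ ∈ U₁ := by rw [hfξ]; exact hx1
      obtain ⟨w, hw1, hw2, hw3⟩ := hP ξ hξx hfξ ((hN ξ hfξU₁).mp hξN)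
      obtain ⟨C, hC, hwC⟩ : ∃ C ∈ 𝒳, w ∈ C := by
        have : w ∈ ⋃₀ 𝒳 := h𝒳U ▸ Set.mem_univ w
        exact this
      obtain ⟨w₁, hw₁m, hw₁w, hfw₁⟩ := exists_relMax_specializes' f C (h𝒳c C hC) w hwC
      have hfw₁U : f w₁ ∈ (U₀ : Set S) := by rw [hfw₁, hw2]; exact hfξU
      have h1 : fdim f w ≤ fdim f w₁ := fdim_mono f hw₁w hfw₁
      rw [c1 C (Or.inl hC) w₁ hw₁m hfw₁U] at h1
      have hξC : ξ ∈ C := hw1.mem_closed (h𝒳c C hC) hwC
      have hDC : D ⊆ C := c3 D (Or.inr hD) C (Or.inl hC) ξ hξm hfξU hξC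
      have h2 := hDbad C hC hDC
      rw [c1 D (Or.inr hD) ξ hξm hfξU] at hw3
      have h3 : ((e D : ℕ) : WithBot ℕ∞) + ((m + 1 : ℕ) : WithBot ℕ∞) ≤ (e C : WithBot ℕ∞) :=
        hw3.trans h1
      have h4 : e D + (m + 1) ≤ e C := by exact_mod_cast h3
      omega
    · intro hbad ξ hξx hfξ hns
      have hfξU : f ξ ∈ (U₀ : Set S) := by rw [hfξ]; exact hx0
      have hfξU₁ : f ξ ∈ U₁ := by rw [hfξ]; exact hx1
      have hξN : ξ ∈ N := (hN ξ hfξU₁).mpr hns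
      obtain ⟨D, hD, hξD⟩ : ∃ D ∈ 𝒩, ξ ∈ D := by rw [h𝒩U] at hξN; exact hξN
      obtain ⟨ξ₁, hξ₁m, hξ₁ξ, hfξ₁⟩ := exists_relMax_specializes' f D (h𝒩c D hD) ξ hξD
      have hfξ₁U : f ξ₁ ∈ (U₀ : Set S) := by rw [hfξ₁]; exact hfξU
      have hxD : x ∈ D := hξx.mem_closed (h𝒩c D hD) hξD
      have hnb : ¬ BadD D := fun hb => hbad (by
        simp only [Bad, Set.mem_iUnion, exists_prop]; exact ⟨D, hD, hb, hxD⟩)
      simp only [BadD, not_forall, not_lt] at hnb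
      obtain ⟨C, hC, hDC, hle⟩ := hnb
      have hξ₁C : ξ₁ ∈ C := hDC hξ₁m.1
      obtain ⟨w, hwm, hwξ₁, hfw⟩ := exists_relMax_specializes' f C (h𝒳c C hC) ξ₁ hξ₁C
      have hfwU : f w ∈ (U₀ : Set S) := by rw [hfw]; exact hfξ₁U
      refine ⟨w, hwξ₁.trans hξ₁ξ, hfw.trans hfξ₁, ?_⟩
      rw [c1 C (Or.inl hC) w hwm hfwU]
      have h1 : fdim f ξ ≤ fdim f ξ₁ := fdim_mono f hξ₁ξ hfξ₁
      rw [c1 D (Or.inr hD) ξ₁ hξ₁m hfξ₁U] at h1
      calc fdim f ξ + ((m + 1 : ℕ) : WithBot ℕ∞)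
          ≤ (e D : WithBot ℕ∞) + ((m + 1 : ℕ) : WithBot ℕ∞) := add_le_add h1 le_rfl
        _ ≤ (e C : WithBot ℕ∞) := by exact_mod_cast hle
  rw [key]
  exact hBad.isOpen_compl.inter ((U₀ ⊓ U₁).2.preimage f.continuous)

end Noeth

end Groth.Agent.H99.SkTop
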