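import Mathlib
import Groth.Agent.H99.SkTop
import Groth.Agent.H99.RkField
import Groth.Agent.H99.CodepthFib
import Groth.Agent.H29.SkAt
import Groth.Agent.H26.SkFieldExt

/-!
# Serre's condition `(S_k)` for the local rings of the fibres, topological form
(helper99; for S3422)

`(S_k)` for `O_{X_s,x}` holds iff for every `n`, every generization `ξ` of `x` in the fibre at which
the codepth of `O_{X_s,ξ}` is `> n` has codimension `> n + k` in the fibre.
-/

set_option autoImplicit false
set_option backward.isDefEq.respectTransparency.types false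
set_option linter.style.haveILetI false
set_option linter.unusedSectionVars false
universe u

open AlgebraicGeometry CategoryTheory CategoryTheory.Limits TopologicalSpace Topology

namespace Groth.Agent.H99.SkField

open Groth.Agent.H99.RkTop Groth.Agent.H99.RkGen Groth.Agent.H99.RkField
  Groth.Agent.H15.StalkLoc Groth.Agent.H99.FieldDim Groth.Agent.H99.SkTop
  Groth.Agent.H99.FibLocProp Groth.Agent.H99.CodepthProp Groth.Agent.H49.FibreStalk

/-- `(S_k)` for a ring as a module over itself. -/
def HasSkSelf (k : ℕ) (R : Type u) [CommRing R] : Prop :=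
  ∀ [IsNoetherianRing R], LocCoh.HasSk k R R

theorem isLocProp_hasSkSelf (k : ℕ) : IsLocProp (HasSkSelf.{u} k) where
  iso := by
    intro R R' _ _ e h _
    haveI : IsNoetherianRing R := isNoetherianRing_of_ringEquiv R' e.symm
    exact (Groth.Agent.H26.SkFibreComp.hasSk_of_ringEquiv k e h).2
  tensor := by
    intro K S K' _ _ _ _ _ _ hft _ q' _
    haveI : IsNoetherianRing (Localization.AtPrime q') :=
      IsLocalization.isNoetherianRing q'.primeCompl _ inferInstance
    haveI : IsNoetherianRing
        (Localization.AtPrime (q'.comap (algebraMap S (TensorProduct K S K')))) :=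
      IsLocalization.isNoetherianRing (q'.comap (algebraMap S (TensorProduct K S K'))).primeCompl _
        inferInstance
    have key := Groth.Agent.H26.SkFieldExt.hasSk_iff K S K' hft q' k
    constructor
    · intro h _
      exact key.mp h
    · intro h _
      exact key.mpr h

/-- the codepth of the local ring of the fibre at the point is `> n`. -/
def QCod (n : ℕ) : ∀ ⦃X S : Scheme.{u}⦄, (X ⟶ S) → X → Prop :=
  fun _ _ f ξ => ¬ FibP (CodepthLE n) f ξ

theorem isFibInv_qCod (n : ℕ) : IsFibInv (QCod.{u} n) where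
  baseChange := fun X S X' S' f f' g' g h hlft x' => by
    have := hlft
    exact not_congr (fibP_baseChange (isLocProp_codepthLE n) f f' g' g h x')
  openImm := fun U X S j f hj hlft u => by
    have := hj
    exact not_congr (fibP_openImm (isLocProp_codepthLE n) j f u)

section Stalk

variable {X : Scheme.{u}} [IsLocallyNoetherian X]

/-- the `(S_k)` condition at the prime of a generization. -/
theorem skCond_genPrime_iff (k : ℕ) {y ξ : X} (hξ : ξ ⤳ y) :
    Groth.Agent.H29.SkAt.SkCond k (X.presheaf.stalk y) (X.presheaf.stalk y) (genPrime hξ) ↔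
      min (k : WithBot ℕ∞) (ringKrullDim (X.presheaf.stalk ξ)) ≤
        ((LocCoh.depth (X.presheaf.stalk ξ) (X.presheaf.stalk ξ) : ℕ∞) : WithBot ℕ∞) := by
  letI := (X.presheaf.stalkSpecializes hξ).hom.toAlgebra
  haveI := isLocalization_stalkSpecializes hξ
  let e : Localization.AtPrime (genPrime hξ) ≃+* X.presheaf.stalk ξ :=
    (IsLocalization.algEquiv (genPrime hξ).primeCompl _ _).toRingEquiv
  haveI : IsNoetherianRing (Localization.AtPrime (genPrime hξ)) :=
    IsLocalization.isNoetherianRing (genPrime hξ).primeCompl _ inferInstance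
  unfold Groth.Agent.H29.SkAt.SkCond
  have hdim : Module.supportDim (Localization.AtPrime (genPrime hξ))
      (LocalizedModule (genPrime hξ).primeCompl (X.presheaf.stalk y)) =
      ringKrullDim (X.presheaf.stalk ξ) := by
    rw [Module.supportDim_eq_of_equiv (Groth.Agent.H14.localizedModuleSelfEquiv (genPrime hξ)),
      Module.supportDim_self_eq_ringKrullDim, ringKrullDim_eq_of_ringEquiv e]
  have hdepth : LocCoh.depth (Localization.AtPrime (genPrime hξ))
      (LocalizedModule (genPrime hξ).primeCompl (X.presheaf.stalk y)) =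
      LocCoh.depth (X.presheaf.stalk ξ) (X.presheaf.stalk ξ) := by
    rw [← Groth.Agent.H49.FibreDepth.depth_eq_of_ringEquiv e]
  rw [hdim, hdepth]

/-- `(S_k)` for a local ring of a locally Noetherian scheme in terms of the generizations. -/
theorem hasSk_stalk_iff (k : ℕ) (y : X) :
    LocCoh.HasSk k (X.presheaf.stalk y) (X.presheaf.stalk y) ↔
      ∀ ξ : X, ξ ⤳ y → min (k : WithBot ℕ∞) (ringKrullDim (X.presheaf.stalk ξ)) ≤
        ((LocCoh.depth (X.presheaf.stalk ξ) (X.presheaf.stalk ξ) : ℕ∞) : WithBot ℕ∞) := by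
  rw [Groth.Agent.H29.SkAt.hasSk_iff]
  constructor
  · intro h ξ hξ
    exact (skCond_genPrime_iff k hξ).mp (h (genPrime hξ))
  · intro h P hP
    obtain ⟨ξ, hξ, hgen⟩ := exists_genPrime_eq y P
    subst hgen
    exact (skCond_genPrime_iff k hξ).mpr (h ξ hξ)

end Stalk

section Field

variable {K : Type u} [Field K] {Y : Scheme.{u}} (p : Y ⟶ Spec (CommRingCat.of K))
  [LocallyOfFiniteType p]

/-- over a field the fibre is the whole scheme. -/
theorem fibP_field_iff {P : ∀ (R : Type u) [CommRing R], Prop} (hP : IsLocProp P) (ξ : Y) :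
    FibP P p ξ ↔ P (Y.presheaf.stalk ξ) := by
  rw [fibP_iff_quotient hP]
  have h0 : fibreIdeal p ξ = ⊥ := by
    unfold fibreIdeal
    rw [maximalIdeal_stalk_spec_field, Ideal.map_bot]
  exact hP.iso_iff ((Ideal.quotEquivOfEq h0).trans (RingEquiv.quotientBot _))

/-- **`(S_k)` over a field, topological form.** -/
theorem hasSk_iff_forall_prCod (k : ℕ) (y : Y) :
    LocCoh.HasSk k (Y.presheaf.stalk y) (Y.presheaf.stalk y) ↔
      ∀ n : ℕ, PrCod (QCod n) (n + k) p y := by
  haveI : IsLocallyNoetherian Y := isLocallyNoetherian p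
  haveI : JacobsonSpace Y := jacobsonSpace p
  rw [hasSk_stalk_iff]
  constructor
  · intro hS n ξ hξ _ hQ
    have hQ' : ¬ CodepthLE n (Y.presheaf.stalk ξ) := fun h =>
      hQ ((fibP_field_iff p (isLocProp_codepthLE n) ξ).mpr h)
    obtain ⟨d, e, hd, he, hed⟩ := exists_dim_depth (Y.presheaf.stalk ξ)
    rw [codepthLE_iff_of_eq n _ d e hd he] at hQ'
    have h1 := hS ξ hξ
    rw [hd, he, min_le_iff] at h1
    have h2 : k ≤ e := by
      rcases h1 with h1 | h1
      · exact_mod_cast h1
      · have : d ≤ e := by exact_mod_cast h1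
        omega
    obtain ⟨w, hw, hle⟩ := exists_gen_ringKrullDim_le (delta p) (isDimFun p) ξ
    refine ⟨w, hw, Subsingleton.elim _ _, ?_⟩
    rw [fdim_eq, fdim_eq]
    rw [hd] at hle
    have h3 : d ≤ (delta p w - delta p ξ).toNat := by exact_mod_cast hle
    have h0 := delta_nonneg' p ξ
    have h4 : (delta p ξ).toNat + (n + k + 1) ≤ (delta p w).toNat := by omega
    exact_mod_cast h4
  · intro h ξ hξ
    obtain ⟨d, e, hd, he, hed⟩ := exists_dim_depth (Y.presheaf.stalk ξ)
    rw [hd, he, min_le_iff]
    by_contra hcon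
    push Not at hcon
    obtain ⟨hc1, hc2⟩ := hcon
    have hek : e < k := by exact_mod_cast hc1
    have hed' : e < d := by exact_mod_cast hc2
    obtain ⟨m, hm⟩ : ∃ m : ℕ, d = e + m + 1 := ⟨d - e - 1, by omega⟩
    have hQ : QCod m p ξ := by
      intro hF
      have this : CodepthLE m (Y.presheaf.stalk ξ) :=
        (fibP_field_iff p (isLocProp_codepthLE m) ξ).mp hF
      rw [codepthLE_iff_of_eq m _ d e hd he] at this
      omega
    obtain ⟨w, hw1, -, hw3⟩ := h m ξ hξ (Subsingleton.elim _ _) hQ
    rw [fdim_eq, fdim_eq] at hw3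
    have hdown := le_ringKrullDim_of_specializes (delta p) (isDimFun p) ξ w hw1
    rw [hd] at hdown
    have h1 : (delta p ξ).toNat + (m + k + 1) ≤ (delta p w).toNat := by exact_mod_cast hw3
    have h0 := delta_nonneg' p ξ
    have h2 : (delta p w - delta p ξ).toNat ≤ d := by exact_mod_cast hdown
    omega

/-- the dimension of a local ring is bounded by the dimension of the closure of a
generization. -/
theorem exists_gen_ringKrullDim_le_fdim (ξ : Y) :
    ∃ w : Y, w ⤳ ξ ∧ ringKrullDim (Y.presheaf.stalk ξ) ≤ fdim p w := by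
  haveI : IsLocallyNoetherian Y := isLocallyNoetherian p
  haveI : JacobsonSpace Y := jacobsonSpace p
  obtain ⟨w, hw, hle⟩ := exists_gen_ringKrullDim_le (delta p) (isDimFun p) ξ
  refine ⟨w, hw, hle.trans ?_⟩
  rw [fdim_eq]
  have h0 := delta_nonneg' p ξ
  have : (delta p w - delta p ξ).toNat ≤ (delta p w).toNat := by omega
  exact_mod_cast this

end Field

end Groth.Agent.H99.SkField
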