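import Mathlib
import Groth.Agent.H99.SkField
import Groth.Agent.H99.CompDimsMain

/-!
# The `(S_k)` locus of the fibres of a morphism locally of finite presentation is locally
constructible (helper99; S3422)
-/

set_option autoImplicit false
set_option backward.isDefEq.respectTransparency.types false
set_option linter.style.haveILetI false
set_option linter.unusedSectionVars false
universe u

open AlgebraicGeometry CategoryTheory CategoryTheory.Limits TopologicalSpace Topology

namespace Groth.Agent.H99.SkMain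

open Groth.Agent.H99.RkTop Groth.Agent.H99.RkGen Groth.Agent.H99.RkField
  Groth.Agent.H99.FieldDim Groth.Agent.H99.SkTop Groth.Agent.H99.SkField
  Groth.Agent.H99.FibLocProp Groth.Agent.H99.CodepthProp Groth.Agent.H99.CodepthFib
  Groth.Agent.H99.FibrePropGenR Groth.Agent.H99.FibEqui Groth.Agent.H17.Chev

/-- over a nonempty open of the spectrum of a domain which is a quotient of a regular ring, the
codepth of `O_{X,x}` is the codepth of the local ring of the fibre. -/
theorem exists_open_codepthLE_iff (A : CommRingCat.{u}) (hdom : IsDomain A) (hQ : QReg A)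
    {X : Scheme.{u}} (f : X ⟶ Spec A) (hft : LocallyOfFiniteType f) (hqc : QuasiCompact f) :
    ∃ U : (Spec A).Opens, (U : Set ↥(Spec A)).Nonempty ∧ ∀ (n : ℕ) (x : X), f x ∈ U →
      (CodepthLE n (X.presheaf.stalk x) ↔ FibP (CodepthLE n) f x) := by
  haveI : IsNoetherianRing A := hQ.isNoetherianRing
  haveI : IsLocallyNoetherian X := LocallyOfFiniteType.isLocallyNoetherian f
  obtain ⟨U₁, hU₁d, hfl, -⟩ := Groth.Agent.H46.GenFree.generic_flatness f
  have hQ' := hQ
  obtain ⟨R, _, _, ψ, hψ⟩ := hQ'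
  letI : Algebra R A := ψ.toAlgebra
  have hopen2 := isOpen_codepthLE R A hψ 0
  let U₂ : (Spec A).Opens := ⟨{p | CodepthLE 0 (Localization.AtPrime p.asIdeal)}, hopen2⟩
  have hne2 : (U₂ : Set (Spec A)).Nonempty := by
    refine ⟨⟨⊥, Ideal.isPrime_bot⟩, ?_⟩
    show CodepthLE 0 (Localization.AtPrime (⊥ : Ideal A))
    intro _ _
    rw [IsLocalization.AtPrime.ringKrullDim_eq_height (⊥ : Ideal A), Ideal.height_bot]
    simp
  obtain ⟨s, hs1, hs2⟩ := hU₁d.inter_open_nonempty _ U₂.2 hne2
  refine ⟨U₁ ⊓ U₂, ⟨s, hs2, hs1⟩, ?_⟩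
  rintro n x ⟨h1, h2⟩
  refine codepthLE_stalk_iff_fibP n f x (flat_stalkMap_of_flat_restrict f U₁ x h1) ?_
  exact codepthLE_iso 0 (Groth.Agent.H25.StalkBC.specStalkEquiv A (f x)).symm h2

theorem isGoodGenR_prCod_qCod (n m : ℕ) : IsGoodGenR (PrCod (QCod.{u} n) m) where
  baseChange := (isFibInv_prCod (isFibInv_qCod n) m).baseChange
  openImm := (isFibInv_prCod (isFibInv_qCod n) m).openImm
  generic := by
    intro A hdom hQ X f hft hqc
    haveI := hft
    haveI := hqc
    haveI := hdom
    haveI : IsNoetherianRing A := hQ.isNoetherianRing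
    haveI : IsLocallyNoetherian X := LocallyOfFiniteType.isLocallyNoetherian f
    haveI : CompactSpace X := QuasiCompact.compactSpace_of_compactSpace f
    haveI : IsNoetherian X := {}
    haveI : NoetherianSpace X := inferInstance
    haveI : IsNoetherian (Spec A) := inferInstance
    haveI : IsIntegral (Spec A) := inferInstance
    haveI : IrreducibleSpace ↥(Spec A) := inferInstance
    obtain ⟨U₁, hne, hiff⟩ := exists_open_codepthLE_iff A hdom hQ f hft hqc
    have hη₁ : genericPoint ↥(Spec A) ∈ U₁ := by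
      obtain ⟨u, hu⟩ := hne
      exact ((genericPoint_spec ↥(Spec A)).specializes (Set.mem_univ u)).mem_open U₁.2 hu
    obtain ⟨U, hηU, hO⟩ := generic_isOpen_of_isClosed_on (Q := QCod n) f m
      {x : X | ¬ CodepthLE n (X.presheaf.stalk x)}
      (isOpen_codepthLE_stalk n A hQ f).isClosed_compl U₁ hη₁
      (fun x hx => not_congr (hiff n x hx))
    exact ⟨U, ⟨_, hηU⟩, Groth.Agent.H12.isConstructible_of_isOpen hO⟩

theorem isLocallyConstructible_prCod_qCod (n m : ℕ) {X S : Scheme.{u}} (f : X ⟶ S)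
    [LocallyOfFinitePresentation f] :
    IsLocallyConstructible {x : X | PrCod (QCod n) m f x} :=
  Groth.Agent.H99.FibrePropGenR.isLocallyConstructible (isGoodGenR_prCod_qCod n m) f

variable {X S : Scheme.{u}} (f : X ⟶ S) [LocallyOfFiniteType f]

/-- **pointwise characterization** of `(S_k)` for the local rings of the fibres. -/
theorem fibHasSk_iff_forall_prCod (k : ℕ) (x : X) :
    LocCoh.HasSk k ((f.fiber (f x)).presheaf.stalk (f.asFiber x))
        ((f.fiber (f x)).presheaf.stalk (f.asFiber x)) ↔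
      ∀ n : ℕ, PrCod (QCod n) (n + k) f x := by
  let κ := IsLocalRing.ResidueField (S.presheaf.stalk (f x))
  let q : f.fiber (f x) ⟶ Spec (CommRingCat.of κ) := f.fiberToSpecResidueField (f x)
  haveI : LocallyOfFiniteType q :=
    inferInstanceAs (LocallyOfFiniteType (pullback.snd f (S.fromSpecResidueField (f x))))
  have sq1 : IsPullback (f.fiberι (f x)) q f (S.fromSpecResidueField (f x)) :=
    IsPullback.of_hasPullback _ _
  rw [hasSk_iff_forall_prCod q k (f.asFiber x)]
  refine forall_congr' fun n => ?_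
  have := prCod_baseChange f q (f.fiberι (f x)) (S.fromSpecResidueField (f x)) sq1
    (isFibInv_qCod n) (n + k) (f.asFiber x)
  rwa [Scheme.Hom.fiberι_asFiber] at this

/-- where the local fibre dimension is `≤ D`, the codepth of the local rings of the fibres is
`≤ D`. -/
theorem fibP_codepthLE_of_fibreDimAt_le (D n : ℕ) (hn : D ≤ n) (ξ : X)
    (hξ : FlatMor.fibreDimAt f ξ ≤ D) : FibP (CodepthLE n) f ξ := by
  let κ := IsLocalRing.ResidueField (S.presheaf.stalk (f ξ))
  let q : f.fiber (f ξ) ⟶ Spec (CommRingCat.of κ) := f.fiberToSpecResidueField (f ξ)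
  haveI : LocallyOfFiniteType q :=
    inferInstanceAs (LocallyOfFiniteType (pullback.snd f (S.fromSpecResidueField (f ξ))))
  have sq1 : IsPullback (f.fiberι (f ξ)) q f (S.fromSpecResidueField (f ξ)) :=
    IsPullback.of_hasPullback _ _
  obtain ⟨w', hw', hle⟩ := exists_gen_ringKrullDim_le_fdim q (f.asFiber ξ)
  have h1 := fdim_baseChange_le f q (f.fiberι (f ξ)) (S.fromSpecResidueField (f ξ)) sq1 w'
  have hwξ : f.fiberι (f ξ) w' ⤳ ξ := by
    have := hw'.map (f.fiberι (f ξ)).continuous
    rwa [Scheme.Hom.fiberι_asFiber] at this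
  obtain ⟨ζ, hζw, hfζ, hmax⟩ := exists_fibMax_specializes f (f.fiberι (f ξ) w')
  have h2 : fdim f (f.fiberι (f ξ) w') ≤ fdim f ζ := fdim_mono f hζw hfζ
  have h3 : fdim f ζ = FlatMor.fibreDimAt f ζ := (fibreDimAt_of_fibMax f ζ hmax).symm
  have hζD : FlatMor.fibreDimAt f ζ ≤ D :=
    (hζw.trans hwξ).mem_open (isOpen_setOf_fibreDimAt_le f D) hξ
  show CodepthLE n ((f.fiber (f ξ)).presheaf.stalk (f.asFiber ξ))
  intro _ _
  have h4 : ringKrullDim ((f.fiber (f ξ)).presheaf.stalk (f.asFiber ξ)) ≤ (n : WithBot ℕ∞) :=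
    calc ringKrullDim ((f.fiber (f ξ)).presheaf.stalk (f.asFiber ξ)) ≤ fdim q w' := hle
      _ ≤ fdim f (f.fiberι (f ξ) w') := h1
      _ ≤ fdim f ζ := h2
      _ = FlatMor.fibreDimAt f ζ := h3
      _ ≤ (D : WithBot ℕ∞) := hζD
      _ ≤ (n : WithBot ℕ∞) := by exact_mod_cast hn
  refine h4.trans ?_
  have h5 : (0 : WithBot ℕ∞) ≤ ((LocCoh.depth ((f.fiber (f ξ)).presheaf.stalk (f.asFiber ξ))
      ((f.fiber (f ξ)).presheaf.stalk (f.asFiber ξ)) : ℕ∞) : WithBot ℕ∞) := by
    rw [← WithBot.coe_zero]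
    exact WithBot.coe_le_coe.mpr zero_le
  exact le_add_of_nonneg_left h5

theorem prCod_of_fibreDimAt_le (D n m : ℕ) (hn : D ≤ n) (x : X)
    (hx : FlatMor.fibreDimAt f x ≤ D) : PrCod (QCod n) m f x := by
  intro ξ hξ _ hQ
  have h : FibP (CodepthLE n) f ξ := fibP_codepthLE_of_fibreDimAt_le f D n hn ξ
    (hξ.mem_open (isOpen_setOf_fibreDimAt_le f D) hx)
  exact (hQ @h).elim

/-- **EGA IV 9.9.2/9.9.3**: the `(S_k)` locus of the fibres of a morphism locally of finite
presentation is locally constructible. -/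
theorem isLocallyConstructible_fibHasSk {X S : Scheme.{u}} (f : X ⟶ S)
    [LocallyOfFinitePresentation f] (k : ℕ) :
    IsLocallyConstructible {x : X |
      LocCoh.HasSk k ((f.fiber (f x)).presheaf.stalk (f.asFiber x))
        ((f.fiber (f x)).presheaf.stalk (f.asFiber x))} := by
  let T : ℕ → Set X := fun n => {x | PrCod (QCod n) (n + k) f x}
  have hT : ∀ n, IsLocallyConstructible (T n) := fun n =>
    isLocallyConstructible_prCod_qCod n (n + k) f
  have hset : {x : X | LocCoh.HasSk k ((f.fiber (f x)).presheaf.stalk (f.asFiber x))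
      ((f.fiber (f x)).presheaf.stalk (f.asFiber x))} = ⋂ n, T n := by
    ext x
    simp only [Set.mem_ofPred_eq, Set.mem_iInter, T]
    exact fibHasSk_iff_forall_prCod f k x
  rw [hset]
  let O : ℕ → X.Opens := fun D =>
    ⟨{x | FlatMor.fibreDimAt f x ≤ D}, isOpen_setOf_fibreDimAt_le f D⟩
  have hcov : IsOpenCover O := by
    rw [IsOpenCover, eq_top_iff]
    intro x _
    obtain ⟨D, hD⟩ := exists_nat_eq_fibreDimAt f x
    exact Opens.mem_iSup.mpr ⟨D, hD.le⟩
  refine IsLocallyConstructible.of_isOpenCover hcov (fun D => ?_)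
  have heq : (Subtype.val ⁻¹' (⋂ n, T n) : Set (O D)) =
      Subtype.val ⁻¹' (⋂ n : Fin D, T n) := by
    ext ⟨x, hx⟩
    change x ∈ ⋂ n, T n ↔ x ∈ ⋂ n : Fin D, T n
    rw [Set.mem_iInter, Set.mem_iInter]
    constructor
    · intro h n
      exact h n
    · intro h n
      by_cases hn : n < D
      · exact h ⟨n, hn⟩
      · exact prCod_of_fibreDimAt_le f D n (n + k) (not_lt.mp hn) x hx
  show IsLocallyConstructible (Subtype.val ⁻¹' (⋂ n, T n) : Set (O D))
  rw [heq]
  exact (IsLocallyConstructible.iInter (fun n : Fin D => hT n)).preimage_of_isOpenEmbedding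
    (O D).2.isOpenEmbedding_subtypeVal

end Groth.Agent.H99.SkMain
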