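import Mathlib
import Groth.Prelude.Def_FDesc
import Groth.Prelude.Def_CAlg
import Groth.Agent.H99.RkField
import Groth.Agent.H99.FibrePropGen

/-!
# The geometric `(R_k)` locus of the fibres is locally constructible (helper99; S3454, S4828)
-/

set_option autoImplicit false
set_option backward.isDefEq.respectTransparency.types false
set_option linter.style.haveILetI false
set_option linter.unusedSectionVars false
universe u

open AlgebraicGeometry CategoryTheory CategoryTheory.Limits TopologicalSpace Topology

namespace Groth.Agent.H99.RkMain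

open Groth.Agent.H99.RkTop Groth.Agent.H99.RkGen Groth.Agent.H99.RkField

/-- the hypotheses of the constructibility pattern hold for `PrRk k`. -/
theorem isGoodGen_prRk (k : ℕ) : Groth.Agent.H99.FibrePropGen.IsGoodGen (PrRk.{u} k) where
  baseChange := fun X S X' S' f f' g' g h hlft x' => by
    have := hlft
    exact prRk_baseChange f f' g' g h k x'
  openImm := fun U X S j f hj hlft u => by
    have := hj
    have := hlft
    exact prRk_openImm j f k u
  generic := fun X S f hN hI hlft hqc => by
    have := hN
    have := hI
    have := hlft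
    have := hqc
    exact generic f k

/-- the set of points where `PrRk k` holds is locally constructible. -/
theorem isLocallyConstructible_prRk {X S : Scheme.{u}} (f : X ⟶ S)
    [LocallyOfFinitePresentation f] (k : ℕ) : IsLocallyConstructible {x : X | PrRk k f x} :=
  Groth.Agent.H99.FibrePropGen.isLocallyConstructible (isGoodGen_prRk k) f

/-- **Pointwise characterization** of the geometric condition `(R_k)` for the fibre. -/
theorem geomRk_iff {X S : Scheme.{u}} (f : X ⟶ S) [LocallyOfFiniteType f] (k : ℕ) (x : X) :
    (∀ (K : Type u) [Field K] [Algebra (IsLocalRing.ResidueField (S.presheaf.stalk (f.base x))) K]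
        (x' : ↥(FBase.bc (f.fiberToSpecResidueField (f.base x)) K)),
        (FBase.bcπ (f.fiberToSpecResidueField (f.base x)) K).base x' = f.asFiber x →
          LocCoh.HasRk k ((FBase.bc (f.fiberToSpecResidueField (f.base x)) K).presheaf.stalk x')) ↔
      PrRk k f x := by
  obtain ⟨s, hs⟩ : ∃ s : S, s = f.base x := ⟨_, rfl⟩
  let κ := IsLocalRing.ResidueField (S.presheaf.stalk (f.base x))
  let q : f.fiber (f.base x) ⟶ Spec (CommRingCat.of κ) := f.fiberToSpecResidueField (f.base x)
  haveI : LocallyOfFiniteType q :=
    inferInstanceAs (LocallyOfFiniteType (pullback.snd f (S.fromSpecResidueField (f.base x))))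
  have sq1 : IsPullback (f.fiberι (f.base x)) q f (S.fromSpecResidueField (f.base x)) :=
    IsPullback.of_hasPullback _ _
  have e1 : PrRk k q (f.asFiber x) ↔ PrRk k f x := by
    have := prRk_baseChange f q (f.fiberι (f.base x)) (S.fromSpecResidueField (f.base x)) sq1 k
      (f.asFiber x)
    rwa [Scheme.Hom.fiberι_asFiber] at this
  have hlft : ∀ (K : Type u) [Field K] [Algebra κ K], LocallyOfFiniteType (FBase.bcStr q K) :=
    fun K _ _ => inferInstanceAs (LocallyOfFiniteType
      (pullback.snd q (Spec.map (CommRingCat.ofHom (algebraMap κ K)))))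
  have sq2 : ∀ (K : Type u) [Field K] [Algebra κ K], IsPullback (FBase.bcπ q K) (FBase.bcStr q K) q
      (Spec.map (CommRingCat.ofHom (algebraMap κ K))) :=
    fun K _ _ => IsPullback.of_hasPullback _ _
  have e2 : ∀ (K : Type u) [Field K] [Algebra κ K] (x' : ↥(FBase.bc q K)),
      (FBase.bcπ q K).base x' = f.asFiber x → (PrRk k (FBase.bcStr q K) x' ↔ PrRk k f x) := by
    intro K _ _ x' hx'
    have := prRk_baseChange q (FBase.bcStr q K) (FBase.bcπ q K) _ (sq2 K) k x'
    rw [this, show (FBase.bcπ q K) x' = f.asFiber x from hx']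
    exact e1
  constructor
  · intro h
    obtain ⟨x', hx'⟩ : ∃ x' : ↥(FBase.bc q (AlgebraicClosure κ)),
        (FBase.bcπ q (AlgebraicClosure κ)).base x' = f.asFiber x := by
      obtain ⟨pt⟩ : Nonempty ↥(Spec (CommRingCat.of (AlgebraicClosure κ))) := inferInstance
      obtain ⟨z, hz, -⟩ := Scheme.exists_preimage_of_isPullback (sq2 (AlgebraicClosure κ))
        (f.asFiber x) pt (Subsingleton.elim _ _)
      exact ⟨z, hz⟩
    haveI := hlft (AlgebraicClosure κ)
    exact (e2 (AlgebraicClosure κ) x' hx').mp
      (prRk_of_hasRk (FBase.bcStr q (AlgebraicClosure κ)) k x' (h (AlgebraicClosure κ) x' hx'))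
  · intro h K _ _ x' hx'
    haveI := hlft K
    exact hasRk_of_prRk (FBase.bcStr q K) k x' ((e2 K x' hx').mpr h)

end Groth.Agent.H99.RkMain
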