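import Mathlib
import Groth.Prelude.Def_FDesc
import Groth.Prelude.Def_CAlg
import Groth.Agent.H99.SkMain
import Groth.Agent.H99.RkMain
import Groth.Agent.H14.SerreNormal

/-!
# The geometric normality locus of the fibres of a morphism locally of finite presentation is
locally constructible (helper99; S3455)

By Serre's criterion, geometric normality of the fibre at `x` is the conjunction of the geometric
`(R_1)` condition (`PrRk 1 f x`) and of `(S_2)` for the local ring of the fibre at `x`.
-/

set_option autoImplicit false
set_option backward.isDefEq.respectTransparency.types false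
set_option linter.style.haveILetI false
set_option linter.unusedSectionVars false
universe u

open AlgebraicGeometry CategoryTheory CategoryTheory.Limits TopologicalSpace Topology

namespace Groth.Agent.H99.NormFib

open Groth.Agent.H99.RkTop Groth.Agent.H99.RkMain Groth.Agent.H99.SkField Groth.Agent.H99.SkMain
  Groth.Agent.H99.FibLocProp

/-- **Serre's criterion for a Noetherian local ring.** -/
theorem isNormal_local_iff (R : Type u) [CommRing R] [IsNoetherianRing R] [IsLocalRing R] :
    (IsDomain R ∧ IsIntegrallyClosed R) ↔ (LocCoh.HasRk 1 R ∧ LocCoh.HasSk 2 R R) := by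
  rw [← Groth.Agent.H14.serre_criterion_normal R]
  constructor
  · rintro ⟨hD, hI⟩ p hp
    haveI := hD
    haveI := hI
    exact ⟨inferInstance,
      isIntegrallyClosed_of_isLocalization _ p.primeCompl p.primeCompl_le_nonZeroDivisors⟩
  · intro h
    obtain ⟨hD, hI⟩ := h (IsLocalRing.maximalIdeal R)
    let e := Groth.Agent.H14.localizationMaximalIdealEquiv R
    exact ⟨MulEquiv.isDomain _ e.toMulEquiv, IsIntegrallyClosed.of_equiv e.symm⟩

/-- **Pointwise characterization** of geometric normality of the fibre at a point. -/
theorem geomNormal_iff {X S : Scheme.{u}} (f : X ⟶ S) [LocallyOfFiniteType f] (x : X) :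
    (∀ (K : Type u) [Field K] [Algebra (IsLocalRing.ResidueField (S.presheaf.stalk (f.base x))) K]
        (x' : ↥(FBase.bc (f.fiberToSpecResidueField (f.base x)) K)),
        (FBase.bcπ (f.fiberToSpecResidueField (f.base x)) K).base x' = f.asFiber x →
          (IsDomain ((FBase.bc (f.fiberToSpecResidueField (f.base x)) K).presheaf.stalk x') ∧
            IsIntegrallyClosed
              ((FBase.bc (f.fiberToSpecResidueField (f.base x)) K).presheaf.stalk x'))) ↔
      (PrRk 1 f x ∧ LocCoh.HasSk 2 ((f.fiber (f x)).presheaf.stalk (f.asFiber x))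
        ((f.fiber (f x)).presheaf.stalk (f.asFiber x))) := by
  let κ := IsLocalRing.ResidueField (S.presheaf.stalk (f.base x))
  let q : f.fiber (f.base x) ⟶ Spec (CommRingCat.of κ) := f.fiberToSpecResidueField (f.base x)
  haveI : LocallyOfFiniteType q :=
    inferInstanceAs (LocallyOfFiniteType (pullback.snd f (S.fromSpecResidueField (f.base x))))
  haveI : IsLocallyNoetherian (f.fiber (f.base x)) :=
    Groth.Agent.H49.CMChart.isLocallyNoetherian_fiber f (f.base x)
  have hlft : ∀ (K : Type u) [Field K] [Algebra κ K], LocallyOfFiniteType (FBase.bcStr q K) :=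
    fun K _ _ => inferInstanceAs (LocallyOfFiniteType
      (pullback.snd q (Spec.map (CommRingCat.ofHom (algebraMap κ K)))))
  have hN : ∀ (K : Type u) [Field K] [Algebra κ K], IsLocallyNoetherian (FBase.bc q K) :=
    fun K _ _ => by
      haveI := hlft K
      exact LocallyOfFiniteType.isLocallyNoetherian (FBase.bcStr q K)
  have sq2 : ∀ (K : Type u) [Field K] [Algebra κ K], IsPullback (FBase.bcπ q K) (FBase.bcStr q K) q
      (Spec.map (CommRingCat.ofHom (algebraMap κ K))) :=
    fun K _ _ => IsPullback.of_hasPullback _ _
  -- `(S_2)` is insensitive to the field extension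
  have hSk : ∀ (K : Type u) [Field K] [Algebra κ K] (x' : ↥(FBase.bc q K)),
      (FBase.bcπ q K).base x' = f.asFiber x →
      (LocCoh.HasSk 2 ((FBase.bc q K).presheaf.stalk x') ((FBase.bc q K).presheaf.stalk x') ↔
        LocCoh.HasSk 2 ((f.fiber (f x)).presheaf.stalk (f.asFiber x))
          ((f.fiber (f x)).presheaf.stalk (f.asFiber x))) := by
    intro K _ _ x' hx'
    haveI := hN K
    have h1 := stalk_iff_of_isPullback_field (isLocProp_hasSkSelf 2) κ K (algebraMap κ K) q
      (FBase.bcπ q K) (FBase.bcStr q K) (sq2 K) (Or.inl inferInstance) x'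
    rw [show (FBase.bcπ q K) x' = f.asFiber x from hx'] at h1
    constructor
    · intro h
      exact h1.mpr (fun {_} => h)
    · intro h
      exact h1.mp (fun {_} => h)
  rw [← geomRk_iff f 1 x]
  constructor
  · intro h
    refine ⟨fun K _ _ x' hx' => ?_, ?_⟩
    · haveI := hN K
      exact ((isNormal_local_iff _).mp (h K x' hx')).1
    · obtain ⟨x', hx'⟩ : ∃ x' : ↥(FBase.bc q κ), (FBase.bcπ q κ).base x' = f.asFiber x := by
        obtain ⟨pt⟩ : Nonempty ↥(Spec (CommRingCat.of κ)) := inferInstance
        obtain ⟨z, hz, -⟩ := Scheme.exists_preimage_of_isPullback (sq2 κ)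
          (f.asFiber x) pt (Subsingleton.elim _ _)
        exact ⟨z, hz⟩
      haveI := hN κ
      exact (hSk κ x' hx').mp ((isNormal_local_iff _).mp (h κ x' hx')).2
  · rintro ⟨hR, hS⟩ K _ _ x' hx'
    haveI := hN K
    exact (isNormal_local_iff _).mpr ⟨hR K x' hx', (hSk K x' hx').mpr hS⟩

/-- **EGA IV 9.9.4 type**: the geometric normality locus of the fibres is locally constructible. -/
theorem isLocallyConstructible_geomNormal {X S : Scheme.{u}} (f : X ⟶ S)
    [LocallyOfFinitePresentation f] :
    IsLocallyConstructible {x : X |
      ∀ (K : Type u) [Field K] [Algebra (IsLocalRing.ResidueField (S.presheaf.stalk (f.base x))) K]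
        (x' : ↥(FBase.bc (f.fiberToSpecResidueField (f.base x)) K)),
        (FBase.bcπ (f.fiberToSpecResidueField (f.base x)) K).base x' = f.asFiber x →
          (IsDomain ((FBase.bc (f.fiberToSpecResidueField (f.base x)) K).presheaf.stalk x') ∧
            IsIntegrallyClosed
              ((FBase.bc (f.fiberToSpecResidueField (f.base x)) K).presheaf.stalk x'))} := by
  have h1 := isLocallyConstructible_prRk f 1
  have h2 := isLocallyConstructible_fibHasSk f 2
  convert h1.inter h2 using 1
  ext x
  exact geomNormal_iff f x

end Groth.Agent.H99.NormFib
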