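import Mathlib
import Groth.Agent.H38.KAFinExt

/-!
# Primes over the maximal ideal of a one-dimensional Noetherian local domain
in a domain whose fraction field is finite over the base (helper99; for S9133).
Built on helper38's Krull–Akizuki for finite extensions.
-/

set_option autoImplicit false
set_option linter.style.haveILetI false
universe u

namespace Groth.Agent.H99.DimOneOver

theorem main (R S K L : Type u)
    [CommRing R] [IsDomain R] [IsNoetherianRing R] [IsLocalRing R] (hdim : ringKrullDim R = 1)
    [CommRing S] [IsDomain S] [Algebra R S] [Field K] [Field L] [Algebra R K] [IsFractionRing R K]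
    [Algebra S L] [IsFractionRing S L] [Algebra K L] [Algebra R L] [IsScalarTower R K L]
    [IsScalarTower R S L] [FiniteDimensional K L] :
    (∀ n ∈ (IsLocalRing.maximalIdeal R).primesOver S, n.IsMaximal) ∧
      ((IsLocalRing.maximalIdeal R).primesOver S).Finite ∧
      ∀ n ∈ (IsLocalRing.maximalIdeal R).primesOver S, Module.Finite R (S ⧸ n) := by
  have hSL : Function.Injective (algebraMap S L) := IsFractionRing.injective S L
  haveI : Ring.KrullDimLE 1 R := by
    rw [Ring.krullDimLE_iff]
    exact hdim.le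
  -- a nonzero element of the maximal ideal
  obtain ⟨a, ham, ha0⟩ : ∃ a ∈ IsLocalRing.maximalIdeal R, a ≠ 0 := by
    by_contra hcon
    push Not at hcon
    have hbot : IsLocalRing.maximalIdeal R = ⊥ := by
      rw [eq_bot_iff]; intro x hx; exact hcon x hx
    have hfield : IsField R := IsLocalRing.isField_iff_maximalIdeal_eq.mpr hbot
    have := ringKrullDim_eq_zero_of_isField hfield
    rw [hdim] at this; exact one_ne_zero this
  let ψ : S →ₐ[R] L := IsScalarTower.toAlgHom R S L
  let AL : Subalgebra R L := ψ.range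
  let e : S ≃ₐ[R] AL := AlgEquiv.ofInjective ψ hSL
  have hfin := Groth.Agent.H38.finite_quotient_of_finite_ext R K L AL a ha0
  haveI hnoethAL := Groth.Agent.H38.isNoetherianRing_subalgebra_of_finite_ext R K L AL
  haveI : IsNoetherianRing S := isNoetherianRing_of_ringEquiv AL e.symm.toRingEquiv
  -- key: for `n` over `m`: the quotient is finite and `n` is maximal
  have key : ∀ n ∈ (IsLocalRing.maximalIdeal R).primesOver S,
      Module.Finite R (S ⧸ n) ∧ n.IsMaximal := by
    rintro n ⟨hnp, hnlo⟩
    have hunder : ∀ x : R, algebraMap R S x ∈ n ↔ x ∈ IsLocalRing.maximalIdeal R := by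
      intro x
      rw [hnlo.over]
      rfl
    have han : algebraMap R S a ∈ n := (hunder a).mpr ham
    let φ : AL →ₐ[R] S ⧸ n := (Ideal.Quotient.mkₐ R n).comp e.symm.toAlgHom
    have hI : ∀ x ∈ Ideal.span {algebraMap R AL a}, φ x = 0 := by
      intro x hx
      rw [Ideal.mem_span_singleton'] at hx
      obtain ⟨y, rfl⟩ := hx
      have : φ (algebraMap R AL a) = 0 := by
        rw [AlgHom.commutes]
        exact Ideal.Quotient.eq_zero_iff_mem.mpr han
      rw [map_mul, this, mul_zero]
    let g : AL ⧸ Ideal.span {algebraMap R AL a} →ₐ[R] S ⧸ n := Ideal.Quotient.liftₐ _ φ hI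
    have hg : Function.Surjective g := by
      intro y
      obtain ⟨s, rfl⟩ := Ideal.Quotient.mk_surjective y
      refine ⟨Ideal.Quotient.mk _ (e s), ?_⟩
      change φ (e s) = _
      simp [φ]
    have hfinQ : Module.Finite R (S ⧸ n) := Module.Finite.of_surjective g.toLinearMap hg
    refine ⟨hfinQ, ?_⟩
    haveI : Algebra.IsIntegral R (S ⧸ n) := Algebra.IsIntegral.of_finite R (S ⧸ n)
    have hker : (⊥ : Ideal (S ⧸ n)).comap (algebraMap R (S ⧸ n)) = IsLocalRing.maximalIdeal R := by
      ext x
      rw [Ideal.mem_comap, Ideal.mem_bot, ← hunder x]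
      exact Ideal.Quotient.eq_zero_iff_mem
    haveI : IsDomain (S ⧸ n) := Ideal.Quotient.isDomain n
    haveI : (⊥ : Ideal (S ⧸ n)).IsPrime := Ideal.isPrime_bot
    have hmax : (⊥ : Ideal (S ⧸ n)).IsMaximal :=
      Ideal.isMaximal_of_isIntegral_of_isMaximal_comap (R := R) ⊥ (by rw [hker]; infer_instance)
    exact Ideal.Quotient.maximal_of_isField n (Ring.isField_iff_maximal_bot.mpr hmax)
  refine ⟨fun n hn => (key n hn).2, ?_, fun n hn => (key n hn).1⟩
  refine Set.Finite.subset
    (Ideal.finite_minimalPrimes_of_isNoetherianRing S (Ideal.span {algebraMap R S a})) ?_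
  rintro n ⟨hnp, hnlo⟩
  have han : algebraMap R S a ∈ n := by
    have : a ∈ n.under R := by rw [← hnlo.over]; exact ham
    exact this
  refine ⟨⟨hnp, (Ideal.span_singleton_le_iff_mem _).mpr han⟩, ?_⟩
  rintro n' ⟨hn'p, hn'a⟩ hn'n
  have hn'a' : algebraMap R S a ∈ n' := (Ideal.span_singleton_le_iff_mem _).mp hn'a
  have hprime : (n'.under R).IsPrime := Ideal.IsPrime.under R n'
  have hne : n'.under R ≠ ⊥ := by
    intro h
    have : a ∈ n'.under R := hn'a'
    rw [h] at this
    exact ha0 this
  have hmax' : (n'.under R).IsMaximal := hprime.isMaximal_of_ne_bot hne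
  have hn'mem : n' ∈ (IsLocalRing.maximalIdeal R).primesOver S :=
    ⟨hn'p, ⟨(IsLocalRing.eq_maximalIdeal hmax').symm⟩⟩
  have h2 := (key n' hn'mem).2
  exact (h2.eq_of_le hnp.ne_top hn'n).ge

end Groth.Agent.H99.DimOneOver
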