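import Mathlib
import Groth.Agent.H99.DimOneOver

/-!
# Primes over a height-one prime in a finite-type algebraic extension of a Noetherian domain
(helper99; for S9130).  Localise at `p` and use `H99.DimOneOver.main`.
-/

set_option autoImplicit false
set_option linter.style.haveILetI false
universe u

namespace Groth.Agent.H99.DimOneOverB

open nonZeroDivisors IsLocalization Algebra

attribute [local instance] FractionRing.liftAlgebra
attribute [local instance] Localization.AtPrime.liftAlgebra

theorem finiteDimensional_fractionRing (A B : Type u) [CommRing A] [IsDomain A]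
    [CommRing B] [IsDomain B] [Algebra A B] [FaithfulSMul A B]
    [Algebra.FiniteType A B] [Algebra.IsAlgebraic A B] :
    FiniteDimensional (FractionRing A) (FractionRing B) := by
  have h1 : Algebra.IsAlgebraic A (FractionRing B) :=
    (IsFractionRing.isAlgebraic_iff' A B (FractionRing B)).1 inferInstance
  haveI : Algebra.IsAlgebraic (FractionRing A) (FractionRing B) :=
    ⟨fun x => (IsFractionRing.isAlgebraic_iff A (FractionRing A) (FractionRing B)).1
      (Algebra.IsAlgebraic.isAlgebraic x)⟩
  haveI : Algebra.EssFiniteType B (FractionRing B) :=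
    Algebra.EssFiniteType.of_isLocalization (FractionRing B) (nonZeroDivisors B)
  haveI : Algebra.EssFiniteType A (FractionRing B) := Algebra.EssFiniteType.comp A B _
  haveI : Algebra.EssFiniteType (FractionRing A) (FractionRing B) :=
    Algebra.EssFiniteType.of_comp A (FractionRing A) (FractionRing B)
  exact Algebra.finite_of_essFiniteType_of_isAlgebraic

theorem main (A B : Type u) [CommRing A] [IsDomain A]
    [IsNoetherianRing A] [CommRing B] [IsDomain B] [Algebra A B] [FaithfulSMul A B]
    [Algebra.FiniteType A B] [Algebra.IsAlgebraic A B] (p : Ideal A) [p.IsPrime]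
    (hp : p.height = 1) :
    (p.primesOver B).Finite ∧ ∀ q ∈ p.primesOver B, q.height = 1 := by
  have hP' : algebraMapSubmonoid B p.primeCompl ≤ B⁰ :=
    algebraMapSubmonoid_le_nonZeroDivisors_of_faithfulSMul _ p.primeCompl_le_nonZeroDivisors
  haveI : IsDomain (Localization (algebraMapSubmonoid B p.primeCompl)) :=
    IsLocalization.isDomain_localization hP'
  have hdim : ringKrullDim (Localization.AtPrime p) = 1 := by
    rw [IsLocalization.AtPrime.ringKrullDim_eq_height p (Localization.AtPrime p), hp]
    rfl
  haveI := finiteDimensional_fractionRing A B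
  obtain ⟨hmaxall, hfinite, -⟩ := Groth.Agent.H99.DimOneOver.main (Localization.AtPrime p)
    (Localization (algebraMapSubmonoid B p.primeCompl)) (FractionRing A) (FractionRing B) hdim
  -- the map on primes
  have hmap : ∀ q ∈ p.primesOver B,
      Ideal.map (algebraMap B (Localization (algebraMapSubmonoid B p.primeCompl))) q ∈
        (IsLocalRing.maximalIdeal (Localization.AtPrime p)).primesOver
          (Localization (algebraMapSubmonoid B p.primeCompl)) ∧
      Ideal.comap (algebraMap B (Localization (algebraMapSubmonoid B p.primeCompl)))
        (Ideal.map (algebraMap B (Localization (algebraMapSubmonoid B p.primeCompl))) q) = q := by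
    rintro q ⟨hqp, hqlo⟩
    have hdisj : Disjoint ((algebraMapSubmonoid B p.primeCompl : Submonoid B) : Set B) (q : Set B) :=
      Ideal.disjoint_primeCompl_of_liesOver q p
    have hprime := IsLocalization.isPrime_of_isPrime_disjoint
      (algebraMapSubmonoid B p.primeCompl) (Localization (algebraMapSubmonoid B p.primeCompl))
      q hqp hdisj
    have hcomap := IsLocalization.under_map_of_isPrime_disjoint
      (algebraMapSubmonoid B p.primeCompl) (Localization (algebraMapSubmonoid B p.primeCompl))
      hqp hdisj
    refine ⟨⟨hprime, ⟨?_⟩⟩, hcomap⟩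
    apply le_antisymm
    · rw [← IsLocalization.AtPrime.map_eq_maximalIdeal p (Localization.AtPrime p),
        Ideal.map_le_iff_le_comap]
      intro a ha
      rw [Ideal.mem_comap, Ideal.under_def, Ideal.mem_comap,
        ← IsScalarTower.algebraMap_apply A (Localization.AtPrime p),
        IsScalarTower.algebraMap_apply A B]
      apply Ideal.mem_map_of_mem
      have : a ∈ q.under A := by rw [← hqlo.over]; exact ha
      exact this
    · haveI := hprime
      exact IsLocalRing.le_maximalIdeal (Ideal.IsPrime.ne_top (Ideal.IsPrime.under _ _))
  constructor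
  · refine Set.Finite.subset (hfinite.image
      (Ideal.comap (algebraMap B (Localization (algebraMapSubmonoid B p.primeCompl))))) ?_
    intro q hq
    exact ⟨_, (hmap q hq).1, (hmap q hq).2⟩
  · rintro q hq
    obtain ⟨hqp, hqlo⟩ := hq
    have hpne : p ≠ ⊥ := Ideal.ne_bot_of_height_eq_one hp
    have hinj : Function.Injective (algebraMap A B) := FaithfulSMul.algebraMap_injective A B
    have hqne : q ≠ ⊥ := by
      rintro rfl
      apply hpne
      rw [hqlo.over, Ideal.under_def, Ideal.comap_bot_of_injective _ hinj]
    apply le_antisymm
    · rw [show (1 : ℕ∞) = ((1 : ℕ) : ℕ∞) from rfl, Ideal.height_le_iff]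
      intro q' hq'p hq'q
      suffices h : q' = ⊥ by
        rw [h, Ideal.height_bot]; exact zero_lt_one
      by_contra hq'0
      obtain ⟨x, hxq', hx0⟩ := Submodule.exists_mem_ne_zero_of_ne_bot hq'0
      have hune : q'.under A ≠ ⊥ :=
        Ideal.comap_ne_bot_of_algebraic_mem hx0 hxq' (Algebra.IsAlgebraic.isAlgebraic x)
      have hule : q'.under A ≤ p := by
        rw [hqlo.over]
        exact Ideal.comap_mono hq'q.le
      haveI hupr : (q'.under A).IsPrime := Ideal.IsPrime.under A q'
      have hueq : q'.under A = p := by
        by_contra hne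
        have hlt : q'.under A < p := lt_of_le_of_ne hule hne
        have := Ideal.height_strict_mono_of_isPrime hlt
        rw [hp, Order.lt_one_iff, Ideal.height_eq_zero_iff_eq_bot] at this
        exact hune this
      have hq'mem : q' ∈ p.primesOver B := ⟨hq'p, ⟨hueq.symm⟩⟩
      have h1 := hmap q' hq'mem
      have h2 := hmap q ⟨hqp, hqlo⟩
      have hmax := hmaxall _ h1.1
      have hle : Ideal.map (algebraMap B (Localization (algebraMapSubmonoid B p.primeCompl))) q' ≤
          Ideal.map (algebraMap B (Localization (algebraMapSubmonoid B p.primeCompl))) q :=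
        Ideal.map_mono hq'q.le
      have heq := hmax.eq_of_le h2.1.1.ne_top hle
      have : q' = q := by rw [← h1.2, ← h2.2, heq]
      exact hq'q.ne this
    · rw [Order.one_le_iff_ne_zero, Ne, Ideal.height_eq_zero_iff_eq_bot]
      exact hqne

end Groth.Agent.H99.DimOneOverB
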