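import Mathlib

/-!
# Algebra core for "closed points of the special fibre are specializations of closed points of
the generic fibre" (part A): a Noetherian domain with a maximal ideal `m` all of whose nonzero
sub-primes contain a fixed nonzero element has no primes strictly between `⊥` and `m`.
-/

set_option autoImplicit false

namespace Groth.Agent.H99.GenSpec

open Ideal

/-- Lemma A: Let `D` be a Noetherian domain, `m` a maximal ideal and `ϖ ≠ 0` such that every nonzero
prime contained in `m` contains `ϖ`. Then the only primes contained in `m` are `⊥` and `m`. -/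
theorem prime_le_max_eq {D : Type*} [CommRing D] [IsDomain D] [IsNoetherianRing D]
    (m : Ideal D) [hm : m.IsMaximal] (ϖ : D) (hϖ0 : ϖ ≠ 0)
    (H : ∀ P : Ideal D, P.IsPrime → P ≤ m → P ≠ ⊥ → ϖ ∈ P)
    (P : Ideal D) (hP : P.IsPrime) (hPm : P ≤ m) : P = ⊥ ∨ P = m := by
  classical
  by_contra hcon
  push Not at hcon
  obtain ⟨hP0, hPm'⟩ := hcon
  have hfin : (Ideal.span {ϖ}).minimalPrimes.Finite :=
    Ideal.finite_minimalPrimes_of_isNoetherianRing D _
  have hϖP : ϖ ∈ P := H P hP hPm hP0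
  -- `m` is contained in no minimal prime over `ϖ`
  have h1 : ∀ Q ∈ (Ideal.span {ϖ}).minimalPrimes, ¬ m ≤ Q := by
    intro Q hQ hmQ
    have hQm : m = Q := hm.eq_of_le hQ.1.1.ne_top hmQ
    have hle : Q ≤ P :=
      hQ.2 ⟨hP, (Ideal.span_singleton_le_iff_mem _).mpr hϖP⟩ (hQm ▸ hPm)
    exact hPm' (le_antisymm hPm (hQm ▸ hle))
  -- prime avoidance
  have h2 : ¬ ((m : Set D) ⊆ ⋃ K ∈ (insert ⊥ hfin.toFinset : Finset (Ideal D)), (K : Set D)) := by
    refine (Ideal.subset_union_prime (f := fun K : Ideal D => K) ⊥ ⊥ ?_).not.mpr ?_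
    · intro K hK hK0 _
      rw [Finset.mem_insert] at hK
      rcases hK with hK | hK
      · exact absurd hK hK0
      · exact (hfin.mem_toFinset.mp hK).1.1
    · rintro ⟨K, hK, hmK⟩
      rw [Finset.mem_insert] at hK
      rcases hK with hK | hK
      · subst hK
        exact hP0 (le_bot_iff.mp (hPm.trans hmK))
      · exact h1 K (hfin.mem_toFinset.mp hK) hmK
  rw [Set.not_subset] at h2
  obtain ⟨a, ham, haK⟩ := h2
  have ha0 : a ≠ 0 := by
    rintro rfl
    apply haK
    simp only [Set.mem_iUnion]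
    exact ⟨⊥, Finset.mem_insert_self _ _, by simp⟩
  -- a minimal prime `Q'` over `a` inside `m`
  obtain ⟨Q', hQ', hQ'm⟩ := Ideal.exists_minimalPrimes_le
    (I := Ideal.span {a}) (J := m) ((Ideal.span_singleton_le_iff_mem _).mpr ham)
  have hQ'prime : Q'.IsPrime := hQ'.1.1
  have haQ' : a ∈ Q' := (Ideal.span_singleton_le_iff_mem _).mp hQ'.1.2
  have hQ'0 : Q' ≠ ⊥ := by
    rintro rfl
    exact ha0 (by simpa using haQ')
  have hQ'ht : Q'.height ≤ 1 :=
    Ideal.height_le_one_of_isPrincipal_of_mem_minimalPrimes (Ideal.span {a}) Q' hQ'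
  have hϖQ' : ϖ ∈ Q' := H Q' hQ'prime hQ'm hQ'0
  obtain ⟨Q, hQ, hQQ'⟩ := Ideal.exists_minimalPrimes_le
    (I := Ideal.span {ϖ}) (J := Q') ((Ideal.span_singleton_le_iff_mem _).mpr hϖQ')
  have hQprime : Q.IsPrime := hQ.1.1
  have hϖQ : ϖ ∈ Q := (Ideal.span_singleton_le_iff_mem _).mp hQ.1.2
  have hQ0 : Q ≠ ⊥ := by
    rintro rfl
    exact hϖ0 (by simpa using hϖQ)
  have hQeq : Q = Q' := by
    by_contra hne
    have hlt : Q < Q' := lt_of_le_of_ne hQQ' hne
    have := (Ideal.height_le_iff (p := Q') (n := 1)).mp (by exact_mod_cast hQ'ht) Q hQprime hlt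
    have h0 : Q.height = 0 := by
      have : Q.height < 1 := by exact_mod_cast this
      exact Order.lt_one_iff.mp this
    exact hQ0 (Ideal.height_eq_zero_iff_eq_bot.mp h0)
  apply haK
  simp only [Set.mem_iUnion]
  exact ⟨Q, Finset.mem_insert_of_mem (hfin.mem_toFinset.mpr hQ), hQeq ▸ haQ'⟩

end Groth.Agent.H99.GenSpec
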