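import Mathlib
import Groth.Agent.H99.GenSpecA

/-!
# Algebra core (part B): isolated in the fibre, quasi-finite, algebraic.
-/

set_option autoImplicit false

namespace Groth.Agent.H99.GenSpec

open Ideal

/-- Lemma B: if the only primes below the maximal ideal `m` of the Noetherian domain `D` are `⊥`
and `m`, and `0 ≠ ϖ ∈ m`, then `m` is an isolated point of `V(ϖ)`. -/
theorem exists_isOpen_inter_zeroLocus_eq {D : Type*} [CommRing D] [IsDomain D] [IsNoetherianRing D]
    (m : Ideal D) [hm : m.IsMaximal] (ϖ : D) (hϖm : ϖ ∈ m) (hϖ0 : ϖ ≠ 0)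
    (H : ∀ P : Ideal D, P.IsPrime → P ≤ m → P = ⊥ ∨ P = m) :
    ∃ W : Set (PrimeSpectrum D), IsOpen W ∧
      ∀ x : PrimeSpectrum D, (x ∈ W ∧ ϖ ∈ x.asIdeal) ↔ x.asIdeal = m := by
  classical
  have hfin : (Ideal.span {ϖ}).minimalPrimes.Finite :=
    Ideal.finite_minimalPrimes_of_isNoetherianRing D _
  refine ⟨(⋃ Q ∈ {Q ∈ (Ideal.span {ϖ}).minimalPrimes | Q ≠ m},
    PrimeSpectrum.zeroLocus (Q : Set D))ᶜ, ?_, ?_⟩
  · rw [isOpen_compl_iff]
    exact (hfin.subset (fun Q hQ => hQ.1)).isClosed_biUnion
      (fun Q _ => PrimeSpectrum.isClosed_zeroLocus _)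
  · intro x
    constructor
    · rintro ⟨hxW, hϖx⟩
      obtain ⟨Q, hQ, hQx⟩ := Ideal.exists_minimalPrimes_le
        (I := Ideal.span {ϖ}) (J := x.asIdeal) ((Ideal.span_singleton_le_iff_mem _).mpr hϖx)
      have hQm : Q = m := by
        by_contra hne
        apply hxW
        simp only [Set.mem_iUnion]
        exact ⟨Q, ⟨hQ, hne⟩, hQx⟩
      subst hQm
      exact (hm.eq_of_le x.2.ne_top hQx).symm
    · intro hx
      refine ⟨?_, hx ▸ hϖm⟩
      simp only [Set.mem_compl_iff, Set.mem_iUnion, not_exists]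
      rintro Q ⟨hQ, hne⟩ hQx
      have hQprime : Q.IsPrime := hQ.1.1
      have hQle : Q ≤ m := by
        intro a ha
        rw [← hx]
        exact hQx ha
      rcases H Q hQprime hQle with h | h
      · subst h
        have : ϖ ∈ (⊥ : Ideal D) := (Ideal.span_singleton_le_iff_mem _).mp hQ.1.2
        exact hϖ0 (by simpa using this)
      · exact hne h

/-- Lemma C: under the same hypotheses, with `D` of finite type over `R` and `ϖ` the image of an
element of `m ∩ R`, the algebra `D` is quasi-finite at `m` over `R`. -/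
theorem quasiFiniteAt_of_isolated {R D : Type*} [CommRing R] [CommRing D] [IsDomain D]
    [IsNoetherianRing D] [Algebra R D] [Algebra.FiniteType R D]
    (m : Ideal D) [hm : m.IsMaximal] (π : R) (hπm : algebraMap R D π ∈ m)
    (hπ0 : algebraMap R D π ≠ 0)
    (H : ∀ P : Ideal D, P.IsPrime → P ≤ m → P = ⊥ ∨ P = m) :
    Algebra.QuasiFiniteAt R m := by
  obtain ⟨W, hWo, hW⟩ := exists_isOpen_inter_zeroLocus_eq m (algebraMap R D π) hπm hπ0 H
  let q : PrimeSpectrum D := ⟨m, hm.isPrime⟩
  have key := Algebra.QuasiFiniteAt.of_isOpen_singleton_fiber (R := R) (S := D) q ?_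
  · exact key
  · have : ({⟨q, rfl⟩} : Set ((PrimeSpectrum.comap (algebraMap R D)) ⁻¹'
        {q.comap (algebraMap R D)})) = Subtype.val ⁻¹' W := by
      ext ⟨x, hx⟩
      simp only [Set.mem_singleton_iff, Set.mem_preimage]
      have hπx : algebraMap R D π ∈ x.asIdeal := by
        have h1 : x.comap (algebraMap R D) = q.comap (algebraMap R D) := hx
        have h2 : π ∈ (q.comap (algebraMap R D)).asIdeal := hπm
        rw [← h1] at h2
        exact h2
      constructor
      · intro h
        have hxq : x = q := congrArg Subtype.val h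
        rw [hxq]
        exact ((hW q).mpr rfl).1
      · intro hxW
        have hxq : x = q := PrimeSpectrum.ext ((hW x).mp ⟨hxW, hπx⟩)
        exact Subtype.ext hxq
    rw [this]
    exact hWo.preimage continuous_subtype_val

end Groth.Agent.H99.GenSpec

namespace Groth.Agent.H99.GenSpec

/-- Lemma D: a domain of finite type over a domain `R`, quasi-finite over `R` at some prime, is
algebraic over `R` (by Zariski's main theorem). -/
theorem isAlgebraic_of_quasiFiniteAt {R D : Type*} [CommRing R] [IsDomain R] [CommRing D]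
    [IsDomain D] [Algebra R D] [Algebra.FiniteType R D]
    (m : Ideal D) [m.IsPrime] [Algebra.QuasiFiniteAt R m] : Algebra.IsAlgebraic R D := by
  obtain ⟨S', hS', r, hrm, hbij⟩ :=
    Algebra.QuasiFiniteAt.exists_fg_and_exists_notMem_and_awayMap_bijective (R := R) m
  have hsurj := Localization.awayMap_surjective_iff.mp hbij.2
  have hr0 : (r : D) ≠ 0 := by
    intro h
    exact hrm (h ▸ m.zero_mem)
  refine ⟨fun d => ?_⟩
  obtain ⟨b, n, hb⟩ := hsurj d
  have hb' : (b : D) = (r : D) ^ n * d := by simpa using hb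
  have h1 : IsAlgebraic R ((r : D) ^ n) :=
    (IsIntegral.of_mem_of_fg S' hS' _ (pow_mem r.2 n)).isAlgebraic
  have h2 : IsAlgebraic R ((r : D) ^ n * d) := by
    rw [← hb']
    exact (IsIntegral.of_mem_of_fg S' hS' _ b.2).isAlgebraic
  exact IsAlgebraic.of_mul (mem_nonZeroDivisors_of_ne_zero (pow_ne_zero n hr0)) h1 h2

end Groth.Agent.H99.GenSpec
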