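import Mathlib
import Groth.Agent.H99.GenSpecB
import Groth.Agent.H99.DimOneOver
import Groth.Agent.H99.DimOneOverB

/-!
# Quasi-finiteness over points of codimension `≤ 1` (helper99; for S1608)

Ring-level core: if `R₀ → C` is of finite type, `Qξ ≤ Q₁ < Q₂` are primes of `C` with `Q₁`, `Q₂`
over the same prime `p` of `R₀`, `(R₀)_p` is Noetherian of dimension `≤ 1` and `C` is quasi-finite
at `Qξ`, we get a contradiction.
-/

set_option autoImplicit false
set_option linter.style.haveILetI false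
universe u

namespace Groth.Agent.H99.QFCodimOne

open nonZeroDivisors IsLocalization Algebra

attribute [local instance] FractionRing.liftAlgebra
attribute [local instance] Localization.AtPrime.liftAlgebra

/-- In a finite-type algebraic extension of domains `A ⊆ B`, there is no strict chain of primes
of `B` over a prime `p` of `A` such that `A_p` is Noetherian of dimension `≤ 1`. -/
theorem no_chain_over (A B : Type u) [CommRing A] [IsDomain A]
    [CommRing B] [IsDomain B] [Algebra A B] [FaithfulSMul A B]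
    [Algebra.FiniteType A B] [Algebra.IsAlgebraic A B] (p : Ideal A) [p.IsPrime]
    [IsNoetherianRing (Localization.AtPrime p)]
    (hdim : ringKrullDim (Localization.AtPrime p) ≤ 1)
    (N₁ N₂ : Ideal B) [hN₁ : N₁.IsPrime] [hN₂ : N₂.IsPrime] (h12 : N₁ < N₂)
    (h1 : N₁.under A = p) (h2 : N₂.under A = p) : False := by
  have hN2 : N₂ ≠ ⊥ := fun h => by rw [h] at h12; exact not_lt_bot h12
  obtain ⟨x, hxN, hx0⟩ := Submodule.exists_mem_ne_zero_of_ne_bot hN2
  have hpne : p ≠ ⊥ := by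
    rw [← h2]
    exact Ideal.comap_ne_bot_of_algebraic_mem hx0 hxN (Algebra.IsAlgebraic.isAlgebraic x)
  have hdim1 : ringKrullDim (Localization.AtPrime p) = 1 := by
    apply le_antisymm hdim
    rw [IsLocalization.AtPrime.ringKrullDim_eq_height p (Localization.AtPrime p)]
    have h1 : 1 ≤ p.height := by
      rw [Order.one_le_iff_ne_zero, Ne, Ideal.height_eq_zero_iff_eq_bot]
      exact hpne
    exact_mod_cast h1
  have hP' : algebraMapSubmonoid B p.primeCompl ≤ B⁰ :=
    algebraMapSubmonoid_le_nonZeroDivisors_of_faithfulSMul _ p.primeCompl_le_nonZeroDivisors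
  haveI : IsDomain (Localization (algebraMapSubmonoid B p.primeCompl)) :=
    IsLocalization.isDomain_localization hP'
  haveI := Groth.Agent.H99.DimOneOverB.finiteDimensional_fractionRing A B
  obtain ⟨hmaxall, -, -⟩ := Groth.Agent.H99.DimOneOver.main (Localization.AtPrime p)
    (Localization (algebraMapSubmonoid B p.primeCompl)) (FractionRing A) (FractionRing B) hdim1
  have hmap : ∀ q ∈ p.primesOver B,
      Ideal.map (algebraMap B (Localization (algebraMapSubmonoid B p.primeCompl))) q ∈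
        (IsLocalRing.maximalIdeal (Localization.AtPrime p)).primesOver
          (Localization (algebraMapSubmonoid B p.primeCompl)) ∧
      Ideal.comap (algebraMap B (Localization (algebraMapSubmonoid B p.primeCompl)))
        (Ideal.map (algebraMap B (Localization (algebraMapSubmonoid B p.primeCompl))) q) = q := by
    rintro q ⟨hqp, hqlo⟩
    have hdisj : Disjoint ((algebraMapSubmonoid B p.primeCompl : Submonoid B) : Set B) (q : Set B) :=
      Ideal.disjoint_primeCompl_of_liesOver q p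
    have hprime := IsLocalization.isPrime_of_isPrime_disjoint
      (algebraMapSubmonoid B p.primeCompl) (Localization (algebraMapSubmonoid B p.primeCompl))
      q hqp hdisj
    have hcomap := IsLocalization.under_map_of_isPrime_disjoint
      (algebraMapSubmonoid B p.primeCompl) (Localization (algebraMapSubmonoid B p.primeCompl))
      hqp hdisj
    refine ⟨⟨hprime, ⟨?_⟩⟩, hcomap⟩
    apply le_antisymm
    · rw [← IsLocalization.AtPrime.map_eq_maximalIdeal p (Localization.AtPrime p),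
        Ideal.map_le_iff_le_comap]
      intro a ha
      rw [Ideal.mem_comap, Ideal.under_def, Ideal.mem_comap,
        ← IsScalarTower.algebraMap_apply A (Localization.AtPrime p),
        IsScalarTower.algebraMap_apply A B]
      apply Ideal.mem_map_of_mem
      have : a ∈ q.under A := by rw [← hqlo.over]; exact ha
      exact this
    · haveI := hprime
      exact IsLocalRing.le_maximalIdeal (Ideal.IsPrime.ne_top (Ideal.IsPrime.under _ _))
  have hm1 := hmap N₁ ⟨hN₁, ⟨h1.symm⟩⟩
  have hm2 := hmap N₂ ⟨hN₂, ⟨h2.symm⟩⟩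
  have hmax := hmaxall _ hm1.1
  have hle : Ideal.map (algebraMap B (Localization (algebraMapSubmonoid B p.primeCompl))) N₁ ≤
      Ideal.map (algebraMap B (Localization (algebraMapSubmonoid B p.primeCompl))) N₂ :=
    Ideal.map_mono h12.le
  have heq := hmax.eq_of_le hm2.1.1.ne_top hle
  have : N₁ = N₂ := by rw [← hm1.2, ← hm2.2, heq]
  exact h12.ne this

/-- **Ring-level core.**  `R₀ → C` of finite type, primes `Qξ ≤ Q₁ < Q₂` of `C` with `Q₁`, `Q₂`
over the same prime `p` of `R₀`, `(R₀)_p` Noetherian of dimension `≤ 1`, and `C` quasi-finite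
at `Qξ` over `R₀`: contradiction. -/
theorem no_chain_of_quasiFiniteAt (R₀ C : Type u) [CommRing R₀] [CommRing C] [Algebra R₀ C]
    [Algebra.FiniteType R₀ C] (Qξ Q₁ Q₂ : Ideal C) [hQξ : Qξ.IsPrime] [hQ₁ : Q₁.IsPrime]
    [hQ₂ : Q₂.IsPrime]
    [hnoeth : IsNoetherianRing (Localization.AtPrime (Q₁.under R₀))]
    (hdim : ringKrullDim (Localization.AtPrime (Q₁.under R₀)) ≤ 1)
    (h01 : Qξ ≤ Q₁) (h12 : Q₁ < Q₂) (hu : Q₁.under R₀ = Q₂.under R₀)
    [hqf : Algebra.QuasiFiniteAt R₀ Qξ] : False := by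
  let q : Ideal R₀ := Qξ.under R₀
  haveI : Qξ.LiesOver q := ⟨rfl⟩
  haveI : IsDomain (R₀ ⧸ q) := Ideal.Quotient.isDomain q
  haveI : IsDomain (C ⧸ Qξ) := Ideal.Quotient.isDomain Qξ
  haveI : Algebra.FiniteType R₀ (C ⧸ Qξ) :=
    .of_surjective (Ideal.Quotient.mkₐ R₀ Qξ) (Ideal.Quotient.mkₐ_surjective R₀ Qξ)
  haveI : Algebra.FiniteType (R₀ ⧸ q) (C ⧸ Qξ) := .of_restrictScalars_finiteType R₀ _ _
  haveI hbotprime : (⊥ : Ideal (C ⧸ Qξ)).IsPrime := Ideal.isPrime_bot
  haveI : Algebra.QuasiFiniteAt R₀ (⊥ : Ideal (C ⧸ Qξ)) :=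
    Algebra.QuasiFiniteAt.of_surjectiveOnStalks Qξ (Ideal.Quotient.mkₐ R₀ Qξ)
      (RingHom.surjectiveOnStalks_of_surjective (Ideal.Quotient.mkₐ_surjective R₀ Qξ)) ⊥
      (by
        ext c
        simp only [Ideal.mem_comap, Ideal.mem_bot]
        exact (Ideal.Quotient.eq_zero_iff_mem).symm)
  haveI : Algebra.QuasiFiniteAt (R₀ ⧸ q) (⊥ : Ideal (C ⧸ Qξ)) :=
    Algebra.QuasiFinite.of_restrictScalars R₀ _ _
  haveI : Algebra.IsAlgebraic (R₀ ⧸ q) (C ⧸ Qξ) :=
    Groth.Agent.H99.GenSpec.isAlgebraic_of_quasiFiniteAt (⊥ : Ideal (C ⧸ Qξ))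
  -- the primes `N₁ < N₂` of `D = C ⧸ Qξ`
  have hmk : Function.Surjective (Ideal.Quotient.mk Qξ) := Ideal.Quotient.mk_surjective
  have hker1 : RingHom.ker (Ideal.Quotient.mk Qξ) ≤ Q₁ := by rw [Ideal.mk_ker]; exact h01
  have hker2 : RingHom.ker (Ideal.Quotient.mk Qξ) ≤ Q₂ := by
    rw [Ideal.mk_ker]; exact h01.trans h12.le
  haveI hN₁ : (Q₁.map (Ideal.Quotient.mk Qξ)).IsPrime := Ideal.map_isPrime_of_surjective hmk hker1
  haveI hN₂ : (Q₂.map (Ideal.Quotient.mk Qξ)).IsPrime := Ideal.map_isPrime_of_surjective hmk hker2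
  have hc1 : (Q₁.map (Ideal.Quotient.mk Qξ)).comap (Ideal.Quotient.mk Qξ) = Q₁ := by
    rw [Ideal.comap_map_of_surjective _ hmk, ← RingHom.ker_eq_comap_bot]
    exact sup_eq_left.mpr hker1
  have hc2 : (Q₂.map (Ideal.Quotient.mk Qξ)).comap (Ideal.Quotient.mk Qξ) = Q₂ := by
    rw [Ideal.comap_map_of_surjective _ hmk, ← RingHom.ker_eq_comap_bot]
    exact sup_eq_left.mpr hker2
  have hN12 : Q₁.map (Ideal.Quotient.mk Qξ) < Q₂.map (Ideal.Quotient.mk Qξ) := by
    refine lt_of_le_of_ne (Ideal.map_mono h12.le) fun h => h12.ne ?_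
    rw [← hc1, ← hc2, h]
  -- contractions to `R₁ = R₀ ⧸ q`
  have hsq : ∀ N : Ideal (C ⧸ Qξ), (N.under (R₀ ⧸ q)).comap (Ideal.Quotient.mk q) =
      (N.comap (Ideal.Quotient.mk Qξ)).under R₀ := by
    intro N
    ext a
    simp only [Ideal.under_def, Ideal.mem_comap]
    rfl
  set p₁ : Ideal (R₀ ⧸ q) := (Q₁.map (Ideal.Quotient.mk Qξ)).under (R₀ ⧸ q) with hp₁
  haveI hp₁prime : p₁.IsPrime := Ideal.IsPrime.under _ _
  have hp₁c : p₁.comap (Ideal.Quotient.mk q) = Q₁.under R₀ := by rw [hp₁, hsq, hc1]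
  have hmkq : Function.Surjective (Ideal.Quotient.mk q) := Ideal.Quotient.mk_surjective
  have hu2 : (Q₂.map (Ideal.Quotient.mk Qξ)).under (R₀ ⧸ q) = p₁ := by
    have h2c : ((Q₂.map (Ideal.Quotient.mk Qξ)).under (R₀ ⧸ q)).comap (Ideal.Quotient.mk q) =
        p₁.comap (Ideal.Quotient.mk q) := by rw [hsq, hc2, hp₁c, hu]
    have := congrArg (Ideal.map (Ideal.Quotient.mk q)) h2c
    rwa [Ideal.map_comap_of_surjective _ hmkq, Ideal.map_comap_of_surjective _ hmkq] at this
  -- `(R₁)_{p₁}` is Noetherian of dimension `≤ 1`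
  have key : ∀ (P : Ideal R₀) [P.IsPrime], P = Q₁.under R₀ →
      IsNoetherianRing (Localization.AtPrime P) ∧ ringKrullDim (Localization.AtPrime P) ≤ 1 := by
    rintro P _ rfl
    exact ⟨hnoeth, hdim⟩
  haveI : (p₁.comap (Ideal.Quotient.mk q)).IsPrime := Ideal.comap_isPrime _ _
  obtain ⟨hnoeth', hdim'⟩ := key (p₁.comap (Ideal.Quotient.mk q)) hp₁c
  have hsurj := RingHom.surjective_localRingHom_of_surjective (Ideal.Quotient.mk q) hmkq p₁
  haveI : IsNoetherianRing (Localization.AtPrime p₁) :=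
    isNoetherianRing_of_surjective _ _ _ hsurj
  have hdim₁ : ringKrullDim (Localization.AtPrime p₁) ≤ 1 :=
    (ringKrullDim_le_of_surjective _ hsurj).trans hdim'
  exact no_chain_over (R₀ ⧸ q) (C ⧸ Qξ) p₁ hdim₁ _ _ hN12 rfl hu2

/-- A prime of a finite-type algebra which is both minimal and maximal among the primes with the
same contraction is isolated in its fibre, hence the algebra is quasi-finite there. -/
theorem quasiFiniteAt_of_min_max (R₀ C : Type u) [CommRing R₀] [CommRing C] [Algebra R₀ C]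
    [Algebra.FiniteType R₀ C] (P : Ideal C) [hP : P.IsPrime]
    (hmax : ∀ Q : Ideal C, Q.IsPrime → P ≤ Q → Q.under R₀ = P.under R₀ → Q = P)
    (hmin : ∀ Q : Ideal C, Q.IsPrime → Q ≤ P → Q.under R₀ = P.under R₀ → Q = P) :
    Algebra.QuasiFiniteAt R₀ P := by
  let q : PrimeSpectrum C := ⟨P, hP⟩
  refine Algebra.QuasiFiniteAt.of_isOpen_singleton_fiber (R := R₀) q ?_
  let p := q.comap (algebraMap R₀ C)
  let e := PrimeSpectrum.preimageHomeomorphFiber R₀ C p
  rw [← e.isOpen_image, Set.image_singleton]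
  haveI : IsNoetherianRing (p.asIdeal.Fiber C) :=
    Algebra.FiniteType.isNoetherianRing p.asIdeal.ResidueField _
  haveI : IsJacobsonRing (p.asIdeal.Fiber C) :=
    isJacobsonRing_of_finiteType (A := p.asIdeal.ResidueField)
  rw [(PrimeSpectrum.isOpen_singleton_tfae_of_isNoetherian_of_isJacobsonRing _).out 0 2 rfl rfl]
  constructor
  · rw [← Set.image_singleton, e.isClosed_image]
    have : ({⟨q, rfl⟩} : Set (PrimeSpectrum.comap (algebraMap R₀ C) ⁻¹' {p})) =
        Subtype.val ⁻¹' (PrimeSpectrum.zeroLocus (P : Set C)) := by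
      ext ⟨z, hz⟩
      simp only [Set.mem_singleton_iff, Set.mem_preimage,
        PrimeSpectrum.mem_zeroLocus, SetLike.coe_subset_coe]
      constructor
      · intro h
        have hzq : z = q := congrArg Subtype.val h
        rw [hzq]
      · intro hle
        have hzu : z.asIdeal.under R₀ = P.under R₀ := congrArg PrimeSpectrum.asIdeal hz
        have hzq : z = q := PrimeSpectrum.ext (hmax z.asIdeal z.2 hle hzu)
        exact Subtype.ext hzq
    rw [this]
    exact (PrimeSpectrum.isClosed_zeroLocus _).preimage continuous_subtype_val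
  · intro x y hyx hx
    rw [Set.mem_singleton_iff] at hx ⊢
    subst hx
    have h1 : e.symm y ⤳ e.symm (e ⟨q, rfl⟩) := hyx.map e.symm.continuous
    rw [e.symm_apply_apply] at h1
    have h2 : (e.symm y).1 ⤳ q := (subtype_specializes_iff _ _).mp h1
    rw [← PrimeSpectrum.le_iff_specializes] at h2
    have hzu : (e.symm y).1.asIdeal.under R₀ = P.under R₀ :=
      congrArg PrimeSpectrum.asIdeal (e.symm y).2
    have h3 : (e.symm y).1 = q :=
      PrimeSpectrum.ext (hmin (e.symm y).1.asIdeal (e.symm y).1.2 h2 hzu)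
    have h4 : e.symm y = ⟨q, rfl⟩ := Subtype.ext h3
    rw [← h4, e.apply_symm_apply]

/-- **Ring-level form of S1608.**  `R₀ → C` of finite type, `P` a prime of `C` over `p` with
`(R₀)_p` Noetherian of dimension `≤ 1`.  If every prime `Q₁` of `C` in the fibre of `p` comparable
with `P` contains a prime at which `C` is quasi-finite over `R₀`, then `C` is quasi-finite at
`P`. -/
theorem quasiFiniteAt_of_generic (R₀ C : Type u) [CommRing R₀] [CommRing C] [Algebra R₀ C]
    [Algebra.FiniteType R₀ C] (P : Ideal C) [hP : P.IsPrime]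
    [hnoeth : IsNoetherianRing (Localization.AtPrime (P.under R₀))]
    (hdim : ringKrullDim (Localization.AtPrime (P.under R₀)) ≤ 1)
    (H : ∀ Q₁ : Ideal C, Q₁.IsPrime → Q₁.under R₀ = P.under R₀ → (Q₁ ≤ P ∨ P ≤ Q₁) →
      ∃ Qξ : Ideal C, ∃ _ : Qξ.IsPrime, Qξ ≤ Q₁ ∧ Algebra.QuasiFiniteAt R₀ Qξ) :
    Algebra.QuasiFiniteAt R₀ P := by
  have key : ∀ (Q₁ : Ideal C) [Q₁.IsPrime], Q₁.under R₀ = P.under R₀ →
      IsNoetherianRing (Localization.AtPrime (Q₁.under R₀)) ∧
        ringKrullDim (Localization.AtPrime (Q₁.under R₀)) ≤ 1 := by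
    intro Q₁ _ h
    have : ∀ (p' : Ideal R₀) [p'.IsPrime], p' = P.under R₀ →
        IsNoetherianRing (Localization.AtPrime p') ∧
          ringKrullDim (Localization.AtPrime p') ≤ 1 := by
      rintro p' _ rfl
      exact ⟨hnoeth, hdim⟩
    exact this _ h
  apply quasiFiniteAt_of_min_max
  · intro Q hQ hPQ hu
    by_contra hne
    have hlt : P < Q := lt_of_le_of_ne hPQ (Ne.symm hne)
    obtain ⟨Qξ, hQξ, hle, hqf⟩ := H P hP rfl (Or.inl le_rfl)
    exact no_chain_of_quasiFiniteAt R₀ C Qξ P Q hdim hle hlt hu.symm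
  · intro Q hQ hQP hu
    by_contra hne
    have hlt : Q < P := lt_of_le_of_ne hQP hne
    obtain ⟨Qξ, hQξ, hle, hqf⟩ := H Q hQ hu (Or.inl hQP)
    obtain ⟨hn, hd⟩ := key Q hu
    exact no_chain_of_quasiFiniteAt R₀ C Qξ Q P hd hle hlt hu

end Groth.Agent.H99.QFCodimOne
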