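import Mathlib
import Groth.Agent.H99.QFCodimOne
import Groth.Agent.H24.AffineChart

/-!
# Quasi-finiteness over points of codimension `≤ 1`, scheme level (helper99; for S1608)
-/

set_option autoImplicit false
set_option backward.isDefEq.respectTransparency.types false
universe u

open CategoryTheory AlgebraicGeometry

namespace Groth.Agent.H99.QFCodimOne

/-- Converse of `Scheme.Hom.QuasiFiniteAt.quasiFiniteAt`: quasi-finiteness at a point can be
checked on one pair of affine charts. -/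
theorem quasiFiniteAt_of_appLE {X Y : Scheme.{u}} (f : X ⟶ Y) {x : X} {V : X.Opens}
    (hV : IsAffineOpen V) {U : Y.Opens} (hVU : V ≤ f ⁻¹ᵁ U)
    (hxV : x ∈ V.1)
    (H : (f.appLE U V hVU).hom.QuasiFiniteAt (hV.primeIdealOf ⟨x, hxV⟩).asIdeal) :
    f.QuasiFiniteAt x := by
  have h2 : (X.presheaf.germ V x hxV).hom.comp (f.appLE U V hVU).hom =
      (f.stalkMap x).hom.comp (Y.presheaf.germ U _ (hVU hxV)).hom := by
    rw [← CommRingCat.hom_comp, ← CommRingCat.hom_comp, f.germ_stalkMap,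
      ← X.presheaf.germ_res (homOfLE hVU) _ hxV, Scheme.Hom.app_eq_appLE,
      Scheme.Hom.appLE_map_assoc]
  have h1 : ((X.presheaf.germ V x hxV).hom.comp (f.appLE U V hVU).hom).QuasiFinite := by
    algebraize [(f.appLE U V hVU).hom]
    algebraize [(X.presheaf.germ V x hxV).hom]
    have := hV.isLocalization_stalk ⟨x, hxV⟩
    let e := IsLocalization.algEquiv (hV.primeIdealOf ⟨x, hxV⟩).asIdeal.primeCompl
      (Localization.AtPrime (hV.primeIdealOf ⟨x, hxV⟩).asIdeal)
      (X.presheaf.stalk (⟨x, hxV⟩ : V.1))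
    have H' : (algebraMap Γ(Y, U)
        (Localization.AtPrime (hV.primeIdealOf ⟨x, hxV⟩).asIdeal)).QuasiFinite := by
      rw [RingHom.quasiFinite_algebraMap]
      exact H
    convert! (RingHom.QuasiFinite.of_finite e.finite).comp H'
    have he : e.toRingEquiv.toRingHom.comp (algebraMap Γ(X, V)
        (Localization.AtPrime (hV.primeIdealOf ⟨x, hxV⟩).asIdeal)) =
        (X.presheaf.germ V x hxV).hom := e.toAlgHom.comp_algebraMap
    rw [IsScalarTower.algebraMap_eq Γ(Y, U) Γ(X, V), ← RingHom.comp_assoc, he]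
    rfl
  rw [h2] at h1
  exact RingHom.QuasiFinite.of_comp h1

/-- **S1608.**  `f` locally of finite type, `O_{Y, f x}` Noetherian of dimension `≤ 1`, `f`
quasi-finite at the generic points of the irreducible components of `X`: then `f` is quasi-finite
at `x`. -/
theorem quasiFiniteAt_of_codim_le_one {X Y : Scheme.{u}} (f : X ⟶ Y) [LocallyOfFiniteType f]
    (x : X) [hnoeth : IsNoetherianRing (Y.presheaf.stalk (f x))]
    (hy : ringKrullDim (Y.presheaf.stalk (f x)) ≤ 1)
    (hgen : ∀ Z ∈ irreducibleComponents (X : Type u), ∀ η : X, IsGenericPoint η Z →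
      f.QuasiFiniteAt η) :
    f.QuasiFiniteAt x := by
  obtain ⟨V, U, hV, hU, hxU, hUV⟩ := Groth.Agent.H24.exists_affine_charts f x
  apply quasiFiniteAt_of_appLE f hU hUV hxU
  have hyV : f x ∈ V := hUV hxU
  have hft : (f.appLE V U hUV).hom.FiniteType := f.finiteType_appLE hV hU hUV
  algebraize [(f.appLE V U hUV).hom]
  change Algebra.QuasiFiniteAt Γ(Y, V) (hU.primeIdealOf ⟨x, hxU⟩).asIdeal
  have hPu : (hU.primeIdealOf ⟨x, hxU⟩).asIdeal.under Γ(Y, V) =
      (hV.primeIdealOf ⟨f x, hyV⟩).asIdeal :=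
    congr($(IsAffineOpen.comap_primeIdealOf_appLE V hV U hU hUV hxU).1)
  -- transfer of the hypotheses on the stalk
  have hstalk : IsNoetherianRing (Localization.AtPrime (hV.primeIdealOf ⟨f x, hyV⟩).asIdeal) ∧
      ringKrullDim (Localization.AtPrime (hV.primeIdealOf ⟨f x, hyV⟩).asIdeal) ≤ 1 := by
    algebraize [(Y.presheaf.germ V (f x) hyV).hom]
    have := hV.isLocalization_stalk ⟨f x, hyV⟩
    let e := IsLocalization.algEquiv (hV.primeIdealOf ⟨f x, hyV⟩).asIdeal.primeCompl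
      (Y.presheaf.stalk (f x)) (Localization.AtPrime (hV.primeIdealOf ⟨f x, hyV⟩).asIdeal)
    exact ⟨isNoetherianRing_of_ringEquiv _ e.toRingEquiv,
      (ringKrullDim_eq_of_ringEquiv e.toRingEquiv).symm.le.trans hy⟩
  have key : ∀ (p' : Ideal Γ(Y, V)) [p'.IsPrime], p' = (hV.primeIdealOf ⟨f x, hyV⟩).asIdeal →
      IsNoetherianRing (Localization.AtPrime p') ∧
        ringKrullDim (Localization.AtPrime p') ≤ 1 := by
    rintro p' _ rfl
    exact hstalk
  obtain ⟨hn, hd⟩ := key _ hPu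
  refine quasiFiniteAt_of_generic Γ(Y, V) Γ(X, U) _ hd ?_
  intro Q₁ hQ₁ _ _
  let n₁ : ↥(Spec Γ(X, U)) := ⟨Q₁, hQ₁⟩
  let x₁ : X := hU.fromSpec n₁
  have hx₁U : x₁ ∈ U := Groth.Agent.H24.fromSpec_mem hU n₁
  obtain ⟨ξ, hξ⟩ := QuasiSober.sober (isIrreducible_irreducibleComponent (x := x₁))
    isClosed_irreducibleComponent
  have hξx₁ : ξ ⤳ x₁ := by
    rw [specializes_iff_mem_closure, hξ.def]
    exact mem_irreducibleComponent
  have hξU : ξ ∈ U := hξx₁.mem_open U.isOpen hx₁U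
  have hqf : f.QuasiFiniteAt ξ :=
    hgen _ (irreducibleComponent_mem_irreducibleComponents x₁) ξ hξ
  refine ⟨(hU.primeIdealOf ⟨ξ, hξU⟩).asIdeal, inferInstance, ?_, ?_⟩
  · have h1 : hU.fromSpec (hU.primeIdealOf ⟨ξ, hξU⟩) ⤳ hU.fromSpec n₁ := by
      rw [hU.fromSpec_primeIdealOf ⟨ξ, hξU⟩]
      exact hξx₁
    have h2 := (hU.fromSpec.isOpenEmbedding.isInducing.specializes_iff).mp h1
    exact (PrimeSpectrum.le_iff_specializes (R := Γ(X, U)) _ n₁).mpr h2
  · exact hqf.quasiFiniteAt hU hV hUV hξU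

end Groth.Agent.H99.QFCodimOne
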