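import Mathlib
import Groth.Agent.H99.IrrFib
import Groth.Agent.H17.Chev.Closed
import Groth.Agent.H17.Chev.LocMax

/-!
# Dimension of the total space via the strata of fibre dimension (helper99; S14480)
-/

set_option autoImplicit false
set_option backward.isDefEq.respectTransparency.types false
set_option linter.style.haveILetI false
set_option linter.unusedSectionVars false
universe u

open AlgebraicGeometry CategoryTheory TopologicalSpace

namespace Groth.Agent.H99.FibDimStrat

open Groth.Agent.H99.FieldDim Groth.Agent.H48.CycDim6 Groth.Agent.H48.CycDim7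
  Groth.Agent.H48.CycFib

section Top

/-- In a Noetherian quasi-sober space, a point in the closure of the image of a closed set is a
specialization of the image of a point of that set. -/
theorem exists_map_specializes_of_mem_closure_image {C X : Type*} [TopologicalSpace C]
    [TopologicalSpace X] [NoetherianSpace C] [QuasiSober C] (g : C → X) (hg : Continuous g)
    (E : Set C) (hE : IsClosed E) (z : X) (hz : z ∈ closure (g '' E)) :
    ∃ t ∈ E, g t ⤳ z := by
  obtain ⟨S, hSf, hSc, hSi, hSU⟩ := NoetherianSpace.exists_finite_set_isClosed_irreducible hE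
  rw [hSU, Set.sUnion_eq_biUnion, Set.image_iUnion₂, hSf.closure_biUnion] at hz
  obtain ⟨K, hKS, hzK⟩ := Set.mem_iUnion₂.mp hz
  have hgen := (hSi K hKS).isGenericPoint_genericPoint (hSc K hKS)
  refine ⟨(hSi K hKS).genericPoint, ?_, ?_⟩
  · rw [hSU]
    exact ⟨K, hKS, hgen.mem⟩
  · rw [← hgen.def, closure_image_closure hg, Set.image_singleton] at hzK
    exact specializes_iff_mem_closure.mpr hzK

end Top

section Main

variable {k : Type u} [Field k] {C X : Scheme.{u}} (q : X ⟶ Spec (CommRingCat.of k))
  (π : C ⟶ X) [LocallyOfFiniteType q] [LocallyOfFiniteType π]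

/-- A point of local fibre dimension at least `j` has a point in its fibre of relative `δ` at
least `j`. -/
theorem exists_of_le_fibreDimAt (t : C) (j : ℕ)
    (h : (j : WithBot ℕ∞) ≤ FlatMor.fibreDimAt π t) :
    ∃ t' : C, π t' = π t ∧ delta q (π t) + j ≤ delta (π ≫ q) t' := by
  have hδ := deltaCompat_comp π q
  have hδC := isDimFun (π ≫ q)
  rcases Nat.eq_zero_or_pos j with rfl | hj
  · obtain ⟨m, -, hm⟩ := hδ t
    exact ⟨t, rfl, by omega⟩
  by_contra hcon
  push Not at hcon
  haveI : LocallyOfFiniteType (π.fiberToSpecResidueField (π t)) :=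
    inferInstanceAs (LocallyOfFiniteType (Limits.pullback.snd π (X.fromSpecResidueField (π t))))
  haveI : IsLocallyNoetherian (π.fiber (π t)) :=
    LocallyOfFiniteType.isLocallyNoetherian (π.fiberToSpecResidueField (π t))
  have hle : FlatMor.fibreDimAt π t ≤ (((j - 1 : ℕ) : ℕ∞) : WithBot ℕ∞) := by
    unfold FlatMor.fibreDimAt
    refine Groth.Agent.H17.Chev.localDim_le_of_forall_irreducibleComponents _ _ _ ?_
    intro Z hZ _
    obtain ⟨x, hx, -, hdimZ⟩ :=
      exists_point_of_mem_irreducibleComponents_fiber π _ _ hδC hδ (π t) Z hZ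
    rw [hdimZ]
    have := hcon x hx
    have h2 : (delta (π ≫ q) x - delta q (π t)).toNat ≤ j - 1 := by omega
    exact_mod_cast h2
  have h3 := h.trans hle
  have h4 : j ≤ j - 1 := by exact_mod_cast h3
  omega

include q in
/-- **S14480.** -/
theorem dim_le_iff [CompactSpace C] (n : ℕ) :
    topologicalKrullDim C ≤ n ↔
      ∀ j : ℕ, topologicalKrullDim
        ↥(closure {x : X | (j : WithBot ℕ∞) ≤ topologicalKrullDim (π.fiber x)}) +
        (j : WithBot ℕ∞) ≤ n := by
  have hδ := deltaCompat_comp π q
  have hδC := isDimFun (π ≫ q)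
  haveI : IsLocallyNoetherian C := isLocallyNoetherian (π ≫ q)
  haveI : IsNoetherian C := {}
  haveI : JacobsonSpace X := jacobsonSpace q
  constructor
  · intro hC j
    have hB : {x : X | (j : WithBot ℕ∞) ≤ topologicalKrullDim (π.fiber x)} =
        π.base '' {t : C | (j : WithBot ℕ∞) ≤ FlatMor.fibreDimAt π t} := by
      ext x
      rw [Set.mem_ofPred_eq, Groth.Agent.H17.Chev.le_dim_fiber_iff π x j]
      constructor
      · rintro ⟨t, ht, hjt⟩
        exact ⟨t, hjt, ht⟩
      · rintro ⟨t, hjt, ht⟩
        exact ⟨t, ht, hjt⟩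
    rw [hB, topologicalKrullDim_closed_eq_iSup q _ isClosed_closure]
    refine Groth.Agent.H17.Chev.iSup_add_natCast_le _ j _ ?_
    rintro ⟨z, hz⟩
    obtain ⟨t, htE, htz⟩ := exists_map_specializes_of_mem_closure_image π.base π.continuous _
      (Groth.Agent.H17.Chev.isClosed_setOf_le_fibreDimAt π j) z hz
    obtain ⟨t', ht', hδt'⟩ := exists_of_le_fibreDimAt q π t j htE
    have h1 : delta q z ≤ delta q (π t) := delta_mono X (delta q) (isDimFun q) htz
    have h2 := delta_le_topologicalKrullDim (π ≫ q) t'
    have h0 := delta_nonneg' q z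
    have h3 : (delta q z).toNat + j ≤ (delta (π ≫ q) t').toNat := by omega
    refine le_trans ?_ (h2.trans hC)
    exact_mod_cast h3
  · intro h
    rw [topologicalKrullDim_eq_iSup_delta (π ≫ q)]
    refine iSup_le fun t => ?_
    obtain ⟨m, -, hm⟩ := hδ t
    have h0 := delta_nonneg' q (π t)
    have hx : π t ∈ {x : X | (m : WithBot ℕ∞) ≤ topologicalKrullDim (π.fiber x)} := by
      rw [Set.mem_ofPred_eq]
      have h1 := topologicalKrullDim_closure_asFiber π _ _ hδC hδ t
      have h2 := topologicalKrullDim_subspace_le (π.fiber (π t)) (closure {π.asFiber t})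
      rw [h1] at h2
      have h3 : (delta (π ≫ q) t - delta q (π t)).toNat = m := by omega
      rw [h3] at h2
      exact h2
    have h3 : (((delta q (π t)).toNat : ℕ∞) : WithBot ℕ∞) ≤ topologicalKrullDim
        ↥(closure {x : X | (m : WithBot ℕ∞) ≤ topologicalKrullDim (π.fiber x)}) := by
      rw [← topologicalKrullDim_closure q (π t)]
      exact (Topology.IsEmbedding.inclusion
        (closure_mono (Set.singleton_subset_iff.mpr hx))).isInducing.topologicalKrullDim_le
    have h4 : (delta (π ≫ q) t).toNat = (delta q (π t)).toNat + m := by omega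
    rw [h4]
    push_cast
    exact (add_le_add_left h3 _).trans (h m)

end Main

end Groth.Agent.H99.FibDimStrat
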