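import Mathlib
import Groth.Agent.H99.FibDimStrat
import Groth.Agent.H49.FibreDimBC

/-!
# Fibre-dimension strata and immersions (helper99; S14482)
-/

set_option autoImplicit false
set_option backward.isDefEq.respectTransparency.types false
set_option linter.style.haveILetI false
set_option linter.unusedSectionVars false
universe u

open AlgebraicGeometry CategoryTheory TopologicalSpace Limits

namespace Groth.Agent.H99.FibDimStrat

open Groth.Agent.H99.FieldDim Groth.Agent.H48.CycDim6 Groth.Agent.H48.CycDim7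
  Groth.Agent.H48.CycFib

section Main

variable {k : Type u} [Field k] {C X : Scheme.{u}} (q : X ⟶ Spec (CommRingCat.of k))
  (π : C ⟶ X) [LocallyOfFiniteType q] [LocallyOfFiniteType π]

include q in
/-- Variant of S14480 with a shift `c`. -/
theorem dim_add_le_iff [CompactSpace C] (n c : ℕ) :
    topologicalKrullDim C + (c : WithBot ℕ∞) ≤ n ↔
      ∀ j : ℕ, topologicalKrullDim
        ↥(closure {x : X | (j : WithBot ℕ∞) ≤ topologicalKrullDim (π.fiber x)}) +
        (c : WithBot ℕ∞) + (j : WithBot ℕ∞) ≤ n := by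
  have hδ := deltaCompat_comp π q
  have hδC := isDimFun (π ≫ q)
  haveI : IsLocallyNoetherian C := isLocallyNoetherian (π ≫ q)
  haveI : IsNoetherian C := {}
  haveI : JacobsonSpace X := jacobsonSpace q
  constructor
  · intro hC j
    have hB : {x : X | (j : WithBot ℕ∞) ≤ topologicalKrullDim (π.fiber x)} =
        π.base '' {t : C | (j : WithBot ℕ∞) ≤ FlatMor.fibreDimAt π t} := by
      ext x
      rw [Set.mem_ofPred_eq, Groth.Agent.H17.Chev.le_dim_fiber_iff π x j]
      constructor
      · rintro ⟨t, ht, hjt⟩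
        exact ⟨t, hjt, ht⟩
      · rintro ⟨t, hjt, ht⟩
        exact ⟨t, ht, hjt⟩
    rw [hB, topologicalKrullDim_closed_eq_iSup q _ isClosed_closure, add_assoc]
    have hcj : (c : WithBot ℕ∞) + (j : WithBot ℕ∞) = ((c + j : ℕ) : WithBot ℕ∞) := by
      push_cast; rfl
    rw [hcj]
    refine Groth.Agent.H17.Chev.iSup_add_natCast_le _ (c + j) _ ?_
    rintro ⟨z, hz⟩
    obtain ⟨t, htE, htz⟩ := exists_map_specializes_of_mem_closure_image π.base π.continuous _
      (Groth.Agent.H17.Chev.isClosed_setOf_le_fibreDimAt π j) z hz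
    obtain ⟨t', ht', hδt'⟩ := exists_of_le_fibreDimAt q π t j htE
    have h1 : delta q z ≤ delta q (π t) := delta_mono X (delta q) (isDimFun q) htz
    have h2 := delta_le_topologicalKrullDim (π ≫ q) t'
    have h0 := delta_nonneg' q z
    have h3 : (delta q z).toNat + (c + j) ≤ (delta (π ≫ q) t').toNat + c := by omega
    have h4 : (((delta (π ≫ q) t').toNat : ℕ∞) : WithBot ℕ∞) + (c : WithBot ℕ∞) ≤ n :=
      (add_le_add_left h2 _).trans hC
    refine le_trans ?_ h4
    exact_mod_cast h3
  · intro h
    rw [topologicalKrullDim_eq_iSup_delta (π ≫ q)]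
    refine Groth.Agent.H17.Chev.iSup_add_natCast_le _ c _ fun t => ?_
    obtain ⟨m, -, hm⟩ := hδ t
    have h0 := delta_nonneg' q (π t)
    have hx : π t ∈ {x : X | (m : WithBot ℕ∞) ≤ topologicalKrullDim (π.fiber x)} := by
      rw [Set.mem_ofPred_eq]
      have h1 := topologicalKrullDim_closure_asFiber π _ _ hδC hδ t
      have h2 := topologicalKrullDim_subspace_le (π.fiber (π t)) (closure {π.asFiber t})
      rw [h1] at h2
      have h3 : (delta (π ≫ q) t - delta q (π t)).toNat = m := by omega
      rw [h3] at h2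
      exact h2
    have h3 : (((delta q (π t)).toNat : ℕ∞) : WithBot ℕ∞) ≤ topologicalKrullDim
        ↥(closure {x : X | (m : WithBot ℕ∞) ≤ topologicalKrullDim (π.fiber x)}) := by
      rw [← topologicalKrullDim_closure q (π t)]
      exact (Topology.IsEmbedding.inclusion
        (closure_mono (Set.singleton_subset_iff.mpr hx))).isInducing.topologicalKrullDim_le
    have h4 : (delta (π ≫ q) t).toNat = (delta q (π t)).toNat + m := by omega
    rw [h4]
    push_cast
    have h5 := h m
    calc (((delta q (π t)).toNat : ℕ∞) : WithBot ℕ∞) + (m : WithBot ℕ∞) + (c : WithBot ℕ∞)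
        = (((delta q (π t)).toNat : ℕ∞) : WithBot ℕ∞) + (c : WithBot ℕ∞) + (m : WithBot ℕ∞) := by
          rw [add_assoc, add_comm (m : WithBot ℕ∞), ← add_assoc]
      _ ≤ _ := (add_le_add_left (add_le_add_left h3 _) _).trans h5

end Main

section Imm

variable {k : Type u} [Field k] {C X W : Scheme.{u}} (q : X ⟶ Spec (CommRingCat.of k))
  (π : C ⟶ X) (ι : W ⟶ X) [LocallyOfFiniteType q] [LocallyOfFiniteType π] [CompactSpace C]
  [IsImmersion ι]

include q in
/-- **S14482**, second part: the dimension of the preimage of an immersed subscheme in terms of the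
fibre-dimension strata. -/
theorem dim_preimage_range_add_le_iff (n c : ℕ)
    (hB : ∀ j : ℕ, IsClosed {x : X | (j : WithBot ℕ∞) ≤ topologicalKrullDim (π.fiber x)}) :
    topologicalKrullDim ↥(π.base ⁻¹' Set.range ι.base) + (c : WithBot ℕ∞) ≤ n ↔
      ∀ j : ℕ, topologicalKrullDim
        ↥(ι.base ⁻¹' {x : X | (j : WithBot ℕ∞) ≤ topologicalKrullDim (π.fiber x)}) +
        (c : WithBot ℕ∞) + (j : WithBot ℕ∞) ≤ n := by
  have hpb : IsPullback (pullback.fst π ι) (pullback.snd π ι) π ι := IsPullback.of_hasPullback π ι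
  haveI : IsLocallyNoetherian C := isLocallyNoetherian (π ≫ q)
  haveI : IsNoetherian C := {}
  haveI : CompactSpace ↥(pullback π ι) := by
    rw [← isCompact_univ_iff, (pullback.fst π ι).isEmbedding.isCompact_iff]
    exact NoetherianSpace.isCompact _
  have key := dim_add_le_iff (ι ≫ q) (pullback.snd π ι) n c
  have hL : topologicalKrullDim ↥(pullback π ι) =
      topologicalKrullDim ↥(π.base ⁻¹' Set.range ι.base) :=
    Groth.Agent.H17.Chev.topologicalKrullDim_eq_of_isEmbedding (pullback.fst π ι).base
      (pullback.fst π ι).isEmbedding _ (Scheme.Pullback.range_fst π ι)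
  have hR : ∀ j : ℕ, closure {w : W | (j : WithBot ℕ∞) ≤
      topologicalKrullDim ((pullback.snd π ι).fiber w)} =
      ι.base ⁻¹' {x : X | (j : WithBot ℕ∞) ≤ topologicalKrullDim (π.fiber x)} := by
    intro j
    have h1 : {w : W | (j : WithBot ℕ∞) ≤ topologicalKrullDim ((pullback.snd π ι).fiber w)} =
        ι.base ⁻¹' {x : X | (j : WithBot ℕ∞) ≤ topologicalKrullDim (π.fiber x)} := by
      ext w
      rw [Set.mem_ofPred_eq, Groth.Agent.H49.FibreDimBC.topologicalKrullDim_fiber_eq π ι
        (pullback.snd π ι) (pullback.fst π ι) hpb w]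
      rfl
    rw [h1]
    exact ((hB j).preimage ι.continuous).closure_eq
  rw [hL] at key
  rw [key]
  refine forall_congr' fun j => ?_
  rw [hR j]

end Imm

end Groth.Agent.H99.FibDimStrat
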