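import Mathlib
import Groth.Agent.H99.FibDimStrat2
import Groth.Agent.H48.FieldDim2

/-!
# Well-intersecting closed subsets (helper99; for S14484)
-/

set_option autoImplicit false
set_option backward.isDefEq.respectTransparency.types false
set_option linter.style.haveILetI false
set_option linter.unusedSectionVars false
universe u

open AlgebraicGeometry CategoryTheory TopologicalSpace Limits

namespace Groth.Agent.H99.WellMeet

open Groth.Agent.H99.FieldDim Groth.Agent.H48.FieldDim2

theorem le_of_natCast_add_le_natCast_add (a : ℕ) {x y : WithBot ℕ∞}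
    (h : (a : WithBot ℕ∞) + x ≤ (a : WithBot ℕ∞) + y) : x ≤ y := by
  induction x using WithBot.recBotCoe with
  | bot => exact bot_le
  | coe x =>
    induction y using WithBot.recBotCoe with
    | bot =>
      exfalso
      rw [WithBot.add_bot] at h
      have h2 : (((a : ℕ∞) + x : ℕ∞) : WithBot ℕ∞) ≤ ⊥ := by
        refine le_trans (le_of_eq ?_) h
        push_cast; rfl
      exact WithBot.coe_ne_bot (le_bot_iff.mp h2)
    | coe y =>
      have h' : (a : ℕ∞) + x ≤ (a : ℕ∞) + y := by exact_mod_cast h
      have : x ≤ y := (ENat.add_le_add_iff_left (ENat.natCast_ne_top a)).mp h'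
      exact_mod_cast this

variable {k : Type u} [Field k] {X S : Scheme.{u}} (q : S ⟶ Spec (CommRingCat.of k))
  (f : X ⟶ S) [LocallyOfFiniteType q] [LocallyOfFiniteType f] [CompactSpace X] [IsSeparated f]

include q in
/-- **S14484.** -/
theorem not_image_subset (Y Z : Set X) (hYc : IsClosed Y) (hYi : IsIrreducible Y)
    (hZc : IsClosed Z)
    (hWI : topologicalKrullDim {p : ↥(pullback f f) | pullback.fst f f p ∈ Y ∧
        pullback.snd f f p ∈ Z ∧ p ∉ Set.range (pullback.diagonal f)} + topologicalKrullDim S ≤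
      topologicalKrullDim Y + topologicalKrullDim Z)
    (hZS : topologicalKrullDim Z < topologicalKrullDim S) (hYZ : ¬ Y ⊆ Z) :
    ¬ (f.base '' Y ⊆ closure (f.base '' Y ∩ f.base '' Z)) := by
  intro hsub
  haveI : IsLocallyNoetherian X := isLocallyNoetherian (f ≫ q)
  haveI : IsNoetherian X := {}
  obtain ⟨η, hη⟩ := QuasiSober.sober hYi hYc
  -- Step 2
  set E : Set X := Z ∩ f.base ⁻¹' closure (f.base '' Y) with hE
  have hEc : IsClosed E := hZc.inter (isClosed_closure.preimage f.continuous)
  have h1 : f.base η ∈ closure (f.base '' E) := by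
    have h2 : f.base '' Y ∩ f.base '' Z ⊆ f.base '' E := by
      rintro s ⟨hsY, z, hz, rfl⟩
      exact ⟨z, ⟨hz, subset_closure hsY⟩, rfl⟩
    exact closure_mono h2 (hsub ⟨η, hη.mem, rfl⟩)
  obtain ⟨t, htE, hts⟩ := Groth.Agent.H99.FibDimStrat.exists_map_specializes_of_mem_closure_image
    f.base f.continuous E hEc _ h1
  have hcl : closure (f.base '' Y) = closure {f.base η} := by
    rw [← hη.def, closure_image_closure f.continuous, Set.image_singleton]
  have hst : f.base η ⤳ f.base t := by
    rw [specializes_iff_mem_closure, ← hcl]; exact htE.2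
  have heq : f.base η = f.base t := (hst.antisymm hts).eq
  -- Step 3
  obtain ⟨p, hp1, hp2⟩ := Scheme.Pullback.exists_preimage_pullback (f := f) (g := f) η t heq
  -- Step 4
  have hpΔ : p ∉ Set.range (pullback.diagonal f) := by
    rintro ⟨x, rfl⟩
    have e1 : pullback.fst f f (pullback.diagonal f x) = x := by
      rw [← Scheme.Hom.comp_apply, pullback.diagonal_fst]; rfl
    have e2 : pullback.snd f f (pullback.diagonal f x) = x := by
      rw [← Scheme.Hom.comp_apply, pullback.diagonal_snd]; rfl
    rw [e1] at hp1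
    rw [e2] at hp2
    apply hYZ
    rw [← hη.def]
    refine closure_minimal (Set.singleton_subset_iff.mpr ?_) hZc
    rw [← hp1, hp2]
    exact htE.1
  -- Step 5
  set W : Set ↥(pullback f f) := {p : ↥(pullback f f) | pullback.fst f f p ∈ Y ∧
        pullback.snd f f p ∈ Z ∧ p ∉ Set.range (pullback.diagonal f)} with hW
  have hpW : p ∈ W := ⟨hp1 ▸ hη.mem, hp2 ▸ htE.1, hpΔ⟩
  have hΔc : IsClosed (Set.range (pullback.diagonal f)) :=
    (pullback.diagonal f).isClosedEmbedding.isClosed_range
  have hWlc : IsLocallyClosed W := by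
    have : W = (pullback.fst f f ⁻¹' Y ∩ pullback.snd f f ⁻¹' Z) ∩
        (Set.range (pullback.diagonal f))ᶜ := by
      ext w; simp only [hW, Set.mem_ofPred_eq, Set.mem_inter_iff, Set.mem_preimage,
        Set.mem_compl_iff]; tauto
    rw [this]
    exact ((hYc.preimage (pullback.fst f f).continuous).inter
      (hZc.preimage (pullback.snd f f).continuous)).isLocallyClosed.inter
      hΔc.isOpen_compl.isLocallyClosed
  haveI : JacobsonSpace ↥(pullback f f) := jacobsonSpace (pullback.fst f f ≫ (f ≫ q))
  have hdimW := topologicalKrullDim_of_isLocallyClosed (pullback f f)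
    (delta (pullback.fst f f ≫ (f ≫ q))) (isDimFun _) (delta_eq_zero_of_isClosed _) W hWlc
  have hδp : delta (f ≫ q) η ≤ delta (pullback.fst f f ≫ (f ≫ q)) p := by
    obtain ⟨m, -, hm⟩ := deltaCompat_comp (pullback.fst f f) (f ≫ q) p
    rw [hm, hp1]
    omega
  have hdimY : topologicalKrullDim ↥Y = (((delta (f ≫ q) η).toNat : ℕ∞) : WithBot ℕ∞) := by
    rw [← topologicalKrullDim_closure (f ≫ q) η, hη.def]
  have hWge : topologicalKrullDim ↥Y ≤ topologicalKrullDim ↥W := by
    rw [hdimY, hdimW]
    refine le_trans ?_ (le_iSup (fun z : ↥W => (((delta (pullback.fst f f ≫ (f ≫ q)) z.1).toNat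
      : ℕ∞) : WithBot ℕ∞)) ⟨p, hpW⟩)
    have : (delta (f ≫ q) η).toNat ≤ (delta (pullback.fst f f ≫ (f ≫ q)) p).toNat :=
      Int.toNat_le_toNat hδp
    exact_mod_cast this
  -- Step 6
  rw [hdimY] at hWI hWge
  have h6 : ((((delta (f ≫ q) η).toNat : ℕ) : WithBot ℕ∞)) + topologicalKrullDim ↥S ≤
      ((((delta (f ≫ q) η).toNat : ℕ) : WithBot ℕ∞)) + topologicalKrullDim ↥Z :=
    le_trans (add_le_add_left hWge _) hWI
  exact absurd (le_of_natCast_add_le_natCast_add _ h6) (not_le.mpr hZS)

end Groth.Agent.H99.WellMeet
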