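import Mathlib
import Groth.Prelude.Def_EGA43
import Groth.Agent.H17.Chev.OpenAt4
import Groth.Agent.H49.FibreStalk

/-!
# Over a DVR: openness at the maximal points of the fibre through `x` and reducedness of the
fibre at `x` imply flatness at `x` (EGA IV 14.3.8-ish)  (helper99; for S4948)
-/

set_option autoImplicit false
set_option backward.isDefEq.respectTransparency.types false
set_option linter.style.haveILetI false
set_option linter.unusedSectionVars false
universe u

open AlgebraicGeometry CategoryTheory TopologicalSpace Limits IsLocalRing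

namespace Groth.Agent.H99.DVRFlatOpen

section algebra

/-- The ideal of `t`-power torsion elements. -/
def powTorsion {B : Type*} [CommRing B] (t : B) : Ideal B where
  carrier := {a | ∃ n : ℕ, t ^ n * a = 0}
  add_mem' := by
    rintro a b ⟨n, hn⟩ ⟨m, hm⟩
    refine ⟨n + m, ?_⟩
    have e1 : t ^ (n + m) * a = t ^ m * (t ^ n * a) := by ring
    have e2 : t ^ (n + m) * b = t ^ n * (t ^ m * b) := by ring
    rw [mul_add, e1, e2, hn, hm, mul_zero, mul_zero, add_zero]
  zero_mem' := ⟨0, by simp⟩
  smul_mem' := by
    rintro c a ⟨n, hn⟩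
    refine ⟨n, ?_⟩
    rw [smul_eq_mul, mul_left_comm, hn, mul_zero]

theorem mem_powTorsion {B : Type*} [CommRing B] (t a : B) :
    a ∈ powTorsion t ↔ ∃ n : ℕ, t ^ n * a = 0 := Iff.rfl

/-- In a Noetherian local ring `B`, if `B/(t)` is reduced and every minimal prime over `(t)`
contains a prime avoiding `t`, then `t` is a nonzerodivisor. -/
theorem eq_zero_of_mul_eq_zero_of_minimalPrimes {B : Type*} [CommRing B] [IsNoetherianRing B]
    [IsLocalRing B] (t : B) (ht : t ∈ maximalIdeal B)
    (hred : IsReduced (B ⧸ Ideal.span {t}))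
    (H : ∀ q ∈ (Ideal.span {t}).minimalPrimes, ∃ p : Ideal B, p.IsPrime ∧ p ≤ q ∧ t ∉ p)
    (a : B) (ha : t * a = 0) : a = 0 := by
  set K := powTorsion t with hK
  have hrad : (Ideal.span {t}).IsRadical := (Ideal.isRadical_iff_quotient_reduced _).mpr hred
  have h1 : K ≤ Ideal.span {t} := by
    intro a ha
    rw [← hrad.radical, ← Ideal.sInf_minimalPrimes, Ideal.mem_sInf]
    intro q hq
    obtain ⟨p, hp, hpq, htp⟩ := H q hq
    obtain ⟨n, hn⟩ := ha
    have : t ^ n * a ∈ p := by rw [hn]; exact p.zero_mem
    rcases hp.mem_or_mem this with h | h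
    · exact absurd (hp.mem_of_pow_mem n h) htp
    · exact hpq h
  have h2 : K ≤ Ideal.span {t} • K := by
    intro a ha
    obtain ⟨b, rfl⟩ := Ideal.mem_span_singleton'.mp (h1 ha)
    have hb : b ∈ K := by
      obtain ⟨n, hn⟩ := ha
      refine ⟨n + 1, ?_⟩
      rw [pow_succ, mul_assoc, mul_comm t b]; exact hn
    rw [mul_comm]
    exact Submodule.smul_mem_smul (Ideal.mem_span_singleton_self t) hb
  have h3 : K = ⊥ := by
    refine Submodule.eq_bot_of_le_smul_of_le_jacobson_bot (Ideal.span {t}) K
      (IsNoetherian.noetherian K) h2 ?_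
    rw [IsLocalRing.jacobson_eq_maximalIdeal ⊥ bot_ne_top]
    exact (Ideal.span_singleton_le_iff_mem _).mpr ht
  have h4 : a ∈ K := ⟨1, by rw [pow_one]; exact ha⟩
  rw [h3] at h4
  exact h4

/-- A ring map from a DVR is flat as soon as the image of a uniformizer is a nonzerodivisor. -/
theorem flat_of_regular {R B : Type*} [CommRing R] [IsDomain R] [IsDiscreteValuationRing R]
    [CommRing B] (φ : R →+* B) (ϖ : R) (hϖ : Irreducible ϖ)
    (hreg : ∀ b : B, φ ϖ * b = 0 → b = 0) : φ.Flat := by
  letI := φ.toAlgebra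
  change Module.Flat R B
  have hpow : ∀ (n : ℕ) (b : B), φ ϖ ^ n * b = 0 → b = 0 := by
    intro n
    induction n with
    | zero => intro b hb; simpa using hb
    | succ k ih =>
      intro b hb
      apply ih
      apply hreg
      rw [← mul_assoc, ← pow_succ']
      exact hb
  rw [Module.Flat.flat_iff_torsion_eq_bot_of_isBezout, Submodule.eq_bot_iff]
  intro b hb
  obtain ⟨⟨a, ha⟩, hab⟩ := (Submodule.mem_torsion_iff b).mp hb
  have ha0 : a ≠ 0 := nonZeroDivisors.ne_zero ha
  obtain ⟨n, u, rfl⟩ := IsDiscreteValuationRing.eq_unit_mul_pow_irreducible ha0 hϖ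
  have h1 : φ (↑u * ϖ ^ n) * b = 0 := hab
  rw [map_mul, map_pow, mul_assoc] at h1
  have hu : IsUnit (φ ↑u) := u.isUnit.map φ
  exact hpow n b ((hu.mul_right_eq_zero).mp h1)

end algebra

section scheme

variable {A : Type u} [CommRing A] [IsDomain A] [IsDiscreteValuationRing A] {X : Scheme.{u}}
  (f : X ⟶ Spec (CommRingCat.of A)) [LocallyOfFiniteType f]

theorem exists_dvr_stalk (y : Spec (CommRingCat.of A)) (hy : y = closedPoint A) :
    ∃ (_ : IsDomain ((Spec (CommRingCat.of A)).presheaf.stalk y)),
      IsDiscreteValuationRing ((Spec (CommRingCat.of A)).presheaf.stalk y) := by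
  subst hy
  let e : (Spec (CommRingCat.of A)).presheaf.stalk (closedPoint A) ≃+* A :=
    (stalkClosedPointIso (CommRingCat.of A)).commRingCatIsoToRingEquiv
  haveI : IsDomain ((Spec (CommRingCat.of A)).presheaf.stalk (closedPoint A)) :=
    e.injective.isDomain e.toRingHom
  exact ⟨this, IsDiscreteValuationRing.RingEquivClass.isDiscreteValuationRing e.symm⟩

theorem flat_stalkMap_of_isOpenAt (x : X) (hx : f.base x = IsLocalRing.closedPoint A)
    (h : ∀ z : ↥(f.fiber (f.base x)), f.asFiber x ∈ closure {z} →
      (∀ z' : ↥(f.fiber (f.base x)), z ∈ closure {z'} → z' = z) →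
        EGA43.IsOpenAt f.base ((f.fiberι (f.base x)).base z))
    (hred : _root_.IsReduced ((f.fiber (f.base x)).presheaf.stalk (f.asFiber x))) :
    (f.stalkMap x).hom.Flat := by
  haveI : IsLocallyNoetherian (Spec (CommRingCat.of A)) := by
    rw [isLocallyNoetherian_Spec]; infer_instance
  haveI : IsLocallyNoetherian X := LocallyOfFiniteType.isLocallyNoetherian f
  obtain ⟨hdom, hdvr⟩ := exists_dvr_stalk (f.base x) hx
  haveI : IsDomain ((Spec (CommRingCat.of A)).presheaf.stalk (f.base x)) := hdom
  haveI : IsDiscreteValuationRing ((Spec (CommRingCat.of A)).presheaf.stalk (f.base x)) := hdvr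
  set φ := (f.stalkMap x).hom with hφ
  obtain ⟨ϖ, hϖ⟩ := IsDiscreteValuationRing.exists_irreducible ((Spec (CommRingCat.of A)).presheaf.stalk (f.base x))
  have hmax : maximalIdeal ((Spec (CommRingCat.of A)).presheaf.stalk (f.base x)) = Ideal.span {ϖ} := hϖ.maximalIdeal_eq
  set t := φ ϖ with ht
  have hideal : Groth.Agent.H49.FibreStalk.fibreIdeal f x = Ideal.span {t} := by
    rw [Groth.Agent.H49.FibreStalk.fibreIdeal, hmax, Ideal.map_span, Set.image_singleton]
  have htm : t ∈ maximalIdeal (X.presheaf.stalk x) := by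
    have hϖm : ϖ ∈ maximalIdeal ((Spec (CommRingCat.of A)).presheaf.stalk (f.base x)) :=
      hmax ▸ Ideal.mem_span_singleton_self ϖ
    rw [mem_maximalIdeal, mem_nonunits_iff] at hϖm ⊢
    exact fun h => hϖm (isUnit_of_map_unit (f.stalkMap x).hom ϖ h)
  have hredB : _root_.IsReduced (X.presheaf.stalk x ⧸ Ideal.span {t}) := by
    rw [← hideal]
    exact isReduced_of_injective (Groth.Agent.H49.FibreStalk.quotientEquivStalkAsFiber f x)
      (Groth.Agent.H49.FibreStalk.quotientEquivStalkAsFiber f x).injective
  -- dictionary between primes and generizations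
  have hsq := Scheme.SpecMap_stalkMap_fromSpecStalk (f := f) (x := x)
  have hsq' : ∀ q : ↥(Spec (X.presheaf.stalk x)),
      ((Spec (CommRingCat.of A)).fromSpecStalk (f.base x)).base ((Spec.map (f.stalkMap x)).base q) =
        f.base ((X.fromSpecStalk x).base q) := by
    intro q
    exact congrArg (fun g => g.base q) hsq
  have hinjY : Function.Injective ((Spec (CommRingCat.of A)).fromSpecStalk (f.base x)).base :=
    ((Spec (CommRingCat.of A)).fromSpecStalk (f.base x)).isEmbedding.injective
  have hembX := (X.fromSpecStalk x).isEmbedding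
  -- `t ∈ q` iff the point of `q` lies over the closed point
  have hmem_iff : ∀ q : ↥(Spec (X.presheaf.stalk x)),
      t ∈ q.asIdeal ↔ f.base ((X.fromSpecStalk x).base q) = f.base x := by
    intro q
    have hcomap : ((Spec.map (f.stalkMap x)).base q).asIdeal = Ideal.comap φ q.asIdeal := rfl
    constructor
    · intro htq
      have h1 : maximalIdeal ((Spec (CommRingCat.of A)).presheaf.stalk (f.base x)) ≤
          ((Spec.map (f.stalkMap x)).base q).asIdeal := by
        rw [hmax, Ideal.span_singleton_le_iff_mem, hcomap, Ideal.mem_comap]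
        exact htq
      have h2 : (Spec.map (f.stalkMap x)).base q =
          closedPoint ((Spec (CommRingCat.of A)).presheaf.stalk (f.base x)) := by
        apply PrimeSpectrum.ext
        exact ((maximalIdeal.isMaximal _).eq_of_le
          ((Spec.map (f.stalkMap x)).base q).isPrime.ne_top h1).symm
      rw [← hsq', h2]
      exact Scheme.fromSpecStalk_closedPoint
    · intro hq
      have h2 : (Spec.map (f.stalkMap x)).base q =
          closedPoint ((Spec (CommRingCat.of A)).presheaf.stalk (f.base x)) := by
        apply hinjY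
        rw [hsq', hq]
        exact Scheme.fromSpecStalk_closedPoint.symm
      have h3 : ϖ ∈ ((Spec.map (f.stalkMap x)).base q).asIdeal := by
        rw [h2]
        change ϖ ∈ maximalIdeal _
        rw [hmax]; exact Ideal.mem_span_singleton_self ϖ
      rw [hcomap, Ideal.mem_comap] at h3
      exact h3
  -- the generic point of `Y` is not the closed point
  have hη : ∀ q : ↥(Spec (X.presheaf.stalk x)),
      f.base ((X.fromSpecStalk x).base q) = (⟨⊥, Ideal.isPrime_bot⟩ : PrimeSpectrum A) →
        t ∉ q.asIdeal := by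
    intro q hq htq
    rw [hmem_iff q, hq, hx] at htq
    have : (⊥ : Ideal A) = maximalIdeal A := congrArg PrimeSpectrum.asIdeal htq
    exact IsDiscreteValuationRing.not_a_field A this.symm
  -- the key condition
  have H : ∀ q ∈ (Ideal.span {t}).minimalPrimes, ∃ p : Ideal (X.presheaf.stalk x),
      p.IsPrime ∧ p ≤ q ∧ t ∉ p := by
    intro q hq
    haveI : q.IsPrime := hq.1.1
    have htq : t ∈ q := hq.1.2 (Ideal.mem_span_singleton_self t)
    set Q : ↥(Spec (X.presheaf.stalk x)) := ⟨q, hq.1.1⟩ with hQ
    set xq := (X.fromSpecStalk x).base Q with hxq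
    have hxqs : xq ⤳ x := by
      have : xq ∈ Set.range (X.fromSpecStalk x).base := ⟨Q, rfl⟩
      rw [Scheme.range_fromSpecStalk] at this
      exact this
    have hfxq : f.base xq = f.base x := (hmem_iff Q).mp htq
    obtain ⟨z, hz⟩ : xq ∈ Set.range (f.fiberι (f.base x)).base := by
      rw [Scheme.Hom.range_fiberι]; exact hfxq
    have hz1 : f.asFiber x ∈ closure {z} := by
      rw [← specializes_iff_mem_closure,
        ← (f.fiberι (f.base x)).isEmbedding.isInducing.specializes_iff]
      change (f.fiberι (f.base x)).base z ⤳ (f.fiberι (f.base x)).base (f.asFiber x)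
      rw [hz, f.fiberι_asFiber]
      exact hxqs
    have hz2 : ∀ z' : ↥(f.fiber (f.base x)), z ∈ closure {z'} → z' = z := by
      intro z' hz'
      rw [← specializes_iff_mem_closure,
        ← (f.fiberι (f.base x)).isEmbedding.isInducing.specializes_iff] at hz'
      have hz's : (f.fiberι (f.base x)).base z' ⤳ xq := by rw [← hz]; exact hz'
      have : (f.fiberι (f.base x)).base z' ∈ Set.range (X.fromSpecStalk x).base := by
        rw [Scheme.range_fromSpecStalk]; exact hz's.trans hxqs
      obtain ⟨Q', hQ'⟩ := this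
      have hQ'Q : Q' ⤳ Q := by
        rw [← hembX.isInducing.specializes_iff]
        change (X.fromSpecStalk x).base Q' ⤳ (X.fromSpecStalk x).base Q
        rw [hQ']; exact hz's
      have hle : Q'.asIdeal ≤ q := (PrimeSpectrum.le_iff_specializes Q' Q).mpr hQ'Q
      have htQ' : t ∈ Q'.asIdeal := by
        rw [hmem_iff Q', hQ']
        have : (f.fiberι (f.base x)).base z' ∈ Set.range (f.fiberι (f.base x)).base := ⟨z', rfl⟩
        rw [Scheme.Hom.range_fiberι] at this
        exact this
      have hge : q ≤ Q'.asIdeal :=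
        hq.2 ⟨Q'.isPrime, (Ideal.span_singleton_le_iff_mem _).mpr htQ'⟩ hle
      have hQeq : Q' = Q := PrimeSpectrum.ext (le_antisymm hle hge)
      apply (f.fiberι (f.base x)).isEmbedding.injective
      change (f.fiberι (f.base x)).base z' = (f.fiberι (f.base x)).base z
      rw [hz, ← hQ', hQeq]
    have hopen : EGA43.IsOpenAt f.base xq := by
      have := h z hz1 hz2
      rwa [hz] at this
    have hηs : (⟨⊥, Ideal.isPrime_bot⟩ : PrimeSpectrum A) ⤳ f.base xq := by
      rw [← PrimeSpectrum.le_iff_specializes]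
      exact bot_le
    obtain ⟨u, hu1, hu2⟩ :=
      Groth.Agent.H17.Chev.exists_generization_of_isOpenAt f xq hopen _ hηs
    have : u ∈ Set.range (X.fromSpecStalk x).base := by
      rw [Scheme.range_fromSpecStalk]; exact hu1.trans hxqs
    obtain ⟨P, hP⟩ := this
    have hPQ : P ⤳ Q := by
      rw [← hembX.isInducing.specializes_iff]
      change (X.fromSpecStalk x).base P ⤳ (X.fromSpecStalk x).base Q
      rw [hP]; exact hu1
    refine ⟨P.asIdeal, P.isPrime, (PrimeSpectrum.le_iff_specializes P Q).mpr hPQ, ?_⟩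
    apply hη P
    rw [hP]; exact hu2
  exact flat_of_regular φ ϖ hϖ
    (eq_zero_of_mul_eq_zero_of_minimalPrimes t htm hredB H)

end scheme

end Groth.Agent.H99.DVRFlatOpen
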