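import Mathlib
import Groth.Prelude.Def_CAlg
import Groth.Prelude.Def_EGA4b
import Groth.Agent.H29.LocTrans
import Groth.Agent.H29.FlatDim
import Groth.Agent.H29.CM
import Groth.Agent.H72.DepthFlat
import Groth.Agent.H72.FlatCM

/-!
# Properties of pairs (local ring, module) (helper99; for S4960, S2552 and the EGA IV 12 family)

`IsLocPropM P`: a property `P R M` of pairs (ring, module) which is invariant under semilinear
isomorphisms and under base change along flat local homomorphisms of Noetherian local rings with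
Cohen–Macaulay closed fibre (`IsCMHom`).  Main example: `CodepthLEM n` (codepth of the module at
most `n`).
-/

set_option autoImplicit false
set_option linter.style.haveILetI false
set_option linter.unusedSectionVars false
universe u

open TensorProduct IsLocalRing

namespace Groth.Agent.H99.ModPair

/-- a flat local homomorphism of Noetherian local rings with Cohen–Macaulay closed fibre. -/
structure IsCMHom (R R' : Type u) [CommRing R] [CommRing R'] [Algebra R R'] [IsLocalRing R]
    [IsLocalRing R'] : Prop where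
  noeth : IsNoetherianRing R
  noeth' : IsNoetherianRing R'
  isLocalHom : IsLocalHom (algebraMap R R')
  flat : Module.Flat R R'
  cm : LocCoh.IsCohenMacaulayLocalRing (R' ⧸ (maximalIdeal R).map (algebraMap R R'))

/-- hypotheses on a property of pairs (ring, module). -/
structure IsLocPropM
    (P : ∀ (R : Type u) [CommRing R] (M : Type u) [AddCommGroup M] [Module R M], Prop) :
    Prop where
  iso : ∀ {R R' M M' : Type u} [CommRing R] [CommRing R'] [AddCommGroup M] [Module R M]
    [AddCommGroup M'] [Module R' M'] (σ : R ≃+* R') (φ : M ≃+ M'),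
    (∀ (r : R) (x : M), φ (r • x) = σ r • φ x) → P R M → P R' M'
  cmHom : ∀ (R R' : Type u) [CommRing R] [CommRing R'] [Algebra R R'] [IsLocalRing R]
    [IsLocalRing R'], IsCMHom R R' → ∀ (M : Type u) [AddCommGroup M] [Module R M]
    [Module.Finite R M], P R M ↔ P R' (R' ⊗[R] M)

section Semilinear

variable {R R' M M' : Type u} [CommRing R] [CommRing R'] [AddCommGroup M] [Module R M]
  [AddCommGroup M'] [Module R' M']

theorem semilinear_symm (σ : R ≃+* R') (φ : M ≃+ M')
    (h : ∀ (r : R) (x : M), φ (r • x) = σ r • φ x) (r' : R') (y : M') :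
    φ.symm (r' • y) = σ.symm r' • φ.symm y := by
  apply φ.injective
  rw [h]
  simp

variable {P : ∀ (R : Type u) [CommRing R] (M : Type u) [AddCommGroup M] [Module R M], Prop}

theorem IsLocPropM.iso_iff (hP : IsLocPropM P) (σ : R ≃+* R') (φ : M ≃+ M')
    (h : ∀ (r : R) (x : M), φ (r • x) = σ r • φ x) : P R M ↔ P R' M' :=
  ⟨hP.iso σ φ h, hP.iso σ.symm φ.symm (semilinear_symm σ φ h)⟩

theorem IsLocPropM.linearEquiv_iff (hP : IsLocPropM P) {N : Type u} [AddCommGroup N] [Module R N]
    (e : M ≃ₗ[R] N) : P R M ↔ P R N :=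
  hP.iso_iff (RingEquiv.refl R) e.toAddEquiv (fun r x => e.map_smul r x)

end Semilinear

section Quotient

/-- for a surjective ring map `R → R̄` with kernel `I`, the pair `(R̄, R̄ ⊗ M)` is semilinearly
isomorphic to `(R/I, M/IM)`. -/
theorem exists_semilinear_quotient (R Rb : Type u) [CommRing R] [CommRing Rb] [Algebra R Rb]
    (hs : Function.Surjective (algebraMap R Rb)) (M : Type u) [AddCommGroup M] [Module R M] :
    ∃ (σ : (R ⧸ RingHom.ker (algebraMap R Rb)) ≃+* Rb)
      (φ : (M ⧸ (RingHom.ker (algebraMap R Rb)) • (⊤ : Submodule R M)) ≃+ Rb ⊗[R] M),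
      (∀ r, σ (Ideal.Quotient.mk _ r) = algebraMap R Rb r) ∧ ∀ r x, φ (r • x) = σ r • φ x := by
  set I := RingHom.ker (algebraMap R Rb) with hI
  let σ : (R ⧸ I) ≃+* Rb := RingHom.quotientKerEquivOfSurjective hs
  have hσ : ∀ r, σ (Ideal.Quotient.mk _ r) = algebraMap R Rb r := fun r => rfl
  let eR : (R ⧸ I) ≃ₗ[R] Rb :=
    { σ.toAddEquiv with
      map_smul' := fun r x => by
        obtain ⟨y, rfl⟩ := Ideal.Quotient.mk_surjective x
        change σ (r • Ideal.Quotient.mk I y) = r • σ (Ideal.Quotient.mk I y)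
        rw [Algebra.smul_def, Algebra.smul_def, map_mul]
        rfl }
  let φ : (M ⧸ I • (⊤ : Submodule R M)) ≃ₗ[R] Rb ⊗[R] M :=
    (TensorProduct.quotTensorEquivQuotSMul M I).symm ≪≫ₗ
      TensorProduct.congr eR (LinearEquiv.refl R M)
  refine ⟨σ, φ.toAddEquiv, hσ, ?_⟩
  intro r x
  obtain ⟨r, rfl⟩ := Ideal.Quotient.mk_surjective r
  change φ (Ideal.Quotient.mk I r • x) = σ (Ideal.Quotient.mk I r) • φ x
  rw [hσ]
  have h1 : Ideal.Quotient.mk I r • x = r • x := by
    obtain ⟨m, rfl⟩ := Submodule.Quotient.mk_surjective _ x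
    rfl
  rw [h1, map_smul, algebraMap_smul]

end Quotient

section Codepth

open Groth.Agent.H72.FlatCM Groth.Agent.H72.DepthFlat Groth.Agent.H15

/-- the codepth of the module is at most `n` (vacuous for the zero module). -/
def CodepthLEM (n : ℕ) (R : Type u) [CommRing R] (M : Type u) [AddCommGroup M] [Module R M] :
    Prop :=
  ∀ [IsLocalRing R] [IsNoetherianRing R] [Module.Finite R M],
    Module.supportDim R M ≤ ((LocCoh.depth R M : ℕ∞) : WithBot ℕ∞) + n

section CMHom

variable {R R' : Type u} [CommRing R] [CommRing R'] [Algebra R R'] [IsLocalRing R]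
  [IsLocalRing R']

/-- the closed fibre of a CM homomorphism has equal depth and dimension. -/
theorem IsCMHom.exists_closedFibre (h : IsCMHom R R') :
    ∃ c : ℕ, LocCoh.depth R' (R' ⧸ ((maximalIdeal R).map (algebraMap R R')) •
        (⊤ : Submodule R' R')) = c ∧
      Module.supportDim R' (EGA4.FibMod R R' R') = c := by
  haveI := h.noeth
  haveI := h.noeth'
  haveI := h.isLocalHom
  haveI := h.flat
  set I : Ideal R' := (maximalIdeal R).map (algebraMap R R') with hI
  have hne : I ≠ ⊤ := mB_ne_top (A := R) (B := R')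
  have hcm := (isCohenMacaulayLocalRing_iff (R' ⧸ I)).mp h.cm
  obtain ⟨c, hc⟩ := exists_ringKrullDim_eq_natCast (R' ⧸ I)
  have h2 : (I • (⊤ : Submodule R' R')) = I := by
    rw [smul_eq_mul, Ideal.mul_top]
  let e2 : (R' ⧸ (I • (⊤ : Submodule R' R'))) ≃ₗ[R'] (R' ⧸ I) := Submodule.quotEquivOfEq _ _ h2
  refine ⟨c, ?_, ?_⟩
  · have h3 : LocCoh.depth R' (R' ⧸ (I • (⊤ : Submodule R' R'))) = LocCoh.depth R' (R' ⧸ I) :=
      idealDepth_congr e2 _
    rw [h3, depth_quotient_eq _ hne]
    rw [hc] at hcm
    have : ((c : ℕ∞) : WithBot ℕ∞) = ((LocCoh.depth (R' ⧸ I) (R' ⧸ I) : ℕ∞) : WithBot ℕ∞) := hcm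
    exact (WithBot.coe_injective this).symm
  · change Module.supportDim R' (R' ⧸ (I • (⊤ : Submodule R' R'))) = c
    rw [Module.supportDim_eq_of_equiv e2, Module.supportDim_quotient_eq_ringKrullDim, hc]

theorem IsCMHom.codepthLEM_iff (h : IsCMHom R R') (n : ℕ) (M : Type u) [AddCommGroup M]
    [Module R M] [Module.Finite R M] :
    CodepthLEM n R M ↔ CodepthLEM n R' (R' ⊗[R] M) := by
  haveI := h.noeth
  haveI := h.noeth'
  haveI := h.isLocalHom
  haveI := h.flat
  haveI : Module.Finite R' (R' ⊗[R] M) := inferInstance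
  have hL : CodepthLEM n R M ↔
      Module.supportDim R M ≤ ((LocCoh.depth R M : ℕ∞) : WithBot ℕ∞) + n :=
    ⟨fun h => h, fun h _ _ _ => h⟩
  have hR : CodepthLEM n R' (R' ⊗[R] M) ↔
      Module.supportDim R' (R' ⊗[R] M) ≤
        ((LocCoh.depth R' (R' ⊗[R] M) : ℕ∞) : WithBot ℕ∞) + n :=
    ⟨fun h => h, fun h _ _ _ => h⟩
  rw [hL, hR]
  rcases subsingleton_or_nontrivial M with hM | hM
  · have h1 : Module.supportDim R M = ⊥ := (Module.supportDim_eq_bot_iff_subsingleton _ _).mpr hM
    have h2 : Module.supportDim R' (R' ⊗[R] M) = ⊥ :=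
      (Module.supportDim_eq_bot_iff_subsingleton _ _).mpr inferInstance
    rw [h1, h2]
    simp
  · obtain ⟨c, hc1, hc2⟩ := h.exists_closedFibre
    have hdepth := depth_tensor_eq_add_quotient (R := R) (S := R') R' M
    have hdim := Groth.Agent.H29.FlatDim.supportDim_tensor_eq (A := R) (B := R') M R'
    obtain ⟨d, hd⟩ := Groth.Agent.H29.CML.exists_nat_supportDim_eq (A := R) M
    rw [hdim, hdepth, hc1, hc2, hd]
    rcases eq_or_ne (LocCoh.depth R M) ⊤ with he | he
    · rw [he]
      simp only [top_add, WithBot.coe_top]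
      have h1 : (⊤ : WithBot ℕ∞) + (n : WithBot ℕ∞) = ⊤ := by
        rw [show (n : WithBot ℕ∞) = ((n : ℕ∞) : WithBot ℕ∞) from rfl, ← WithBot.coe_top,
          ← WithBot.coe_add, top_add]
      rw [h1]
      exact ⟨fun _ => le_top, fun _ => le_top⟩
    · obtain ⟨e, he⟩ := ENat.ne_top_iff_exists.mp he
      rw [← he]
      constructor
      · intro h1
        have h1' : d ≤ e + n := by exact_mod_cast h1
        have : d + c ≤ e + c + n := by omega
        exact_mod_cast this
      · intro h1
        have h1' : d + c ≤ e + c + n := by exact_mod_cast h1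
        have : d ≤ e + n := by omega
        exact_mod_cast this

end CMHom

theorem isLocPropM_codepthLEM (n : ℕ) : IsLocPropM (CodepthLEM.{u} n) where
  iso := by
    intro R R' M M' _ _ _ _ _ _ σ φ h hR _ _ _
    haveI : IsLocalRing R := σ.symm.isLocalRing
    haveI : IsNoetherianRing R := isNoetherianRing_of_ringEquiv R' σ.symm
    letI : Algebra R R' := (σ : R →+* R').toAlgebra
    letI : Module R M' := Module.compHom M' (σ : R →+* R')
    haveI : IsScalarTower R R' M' := ⟨fun r s y => by
      change (σ r * s) • y = σ r • (s • y)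
      rw [mul_smul]⟩
    haveI : Module.Finite R R' :=
      Module.Finite.of_surjective (Algebra.linearMap R R') σ.surjective
    haveI : Module.Finite R M' := Module.Finite.trans R' M'
    let l : M ≃ₗ[R] M' :=
      { φ with
        map_smul' := fun r x => h r x }
    haveI : Module.Finite R M := Module.Finite.equiv l.symm
    rw [← Groth.Agent.H29.LocTrans.supportDim_eq_of_semilinear σ φ h,
      ← Groth.Agent.H29.LocTrans.depth_eq_of_semilinear σ φ h]
    exact hR
  cmHom := by
    intro R R' _ _ _ _ _ h M _ _ _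
    exact h.codepthLEM_iff n M

end Codepth

end Groth.Agent.H99.ModPair
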