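import Mathlib
import Groth.Agent.H99.ModPair
import Groth.Agent.H26.FieldTensorCM
import Groth.Agent.H26.FormalFibreQuot
import Groth.Agent.H49.CMFieldBC
import Groth.Agent.H49.CMLocalize

/-!
# Extension of the base field gives flat local homomorphisms with Cohen–Macaulay closed fibre
(helper99)

For a Noetherian `k`-algebra `S`, a field extension `K/k` (one of the two finitely generated) and
a prime `q'` of `T = S ⊗_k K`, the local homomorphism `S_q → T_{q'}` (`q = q' ∩ S`) is flat with
Cohen–Macaulay closed fibre (`IsCMHom`).  Abstract version with a pushout square and abstract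
localizations: `isCMHom_of_isPushout`.
-/

set_option autoImplicit false
set_option linter.style.haveILetI false
set_option linter.unusedSectionVars false
universe u

open TensorProduct IsLocalRing

namespace Groth.Agent.H99.ModPair

/-- transport of `IsCMHom` along ring isomorphisms. -/
theorem IsCMHom.of_ringEquiv {A₀ B₀ A B : Type u} [CommRing A₀] [CommRing B₀] [CommRing A]
    [CommRing B] [Algebra A₀ B₀] [Algebra A B] [IsLocalRing A₀] [IsLocalRing B₀] [IsLocalRing A]
    [IsLocalRing B] (eA : A₀ ≃+* A) (eB : B₀ ≃+* B)
    (hcomm : ∀ a, eB (algebraMap A₀ B₀ a) = algebraMap A B (eA a)) (h : IsCMHom A₀ B₀) :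
    IsCMHom A B := by
  haveI := h.noeth
  haveI := h.noeth'
  haveI := h.isLocalHom
  haveI := h.flat
  have hmap : algebraMap A B =
      (eB : B₀ →+* B).comp ((algebraMap A₀ B₀).comp (eA.symm : A →+* A₀)) := by
    ext a
    simp only [RingHom.comp_apply, RingEquiv.coe_toRingHom]
    rw [hcomm, RingEquiv.apply_symm_apply]
  have hI : ((maximalIdeal A₀).map (algebraMap A₀ B₀)).map (eB : B₀ →+* B) =
      (maximalIdeal A).map (algebraMap A B) := by
    have h1 : maximalIdeal A = (maximalIdeal A₀).map (eA : A₀ →+* A) := by
      ext a
      rw [Ideal.mem_map_iff_of_surjective (eA : A₀ →+* A) eA.surjective]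
      constructor
      · intro ha
        refine ⟨eA.symm a, ?_, by simp⟩
        rw [mem_maximalIdeal, mem_nonunits_iff] at ha ⊢
        intro hu
        apply ha
        have := hu.map eA
        simpa using this
      · rintro ⟨a₀, ha₀, rfl⟩
        rw [mem_maximalIdeal, mem_nonunits_iff] at ha₀ ⊢
        intro hu
        apply ha₀
        have := hu.map eA.symm
        simpa using this
    rw [h1, Ideal.map_map, Ideal.map_map]
    congr 1
    ext a
    simp only [RingHom.comp_apply, RingEquiv.coe_toRingHom]
    exact hcomm a
  have hcomm' : ∀ a : A, algebraMap A B a = eB (algebraMap A₀ B₀ (eA.symm a)) := by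
    intro a
    rw [hcomm, RingEquiv.apply_symm_apply]
  refine ⟨isNoetherianRing_of_ringEquiv A₀ eA, isNoetherianRing_of_ringEquiv B₀ eB, ?_, ?_, ?_⟩
  · constructor
    intro a ha
    rw [hcomm'] at ha
    have h1 : IsUnit (algebraMap A₀ B₀ (eA.symm a)) := by
      have := ha.map eB.symm
      simpa using this
    have h2 : IsUnit (eA.symm a) := isUnit_of_map_unit (algebraMap A₀ B₀) _ h1
    have := h2.map eA
    simpa using this
  · rw [← RingHom.flat_algebraMap_iff, hmap]
    refine RingHom.Flat.comp (RingHom.Flat.comp ?_ ?_) ?_
    · exact RingHom.Flat.of_bijective eA.symm.bijective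
    · exact RingHom.flat_algebraMap_iff.mpr inferInstance
    · exact RingHom.Flat.of_bijective eB.bijective
  · exact Groth.Agent.H49.isCohenMacaulayLocalRing_of_ringEquiv
      (Ideal.quotientEquiv _ _ eB hI.symm) h.cm

/-- localizations of a flat homomorphism of Noetherian rings whose fibre rings are Cohen–Macaulay
are CM homomorphisms. -/
theorem isCMHom_localization_of_fibres (R S : Type u) [CommRing R] [CommRing S] [Algebra R S]
    [IsNoetherianRing R] [IsNoetherianRing S] [Module.Flat R S] (r : Ideal S) [hr : r.IsPrime]
    (hfib : ∀ (q : Ideal ((r.under R).Fiber S)) [q.IsPrime],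
      LocCoh.IsCohenMacaulayLocalRing (Localization.AtPrime q)) :
    letI := Localization.AtPrime.algebraOfLiesOver (r.under R) r
    IsCMHom (Localization.AtPrime (r.under R)) (Localization.AtPrime r) := by
  set p : Ideal R := r.under R with hp
  have hpp : p.IsPrime := inferInstance
  let q0 := PrimeSpectrum.preimageEquivFiber R S ⟨p, hpp⟩ ⟨⟨r, hr⟩, rfl⟩
  have hq0 : q0.asIdeal.comap (Algebra.TensorProduct.includeRight (R := R) (A := p.ResidueField)
      (B := S)) = r := by
    have := (PrimeSpectrum.preimageEquivFiber R S ⟨p, hpp⟩).left_inv ⟨⟨r, hr⟩, rfl⟩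
    exact congrArg (fun x => x.1.asIdeal) this
  have hgen : ∀ (r' : Ideal S) (hr' : r'.IsPrime) (hlies : r'.LiesOver p),
      q0.asIdeal.comap (Algebra.TensorProduct.includeRight (R := R) (A := p.ResidueField)
        (B := S)) = r' →
      letI := Localization.AtPrime.algebraOfLiesOver p r'
      IsCMHom (Localization.AtPrime p) (Localization.AtPrime r') := by
    intro r' hr' hrp e
    letI := Localization.AtPrime.algebraOfLiesOver p r'
    have hloc : IsLocalHom (algebraMap (Localization.AtPrime p) (Localization.AtPrime r')) :=
      Localization.isLocalHom_localRingHom p r' (algebraMap R S) Ideal.LiesOver.over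
    have hflatS : Module.Flat S (Localization.AtPrime r') := IsLocalization.flat _ r'.primeCompl
    have hflatR : Module.Flat R (Localization.AtPrime r') := Module.Flat.trans R S _
    have hflat' : Module.Flat (Localization.AtPrime p) (Localization.AtPrime r') :=
      (Module.flat_iff_of_isLocalization (Localization.AtPrime p) p.primeCompl _).mpr hflatR
    have hideal : (maximalIdeal (Localization.AtPrime p)).map
        (algebraMap (Localization.AtPrime p) (Localization.AtPrime r')) =
        (p.map (algebraMap R S)).map (algebraMap S (Localization.AtPrime r')) := by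
      rw [← Localization.AtPrime.map_eq_maximalIdeal, Ideal.map_map, Ideal.map_map,
        ← IsScalarTower.algebraMap_eq, ← IsScalarTower.algebraMap_eq]
    have hquot : LocCoh.IsCohenMacaulayLocalRing (Localization.AtPrime r' ⧸
        (maximalIdeal (Localization.AtPrime p)).map
          (algebraMap (Localization.AtPrime p) (Localization.AtPrime r'))) := by
      rw [hideal]
      subst e
      exact Groth.Agent.H49.isCohenMacaulayLocalRing_of_ringEquiv
        (Ideal.Fiber.algEquivAux₂ p q0.asIdeal).toRingEquiv (hfib q0.asIdeal)
    exact ⟨IsLocalization.isNoetherianRing p.primeCompl _ inferInstance,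
      IsLocalization.isNoetherianRing r'.primeCompl _ inferInstance, hloc, hflat', hquot⟩
  exact hgen r hr inferInstance hq0

section Field

variable (k S k' : Type u) [Field k] [CommRing S] [Algebra k S] [IsNoetherianRing S] [Field k']
  [Algebra k k'] (hft : Algebra.FiniteType k S ∨ Algebra.EssFiniteType k k')
  [IsNoetherianRing (S ⊗[k] k')] (q' : Ideal (S ⊗[k] k')) [q'.IsPrime]

include hft in
set_option backward.isDefEq.respectTransparency false in
/-- `S_q → (S ⊗_k k')_{q'}` is a CM homomorphism. -/
theorem isCMHom_field_tensor :
    letI := Localization.AtPrime.algebraOfLiesOver (q'.under S) q'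
    IsCMHom (Localization.AtPrime (q'.under S)) (Localization.AtPrime q') := by
  refine isCMHom_localization_of_fibres S (S ⊗[k] k') q' (fun q hq => ?_)
  let e : (q'.under S).Fiber (S ⊗[k] k') ≃ₐ[(q'.under S).ResidueField]
      (q'.under S).ResidueField ⊗[k] k' :=
    Algebra.TensorProduct.cancelBaseChange k S (q'.under S).ResidueField
      (q'.under S).ResidueField k'
  have hess : Algebra.EssFiniteType k (q'.under S).ResidueField ∨ Algebra.EssFiniteType k k' := by
    rcases hft with h | h
    · haveI := h
      exact Or.inl (Algebra.EssFiniteType.comp k S (q'.under S).ResidueField)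
    · exact Or.inr h
  have hcm := Groth.Agent.H26.FieldTensorCM.isCohenMacaulayRing_tensor_field' k
    (q'.under S).ResidueField k' hess
  have hcm' : LocCoh.IsCohenMacaulayRing ((q'.under S).Fiber (S ⊗[k] k')) :=
    Groth.Agent.H26.FormalFibreQuot.isCohenMacaulayRing_of_ringEquiv e.symm.toRingEquiv hcm
  exact hcm'.isCohenMacaulayLocalRing_localization q

end Field

set_option backward.isDefEq.respectTransparency false in
/-- **pushout form with abstract localizations**: for a pushout square of a Noetherian `k`-algebra
`S` and a field extension `K/k`, the local homomorphism between abstract localizations at a prime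
of the pushout and its contraction is a CM homomorphism. -/
theorem isCMHom_of_isPushout (k K S T : Type u) [Field k] [Field K] [Algebra k K]
    [CommRing S] [CommRing T] [Algebra k S] [Algebra S T] [Algebra K T] [Algebra k T]
    [IsScalarTower k S T] [IsScalarTower k K T] [IsNoetherianRing S]
    [hpo : Algebra.IsPushout k S K T]
    (hft : Algebra.FiniteType k S ∨ Algebra.EssFiniteType k K)
    (qT : Ideal T) [qT.IsPrime]
    (A B : Type u) [CommRing A] [CommRing B] [Algebra S A] [Algebra T B]
    [IsLocalization.AtPrime A (qT.comap (algebraMap S T))] [IsLocalization.AtPrime B qT]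
    [Algebra A B] [Algebra S B] [IsScalarTower S A B] [IsScalarTower S T B]
    [IsLocalRing A] [IsLocalRing B] : IsCMHom A B := by
  haveI := Groth.Agent.H49.CMFieldBC.isNoetherianRing_tensor k S K hft
  let e : S ⊗[k] K ≃ₐ[S] T := Algebra.IsPushout.equiv k S K T
  let q' : Ideal (S ⊗[k] K) := qT.comap (e : S ⊗[k] K →+* T)
  haveI : q'.IsPrime := Ideal.comap_isPrime _ _
  have hq : q'.under S = qT.comap (algebraMap S T) := by
    ext s
    simp only [q', Ideal.under, Ideal.mem_comap]
    have : (e : S ⊗[k] K →+* T) (algebraMap S (S ⊗[k] K) s) = algebraMap S T s := e.commutes s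
    rw [this]
  letI := Localization.AtPrime.algebraOfLiesOver (q'.under S) q'
  have h0 := isCMHom_field_tensor k S K hft q'
  let eB : Localization.AtPrime q' ≃+* B :=
    (Localization.localRingEquiv q' qT e.toRingEquiv rfl).trans
      (IsLocalization.algEquiv qT.primeCompl (Localization.AtPrime qT) B).toRingEquiv
  haveI : IsLocalization.AtPrime A (q'.under S) := by
    have : (q'.under S).primeCompl = (qT.comap (algebraMap S T)).primeCompl := by
      ext s
      simp only [Ideal.mem_primeCompl_iff, hq]
    show IsLocalization (q'.under S).primeCompl A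
    rw [this]
    infer_instance
  let eA : Localization.AtPrime (q'.under S) ≃+* A :=
    (IsLocalization.algEquiv (q'.under S).primeCompl (Localization.AtPrime (q'.under S))
      A).toRingEquiv
  refine h0.of_ringEquiv eA eB ?_
  have key : ((eB : Localization.AtPrime q' →+* B).comp
      (algebraMap (Localization.AtPrime (q'.under S)) (Localization.AtPrime q'))) =
      (algebraMap A B).comp (eA : Localization.AtPrime (q'.under S) →+* A) := by
    apply IsLocalization.ringHom_ext (q'.under S).primeCompl
    ext s
    simp only [RingHom.comp_apply, RingEquiv.coe_toRingHom]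
    have h1 : algebraMap (Localization.AtPrime (q'.under S)) (Localization.AtPrime q')
        (algebraMap S (Localization.AtPrime (q'.under S)) s) =
        algebraMap (S ⊗[k] K) (Localization.AtPrime q') (algebraMap S (S ⊗[k] K) s) := by
      rw [Localization.AtPrime.IsLiesOverAlgebra.algebraMap_eq (p := q'.under S) (P := q'),
        Localization.localRingHom_to_map]
    rw [h1]
    have h2 : ∀ t : S ⊗[k] K, eB (algebraMap (S ⊗[k] K) (Localization.AtPrime q') t) =
        algebraMap T B (e t) := by
      intro t
      have h2a : (Localization.localRingEquiv q' qT e.toRingEquiv rfl)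
          (algebraMap (S ⊗[k] K) (Localization.AtPrime q') t) =
          algebraMap T (Localization.AtPrime qT) (e t) :=
        Localization.localRingHom_to_map q' qT (e.toRingEquiv : S ⊗[k] K →+* T) rfl t
      change (IsLocalization.algEquiv qT.primeCompl (Localization.AtPrime qT) B)
        ((Localization.localRingEquiv q' qT e.toRingEquiv rfl)
          (algebraMap (S ⊗[k] K) (Localization.AtPrime q') t)) = _
      rw [h2a]
      exact AlgEquiv.commutes _ _
    rw [h2]
    have h2b : e (algebraMap S (S ⊗[k] K) s) = algebraMap S T s := e.commutes s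
    rw [h2b]
    have h3 : eA (algebraMap S (Localization.AtPrime (q'.under S)) s) = algebraMap S A s :=
      (IsLocalization.algEquiv (q'.under S).primeCompl (Localization.AtPrime (q'.under S))
        A).commutes s
    rw [h3, ← IsScalarTower.algebraMap_apply, ← IsScalarTower.algebraMap_apply]
  intro a
  exact congrArg (fun f => f a) key

/-- an isomorphism of Noetherian local rings is a CM homomorphism. -/
theorem isCMHom_of_bijective {R R' : Type u} [CommRing R] [CommRing R'] [Algebra R R']
    [IsLocalRing R] [IsLocalRing R'] [IsNoetherianRing R]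
    (hb : Function.Bijective (algebraMap R R')) : IsCMHom R R' := by
  let e : R ≃+* R' := RingEquiv.ofBijective (algebraMap R R') hb
  haveI : IsNoetherianRing R' := isNoetherianRing_of_ringEquiv R e
  have hloc : IsLocalHom (algebraMap R R') := by
    constructor
    intro a ha
    have := ha.map e.symm
    have h1 : e.symm (algebraMap R R' a) = a := e.symm_apply_apply a
    rwa [h1] at this
  have hI : (maximalIdeal R).map (algebraMap R R') = maximalIdeal R' := by
    apply le_antisymm
    · exact ((IsLocalRing.local_hom_TFAE (algebraMap R R')).out 0 2).mp hloc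
    · intro b hb'
      obtain ⟨a, rfl⟩ := hb.2 b
      refine Ideal.mem_map_of_mem _ ?_
      rw [mem_maximalIdeal, mem_nonunits_iff] at hb' ⊢
      exact fun hu => hb' (hu.map (algebraMap R R'))
  refine ⟨inferInstance, inferInstance, hloc, ?_, ?_⟩
  · rw [← RingHom.flat_algebraMap_iff]
    exact RingHom.Flat.of_bijective hb
  · rw [hI]
    refine Groth.Agent.H72.FlatCM.isCohenMacaulayLocalRing_of_ringKrullDim_eq_zero _ ?_
    haveI : IsField (R' ⧸ maximalIdeal R') :=
      (Ideal.Quotient.maximal_ideal_iff_isField_quotient _).mp inferInstance
    exact ringKrullDim_eq_zero_of_isField this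

end Groth.Agent.H99.ModPair
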