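import Mathlib
import Groth.Agent.H99.ModPairField
import Groth.Agent.H99.FibLocProp
import Groth.Agent.H71.QCoh.StalkPullback
import Groth.Agent.H70.RelFlatBC.Iso
import Groth.Agent.H70.RelFlatBC.Main
import Groth.Agent.H17.QFlat.BaseChange
import Groth.Agent.H13.QuasiFlat

/-!
# Properties of the stalks of the fibres of a module (helper99; for S4960, S2552, ...)

For a property `P` of pairs (ring, module) with `IsLocPropM P` the pointwise property
`FibMP P f F x := P (O_{X_{f x}, x}) ((F_{f x})_x)` is invariant under base change and under open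
immersions into the source.
-/

set_option autoImplicit false
set_option backward.isDefEq.respectTransparency.types false
set_option linter.style.haveILetI false
set_option linter.unusedSectionVars false
universe u

open CategoryTheory CategoryTheory.Limits AlgebraicGeometry TensorProduct IsLocalRing

namespace Groth.Agent.H99.FibModProp

open Groth.Agent.H99.ModPair

/-- **the stalk maps of an extension of the base field are CM homomorphisms**. -/
theorem isCMHom_stalkMap_of_isPullback_field {Z W : Scheme.{u}} (k K : Type u)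
    [Field k] [Field K]
    (φ : k →+* K) (z : Z ⟶ Spec (.of k)) (p : W ⟶ Z)
    (q : W ⟶ Spec (.of K)) (hpb : IsPullback p q z (Spec.map (CommRingCat.ofHom φ)))
    [IsLocallyNoetherian Z] (hft : LocallyOfFiniteType z ∨ φ.EssFiniteType) (w : W) :
    letI := (p.stalkMap w).hom.toAlgebra
    IsCMHom (Z.presheaf.stalk (p w)) (W.presheaf.stalk w) := by
  obtain ⟨U, hU, hwU, -⟩ := exists_isAffineOpen_mem_and_subset (x := p w) (U := ⊤) trivial
  obtain ⟨hV, hpo'⟩ := Groth.Agent.H49.CMFieldBC.isPushout_sections k K φ z p q hpb hU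
  have hwV : w ∈ p ⁻¹ᵁ U := hwU
  have hUSX : U ≤ z ⁻¹ᵁ ⊤ := by simp
  let e₁ := Scheme.ΓSpecIso (CommRingCat.of k)
  let e₃ := Scheme.ΓSpecIso (CommRingCat.of K)
  let _ : Algebra k K := φ.toAlgebra
  let _ : Algebra k Γ(Z, U) := (e₁.inv ≫ z.appLE ⊤ U hUSX).hom.toAlgebra
  let _ : Algebra Γ(Z, U) Γ(W, p ⁻¹ᵁ U) := (p.appLE U (p ⁻¹ᵁ U) le_rfl).hom.toAlgebra
  let _ : Algebra K Γ(W, p ⁻¹ᵁ U) := (e₃.inv ≫ q.appLE ⊤ (p ⁻¹ᵁ U) (by simp)).hom.toAlgebra
  let _ : Algebra k Γ(W, p ⁻¹ᵁ U) :=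
    ((e₁.inv ≫ z.appLE ⊤ U hUSX) ≫ (p.appLE U (p ⁻¹ᵁ U) le_rfl)).hom.toAlgebra
  have t1 : IsScalarTower k Γ(Z, U) Γ(W, p ⁻¹ᵁ U) :=
    IsScalarTower.of_algebraMap_eq fun r => rfl
  have t2 : IsScalarTower k K Γ(W, p ⁻¹ᵁ U) :=
    IsScalarTower.of_algebraMap_eq fun r => congr($(hpo'.w).hom r)
  have hpo'' : Algebra.IsPushout k Γ(Z, U) K Γ(W, p ⁻¹ᵁ U) :=
    CommRingCat.isPushout_iff_isPushout.mp hpo'
  have hft' : Algebra.FiniteType k Γ(Z, U) ∨ Algebra.EssFiniteType k K := by
    rcases hft with h | h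
    · left
      have hft : RingHom.FiniteType (z.appLE ⊤ U hUSX).hom :=
        HasRingHomProperty.appLE @LocallyOfFiniteType z h ⟨⊤, isAffineOpen_top _⟩
          ⟨U, hU⟩ hUSX
      have : RingHom.FiniteType (e₁.inv ≫ z.appLE ⊤ U hUSX).hom := by
        rw [CommRingCat.hom_comp]
        refine hft.comp ?_
        exact RingHom.FiniteType.of_surjective _
          (ConcreteCategory.bijective_of_isIso e₁.inv).2
      exact this
    · right
      exact h
  haveI : IsNoetherianRing Γ(Z, U) := IsLocallyNoetherian.component_noetherian ⟨U, hU⟩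
  letI := W.presheaf.algebra_section_stalk ⟨w, hwV⟩
  haveI hlocW := hV.isLocalization_stalk ⟨w, hwV⟩
  letI := Z.presheaf.algebra_section_stalk ⟨p w, hwU⟩
  haveI hlocZ := hU.isLocalization_stalk ⟨p w, hwU⟩
  have hcomap : (hV.primeIdealOf ⟨w, hwV⟩).asIdeal.comap
      (algebraMap Γ(Z, U) Γ(W, p ⁻¹ᵁ U)) = (hU.primeIdealOf ⟨p w, hwU⟩).asIdeal :=
    congr($(IsAffineOpen.comap_primeIdealOf_appLE U hU (p ⁻¹ᵁ U) hV le_rfl hwV).1)
  haveI : IsLocalization.AtPrime (Z.presheaf.stalk (p w))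
      ((hV.primeIdealOf ⟨w, hwV⟩).asIdeal.comap (algebraMap Γ(Z, U) Γ(W, p ⁻¹ᵁ U))) := by
    have : ((hV.primeIdealOf ⟨w, hwV⟩).asIdeal.comap
        (algebraMap Γ(Z, U) Γ(W, p ⁻¹ᵁ U))).primeCompl =
        (hU.primeIdealOf ⟨p w, hwU⟩).asIdeal.primeCompl := by
      ext s
      simp only [Ideal.mem_primeCompl_iff, hcomap]
    show IsLocalization ((hV.primeIdealOf ⟨w, hwV⟩).asIdeal.comap
        (algebraMap Γ(Z, U) Γ(W, p ⁻¹ᵁ U))).primeCompl _
    rw [this]
    exact hlocZ
  letI algAB : Algebra (Z.presheaf.stalk (p w)) (W.presheaf.stalk w) :=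
    (p.stalkMap w).hom.toAlgebra
  letI algSB : Algebra Γ(Z, U) (W.presheaf.stalk w) :=
    ((algebraMap Γ(W, p ⁻¹ᵁ U) (W.presheaf.stalk w)).comp
      (algebraMap Γ(Z, U) Γ(W, p ⁻¹ᵁ U))).toAlgebra
  haveI : IsScalarTower Γ(Z, U) Γ(W, p ⁻¹ᵁ U) (W.presheaf.stalk w) :=
    IsScalarTower.of_algebraMap_eq (fun _ => rfl)
  haveI : IsScalarTower Γ(Z, U) (Z.presheaf.stalk (p w)) (W.presheaf.stalk w) :=
    IsScalarTower.of_algebraMap_eq (fun a =>
      (Groth.Agent.H71.QCoh.stalkMap_germ_eq_germ_appLE p le_rfl hwV a).symm)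
  exact isCMHom_of_isPushout k K Γ(Z, U) Γ(W, p ⁻¹ᵁ U) hft' (hV.primeIdealOf ⟨w, hwV⟩).asIdeal
    (Z.presheaf.stalk (p w)) (W.presheaf.stalk w)

variable {P : ∀ (R : Type u) [CommRing R] (M : Type u) [AddCommGroup M] [Module R M], Prop}

/-- the pointwise property `P (O_{X_{f x}, x}) ((F_{f x})_x)`. -/
def FibMP (P : ∀ (R : Type u) [CommRing R] (M : Type u) [AddCommGroup M] [Module R M], Prop) :
    ∀ ⦃X S : Scheme.{u}⦄, (X ⟶ S) → X.Modules → X → Prop :=
  fun _ _ f F x => P ((f.fiber (f x)).presheaf.stalk (f.asFiber x))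
    (((Scheme.Modules.pullback (f.fiberι (f x))).obj F).presheaf.stalk (f.asFiber x))

variable {X Y X' Y' : Scheme.{u}}

/-- isomorphic modules have the same stalk properties. -/
theorem stalk_iff_of_iso (hP : IsLocPropM P) {F G : X.Modules} (e : F ≅ G) (x : X) :
    P (X.presheaf.stalk x) (F.presheaf.stalk x) ↔ P (X.presheaf.stalk x) (G.presheaf.stalk x) :=
  hP.linearEquiv_iff (Groth.Agent.H70.RelFlatBC.stalkEquivOfIso e x)

/-- the stalk of a pullback is the base change of the stalk. -/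
theorem stalk_pullback_iff (hP : IsLocPropM P) (h : X' ⟶ X) (G : X.Modules) [G.IsQuasicoherent]
    (x' : X') :
    letI := (h.stalkMap x').hom.toAlgebra
    P (X'.presheaf.stalk x') (((Scheme.Modules.pullback h).obj G).presheaf.stalk x') ↔
      P (X'.presheaf.stalk x')
        ((X'.presheaf.stalk x') ⊗[X.presheaf.stalk (h x')] (G.presheaf.stalk (h x'))) := by
  letI := (h.stalkMap x').hom.toAlgebra
  obtain ⟨e⟩ := Groth.Agent.H71.QCoh.exists_stalkPullbackEquiv h G x'
  exact (hP.linearEquiv_iff e).symm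

/-- **transfer along a morphism whose stalk map is a CM homomorphism.** -/
theorem stalk_pullback_iff_of_isCMHom (hP : IsLocPropM P) (h : X' ⟶ X) (G : X.Modules)
    (hG : Coh.IsCoh G) (x' : X')
    (hcm : letI := (h.stalkMap x').hom.toAlgebra
      IsCMHom (X.presheaf.stalk (h x')) (X'.presheaf.stalk x')) :
    P (X'.presheaf.stalk x') (((Scheme.Modules.pullback h).obj G).presheaf.stalk x') ↔
      P (X.presheaf.stalk (h x')) (G.presheaf.stalk (h x')) := by
  haveI : G.IsQuasicoherent := hG.1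
  letI := (h.stalkMap x').hom.toAlgebra
  haveI := Groth.Agent.H13.finite_stalk_of_isCoh G hG (h x')
  rw [stalk_pullback_iff hP h G x']
  exact (hP.cmHom _ _ hcm _).symm

theorem fiber_stalk_iff_asFiber (f : X ⟶ Y) (F : X.Modules) (x : X) (y : Y) (hy : f x = y)
    (z0 : f.fiber y) (hz : f.fiberι y z0 = x) :
    P ((f.fiber y).presheaf.stalk z0)
      (((Scheme.Modules.pullback (f.fiberι y)).obj F).presheaf.stalk z0) ↔ FibMP P f F x := by
  subst hy
  have : z0 = f.asFiber x := by
    apply (f.fiberι (f x)).isEmbedding.injective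
    rw [hz, Scheme.Hom.fiberι_asFiber]
  rw [this]
  rfl

theorem fibMP_iff_of_iso (hP : IsLocPropM P) (f : X ⟶ Y) {F G : X.Modules} (e : F ≅ G) (x : X) :
    FibMP P f F x ↔ FibMP P f G x :=
  stalk_iff_of_iso hP ((Scheme.Modules.pullback (f.fiberι (f x))).mapIso e) _

theorem isCoh_pullback (h : X' ⟶ X) (G : X.Modules) (hG : Coh.IsCoh G) :
    Coh.IsCoh ((Scheme.Modules.pullback h).obj G) := by
  haveI : G.IsQuasicoherent := hG.1
  haveI : SheafOfModules.IsFiniteType (R := X.ringCatSheaf) G := hG.2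
  exact ⟨inferInstance, Groth.Agent.H17.QFlat.isFiniteType_pullback h G⟩

/-- **`P` of the fibre module stalk is invariant under base change.** -/
theorem fibMP_baseChange (hP : IsLocPropM P) (f : X ⟶ Y) (f' : X' ⟶ Y') (g' : X' ⟶ X) (g : Y' ⟶ Y)
    (hc : IsPullback g' f' f g) [LocallyOfFiniteType f] (F : X.Modules) (hF : Coh.IsCoh F)
    (x' : X') :
    FibMP P f' ((Scheme.Modules.pullback g').obj F) x' ↔ FibMP P f F (g' x') := by
  haveI := Groth.Agent.H49.CMChart.isLocallyNoetherian_fiber f (g (f' x'))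
  obtain ⟨pfib, hsq, hmap⟩ : ∃ pfib : (f'.fiber (f' x') : Scheme.{u}) ⟶ f.fiber (g (f' x')),
      IsPullback pfib (f'.fiberToSpecResidueField (f' x'))
        (f.fiberToSpecResidueField (g (f' x'))) (Spec.map (g.residueFieldMap (f' x'))) ∧
      pfib ≫ f.fiberι (g (f' x')) = f'.fiberι (f' x') ≫ g' :=
    ⟨_, isPullback_fiberToSpecResidueField_of_isPullback hc (f' x'), pullback.lift_fst _ _ _⟩
  have hft' : LocallyOfFiniteType (f.fiberToSpecResidueField (g (f' x'))) ∨
      (g.residueFieldMap (f' x')).hom.EssFiniteType := by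
    left
    exact inferInstanceAs
      (LocallyOfFiniteType (pullback.snd f (Y.fromSpecResidueField (g (f' x')))))
  have hcm := isCMHom_stalkMap_of_isPullback_field
    (Y.residueField (g (f' x'))) (Y'.residueField (f' x')) (g.residueFieldMap (f' x')).hom
    (f.fiberToSpecResidueField (g (f' x'))) pfib (f'.fiberToSpecResidueField (f' x')) hsq hft'
    (f'.asFiber x')
  have hG : Coh.IsCoh ((Scheme.Modules.pullback (f.fiberι (g (f' x')))).obj F) :=
    isCoh_pullback _ F hF
  have h1 := stalk_pullback_iff_of_isCMHom hP pfib _ hG (f'.asFiber x') hcm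
  let iso : (Scheme.Modules.pullback pfib).obj
      ((Scheme.Modules.pullback (f.fiberι (g (f' x')))).obj F) ≅
      (Scheme.Modules.pullback (f'.fiberι (f' x'))).obj ((Scheme.Modules.pullback g').obj F) :=
    (Scheme.Modules.pullbackComp pfib (f.fiberι (g (f' x')))).app F ≪≫
      (Scheme.Modules.pullbackCongr hmap).app F ≪≫
      ((Scheme.Modules.pullbackComp (f'.fiberι (f' x')) g').app F).symm
  have h2 := stalk_iff_of_iso hP iso (f'.asFiber x')
  have hfx : f (g' x') = g (f' x') := by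
    rw [← Scheme.Hom.comp_apply, ← Scheme.Hom.comp_apply, hc.w]
  have hz : f.fiberι (g (f' x')) (pfib (f'.asFiber x')) = g' x' := by
    have h6 := congrArg (fun h : (f'.fiber (f' x')) ⟶ X => h (f'.asFiber x')) hmap
    simp only [Scheme.Hom.comp_apply, Scheme.Hom.fiberι_asFiber] at h6
    exact h6
  have h3 := fiber_stalk_iff_asFiber (P := P) f F (g' x') (g (f' x')) hfx
    (pfib (f'.asFiber x')) hz
  exact (h2.symm.trans h1).trans h3

/-- **`P` of the fibre module stalk is invariant under open immersions into the source.** -/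
theorem fibMP_openImm (hP : IsLocPropM P) {U X S : Scheme.{u}} (j : U ⟶ X) [IsOpenImmersion j]
    (f : X ⟶ S) [LocallyOfFiniteType f] (F : X.Modules) (hF : Coh.IsCoh F) (u : U) :
    FibMP P (j ≫ f) ((Scheme.Modules.pullback j).obj F) u ↔ FibMP P f F (j u) := by
  set s : S := (j ≫ f) u with hs
  haveI := Groth.Agent.H49.CMChart.isLocallyNoetherian_fiber f s
  have hpb := Groth.Agent.H70.RelFlatBC.isPullback_fiberMap j f s
  set jfib := MoreMor.fiberMap j f s with hjfib
  haveI : IsOpenImmersion jfib :=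
    MorphismProperty.of_isPullback (P := @IsOpenImmersion) hpb inferInstance
  set u₀ := (j ≫ f).asFiber u with hu₀
  haveI hiso : IsIso (jfib.stalkMap u₀) := inferInstance
  have hcm : letI := (jfib.stalkMap u₀).hom.toAlgebra
      IsCMHom ((f.fiber s).presheaf.stalk (jfib u₀)) (((j ≫ f).fiber s).presheaf.stalk u₀) := by
    letI := (jfib.stalkMap u₀).hom.toAlgebra
    exact isCMHom_of_bijective (ConcreteCategory.bijective_of_isIso (jfib.stalkMap u₀))
  have hG : Coh.IsCoh ((Scheme.Modules.pullback (f.fiberι s)).obj F) := isCoh_pullback _ F hF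
  have h1 := stalk_pullback_iff_of_isCMHom hP jfib _ hG u₀ hcm
  let iso : (Scheme.Modules.pullback jfib).obj ((Scheme.Modules.pullback (f.fiberι s)).obj F) ≅
      (Scheme.Modules.pullback ((j ≫ f).fiberι s)).obj ((Scheme.Modules.pullback j).obj F) :=
    (Scheme.Modules.pullbackComp jfib (f.fiberι s)).app F ≪≫
      (Scheme.Modules.pullbackCongr hpb.w.symm).app F ≪≫
      ((Scheme.Modules.pullbackComp ((j ≫ f).fiberι s) j).app F).symm
  have h2 := stalk_iff_of_iso hP iso u₀
  have hz : f.fiberι s (jfib u₀) = j u := by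
    have h6 := congrArg (fun h : ((j ≫ f).fiber s) ⟶ X => h u₀) hpb.w
    simp only [Scheme.Hom.comp_apply] at h6
    rw [← h6, hu₀, Scheme.Hom.fiberι_asFiber]
  have h3 := fiber_stalk_iff_asFiber (P := P) f F (j u) s rfl (jfib u₀) hz
  exact (h2.symm.trans h1).trans h3

open Groth.Agent.H49.FibreStalk in
theorem quot_congr {R : Type u} [CommRing R] {M : Type u} [AddCommGroup M] [Module R M]
    {I J : Ideal R} (h : I = J) :
    P (R ⧸ I) (M ⧸ I • (⊤ : Submodule R M)) ↔ P (R ⧸ J) (M ⧸ J • (⊤ : Submodule R M)) := by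
  subst h
  rfl

open Groth.Agent.H49.FibreStalk in
/-- the quotient model of the fibre stalk at a point of the fibre. -/
theorem fiber_stalk_iff_quotient (hP : IsLocPropM P) (f : X ⟶ Y) (F : X.Modules)
    [F.IsQuasicoherent] (y : Y) (x' : f.fiber y) :
    P ((f.fiber y).presheaf.stalk x')
      (((Scheme.Modules.pullback (f.fiberι y)).obj F).presheaf.stalk x') ↔
    P (X.presheaf.stalk (f.fiberι y x') ⧸ fibreIdeal f (f.fiberι y x'))
      (F.presheaf.stalk (f.fiberι y x') ⧸ (fibreIdeal f (f.fiberι y x')) •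
        (⊤ : Submodule (X.presheaf.stalk (f.fiberι y x')) (F.presheaf.stalk (f.fiberι y x')))) := by
  rw [stalk_pullback_iff hP (f.fiberι y) F x']
  letI := ((f.fiberι y).stalkMap x').hom.toAlgebra
  have hs : Function.Surjective (algebraMap (X.presheaf.stalk (f.fiberι y x'))
      ((f.fiber y).presheaf.stalk x')) := (f.fiberι y).stalkMap_surjective x'
  obtain ⟨σ, φ, -, hφ⟩ := exists_semilinear_quotient _ _ hs (F.presheaf.stalk (f.fiberι y x'))
  rw [← hP.iso_iff σ φ hφ]
  exact quot_congr (ker_stalkMap_fiberι f y x')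

open Groth.Agent.H49.FibreStalk in
theorem quot_stalk_congr (f : X ⟶ Y) (F : X.Modules) {x₁ x₂ : X} (h : x₁ = x₂) :
    P (X.presheaf.stalk x₁ ⧸ fibreIdeal f x₁)
      (F.presheaf.stalk x₁ ⧸ (fibreIdeal f x₁) •
        (⊤ : Submodule (X.presheaf.stalk x₁) (F.presheaf.stalk x₁))) ↔
    P (X.presheaf.stalk x₂ ⧸ fibreIdeal f x₂)
      (F.presheaf.stalk x₂ ⧸ (fibreIdeal f x₂) •
        (⊤ : Submodule (X.presheaf.stalk x₂) (F.presheaf.stalk x₂))) := by
  subst h
  rfl

open Groth.Agent.H49.FibreStalk in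
/-- **the quotient model**: the stalk of the fibre module is `F_x / m_{f x} F_x` over
`O_{X,x} / m_{f x} O_{X,x}`. -/
theorem fibMP_iff_quotient (hP : IsLocPropM P) (f : X ⟶ Y) (F : X.Modules) [F.IsQuasicoherent]
    (x : X) :
    FibMP P f F x ↔ P (X.presheaf.stalk x ⧸ fibreIdeal f x)
      (F.presheaf.stalk x ⧸ (fibreIdeal f x) •
        (⊤ : Submodule (X.presheaf.stalk x) (F.presheaf.stalk x))) := by
  have h1 := fiber_stalk_iff_quotient hP f F (f x) (f.asFiber x)
  exact h1.trans (quot_stalk_congr f F (f.fiberι_asFiber x))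

end Groth.Agent.H99.FibModProp
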