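import Mathlib
import Groth.Agent.H24.LiftChains

/-!
# Integral morphisms: fibres are T1, dimension inequalities
-/

set_option autoImplicit false
universe u
open CategoryTheory CategoryTheory.Limits AlgebraicGeometry

namespace Groth.Agent.H99.IntegralDim

/-- A ring of Krull dimension `≤ 0` has a T1 spectrum. -/
theorem t1Space_of_krullDimLE_zero (R : Type*) [CommRing R] [Ring.KrullDimLE 0 R] :
    T1Space (PrimeSpectrum R) :=
  ⟨fun p => (PrimeSpectrum.isClosed_singleton_iff_isMaximal p).mpr inferInstance⟩

/-- A ring which is integral over a field has Krull dimension `≤ 0`. -/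
theorem krullDimLE_zero_of_isIntegral {K R : Type*} [Field K] [CommRing R] (φ : K →+* R)
    (hφ : φ.IsIntegral) : Ring.KrullDimLE 0 R := by
  refine Ring.KrullDimLE.mk₀ fun I hI => ?_
  have : (I.comap φ).IsPrime := Ideal.comap_isPrime φ I
  have h0 : I.comap φ = ⊥ := Ideal.eq_bot_of_prime _
  exact Ideal.isMaximal_of_isIntegral_of_isMaximal_comap' φ hφ I (h0 ▸ Ideal.bot_isMaximal)

/-- An integral morphism to the spectrum of a field has T1 source. -/
theorem t1Space_of_isIntegralHom_field {F : Scheme.{u}} (K : Type u) [Field K]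
    (g : F ⟶ Spec (CommRingCat.of K)) [IsIntegralHom g] : T1Space F := by
  have inst : IsAffine F := isAffine_of_isAffineHom g
  have h1 : IsIntegralHom (F.isoSpec.inv ≫ g) := inferInstance
  obtain ⟨φ, hφ⟩ := Spec.map_surjective (F.isoSpec.inv ≫ g)
  rw [← hφ, IsIntegralHom.SpecMap_iff] at h1
  have : Ring.KrullDimLE 0 Γ(F, ⊤) := krullDimLE_zero_of_isIntegral φ.hom h1
  have : T1Space (PrimeSpectrum Γ(F, ⊤)) := t1Space_of_krullDimLE_zero _
  have : T1Space (Spec Γ(F, ⊤)) := ‹T1Space (PrimeSpectrum Γ(F, ⊤))›
  exact F.isoSpec.inv.homeomorph.t1Space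

set_option backward.isDefEq.respectTransparency.types false in
/-- The fibres of an integral morphism are T1. -/
theorem t1Space_fiber {X Y : Scheme.{u}} (f : X ⟶ Y) [IsIntegralHom f] (y : Y) :
    T1Space (f.fiber y) := by
  have : IsIntegralHom (f.fiberToSpecResidueField y) :=
    MorphismProperty.pullback_snd (P := @IsIntegralHom) f (Y.fromSpecResidueField y) inferInstance
  exact t1Space_of_isIntegralHom_field (Y.residueField y) (f.fiberToSpecResidueField y)

attribute [local instance] specializationOrder in
/-- An integral morphism is strictly monotone for the specialization orders. -/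
theorem strictMono_of_isIntegralHom {X Y : Scheme.{u}} (f : X ⟶ Y) [IsIntegralHom f] :
    StrictMono (f : X → Y) := by
  intro a b hab
  have hspec : b ⤳ a := hab.le
  have h1 : f a ≤ f b := hspec.map f.continuous
  refine lt_of_le_of_ne h1 fun heq => ?_
  have hT1 : T1Space (f ⁻¹' {f b}) := by
    have := t1Space_fiber f (f b)
    exact (f.fiberHomeo (f b)).t1Space
  have ha : a ∈ f ⁻¹' {f b} := heq
  have hb : b ∈ f ⁻¹' {f b} := rfl
  have h2 : (⟨b, hb⟩ : f ⁻¹' {f b}) ⤳ ⟨a, ha⟩ := (subtype_specializes_iff _ _).mpr hspec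
  have h3 : (⟨b, hb⟩ : f ⁻¹' {f b}) = ⟨a, ha⟩ := h2.eq
  exact hab.ne (congrArg Subtype.val h3).symm

/-- An integral morphism does not raise dimension. -/
theorem topologicalKrullDim_le {X Y : Scheme.{u}} (f : X ⟶ Y) [IsIntegralHom f] :
    topologicalKrullDim X ≤ topologicalKrullDim Y := by
  rw [Groth.Agent.H24.topologicalKrullDim_eq_krullDim_specializationOrder,
    Groth.Agent.H24.topologicalKrullDim_eq_krullDim_specializationOrder]
  let _ := specializationOrder X
  let _ := specializationOrder Y
  exact Order.krullDim_le_of_strictMono _ (strictMono_of_isIntegralHom f)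

/-- A surjective integral morphism preserves dimension. -/
theorem topologicalKrullDim_eq {X Y : Scheme.{u}} (f : X ⟶ Y) [IsIntegralHom f]
    (hs : Function.Surjective (f : X → Y)) :
    topologicalKrullDim X = topologicalKrullDim Y :=
  le_antisymm (topologicalKrullDim_le f)
    (Groth.Agent.H24.topologicalKrullDim_le_of_isClosedMap_of_surjective _ f.continuous
      f.isClosedMap hs)

end Groth.Agent.H99.IntegralDim
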