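import Mathlib
import Groth.Agent.H99.FibModProp

/-!
# Fibre module stalks: transfer of properties invariant under semilinear isomorphisms (helper99)

Variant of `Groth.Agent.H99.FibModProp.fibMP_iff_quotient` for properties which are only invariant
under semilinear isomorphisms (e.g. the value of the depth).
-/

set_option autoImplicit false
set_option backward.isDefEq.respectTransparency.types false
set_option linter.style.haveILetI false
set_option linter.unusedSectionVars false
universe u

open AlgebraicGeometry CategoryTheory CategoryTheory.Limits TopologicalSpace Topology IsLocalRing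
  TensorProduct

namespace Groth.Agent.H99.FibModIso

open Groth.Agent.H99.ModPair Groth.Agent.H99.FibModProp Groth.Agent.H49.FibreStalk

/-- invariance of a property of pairs (ring, module) under semilinear isomorphisms. -/
structure IsIsoPropM
    (P : ∀ (R : Type u) [CommRing R] (M : Type u) [AddCommGroup M] [Module R M], Prop) :
    Prop where
  iso : ∀ {R R' M M' : Type u} [CommRing R] [CommRing R'] [AddCommGroup M] [Module R M]
    [AddCommGroup M'] [Module R' M'] (σ : R ≃+* R') (φ : M ≃+ M'),
    (∀ (r : R) (x : M), φ (r • x) = σ r • φ x) → P R M → P R' M'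

variable {P : ∀ (R : Type u) [CommRing R] (M : Type u) [AddCommGroup M] [Module R M], Prop}

section Semilinear

variable {R R' M M' : Type u} [CommRing R] [CommRing R'] [AddCommGroup M] [Module R M]
  [AddCommGroup M'] [Module R' M']

theorem IsIsoPropM.iso_iff (hP : IsIsoPropM P) (σ : R ≃+* R') (φ : M ≃+ M')
    (h : ∀ (r : R) (x : M), φ (r • x) = σ r • φ x) : P R M ↔ P R' M' :=
  ⟨hP.iso σ φ h, hP.iso σ.symm φ.symm (semilinear_symm σ φ h)⟩

theorem IsIsoPropM.linearEquiv_iff (hP : IsIsoPropM P) {N : Type u} [AddCommGroup N] [Module R N]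
    (e : M ≃ₗ[R] N) : P R M ↔ P R N :=
  hP.iso_iff (RingEquiv.refl R) e.toAddEquiv (fun r x => e.map_smul r x)

end Semilinear

variable {X Y X' : Scheme.{u}}

theorem stalk_pullback_iff' (hP : IsIsoPropM P) (h : X' ⟶ X) (G : X.Modules) [G.IsQuasicoherent]
    (x' : X') :
    letI := (h.stalkMap x').hom.toAlgebra
    P (X'.presheaf.stalk x') (((Scheme.Modules.pullback h).obj G).presheaf.stalk x') ↔
      P (X'.presheaf.stalk x')
        ((X'.presheaf.stalk x') ⊗[X.presheaf.stalk (h x')] (G.presheaf.stalk (h x'))) := by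
  letI := (h.stalkMap x').hom.toAlgebra
  obtain ⟨e⟩ := Groth.Agent.H71.QCoh.exists_stalkPullbackEquiv h G x'
  exact (hP.linearEquiv_iff e).symm

theorem fiber_stalk_iff_quotient' (hP : IsIsoPropM P) (f : X ⟶ Y) (F : X.Modules)
    [F.IsQuasicoherent] (y : Y) (x' : f.fiber y) :
    P ((f.fiber y).presheaf.stalk x')
      (((Scheme.Modules.pullback (f.fiberι y)).obj F).presheaf.stalk x') ↔
    P (X.presheaf.stalk (f.fiberι y x') ⧸ fibreIdeal f (f.fiberι y x'))
      (F.presheaf.stalk (f.fiberι y x') ⧸ (fibreIdeal f (f.fiberι y x')) •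
        (⊤ : Submodule (X.presheaf.stalk (f.fiberι y x')) (F.presheaf.stalk (f.fiberι y x')))) := by
  rw [stalk_pullback_iff' hP (f.fiberι y) F x']
  letI := ((f.fiberι y).stalkMap x').hom.toAlgebra
  have hs : Function.Surjective (algebraMap (X.presheaf.stalk (f.fiberι y x'))
      ((f.fiber y).presheaf.stalk x')) := (f.fiberι y).stalkMap_surjective x'
  obtain ⟨σ, φ, -, hφ⟩ := exists_semilinear_quotient _ _ hs (F.presheaf.stalk (f.fiberι y x'))
  rw [← hP.iso_iff σ φ hφ]
  exact quot_congr (ker_stalkMap_fiberι f y x')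

/-- **the quotient model** for properties invariant under semilinear isomorphisms. -/
theorem fibMP_iff_quotient' (hP : IsIsoPropM P) (f : X ⟶ Y) (F : X.Modules) [F.IsQuasicoherent]
    (x : X) :
    FibMP P f F x ↔ P (X.presheaf.stalk x ⧸ fibreIdeal f x)
      (F.presheaf.stalk x ⧸ (fibreIdeal f x) •
        (⊤ : Submodule (X.presheaf.stalk x) (F.presheaf.stalk x))) := by
  have h1 := fiber_stalk_iff_quotient' hP f F (f x) (f.asFiber x)
  exact h1.trans (quot_stalk_congr f F (f.fiberι_asFiber x))

/-- the depth of the module equals `d`. -/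
def DepthEqM (d : ℕ∞) (R : Type u) [CommRing R] (M : Type u) [AddCommGroup M] [Module R M] :
    Prop :=
  ∀ [IsLocalRing R] [IsNoetherianRing R] [Module.Finite R M], LocCoh.depth R M = d

theorem isIsoPropM_depthEqM (d : ℕ∞) : IsIsoPropM (DepthEqM.{u} d) where
  iso := by
    intro R R' M M' _ _ _ _ _ _ σ φ h hR _ _ _
    haveI : IsLocalRing R := σ.symm.isLocalRing
    haveI : IsNoetherianRing R := isNoetherianRing_of_ringEquiv R' σ.symm
    letI : Algebra R R' := (σ : R →+* R').toAlgebra
    letI : Module R M' := Module.compHom M' (σ : R →+* R')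
    haveI : IsScalarTower R R' M' := ⟨fun r s y => by
      change (σ r * s) • y = σ r • (s • y)
      rw [mul_smul]⟩
    haveI : Module.Finite R R' :=
      Module.Finite.of_surjective (Algebra.linearMap R R') σ.surjective
    haveI : Module.Finite R M' := Module.Finite.trans R' M'
    let l : M ≃ₗ[R] M' :=
      { φ with
        map_smul' := fun r x => h r x }
    haveI : Module.Finite R M := Module.Finite.equiv l.symm
    rw [← Groth.Agent.H29.LocTrans.depth_eq_of_semilinear σ φ h]
    exact hR

/-- the depth of the stalk of the fibre module is the depth of the quotient model. -/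
theorem depth_fibre_eq_quotient [IsLocallyNoetherian X] (f : X ⟶ Y) [LocallyOfFiniteType f]
    (F : X.Modules) (hF : Coh.IsCoh F) (x : X) :
    LocCoh.depth ((f.fiber (f x)).presheaf.stalk (f.asFiber x))
        (((Scheme.Modules.pullback (f.fiberι (f x))).obj F).presheaf.stalk (f.asFiber x)) =
      LocCoh.depth (X.presheaf.stalk x ⧸ fibreIdeal f x)
        (F.presheaf.stalk x ⧸ (fibreIdeal f x) •
          (⊤ : Submodule (X.presheaf.stalk x) (F.presheaf.stalk x))) := by
  haveI : F.IsQuasicoherent := hF.1
  haveI := Groth.Agent.H13.finite_stalk_of_isCoh F hF x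
  haveI : Module.Finite (X.presheaf.stalk x ⧸ fibreIdeal f x)
      (F.presheaf.stalk x ⧸ (fibreIdeal f x) •
        (⊤ : Submodule (X.presheaf.stalk x) (F.presheaf.stalk x))) :=
    Module.Finite.of_restrictScalars_finite (X.presheaf.stalk x) _ _
  have h1 : FibMP (DepthEqM (LocCoh.depth ((f.fiber (f x)).presheaf.stalk (f.asFiber x))
      (((Scheme.Modules.pullback (f.fiberι (f x))).obj F).presheaf.stalk (f.asFiber x)))) f F x := by
    intro _ _ _
    rfl
  have h2 := (fibMP_iff_quotient' (isIsoPropM_depthEqM _) f F x).mp h1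
  exact h2.symm

end Groth.Agent.H99.FibModIso
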