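import Mathlib
import Groth.Prelude.Def_CAlg
import Groth.Agent.H29.SkAt
import Groth.Agent.H14.SkDescent
import Groth.Agent.Lead.RegularLocal

/-!
# Serre's criterion for reducedness: `reduced ⟺ (R_0) + (S_1)` (helper99; for S1301)
-/

set_option autoImplicit false
set_option linter.style.haveILetI false
set_option linter.unusedSectionVars false
universe u

open IsLocalRing

namespace Groth.Agent.H99.ReducedCrit

variable (R : Type u) [CommRing R] [IsNoetherianRing R]

/-- in a reduced ring the associated primes of the ring are minimal. -/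
theorem mem_minimalPrimes_of_mem_associatedPrimes [IsReduced R] (p : Ideal R)
    (hp : p ∈ associatedPrimes R R) : p ∈ minimalPrimes R := by
  rw [AssociatedPrimes.mem_iff, isAssociatedPrime_iff] at hp
  obtain ⟨hpp, a, ha⟩ := hp
  have ha0 : a ≠ 0 := by
    rintro rfl
    apply hpp.ne_top
    rw [ha, eq_top_iff]
    intro x _
    rw [Submodule.mem_colon_singleton]
    simp
  have hbot : sInf (minimalPrimes R) = (⊥ : Ideal R) := by
    have h1 : sInf (⊥ : Ideal R).minimalPrimes = (⊥ : Ideal R).radical := Ideal.sInf_minimalPrimes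
    rw [show (⊥ : Ideal R).radical = ⊥ from nilradical_eq_zero R] at h1
    exact h1
  obtain ⟨q₀, hq₀, haq⟩ : ∃ q₀ ∈ minimalPrimes R, a ∉ q₀ := by
    by_contra hcon
    push Not at hcon
    apply ha0
    have : a ∈ sInf (minimalPrimes R) := Ideal.mem_sInf.mpr fun {q} hq => hcon q hq
    rw [hbot] at this
    exact this
  have hq₀p : q₀.IsPrime := hq₀.1.1
  have hle : p ≤ q₀ := by
    intro x hx
    rw [ha, Submodule.mem_colon_singleton] at hx
    have hx' : x * a = 0 := by simpa using hx
    have : x * a ∈ q₀ := by rw [hx']; exact q₀.zero_mem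
    exact (hq₀p.mem_or_mem this).resolve_right haq
  have hge : q₀ ≤ p := hq₀.2 ⟨hpp, bot_le⟩ hle
  rw [le_antisymm hle hge]
  exact hq₀

theorem hasRk_zero_of_isReduced [IsReduced R] : LocCoh.HasRk 0 R := by
  intro p hp hht
  have h0 : p.height = 0 := le_antisymm (by exact_mod_cast hht) bot_le
  have hdim : ringKrullDim (Localization.AtPrime p) = 0 := by
    rw [IsLocalization.AtPrime.ringKrullDim_eq_height p, h0]
    rfl
  haveI : Ring.KrullDimLE 0 (Localization.AtPrime p) := by
    rw [Ring.krullDimLE_iff, hdim]
    rfl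
  have hF : IsField (Localization.AtPrime p) := Ring.KrullDimLE.isField_of_isReduced
  letI := hF.toField
  infer_instance

theorem hasSk_one_of_isReduced [IsReduced R] : LocCoh.HasSk 1 R R := by
  intro p hp
  by_cases hd : LocCoh.depth (Localization.AtPrime p) (LocalizedModule p.primeCompl R) = 0
  · have hass := Groth.Agent.H29.SkAt.mem_associatedPrimes_of_depth_eq_zero R R p hd
    have hmin := mem_minimalPrimes_of_mem_associatedPrimes R p hass
    have h0 : p.height = 0 := Ideal.height_eq_zero_iff.mpr hmin
    have hdim : Module.supportDim (Localization.AtPrime p) (LocalizedModule p.primeCompl R) = 0 := by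
      rw [Module.supportDim_eq_of_equiv (Groth.Agent.H14.localizedModuleSelfEquiv p),
        Module.supportDim_self_eq_ringKrullDim,
        IsLocalization.AtPrime.ringKrullDim_eq_height p, h0]
      rfl
    rw [hdim, hd]
    simp
  · have h1 : (1 : ℕ∞) ≤ LocCoh.depth (Localization.AtPrime p) (LocalizedModule p.primeCompl R) :=
      Order.one_le_iff_ne_zero.mpr hd
    refine (min_le_left _ _).trans ?_
    exact_mod_cast h1

theorem isReduced_of_R0_S1 (h0 : LocCoh.HasRk 0 R) (h1 : LocCoh.HasSk 1 R R) : IsReduced R := by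
  by_contra hnr
  have hN : nilradical R ≠ ⊥ := fun h => hnr ((nilradical_eq_bot_iff).mp h)
  haveI : Nontrivial ↥(nilradical R) := by
    obtain ⟨y, hy, hy0⟩ := Submodule.exists_mem_ne_zero_of_ne_bot hN
    exact ⟨⟨⟨y, hy⟩, 0, fun h => hy0 (congrArg Subtype.val h)⟩⟩
  obtain ⟨p, hp⟩ := associatedPrimes.nonempty R ↥(nilradical R)
  have hpR : p ∈ associatedPrimes R R :=
    associatedPrimes.subset_of_injective (f := (nilradical R).subtype) Subtype.val_injective hp
  rw [AssociatedPrimes.mem_iff, isAssociatedPrime_iff] at hp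
  obtain ⟨hpp, y, hy⟩ := hp
  haveI := hpp
  -- depth zero, hence dimension zero, hence a domain
  have hd := Groth.Agent.H29.SkAt.depth_eq_zero_of_mem_associatedPrimes R R p hpR
  have hS := h1 p
  rw [hd] at hS
  have hdim : Module.supportDim (Localization.AtPrime p) (LocalizedModule p.primeCompl R) =
      ((p.height : ℕ∞) : WithBot ℕ∞) := by
    rw [Module.supportDim_eq_of_equiv (Groth.Agent.H14.localizedModuleSelfEquiv p),
      Module.supportDim_self_eq_ringKrullDim,
      IsLocalization.AtPrime.ringKrullDim_eq_height p]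
  rw [hdim] at hS
  have hht : p.height ≤ (0 : ℕ) := by
    have hS' : min (1 : ℕ∞) p.height ≤ 0 := by exact_mod_cast hS
    rcases min_le_iff.mp hS' with h | h
    · simp at h
    · exact_mod_cast h
  haveI := h0 p hht
  haveI : IsDomain (Localization.AtPrime p) := Groth.Agent.Lead.RLR.isDomain _
  -- the image of `y` in `R_p` is nilpotent, hence zero
  have hynil : IsNilpotent (y : R) := y.2
  have hy0 : algebraMap R (Localization.AtPrime p) (y : R) = 0 :=
    (hynil.map (algebraMap R (Localization.AtPrime p))).eq_zero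
  obtain ⟨s, hs⟩ := (IsLocalization.map_eq_zero_iff p.primeCompl (Localization.AtPrime p) _).mp hy0
  have hsp : (s : R) ∈ (⊥ : Submodule R ↥(nilradical R)).colon {y} := by
    rw [Submodule.mem_colon_singleton]
    have : (s : R) • y = 0 := by
      apply Subtype.ext
      simpa using hs
    rw [this]
    exact Submodule.zero_mem _
  exact s.2 (hy ▸ hsp)

/-- **Serre's criterion for reducedness.** -/
theorem isReduced_iff : IsReduced R ↔ (LocCoh.HasRk 0 R ∧ LocCoh.HasSk 1 R R) :=
  ⟨fun _ => ⟨hasRk_zero_of_isReduced R, hasSk_one_of_isReduced R⟩,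
    fun h => isReduced_of_R0_S1 R h.1 h.2⟩

end Groth.Agent.H99.ReducedCrit
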