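import Mathlib
import Groth.Prelude.Def_FDesc
import Groth.Prelude.Def_CAlg
import Groth.Agent.H99.SkMain
import Groth.Agent.H99.RkMain
import Groth.Agent.H99.ReducedCrit
import Groth.Agent.H17.ProConsCompl

/-!
# The locus of geometrically reduced fibres is locally constructible (helper99; S1301)

Geometric reducedness of the fibre at `x` is the conjunction of the geometric `(R_0)` condition
(`PrRk 0 f x`) and of `(S_1)` for the local ring of the fibre at `x`.
-/

set_option autoImplicit false
set_option backward.isDefEq.respectTransparency.types false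
set_option linter.style.haveILetI false
set_option linter.unusedSectionVars false
universe u

open AlgebraicGeometry CategoryTheory CategoryTheory.Limits TopologicalSpace Topology

namespace Groth.Agent.H99.RedFib

open Groth.Agent.H99.RkTop Groth.Agent.H99.RkMain Groth.Agent.H99.SkField Groth.Agent.H99.SkMain
  Groth.Agent.H99.FibLocProp

/-- the pointwise condition: geometric `(R_0)` and `(S_1)` for the fibre. -/
def RedAt {X S : Scheme.{u}} (f : X ⟶ S) (x : X) : Prop :=
  PrRk 0 f x ∧ LocCoh.HasSk 1 ((f.fiber (f x)).presheaf.stalk (f.asFiber x))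
    ((f.fiber (f x)).presheaf.stalk (f.asFiber x))

theorem isLocallyConstructible_redAt {X S : Scheme.{u}} (f : X ⟶ S)
    [LocallyOfFinitePresentation f] : IsLocallyConstructible {x : X | RedAt f x} :=
  (isLocallyConstructible_prRk f 0).inter (isLocallyConstructible_fibHasSk f 1)

/-- **Pointwise characterization** of geometric reducedness of the fibre at a point. -/
theorem geomReduced_iff {X S : Scheme.{u}} (f : X ⟶ S) [LocallyOfFiniteType f] (x : X) :
    (∀ (K : Type u) [Field K] [Algebra (IsLocalRing.ResidueField (S.presheaf.stalk (f.base x))) K]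
        (x' : ↥(FBase.bc (f.fiberToSpecResidueField (f.base x)) K)),
        (FBase.bcπ (f.fiberToSpecResidueField (f.base x)) K).base x' = f.asFiber x →
          _root_.IsReduced
            ((FBase.bc (f.fiberToSpecResidueField (f.base x)) K).presheaf.stalk x')) ↔
      RedAt f x := by
  let κ := IsLocalRing.ResidueField (S.presheaf.stalk (f.base x))
  let q : f.fiber (f.base x) ⟶ Spec (CommRingCat.of κ) := f.fiberToSpecResidueField (f.base x)
  haveI : LocallyOfFiniteType q :=
    inferInstanceAs (LocallyOfFiniteType (pullback.snd f (S.fromSpecResidueField (f.base x))))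
  haveI : IsLocallyNoetherian (f.fiber (f.base x)) :=
    Groth.Agent.H49.CMChart.isLocallyNoetherian_fiber f (f.base x)
  have hlft : ∀ (K : Type u) [Field K] [Algebra κ K], LocallyOfFiniteType (FBase.bcStr q K) :=
    fun K _ _ => inferInstanceAs (LocallyOfFiniteType
      (pullback.snd q (Spec.map (CommRingCat.ofHom (algebraMap κ K)))))
  have hN : ∀ (K : Type u) [Field K] [Algebra κ K], IsLocallyNoetherian (FBase.bc q K) :=
    fun K _ _ => by
      haveI := hlft K
      exact LocallyOfFiniteType.isLocallyNoetherian (FBase.bcStr q K)
  have sq2 : ∀ (K : Type u) [Field K] [Algebra κ K], IsPullback (FBase.bcπ q K) (FBase.bcStr q K) q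
      (Spec.map (CommRingCat.ofHom (algebraMap κ K))) :=
    fun K _ _ => IsPullback.of_hasPullback _ _
  have hSk : ∀ (K : Type u) [Field K] [Algebra κ K] (x' : ↥(FBase.bc q K)),
      (FBase.bcπ q K).base x' = f.asFiber x →
      (LocCoh.HasSk 1 ((FBase.bc q K).presheaf.stalk x') ((FBase.bc q K).presheaf.stalk x') ↔
        LocCoh.HasSk 1 ((f.fiber (f x)).presheaf.stalk (f.asFiber x))
          ((f.fiber (f x)).presheaf.stalk (f.asFiber x))) := by
    intro K _ _ x' hx'
    haveI := hN K
    have h1 := stalk_iff_of_isPullback_field (isLocProp_hasSkSelf 1) κ K (algebraMap κ K) q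
      (FBase.bcπ q K) (FBase.bcStr q K) (sq2 K) (Or.inl inferInstance) x'
    rw [show (FBase.bcπ q K) x' = f.asFiber x from hx'] at h1
    constructor
    · intro h
      exact h1.mpr (fun {_} => h)
    · intro h
      exact h1.mp (fun {_} => h)
  unfold RedAt
  rw [← geomRk_iff f 0 x]
  constructor
  · intro h
    refine ⟨fun K _ _ x' hx' => ?_, ?_⟩
    · haveI := hN K
      haveI := h K x' hx'
      exact Groth.Agent.H99.ReducedCrit.hasRk_zero_of_isReduced _
    · obtain ⟨x', hx'⟩ : ∃ x' : ↥(FBase.bc q κ), (FBase.bcπ q κ).base x' = f.asFiber x := by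
        obtain ⟨pt⟩ : Nonempty ↥(Spec (CommRingCat.of κ)) := inferInstance
        obtain ⟨z, hz, -⟩ := Scheme.exists_preimage_of_isPullback (sq2 κ)
          (f.asFiber x) pt (Subsingleton.elim _ _)
        exact ⟨z, hz⟩
      haveI := hN κ
      haveI := h κ x' hx'
      exact (hSk κ x' hx').mp (Groth.Agent.H99.ReducedCrit.hasSk_one_of_isReduced _)
  · rintro ⟨hR, hS⟩ K _ _ x' hx'
    haveI := hN K
    exact Groth.Agent.H99.ReducedCrit.isReduced_of_R0_S1 _ (hR K x' hx') ((hSk K x' hx').mpr hS)

/-- the fibre over `y` is geometrically reduced iff `RedAt` holds at all its points. -/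
theorem geometricallyReduced_fibre_iff {X S : Scheme.{u}} (f : X ⟶ S) [LocallyOfFiniteType f]
    (y : S) :
    GeometricallyReduced (f.fiberToSpecResidueField y) ↔ ∀ x : X, f.base x = y → RedAt f x := by
  have h0 := geometrically_iff_of_commRing_of_isClosedUnderIsomorphisms (P := IsReduced)
    (R := IsLocalRing.ResidueField (S.presheaf.stalk y)) (f := f.fiberToSpecResidueField y)
  refine (geometricallyReduced_iff _).trans (h0.trans ?_)
  -- transport along an equality of base points
  have aux : ∀ (x : X) (s : S) (hs : f.base x = s) (K : Type u) [Field K]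
      [Algebra (IsLocalRing.ResidueField (S.presheaf.stalk s)) K]
      (x' : ↥(FBase.bc (f.fiberToSpecResidueField s) K)),
      (f.fiberι s).base ((FBase.bcπ (f.fiberToSpecResidueField s) K).base x') = x →
      RedAt f x →
        _root_.IsReduced ((FBase.bc (f.fiberToSpecResidueField s) K).presheaf.stalk x') := by
    intro x s hs
    subst hs
    intro K _ _ x' hx' hP
    refine (geomReduced_iff f x).mpr hP K x' ?_
    apply (f.fiberι (f.base x)).isEmbedding.injective
    rw [hx']
    exact (f.fiberι_asFiber x).symm
  constructor
  · intro h x hx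
    subst hx
    refine (geomReduced_iff f x).mp fun K _ _ x' _ => ?_
    haveI : IsReduced (FBase.bc (f.fiberToSpecResidueField (f.base x)) K) := h K
    infer_instance
  · intro h K _ _
    haveI : ∀ x' : ↥(FBase.bc (f.fiberToSpecResidueField y) K),
        _root_.IsReduced ((FBase.bc (f.fiberToSpecResidueField y) K).presheaf.stalk x') := by
      intro x'
      have hmap : f.base ((f.fiberι y).base
          ((FBase.bcπ (f.fiberToSpecResidueField y) K).base x')) = y :=
        Groth.Agent.H48.CycFib.map_fiberι f y _
      exact aux _ y hmap K x' rfl (h _ hmap)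
    exact isReduced_of_isReduced_stalk (FBase.bc (f.fiberToSpecResidueField y) K)

/-- **EGA IV 9.7.7 (iii) / 9.9.4 type**: the locus of geometrically reduced fibres is locally
constructible in the target. -/
theorem isLocallyConstructible_geometricallyReduced {X Y : Scheme.{u}} (f : X ⟶ Y)
    [QuasiCompact f] [LocallyOfFinitePresentation f] :
    IsLocallyConstructible {y : Y | GeometricallyReduced (f.fiberToSpecResidueField y)} := by
  haveI : LocallyOfFiniteType f := inferInstance
  have h := isLocallyConstructible_redAt f
  have him := f.isLocallyConstructible_image (Groth.Agent.H17.isLocallyConstructible_compl h)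
  have hc := Groth.Agent.H17.isLocallyConstructible_compl him
  convert hc using 1
  ext y
  rw [Set.mem_ofPred_eq, geometricallyReduced_fibre_iff f y]
  simp only [Set.mem_compl_iff, Set.mem_image, Set.mem_ofPred_eq, not_exists, not_and]
  exact ⟨fun h x hx hy => hx (h x hy), fun h x hy => by_contra fun hx => h x hx hy⟩

end Groth.Agent.H99.RedFib
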