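import Mathlib
import Groth.Agent.H48.DimFunSch
import Groth.Agent.H29.SuppDimLoc
import Groth.Agent.H29.LocTrans
import Groth.Agent.H72.DepthLocIneq
import Groth.Agent.H58.RectDepth.Main4907
import Groth.Agent.H44.FiniteSections

/-!
# Dimension and depth of the stalks of a coherent module on a scheme with a dimension function
(helper99)

Let `Y` be a locally Noetherian scheme with a dimension function `δ` and `G` a coherent module.
* `le_supportDim_stalk`: for `w ⤳ y` in the support, `δ w - δ y ≤ dim G_y`;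
* `exists_supportDim_stalk_le`: the dimension of `G_y` is attained by some `w ⤳ y` of the support;
* `depth_stalk_le`: `depth G_y ≤ depth G_{y'} + (δ y' - δ y)` for `y' ⤳ y`.
-/

set_option autoImplicit false
set_option backward.isDefEq.respectTransparency.types false
set_option linter.style.haveILetI false
set_option linter.unusedSectionVars false
universe u

open AlgebraicGeometry CategoryTheory TopologicalSpace Topology

namespace Groth.Agent.H99.DimFunMod

open Groth.Agent.H48.DimFunSch Groth.Agent.H48.DimFun Groth.Agent.H29.SuppDimLoc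

variable {Y : Scheme.{u}} [IsLocallyNoetherian Y] (δ : Y → ℤ) (hδ : Cyc.IsDimFun Y δ)
  (G : Y.Modules) (hG : Coh.IsCoh G)

section Chart

variable {U : Y.Opens} (hU : IsAffineOpen U)

include hG in
/-- the stalk at a point of an affine open in terms of the sections. -/
theorem nontrivial_stalk_iff {y : Y} (hy : y ∈ U) :
    Nontrivial (G.presheaf.stalk y) ↔ hU.primeIdealOf ⟨y, hy⟩ ∈ Module.support Γ(Y, U) Γ(G, U) := by
  haveI : G.IsQuasicoherent := hG.1
  obtain ⟨σ, ψ, hψ⟩ := Groth.Agent.H58.RectDepth.exists_semilinear_sections G hU hy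
  rw [Module.mem_support_iff]
  exact ⟨fun h => ψ.toEquiv.nontrivial, fun h => ψ.symm.toEquiv.nontrivial⟩

end Chart

section Main

include hδ hG

/-- for a point `w ⤳ y` of the support, `δ w - δ y ≤ dim G_y`. -/
theorem le_supportDim_stalk (w y : Y) (h : w ⤳ y) (hw : Nontrivial (G.presheaf.stalk w)) :
    (((δ w - δ y).toNat : ℕ∞) : WithBot ℕ∞) ≤
      Module.supportDim (Y.presheaf.stalk y) (G.presheaf.stalk y) := by
  haveI : G.IsQuasicoherent := hG.1
  obtain ⟨U, hU, hyU, -⟩ := exists_isAffineOpen_mem_and_subset (x := y) (U := ⊤) trivial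
  have hwU : w ∈ U := h.mem_open U.2 hyU
  set a := hU.primeIdealOf ⟨w, hwU⟩ with ha
  set b := hU.primeIdealOf ⟨y, hyU⟩ with hb
  have hfa : hU.fromSpec a = w := hU.fromSpec_primeIdealOf ⟨w, hwU⟩
  have hfb : hU.fromSpec b = y := hU.fromSpec_primeIdealOf ⟨y, hyU⟩
  have hab : a ≤ b := by
    rw [← fromSpec_specializes_iff hU, hfa, hfb]; exact h
  have haS : a ∈ Module.support Γ(Y, U) Γ(G, U) := (nontrivial_stalk_iff G hG hU hwU).mp hw
  obtain ⟨σ, ψ, hψ⟩ := Groth.Agent.H58.RectDepth.exists_semilinear_sections G hU hyU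
  rw [← Groth.Agent.H29.LocTrans.supportDim_eq_of_semilinear σ ψ hψ, supportDim_localization_eq]
  let δ' : PrimeSpectrum Γ(Y, U) → ℤ := fun p => δ (hU.fromSpec p)
  have hlt := delta_lt hU δ hδ
  have hcov := delta_cov hU δ hδ
  have hnn : 0 ≤ δ' a - δ' b := by
    have := delta_le_of_le δ' hlt hab
    omega
  obtain ⟨s, hs1, hs2, hs3⟩ := exists_chain_of_dimFun δ' hlt hcov (δ' a - δ' b).toNat hab
    (by omega)
  let s' : LTSeries (Below Γ(G, U) b.asIdeal) :=
    { length := s.length
      toFun := fun i => ⟨s i, Module.mem_support_mono (by rw [← hs1]; exact s.head_le i) haS, by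
        have h1 : s i ≤ s.last := s.monotone (Fin.le_last i)
        rw [hs2] at h1
        exact h1⟩
      step := fun i => s.step i }
  have h1 := Order.LTSeries.length_le_krullDim s'
  have h2 : s'.length = (δ' a - δ' b).toNat := hs3
  rw [h2] at h1
  have h3 : δ' a - δ' b = δ w - δ y := by
    simp only [δ', hfa, hfb]
  rw [h3] at h1
  exact h1

/-- the dimension of `G_y` is attained by a point of the support. -/
theorem exists_supportDim_stalk_le (y : Y) (hy : Nontrivial (G.presheaf.stalk y)) :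
    ∃ w : Y, w ⤳ y ∧ Nontrivial (G.presheaf.stalk w) ∧
      Module.supportDim (Y.presheaf.stalk y) (G.presheaf.stalk y) ≤
        (((δ w - δ y).toNat : ℕ∞) : WithBot ℕ∞) := by
  haveI : G.IsQuasicoherent := hG.1
  obtain ⟨U, hU, hyU, -⟩ := exists_isAffineOpen_mem_and_subset (x := y) (U := ⊤) trivial
  haveI : IsNoetherianRing Γ(Y, U) := IsLocallyNoetherian.component_noetherian ⟨U, hU⟩
  set b := hU.primeIdealOf ⟨y, hyU⟩ with hb
  have hfb : hU.fromSpec b = y := hU.fromSpec_primeIdealOf ⟨y, hyU⟩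
  obtain ⟨σ, ψ, hψ⟩ := Groth.Agent.H58.RectDepth.exists_semilinear_sections G hU hyU
  haveI : IsNoetherianRing (Localization.AtPrime b.asIdeal) :=
    IsLocalization.isNoetherianRing b.asIdeal.primeCompl _ inferInstance
  haveI : Nontrivial (LocalizedModule b.asIdeal.primeCompl Γ(G, U)) := ψ.toEquiv.nontrivial
  obtain ⟨d, hd⟩ := Groth.Agent.H29.CML.exists_nat_supportDim_eq
    (A := Localization.AtPrime b.asIdeal) (LocalizedModule b.asIdeal.primeCompl Γ(G, U))
  rw [← Groth.Agent.H29.LocTrans.supportDim_eq_of_semilinear σ ψ hψ, hd]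
  have hd' := hd
  rw [supportDim_localization_eq] at hd'
  obtain ⟨l, hl⟩ := Order.le_krullDim_iff.mp hd'.ge
  let δ' : PrimeSpectrum Γ(Y, U) → ℤ := fun p => δ (hU.fromSpec p)
  have hlt := delta_lt hU δ hδ
  let δ'' : Below Γ(G, U) b.asIdeal → ℤ := fun p => δ' p.1
  have hlt'' : ∀ p q : Below Γ(G, U) b.asIdeal, p < q → δ'' q < δ'' p := fun p q hpq =>
    hlt p.1 q.1 hpq
  have h1 := length_le_of_dimFun δ'' hlt'' l
  have h2 : δ' b ≤ δ' l.last.1 := delta_le_of_le δ' hlt l.last.2.2
  set a := l.head.1 with ha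
  have haU : hU.fromSpec a ∈ U := fromSpec_mem hU a
  have hab : a ≤ b := l.head.2.2
  refine ⟨hU.fromSpec a, ?_, ?_, ?_⟩
  · rw [← hfb]
    exact (fromSpec_specializes_iff hU a b).mpr hab
  · rw [nontrivial_stalk_iff G hG hU haU]
    have : hU.primeIdealOf ⟨hU.fromSpec a, haU⟩ = a := by
      apply fromSpec_injective hU
      exact hU.fromSpec_primeIdealOf ⟨hU.fromSpec a, haU⟩
    rw [this]
    exact l.head.2.1
  · have h3 : (d : ℤ) ≤ δ (hU.fromSpec a) - δ y := by
      have h4 : δ'' l.head = δ (hU.fromSpec a) := rfl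
      have h5 : δ' b = δ y := by simp only [δ', hfb]
      have h7 : δ'' l.last = δ' l.last.1 := rfl
      rw [hl] at h1
      omega
    have h6 : d ≤ (δ (hU.fromSpec a) - δ y).toNat := by omega
    exact_mod_cast h6

/-- `depth G_y ≤ depth G_{y'} + (δ y' - δ y)` for `y' ⤳ y`. -/
theorem depth_stalk_le (y' y : Y) (h : y' ⤳ y) :
    LocCoh.depth (Y.presheaf.stalk y) (G.presheaf.stalk y) ≤
      LocCoh.depth (Y.presheaf.stalk y') (G.presheaf.stalk y') + ((δ y' - δ y).toNat : ℕ∞) := by
  haveI : G.IsQuasicoherent := hG.1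
  haveI : SheafOfModules.IsFiniteType (R := Y.ringCatSheaf) G := hG.2
  obtain ⟨U, hU, hyU, -⟩ := exists_isAffineOpen_mem_and_subset (x := y) (U := ⊤) trivial
  haveI : IsNoetherianRing Γ(Y, U) := IsLocallyNoetherian.component_noetherian ⟨U, hU⟩
  haveI : Module.Finite Γ(Y, U) Γ(G, U) := Groth.Agent.H44.finite_sections_of_isFiniteType G hU
  have hy'U : y' ∈ U := h.mem_open U.2 hyU
  set a := hU.primeIdealOf ⟨y', hy'U⟩ with ha
  set b := hU.primeIdealOf ⟨y, hyU⟩ with hb
  have hfa : hU.fromSpec a = y' := hU.fromSpec_primeIdealOf ⟨y', hy'U⟩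
  have hfb : hU.fromSpec b = y := hU.fromSpec_primeIdealOf ⟨y, hyU⟩
  have hab : a ≤ b := by
    rw [← fromSpec_specializes_iff hU, hfa, hfb]; exact h
  obtain ⟨σ, ψ, hψ⟩ := Groth.Agent.H58.RectDepth.exists_semilinear_sections G hU hyU
  obtain ⟨σ', ψ', hψ'⟩ := Groth.Agent.H58.RectDepth.exists_semilinear_sections G hU hy'U
  haveI : IsNoetherianRing (Localization.AtPrime b.asIdeal) :=
    IsLocalization.isNoetherianRing b.asIdeal.primeCompl _ inferInstance
  haveI : IsNoetherianRing (Localization.AtPrime a.asIdeal) :=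
    IsLocalization.isNoetherianRing a.asIdeal.primeCompl _ inferInstance
  haveI := Groth.Agent.H13.finite_stalk_of_isCoh G hG y
  haveI := Groth.Agent.H13.finite_stalk_of_isCoh G hG y'
  rw [← Groth.Agent.H29.LocTrans.depth_eq_of_semilinear σ ψ hψ,
    ← Groth.Agent.H29.LocTrans.depth_eq_of_semilinear σ' ψ' hψ']
  have h1 := Groth.Agent.H72.DepthLocIneq.depth_localization_le Γ(G, U) a.asIdeal b.asIdeal hab
  rw [height_map_mk_eq hU δ hδ a b hab, hfa, hfb] at h1
  exact h1

end Main

end Groth.Agent.H99.DimFunMod
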