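import Mathlib
import Groth.Agent.H99.CompDimsMain
import Groth.Agent.S4357
import Groth.Agent.S8873
import Groth.Agent.H70.FibFlat.Rank
import Groth.Agent.H71.QCoh.SupportProper

/-!
# Transport of the set of dimensions of irreducible components; supports of fibre modules
(helper99; for S5875)
-/

set_option autoImplicit false
set_option backward.isDefEq.respectTransparency.types false
set_option linter.style.haveILetI false
set_option linter.unusedSectionVars false
universe u

open AlgebraicGeometry CategoryTheory CategoryTheory.Limits TopologicalSpace Topology

namespace Groth.Agent.H99.CompDimsSupp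

theorem image_dim_irreducibleComponents_subset {A B : Type*} [TopologicalSpace A]
    [TopologicalSpace B] (e : A ≃ₜ B) :
    (fun T : Set A => topologicalKrullDim ↥T) '' irreducibleComponents A ⊆
      (fun T : Set B => topologicalKrullDim ↥T) '' irreducibleComponents B := by
  rintro _ ⟨T, hT, rfl⟩
  refine ⟨e '' T, image_mem_irreducibleComponents_of_isPreirreducible_fiber e e.continuous
    e.isOpenMap (fun x => (Set.subsingleton_singleton.preimage e.injective).isPreirreducible)
    e.surjective hT, ?_⟩
  exact (IsHomeomorph.topologicalKrullDim_eq _ (e.image T).isHomeomorph).symm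

/-- homeomorphic spaces have the same set of dimensions of irreducible components. -/
theorem image_dim_irreducibleComponents_homeomorph {A B : Type*} [TopologicalSpace A]
    [TopologicalSpace B] (e : A ≃ₜ B) :
    (fun T : Set A => topologicalKrullDim ↥T) '' irreducibleComponents A =
      (fun T : Set B => topologicalKrullDim ↥T) '' irreducibleComponents B :=
  subset_antisymm (image_dim_irreducibleComponents_subset e)
    (image_dim_irreducibleComponents_subset e.symm)

/-- transport along an embedding onto a subset. -/
theorem image_dim_irreducibleComponents_of_isEmbedding {A B : Type*} [TopologicalSpace A]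
    [TopologicalSpace B] (g : A → B) (hg : IsEmbedding g) (T : Set B) (hT : Set.range g = T) :
    (fun Z : Set A => topologicalKrullDim ↥Z) '' irreducibleComponents A =
      (fun Z : Set ↥T => topologicalKrullDim ↥Z) '' irreducibleComponents ↥T := by
  subst hT
  exact image_dim_irreducibleComponents_homeomorph hg.toHomeomorph

variable {X S : Scheme.{u}}

/-- the support of a finitely presented quasi-coherent module is locally constructible. -/
theorem isLocallyConstructible_support (F : X.Modules) [Coh.IsQCoh F] (hF : CohB1.IsFP F) :
    IsLocallyConstructible (CohB1.support F) := by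
  haveI : SheafOfModules.IsFinitePresentation (R := X.ringCatSheaf) F := hF
  haveI : SheafOfModules.IsFiniteType (R := X.ringCatSheaf) F := inferInstance
  have h := Groth.Agent.H70.FibFlat.isLocallyConstructible_support (Fitt.sheafIdeal F 0)
    (Groth.Agent.S8873.result X F hF 0)
  have heq : CohB1.support F = ((Fitt.sheafIdeal F 0).support : Set X) := by
    ext x
    exact (Groth.Agent.H44.mem_support_sheafIdeal_zero_iff F x).symm
  rw [heq]
  exact h

theorem isClosed_support (F : X.Modules) [Coh.IsQCoh F] (hF : CohB1.IsFP F) :
    IsClosed (CohB1.support F) := by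
  haveI : SheafOfModules.IsFinitePresentation (R := X.ringCatSheaf) F := hF
  haveI : SheafOfModules.IsFiniteType (R := X.ringCatSheaf) F := inferInstance
  exact Groth.Agent.H71.QCoh.isClosed_support F

/-- the dimensions of the irreducible components of the support of the fibre module are those of
the trace of the support on the fibre. -/
theorem image_dim_support_fibre (f : X ⟶ S) (F : X.Modules) [Coh.IsQCoh F] (hF : CohB1.IsFP F)
    (s : S) :
    (fun Z : Set ↥(CohB1.support ((Scheme.Modules.pullback (f.fiberι s)).obj F)) =>
        topologicalKrullDim ↥Z) ''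
      irreducibleComponents ↥(CohB1.support ((Scheme.Modules.pullback (f.fiberι s)).obj F)) =
    (fun T : Set ↥(CohB1.support F ∩ f ⁻¹' {s}) => topologicalKrullDim ↥T) ''
      irreducibleComponents ↥(CohB1.support F ∩ f ⁻¹' {s}) := by
  haveI : SheafOfModules.IsFinitePresentation (R := X.ringCatSheaf) F := hF
  haveI : SheafOfModules.IsFiniteType (R := X.ringCatSheaf) F := inferInstance
  have hsupp := Groth.Agent.S4357.result (f.fiberι s) F (inferInstance : CohB1.IsFT F)
  refine image_dim_irreducibleComponents_of_isEmbedding
    (fun t : ↥(CohB1.support ((Scheme.Modules.pullback (f.fiberι s)).obj F)) => f.fiberι s t.1)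
    ((f.fiberι s).isEmbedding.comp IsEmbedding.subtypeVal) _ ?_
  ext x
  simp only [Set.mem_range, Subtype.exists, Set.mem_inter_iff, Set.mem_preimage,
    Set.mem_singleton_iff, exists_prop]
  constructor
  · rintro ⟨t, ht, rfl⟩
    rw [hsupp] at ht
    exact ⟨ht, Groth.Agent.H48.CycFib.map_fiberι f s t⟩
  · rintro ⟨hx1, hx2⟩
    obtain ⟨t, rfl⟩ := Groth.Agent.H99.FibEqui.mem_range_fiberι f s x hx2
    refine ⟨t, ?_, rfl⟩
    rw [hsupp]
    exact hx1

end Groth.Agent.H99.CompDimsSupp
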