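import Mathlib
import Groth.Agent.H99.FibrePropGenR
import Groth.Agent.H99.FibModProp
import Groth.Agent.H49.ModuleModelScheme
import Groth.Agent.H44.FpqcFP

/-!
# Local constructibility of fibrewise properties of a module (helper99; EGA IV 9.9 for modules)

Module version of `Groth.Agent.H99.FibrePropGenR`: a pointwise property `Pr f F x` of a morphism
`f : X ⟶ S`, a module `F` on `X` and a point `x`, which is invariant under isomorphisms of `F`,
base change and open immersions into the source and which is generically constructible over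
integral bases which are quotients of regular rings, defines a locally constructible subset of `X`
for `f` locally of finite presentation and `F` quasi-coherent of finite presentation.
-/

set_option autoImplicit false
set_option backward.isDefEq.respectTransparency.types false
set_option linter.style.haveILetI false
universe u

open CategoryTheory CategoryTheory.Limits AlgebraicGeometry TopologicalSpace Topology TensorProduct

namespace Groth.Agent.H99.FibrePropGenM

open Groth.Agent.H99.FibrePropGenR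

/-- invariance of a pointwise property of (morphism, module). -/
structure IsFibInvM (Pr : ∀ ⦃X S : Scheme.{u}⦄, (X ⟶ S) → X.Modules → X → Prop) : Prop where
  iso : ∀ ⦃X S : Scheme.{u}⦄ (f : X ⟶ S) (F G : X.Modules), (F ≅ G) → ∀ x : X,
    Pr f F x ↔ Pr f G x
  baseChange : ∀ ⦃X S X' S' : Scheme.{u}⦄ (f : X ⟶ S) (f' : X' ⟶ S') (g' : X' ⟶ X) (g : S' ⟶ S),
    IsPullback g' f' f g → LocallyOfFiniteType f → ∀ F : X.Modules, Coh.IsCoh F → ∀ x' : X',
    Pr f' ((Scheme.Modules.pullback g').obj F) x' ↔ Pr f F (g' x')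
  openImm : ∀ ⦃U X S : Scheme.{u}⦄ (j : U ⟶ X) (f : X ⟶ S), IsOpenImmersion j →
    LocallyOfFiniteType f → ∀ F : X.Modules, Coh.IsCoh F → ∀ u : U,
    Pr (j ≫ f) ((Scheme.Modules.pullback j).obj F) u ↔ Pr f F (j u)

/-- the hypotheses on a pointwise property of (morphism, module). -/
structure IsGoodGenM (Pr : ∀ ⦃X S : Scheme.{u}⦄, (X ⟶ S) → X.Modules → X → Prop) : Prop
    extends IsFibInvM Pr where
  generic : ∀ (A : CommRingCat.{u}), IsDomain A → QReg A → ∀ ⦃X : Scheme.{u}⦄ (f : X ⟶ Spec A),
    LocallyOfFiniteType f → QuasiCompact f → ∀ F : X.Modules, Coh.IsCoh F →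
    ∃ U : (Spec A).Opens, (U : Set ↥(Spec A)).Nonempty ∧
      IsConstructible ({x : X | Pr f F x} ∩ f ⁻¹' (U : Set ↥(Spec A)))

variable {Pr : ∀ ⦃X S : Scheme.{u}⦄, (X ⟶ S) → X.Modules → X → Prop}

/-- **Noetherian base, quotient of a regular ring**: Noetherian induction. -/
theorem isConstructible_of_qReg (h : IsGoodGenM Pr) (A : CommRingCat.{u}) (hA : QReg A)
    {X : Scheme.{u}} (f : X ⟶ Spec A) [LocallyOfFiniteType f] [QuasiCompact f]
    (F : X.Modules) (hF : Coh.IsCoh F) :
    IsConstructible {x : X | Pr f F x} := by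
  haveI : IsNoetherianRing A := hA.isNoetherianRing
  haveI : IsLocallyNoetherian X := LocallyOfFiniteType.isLocallyNoetherian f
  haveI : CompactSpace X := QuasiCompact.compactSpace_of_compactSpace f
  haveI : IsNoetherian X := {}
  haveI : NoetherianSpace X := inferInstance
  haveI : NoetherianSpace ↥(Spec A) := inferInstanceAs (NoetherianSpace (PrimeSpectrum A))
  suffices H : ∀ T : Set ↥(Spec A), IsClosed T →
      IsConstructible ({x : X | Pr f F x} ∩ f ⁻¹' T) by
    simpa using H Set.univ isClosed_univ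
  apply Groth.Agent.H12.irreducible_closed_induction
  · simp
  · intro T1 T2 _ _ h1 h2
    rw [Set.preimage_union, Set.inter_union_distrib_left]
    exact h1.union h2
  · intro T hTc hTi ih
    let p : Ideal A := PrimeSpectrum.vanishingIdeal (T : Set (PrimeSpectrum A))
    have hp : p.IsPrime := PrimeSpectrum.isIrreducible_iff_vanishingIdeal_isPrime.mp hTi
    have hT : PrimeSpectrum.zeroLocus (p : Set A) = T :=
      (PrimeSpectrum.zeroLocus_vanishingIdeal_eq_closure _).trans hTc.closure_eq
    let ι : Spec (.of (A ⧸ p)) ⟶ Spec A := Spec.map (CommRingCat.ofHom (Ideal.Quotient.mk p))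
    have hrange : Set.range ι = T := by
      have := _root_.range_comap_of_surjective (A ⧸ p) (Ideal.Quotient.mk p)
        Ideal.Quotient.mk_surjective
      rw [Ideal.mk_ker] at this
      rw [← hT, ← this]
      rfl
    haveI : IsClosedImmersion ι :=
      IsClosedImmersion.spec_of_surjective _ Ideal.Quotient.mk_surjective
    have hdom : IsDomain (A ⧸ p) := Ideal.Quotient.isDomain p
    let fT := pullback.snd f ι
    let g' := pullback.fst f ι
    have hpb : IsPullback g' fT f ι := IsPullback.of_hasPullback f ι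
    haveI : IsNoetherianRing (A ⧸ p) := inferInstance
    have hFT : Coh.IsCoh ((Scheme.Modules.pullback g').obj F) :=
      Groth.Agent.H99.FibModProp.isCoh_pullback g' F hF
    obtain ⟨UT, hUTne, hO⟩ := h.generic (.of (A ⧸ p)) hdom (hA.quotient p) fT
      inferInstance inferInstance ((Scheme.Modules.pullback g').obj F) hFT
    -- the proper closed subset
    have hιc : IsClosedEmbedding ι := ι.isClosedEmbedding
    have hT'c : IsClosed (ι '' ((UT : Set ↥(Spec (.of (A ⧸ p))))ᶜ)) :=
      hιc.isClosedMap _ UT.isOpen.isClosed_compl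
    have hT'ss : ι '' ((UT : Set ↥(Spec (.of (A ⧸ p))))ᶜ) ⊂ T := by
      refine ⟨?_, ?_⟩
      · rintro _ ⟨t, -, rfl⟩
        rw [← hrange]; exact Set.mem_range_self t
      · intro hcon
        obtain ⟨t, ht⟩ := hUTne
        have : ι t ∈ T := by rw [← hrange]; exact Set.mem_range_self t
        obtain ⟨t', ht', htt'⟩ := hcon this
        rw [hιc.injective htt'] at ht'
        exact ht' ht
    have ih' := ih _ hT'c hT'ss
    -- the piece over `UT`
    have hpiece : IsConstructible
        (g' '' ({z | Pr fT ((Scheme.Modules.pullback g').obj F) z} ∩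
          fT ⁻¹' (UT : Set ↥(Spec (.of (A ⧸ p)))))) :=
      hO.image_of_isClosedEmbedding g'.isClosedEmbedding
        (Groth.Agent.H12.isRetrocompact_of_noetherian _)
    have hres : ∀ z : ↥(pullback f ι),
        Pr fT ((Scheme.Modules.pullback g').obj F) z ↔ Pr f F (g' z) := fun z =>
      h.baseChange f fT g' ι hpb inferInstance F hF z
    have hdecomp : {x : X | Pr f F x} ∩ f ⁻¹' T =
        ({x : X | Pr f F x} ∩ f ⁻¹' (ι '' ((UT : Set ↥(Spec (.of (A ⧸ p))))ᶜ))) ∪
          g' '' ({z | Pr fT ((Scheme.Modules.pullback g').obj F) z} ∩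
            fT ⁻¹' (UT : Set ↥(Spec (.of (A ⧸ p))))) := by
      ext x
      simp only [Set.mem_inter_iff, Set.mem_ofPred_eq, Set.mem_preimage, Set.mem_union,
        Set.mem_image]
      constructor
      · rintro ⟨hx, hxT⟩
        rw [← hrange] at hxT
        obtain ⟨t, ht⟩ := hxT
        by_cases htU : t ∈ UT
        · right
          obtain ⟨z, hz1, hz2⟩ := Scheme.Pullback.exists_preimage_pullback x t ht.symm
          refine ⟨z, ⟨?_, ?_⟩, hz1⟩
          · rw [hres]
            rw [hz1]; exact hx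
          · change fT z ∈ UT
            rw [hz2]; exact htU
        · left
          exact ⟨hx, t, htU, ht⟩
      · rintro (⟨hx, t, -, ht⟩ | ⟨z, ⟨hz, -⟩, rfl⟩)
        · refine ⟨hx, ?_⟩
          rw [← hrange, ← ht]; exact Set.mem_range_self t
        · refine ⟨(hres z).mp hz, ?_⟩
          rw [← hrange]
          refine ⟨fT z, ?_⟩
          have := congrArg (fun φ : pullback f ι ⟶ Spec A => φ z) hpb.w
          exact this.symm
    rw [hdecomp]
    exact ih'.union hpiece

/-- **affine source and target**: Noetherian approximation. -/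
theorem isConstructible_of_isAffine (h : IsGoodGenM Pr) {X S : Scheme.{u}} (f : X ⟶ S)
    [IsAffine X] [IsAffine S] [LocallyOfFinitePresentation f] (F : X.Modules) [Coh.IsQCoh F]
    (hF : CohB1.IsFP F) :
    IsConstructible {x : X | Pr f F x} := by
  obtain ⟨X₀, S₀, f₀, g, g', hX₀, hS₀, hpb, hft, hlft, F₀, hF₀, ⟨e⟩⟩ :=
    Groth.Agent.H49.ModuleModelScheme.main f F hF
  have hQ : QReg Γ(S₀, ⊤) := QReg.of_finiteType_int
  have hpb' : IsPullback g' f (f₀ ≫ S₀.isoSpec.hom) (g ≫ S₀.isoSpec.hom) :=
    hpb.of_iso (Iso.refl _) (Iso.refl _) (Iso.refl _) S₀.isoSpec (by simp) (by simp) (by simp)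
      (by simp)
  haveI : LocallyOfFiniteType (f₀ ≫ S₀.isoSpec.hom) := inferInstance
  haveI : QuasiCompact (f₀ ≫ S₀.isoSpec.hom) := inferInstance
  have hc := isConstructible_of_qReg h Γ(S₀, ⊤) hQ (f₀ ≫ S₀.isoSpec.hom) F₀ hF₀
  have hE : {x : X | Pr f F x} = g' ⁻¹' {x | Pr (f₀ ≫ S₀.isoSpec.hom) F₀ x} := by
    ext x
    simp only [Set.mem_ofPred_eq, Set.mem_preimage]
    rw [← h.iso f _ _ e x]
    exact h.baseChange (f₀ ≫ S₀.isoSpec.hom) f g' _ hpb' inferInstance F₀ hF₀ x
  rw [hE]
  exact Scheme.Hom.isConstructible_preimage _ hc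

theorem isCoh_of_isFP {X : Scheme.{u}} (F : X.Modules) [Coh.IsQCoh F] (hF : CohB1.IsFP F) :
    Coh.IsCoh F := by
  haveI : SheafOfModules.IsFinitePresentation (R := X.ringCatSheaf) F := hF
  exact ⟨inferInstance, SheafOfModules.instIsFiniteTypeOfIsFinitePresentation.{u, u, u}
    (R := X.ringCatSheaf) F⟩

/-- **EGA IV 9.9 pattern for modules**: a good fibrewise property of modules defines a locally
constructible subset of the source of any morphism locally of finite presentation. -/
theorem isLocallyConstructible (h : IsGoodGenM Pr) {X S : Scheme.{u}} (f : X ⟶ S)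
    [LocallyOfFinitePresentation f] (F : X.Modules) [Coh.IsQCoh F] (hF : CohB1.IsFP F) :
    IsLocallyConstructible {x : X | Pr f F x} := by
  intro x
  obtain ⟨V, hV, hxV⟩ : ∃ V : S.Opens, IsAffineOpen V ∧ f x ∈ V := by
    obtain ⟨_, ⟨V, hV, rfl⟩, hxV, -⟩ := S.isBasis_affineOpens.exists_subset_of_mem_open
      (Set.mem_univ (f x)) isOpen_univ
    exact ⟨V, hV, hxV⟩
  obtain ⟨U, hU, hxU, hUV⟩ : ∃ U : X.Opens, IsAffineOpen U ∧ x ∈ U ∧ U ≤ f ⁻¹ᵁ V := by
    obtain ⟨_, ⟨U, hU, rfl⟩, hxU, hUV⟩ := X.isBasis_affineOpens.exists_subset_of_mem_open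
      (show x ∈ ((f ⁻¹ᵁ V : X.Opens) : Set X) from hxV) (f ⁻¹ᵁ V).isOpen
    exact ⟨U, hU, hxU, hUV⟩
  refine ⟨U, U.2.mem_nhds hxU, U.2, ?_⟩
  haveI : IsAffine (U : Scheme.{u}) := hU
  haveI : IsAffine (V : Scheme.{u}) := hV
  have hFc : Coh.IsCoh F := isCoh_of_isFP F hF
  let G : (U : Scheme.{u}).Modules := (Scheme.Modules.pullback U.ι).obj F
  haveI : SheafOfModules.IsFinitePresentation (R := X.ringCatSheaf) F := hF
  have hGfp : CohB1.IsFP G := Groth.Agent.H44.isFinitePresentation_pullback U.ι F
  haveI : Coh.IsQCoh G := inferInstanceAs (G.IsQuasicoherent)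
  have hGc : Coh.IsCoh G := isCoh_of_isFP G hGfp
  have hc := isConstructible_of_isAffine h (f.resLE V U hUV) G hGfp
  have hlft : LocallyOfFiniteType f := inferInstance
  have hpbV : IsPullback (𝟙 (U : Scheme.{u})) (f.resLE V U hUV) (f.resLE V U hUV ≫ V.ι) V.ι :=
    IsPullback.of_horiz_isIso_mono ⟨by simp⟩
  have hlft' : LocallyOfFiniteType (f.resLE V U hUV ≫ V.ι) := inferInstance
  have hE : {u : (U : Scheme.{u}) | Pr (f.resLE V U hUV) G u} =
      {u : (U : Scheme.{u}) | Pr f F (U.ι u)} := by
    ext u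
    simp only [Set.mem_ofPred_eq]
    rw [h.iso (f.resLE V U hUV) G _ ((Scheme.Modules.pullbackId (U : Scheme.{u})).app G).symm u]
    have h1 := h.baseChange _ _ _ _ hpbV hlft' G hGc u
    rw [Scheme.Hom.resLE_comp_ι] at h1
    exact h1.trans (h.openImm U.ι f inferInstance hlft F hFc u)
  rw [hE] at hc
  exact hc

end Groth.Agent.H99.FibrePropGenM
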