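import Mathlib
import Groth.Agent.H99.CodepthFib
import Groth.Agent.H99.FibrePropGenM
import Groth.Agent.H29.FlatCM
import Groth.Agent.H29.DepthAB
import Groth.Agent.H29.CodepthLocusQuot
import Groth.Agent.H58.RectDepth.Main4907
import Groth.Agent.S4698

/-!
# The codepth loci of the fibres of a module are locally constructible (helper99)

Module version of `Groth.Agent.H99.CodepthFib` (EGA IV 9.9.2 for modules).
-/

set_option autoImplicit false
set_option backward.isDefEq.respectTransparency.types false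
set_option linter.style.haveILetI false
set_option linter.unusedSectionVars false
universe u

open AlgebraicGeometry CategoryTheory CategoryTheory.Limits TopologicalSpace Topology IsLocalRing
  TensorProduct

namespace Groth.Agent.H99.CodepthFibM

open Groth.Agent.H99.ModPair Groth.Agent.H99.FibModProp Groth.Agent.H99.FibrePropGenM
  Groth.Agent.H99.FibrePropGenR Groth.Agent.H99.CodepthProp Groth.Agent.H49.FibreStalk

section Algebra

variable {A B : Type u} [CommRing A] [CommRing B] [Algebra A B]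
  [IsLocalRing A] [IsLocalRing B] [IsNoetherianRing A] [IsNoetherianRing B]
  [IsLocalHom (algebraMap A B)]

/-- for a finite `B`-module `N` flat over a Cohen–Macaulay local ring `A`, the codepth of `N` is
the codepth of the closed fibre `N / m_A N` over `B / m_A B`. -/
theorem codepthLEM_iff_fibre (n : ℕ) (N : Type u) [AddCommGroup N] [Module B N] [Module A N]
    [IsScalarTower A B N] [Module.Finite B N] [Module.Flat A N] (hCM : CodepthLE 0 A) :
    CodepthLEM n B N ↔
      CodepthLEM n (B ⧸ (maximalIdeal A).map (algebraMap A B))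
        (N ⧸ ((maximalIdeal A).map (algebraMap A B)) • (⊤ : Submodule B N)) := by
  set I : Ideal B := (maximalIdeal A).map (algebraMap A B) with hI
  have hne : I ≠ ⊤ := Groth.Agent.H72.FlatCM.mB_ne_top (A := A) (B := B)
  haveI : IsLocalRing (B ⧸ I) :=
    IsLocalRing.of_surjective' (Ideal.Quotient.mk _) Ideal.Quotient.mk_surjective
  haveI : IsLocalHom (algebraMap B (B ⧸ I)) :=
    IsLocalHom.of_surjective _ Ideal.Quotient.mk_surjective
  haveI : Module.Finite B (N ⧸ I • (⊤ : Submodule B N)) := inferInstance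
  haveI : Module.Finite (B ⧸ I) (N ⧸ I • (⊤ : Submodule B N)) :=
    Module.Finite.of_restrictScalars_finite B (B ⧸ I) _
  have hL : CodepthLEM n B N ↔
      Module.supportDim B N ≤ ((LocCoh.depth B N : ℕ∞) : WithBot ℕ∞) + n :=
    ⟨fun h => h, fun h _ _ _ => h⟩
  have hR : CodepthLEM n (B ⧸ I) (N ⧸ I • (⊤ : Submodule B N)) ↔
      Module.supportDim (B ⧸ I) (N ⧸ I • (⊤ : Submodule B N)) ≤
        ((LocCoh.depth (B ⧸ I) (N ⧸ I • (⊤ : Submodule B N)) : ℕ∞) : WithBot ℕ∞) + n :=
    ⟨fun h => h, fun h _ _ _ => h⟩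
  rw [hL, hR]
  rcases subsingleton_or_nontrivial N with hN | hN
  · have h1 : Module.supportDim B N = ⊥ := (Module.supportDim_eq_bot_iff_subsingleton _ _).mpr hN
    have h2 : Module.supportDim (B ⧸ I) (N ⧸ I • (⊤ : Submodule B N)) = ⊥ :=
      (Module.supportDim_eq_bot_iff_subsingleton _ _).mpr inferInstance
    rw [h1, h2]
    simp
  · have hdim := Groth.Agent.H29.FlatDim.supportDim_tensor_eq (A := A) (B := B) A N
    have hdepth := Groth.Agent.H72.DepthFlat.depth_tensor_eq_add_quotient (R := A) (S := B) N A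
    have e1 : N ⊗[A] A ≃ₗ[B] N := TensorProduct.AlgebraTensorModule.rid A B N
    rw [Module.supportDim_eq_of_equiv e1, Module.supportDim_self_eq_ringKrullDim] at hdim
    have hd1 : LocCoh.depth B (N ⊗[A] A) = LocCoh.depth B N :=
      Groth.Agent.H15.idealDepth_congr e1 _
    rw [hd1] at hdepth
    have hdimF : Module.supportDim (B ⧸ I) (N ⧸ I • (⊤ : Submodule B N)) =
        Module.supportDim B (N ⧸ I • (⊤ : Submodule B N)) :=
      Groth.Agent.H29.FlatCMod.supportDim_quotient_ring _ _
    have hdepthF : LocCoh.depth B (N ⧸ I • (⊤ : Submodule B N)) =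
        LocCoh.depth (B ⧸ I) (N ⧸ I • (⊤ : Submodule B N)) :=
      Groth.Agent.H29.DepthAB.depth_eq _
    haveI hFnt : Nontrivial (N ⧸ I • (⊤ : Submodule B N)) :=
      Groth.Agent.H29.FlatCMod.nontrivial_fibMod (A := A) N
    obtain ⟨a, α, ha, hα, hαa⟩ := exists_dim_depth A
    have hCM' := (codepthLE_iff_of_eq 0 A a α ha hα).mp hCM
    obtain ⟨b1, hb1⟩ := Groth.Agent.H29.CML.exists_nat_supportDim_eq (A := B)
      (N ⧸ I • (⊤ : Submodule B N))
    obtain ⟨b2, hb2⟩ := Groth.Agent.H29.CML.exists_nat_depth_eq (A := B)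
      (N ⧸ I • (⊤ : Submodule B N))
    change Module.supportDim B N = ringKrullDim A +
      Module.supportDim B (N ⧸ I • (⊤ : Submodule B N)) at hdim
    change LocCoh.depth B N = LocCoh.depth A A +
      LocCoh.depth B (N ⧸ I • (⊤ : Submodule B N)) at hdepth
    rw [hdimF, ← hdepthF, hdim, hdepth, ha, hα, hb1, hb2]
    constructor
    · intro h1
      have h1' : a + b1 ≤ α + b2 + n := by exact_mod_cast h1
      have : b1 ≤ b2 + n := by omega
      exact_mod_cast this
    · intro h1
      have h1' : b1 ≤ b2 + n := by exact_mod_cast h1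
      have : a + b1 ≤ α + b2 + n := by omega
      exact_mod_cast this

end Algebra

/-- the codepth `≤ n` locus of a coherent module on a scheme locally of finite type over a quotient
of a regular ring is open. -/
theorem isOpen_codepthLEM_stalk (n : ℕ) (A : CommRingCat.{u}) (hQ : QReg A) {X : Scheme.{u}}
    (f : X ⟶ Spec A) [LocallyOfFiniteType f] (F : X.Modules) (hF : Coh.IsCoh F) :
    IsOpen {x : X | CodepthLEM n (X.presheaf.stalk x) (F.presheaf.stalk x)} := by
  haveI : F.IsQuasicoherent := hF.1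
  haveI : SheafOfModules.IsFiniteType (R := X.ringCatSheaf) F := hF.2
  rw [isOpen_iff_forall_mem_open]
  intro x hx
  obtain ⟨_, ⟨V, hV, rfl⟩, hxV, -⟩ :=
    X.isBasis_affineOpens.exists_subset_of_mem_open (Set.mem_univ x) isOpen_univ
  have hU : IsAffineOpen (⊤ : (Spec A).Opens) := isAffineOpen_top _
  have hVU : V ≤ f ⁻¹ᵁ ⊤ := le_top
  have hft := f.finiteType_appLE hU hV hVU
  let φ : A →+* Γ(X, V) := (f.appLE ⊤ V hVU).hom.comp (Scheme.ΓSpecIso A).inv.hom
  have hφ : φ.FiniteType := by
    refine hft.comp ?_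
    exact RingHom.FiniteType.of_surjective _
      (ConcreteCategory.bijective_of_isIso (Scheme.ΓSpecIso A).inv).2
  have hQB : QReg Γ(X, V) := by
    algebraize [φ]
    exact hQ.of_finiteType
  obtain ⟨R, _, _, ψ, hψ⟩ := hQB
  letI : Algebra R Γ(X, V) := ψ.toAlgebra
  haveI : IsNoetherianRing Γ(X, V) := isNoetherianRing_of_surjective R Γ(X, V) ψ hψ
  haveI : Module.Finite Γ(X, V) Γ(F, V) := Groth.Agent.H44.finite_sections_of_isFiniteType F hV
  have hopen := Groth.Agent.H29.CodepthLocusQuot.isOpen_codepth_le R Γ(X, V) Γ(F, V) hψ n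
  have key : ∀ z : V, CodepthLEM n (X.presheaf.stalk z.1) (F.presheaf.stalk z.1) ↔
      Module.supportDim (Localization.AtPrime (hV.primeIdealOf z).asIdeal)
          (LocalizedModule (hV.primeIdealOf z).asIdeal.primeCompl Γ(F, V)) ≤
        ((LocCoh.depth (Localization.AtPrime (hV.primeIdealOf z).asIdeal)
          (LocalizedModule (hV.primeIdealOf z).asIdeal.primeCompl Γ(F, V)) : ℕ∞) :
            WithBot ℕ∞) + n := by
    intro z
    obtain ⟨σ, ψ', hψ'⟩ := Groth.Agent.H58.RectDepth.exists_semilinear_sections F hV z.2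
    rw [← (isLocPropM_codepthLEM n).iso_iff σ ψ' hψ']
    haveI : IsNoetherianRing (Localization.AtPrime (hV.primeIdealOf ⟨z.1, z.2⟩).asIdeal) :=
      IsLocalization.isNoetherianRing (hV.primeIdealOf ⟨z.1, z.2⟩).asIdeal.primeCompl _
        inferInstance
    haveI : Module.Finite (Localization.AtPrime (hV.primeIdealOf ⟨z.1, z.2⟩).asIdeal)
        (LocalizedModule (hV.primeIdealOf ⟨z.1, z.2⟩).asIdeal.primeCompl Γ(F, V)) :=
      Module.Finite.of_isLocalizedModule (hV.primeIdealOf ⟨z.1, z.2⟩).asIdeal.primeCompl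
        (LocalizedModule.mkLinearMap _ _)
    exact ⟨fun h => h, fun h _ _ _ => h⟩
  have hcont : Continuous (fun z : V => hV.primeIdealOf z) := hV.isoSpec.hom.continuous
  refine ⟨Subtype.val '' ((fun z : V => hV.primeIdealOf z) ⁻¹'
    {p | Module.supportDim (Localization.AtPrime p.asIdeal)
          (LocalizedModule p.asIdeal.primeCompl Γ(F, V)) ≤
        ((LocCoh.depth (Localization.AtPrime p.asIdeal)
          (LocalizedModule p.asIdeal.primeCompl Γ(F, V)) : ℕ∞) : WithBot ℕ∞) + n}), ?_, ?_, ?_⟩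
  · rintro _ ⟨z, hz, rfl⟩
    exact (key z).mpr hz
  · exact V.isOpen.isOpenEmbedding_subtypeVal.isOpenMap _ (hopen.preimage hcont)
  · exact ⟨⟨x, hxV⟩, (key ⟨x, hxV⟩).mp hx, rfl⟩

/-- for a module flat over the base at `x` with Cohen–Macaulay local ring of the base at `f x`,
the codepth of `F_x` is the codepth of the stalk of the fibre module at `x`. -/
theorem codepthLEM_stalk_iff_fibMP (n : ℕ) {X S : Scheme.{u}} [IsLocallyNoetherian X]
    [IsLocallyNoetherian S] (f : X ⟶ S) (F : X.Modules) (hF : Coh.IsCoh F) (x : X)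
    (hfl : FlatMod.IsFlatOverAt f F x) (hCM : CodepthLE 0 (S.presheaf.stalk (f x))) :
    CodepthLEM n (X.presheaf.stalk x) (F.presheaf.stalk x) ↔ FibMP (CodepthLEM n) f F x := by
  haveI : F.IsQuasicoherent := hF.1
  rw [fibMP_iff_quotient (isLocPropM_codepthLEM n)]
  letI : Algebra (S.presheaf.stalk (f x)) (X.presheaf.stalk x) := (f.stalkMap x).hom.toAlgebra
  letI : Module (S.presheaf.stalk (f x)) (F.presheaf.stalk x) := FlatMod.moduleStalkOver f F x
  haveI : IsScalarTower (S.presheaf.stalk (f x)) (X.presheaf.stalk x) (F.presheaf.stalk x) :=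
    IsScalarTower.of_algebraMap_smul (fun _ _ => rfl)
  haveI : IsLocalHom (algebraMap (S.presheaf.stalk (f x)) (X.presheaf.stalk x)) :=
    inferInstanceAs (IsLocalHom (f.stalkMap x).hom)
  haveI : Module.Flat (S.presheaf.stalk (f x)) (F.presheaf.stalk x) := hfl
  haveI := Groth.Agent.H13.finite_stalk_of_isCoh F hF x
  exact codepthLEM_iff_fibre n (F.presheaf.stalk x) hCM

/-- **generic step**: over a nonempty open of the spectrum of a domain which is a quotient of a
regular ring, the fibrewise codepth `≤ n` locus of a coherent module is open. -/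
theorem generic_codepthLEM (n : ℕ) (A : CommRingCat.{u}) (hdom : IsDomain A) (hQ : QReg A)
    {X : Scheme.{u}} (f : X ⟶ Spec A) (hft : LocallyOfFiniteType f) (hqc : QuasiCompact f)
    (F : X.Modules) (hF : Coh.IsCoh F) :
    ∃ U : (Spec A).Opens, (U : Set ↥(Spec A)).Nonempty ∧
      IsConstructible ({x : X | FibMP (CodepthLEM n) f F x} ∩ f ⁻¹' (U : Set ↥(Spec A))) := by
  haveI : IsNoetherianRing A := hQ.isNoetherianRing
  haveI : IsLocallyNoetherian X := LocallyOfFiniteType.isLocallyNoetherian f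
  haveI : CompactSpace X := QuasiCompact.compactSpace_of_compactSpace f
  haveI : IsNoetherian X := {}
  haveI : NoetherianSpace X := inferInstance
  obtain ⟨U₁, hU₁ne, hfl⟩ := Groth.Agent.S4698.result f F hF
  have hQ' := hQ
  obtain ⟨R, _, _, ψ, hψ⟩ := hQ'
  letI : Algebra R A := ψ.toAlgebra
  have hopen2 := isOpen_codepthLE R A hψ 0
  let U₂ : (Spec A).Opens := ⟨{p | CodepthLE 0 (Localization.AtPrime p.asIdeal)}, hopen2⟩
  have hgen2 : (⟨⊥, Ideal.isPrime_bot⟩ : PrimeSpectrum A) ∈ (U₂ : Set (Spec A)) := by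
    show CodepthLE 0 (Localization.AtPrime (⊥ : Ideal A))
    intro _ _
    rw [IsLocalization.AtPrime.ringKrullDim_eq_height (⊥ : Ideal A), Ideal.height_bot]
    simp
  have hgen1 : (⟨⊥, Ideal.isPrime_bot⟩ : PrimeSpectrum A) ∈ (U₁ : Set (Spec A)) := by
    obtain ⟨s, hs⟩ := hU₁ne
    have hsp : (⟨⊥, Ideal.isPrime_bot⟩ : PrimeSpectrum A) ⤳ s := by
      rw [← PrimeSpectrum.le_iff_specializes]
      exact bot_le
    exact hsp.mem_open U₁.2 hs
  refine ⟨U₁ ⊓ U₂, ⟨_, hgen1, hgen2⟩, ?_⟩
  have hset : {x : X | FibMP (CodepthLEM n) f F x} ∩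
      f ⁻¹' ((U₁ ⊓ U₂ : (Spec A).Opens) : Set (Spec A))
      = {x : X | CodepthLEM n (X.presheaf.stalk x) (F.presheaf.stalk x)} ∩
        f ⁻¹' ((U₁ ⊓ U₂ : (Spec A).Opens) : Set (Spec A)) := by
    ext x
    have hiff : f x ∈ U₁ ⊓ U₂ → (CodepthLEM n (X.presheaf.stalk x) (F.presheaf.stalk x) ↔
        FibMP (CodepthLEM n) f F x) := by
      rintro ⟨h1, h2⟩
      refine codepthLEM_stalk_iff_fibMP n f F hF x (hfl x h1) ?_
      exact codepthLE_iso 0 (Groth.Agent.H25.StalkBC.specStalkEquiv A (f x)).symm h2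
    constructor
    · rintro ⟨h1, h2⟩
      exact ⟨(hiff h2).mpr h1, h2⟩
    · rintro ⟨h1, h2⟩
      exact ⟨(hiff h2).mp h1, h2⟩
  rw [hset]
  exact Groth.Agent.H12.isConstructible_of_isOpen
    ((isOpen_codepthLEM_stalk n A hQ f F hF).inter ((U₁ ⊓ U₂).2.preimage f.continuous))

theorem isFibInvM_fibMP {P : ∀ (R : Type u) [CommRing R] (M : Type u) [AddCommGroup M]
    [Module R M], Prop} (hP : IsLocPropM P) : IsFibInvM (FibMP P) where
  iso := by
    intro X S f F G e x
    exact fibMP_iff_of_iso hP f e x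
  baseChange := by
    intro X S X' S' f f' g' g hc hft F hF x'
    haveI := hft
    exact fibMP_baseChange hP f f' g' g hc F hF x'
  openImm := by
    intro U X S j f hj hft F hF u
    haveI := hj
    haveI := hft
    exact fibMP_openImm hP j f F hF u

theorem isGoodGenM_fibCodepthLEM (n : ℕ) : IsGoodGenM (FibMP (CodepthLEM.{u} n)) where
  toIsFibInvM := isFibInvM_fibMP (isLocPropM_codepthLEM n)
  generic := by
    intro A hdom hQ X f hft hqc F hF
    exact generic_codepthLEM n A hdom hQ f hft hqc F hF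

/-- EGA IV 9.9.2 for modules: the fibrewise codepth `≤ n` locus of a finitely presented module is
locally constructible. -/
theorem isLocallyConstructible_fibCodepthLEM (n : ℕ) {X S : Scheme.{u}} (f : X ⟶ S)
    [LocallyOfFinitePresentation f] (F : X.Modules) [Coh.IsQCoh F] (hF : CohB1.IsFP F) :
    IsLocallyConstructible {x : X | FibMP (CodepthLEM n) f F x} :=
  Groth.Agent.H99.FibrePropGenM.isLocallyConstructible (isGoodGenM_fibCodepthLEM n) f F hF

end Groth.Agent.H99.CodepthFibM
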