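import Mathlib
import Groth.Agent.H50.DVRSp1

/-!
# Openness of locally constructible sets via discrete valuation rings (helper99)

* `isOpen_of_isLocallyConstructible_of_stableUnderGeneralization`: a locally constructible subset of
  a scheme which is stable under generization is open.
* `stableUnderGeneralization_of_dvr`: on a locally Noetherian scheme `X` over `S`, a subset `E` is
  stable under generization as soon as, for every discrete valuation ring `A` and every
  `Spec A ⟶ S`, the preimage of `E` in `X ×_S Spec A` is stable under generizations of points of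
  the special fibre.
-/

set_option autoImplicit false
set_option backward.isDefEq.respectTransparency.types false
set_option linter.style.haveILetI false
universe u

open CategoryTheory CategoryTheory.Limits AlgebraicGeometry TopologicalSpace Topology

namespace Groth.Agent.H99.DVRGen

/-- a locally constructible subset of a scheme which is stable under generization is open. -/
theorem isOpen_of_isLocallyConstructible_of_stableUnderGeneralization {X : Scheme.{u}}
    {E : Set X} (hE : IsLocallyConstructible E) (hgen : StableUnderGeneralization E) :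
    IsOpen E := by
  rw [isOpen_iff_forall_mem_open]
  intro x hx
  obtain ⟨U, hU, hxU⟩ : ∃ U : X.Opens, IsAffineOpen U ∧ x ∈ U := by
    obtain ⟨_, ⟨U, hU, rfl⟩, hxU, -⟩ :=
      X.isBasis_affineOpens.exists_subset_of_mem_open (Set.mem_univ x) isOpen_univ
    exact ⟨U, hU, hxU⟩
  haveI : IsAffine (U : Scheme.{u}) := hU
  let E' : Set (U : Scheme.{u}) := U.ι ⁻¹' E
  have hE' : IsLocallyConstructible E' :=
    hE.preimage_of_isOpenEmbedding U.ι.isOpenEmbedding
  have hE'c : IsConstructible E' := hE'.isConstructible
  have hE'g : StableUnderGeneralization E' := by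
    intro a b hba ha
    exact hgen (hba.map U.ι.continuous) ha
  let e := (U : Scheme.{u}).isoSpec
  let E'' : Set (Spec Γ((U : Scheme.{u}), ⊤)) := e.inv ⁻¹' E'
  have hE''c : IsConstructible E'' := Scheme.Hom.isConstructible_preimage e.inv hE'c
  have hE''g : StableUnderGeneralization E'' := by
    intro a b hba ha
    exact hE'g (hba.map e.inv.continuous) ha
  have hopen'' : IsOpen E'' :=
    PrimeSpectrum.isOpen_of_stableUnderGeneralization_of_isConstructible hE''g hE''c
  have hopen' : IsOpen E' := by
    have h1 : E' = e.hom ⁻¹' E'' := by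
      ext a
      simp only [E'', Set.mem_preimage]
      rw [← Scheme.Hom.comp_apply, e.hom_inv_id]
      rfl
    rw [h1]
    exact hopen''.preimage e.hom.continuous
  refine ⟨U.ι '' E', ?_, U.ι.isOpenEmbedding.isOpenMap _ hopen', ⟨⟨x, hxU⟩, hx, rfl⟩⟩
  rintro _ ⟨a, ha, rfl⟩
  exact ha

/-- **generization via discrete valuation rings.** -/
theorem stableUnderGeneralization_of_dvr {X S : Scheme.{u}} [IsLocallyNoetherian X] (f : X ⟶ S)
    (E : Set X)
    (H : ∀ (A : Type u) [CommRing A] [IsDomain A] [IsDiscreteValuationRing A]
      (h : Spec (CommRingCat.of A) ⟶ S) (z z' : ↥(pullback f h)), z' ⤳ z →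
      (pullback.snd f h) z = IsLocalRing.closedPoint A →
      (pullback.fst f h) z ∈ E → (pullback.fst f h) z' ∈ E) :
    StableUnderGeneralization E := by
  intro x x' hx'x hx
  obtain ⟨A, _, _, _, hX, ξ, hξ, hcl, hgen⟩ :=
    Groth.Agent.H50.DVRSp.exists_dvr_of_specializes (𝟙 X) x' x (by simpa using hx'x)
  let h : Spec (CommRingCat.of A) ⟶ S := hX ≫ f
  let σ : Spec (CommRingCat.of A) ⟶ pullback f h := pullback.lift hX (𝟙 _) (by simp [h])
  have hσ1 : σ ≫ pullback.fst f h = hX := pullback.lift_fst _ _ _
  have hσ2 : σ ≫ pullback.snd f h = 𝟙 _ := pullback.lift_snd _ _ _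
  let η : ↥(Spec (CommRingCat.of A)) :=
    (Spec.map (CommRingCat.ofHom (algebraMap A (FractionRing A))))
      (IsLocalRing.closedPoint (FractionRing A))
  have hη : hX η = x' := by
    rw [Category.comp_id] at hξ
    rw [← hgen, hξ]
    rfl
  have hsp : η ⤳ IsLocalRing.closedPoint A := IsLocalRing.specializes_closedPoint η
  have h1 := H A h (σ (IsLocalRing.closedPoint A)) (σ η) (hsp.map σ.continuous) ?_ ?_
  · rw [← Scheme.Hom.comp_apply, hσ1, hη] at h1
    exact h1
  · rw [← Scheme.Hom.comp_apply, hσ2]
    rfl
  · rw [← Scheme.Hom.comp_apply, hσ1, hcl]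
    exact hx

end Groth.Agent.H99.DVRGen
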