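import Mathlib
import Groth.Agent.H99.FibrePropGenM
import Groth.Agent.H49.FlatModuleApprox
import Groth.Agent.H70.FibFlat.Invariance
import Groth.Agent.H71.QCoh.FlatOverPullback
import Groth.Agent.S4848

/-!
# Openness of fibrewise properties of flat modules: reduction to Noetherian bases (helper99)

If a pointwise property `Pr f F x` of (morphism, module, point) is invariant under isomorphisms,
base change and open immersions (`IsFibInvM`) and defines an open subset whenever the base is the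
spectrum of a quotient of a regular ring, the morphism is locally of finite type and the module is
coherent and flat over the base, then it defines an open subset for every morphism locally of finite
presentation and every flat quasi-coherent module of finite presentation (EGA IV 11.2.6 via
`S4848`).
-/

set_option autoImplicit false
set_option backward.isDefEq.respectTransparency.types false
set_option linter.style.haveILetI false
universe u

open CategoryTheory CategoryTheory.Limits AlgebraicGeometry TopologicalSpace Topology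

namespace Groth.Agent.H99.FibrePropOpenM

open Groth.Agent.H99.FibrePropGenR Groth.Agent.H99.FibrePropGenM

variable {Pr : ∀ ⦃X S : Scheme.{u}⦄, (X ⟶ S) → X.Modules → X → Prop}

theorem descent4848 : Groth.Agent.H47.IntModel.Descent4848.{u} := by
  intro A₀ _ ι _ G _ _ g A _ _ _ _ hcolim B₀ _ _ _ M₀ _ _ _ _ _
  exact Groth.Agent.S4848.result G g A hcolim (B₀ := B₀) M₀

/-- the hypothesis: openness over Noetherian bases which are quotients of regular rings. -/
def OpenOverQReg (Pr : ∀ ⦃X S : Scheme.{u}⦄, (X ⟶ S) → X.Modules → X → Prop) : Prop :=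
  ∀ (A : CommRingCat.{u}), QReg A → ∀ ⦃X : Scheme.{u}⦄ (f : X ⟶ Spec A),
    LocallyOfFiniteType f → ∀ F : X.Modules, Coh.IsCoh F → FlatMod.IsFlatOver f F →
    IsOpen {x : X | Pr f F x}

/-- affine case. -/
theorem isOpen_of_isAffine (h : IsFibInvM Pr) (hO : OpenOverQReg Pr) {X S : Scheme.{u}}
    (f : X ⟶ S) [IsAffine X] [IsAffine S] [LocallyOfFinitePresentation f] (F : X.Modules)
    [Coh.IsQCoh F] (hF : CohB1.IsFP F) (hfl : FlatMod.IsFlatOver f F) :
    IsOpen {x : X | Pr f F x} := by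
  obtain ⟨X₀, S₀, f₀, g, g', hX₀, hS₀, hpb, hft, hlft, F₀, hF₀, hfl₀, ⟨e⟩⟩ :=
    Groth.Agent.H49.FlatModuleApprox.main descent4848 f F hF hfl
  have hQ : QReg Γ(S₀, ⊤) := QReg.of_finiteType_int
  have hpb' : IsPullback g' f (f₀ ≫ S₀.isoSpec.hom) (g ≫ S₀.isoSpec.hom) :=
    hpb.of_iso (Iso.refl _) (Iso.refl _) (Iso.refl _) S₀.isoSpec (by simp) (by simp) (by simp)
      (by simp)
  haveI : LocallyOfFiniteType (f₀ ≫ S₀.isoSpec.hom) := inferInstance
  haveI : F₀.IsQuasicoherent := hF₀.1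
  have hfl₀' : FlatMod.IsFlatOver (f₀ ≫ S₀.isoSpec.hom) F₀ := fun x =>
    (Groth.Agent.H70.FibFlat.isFlatOverAt_comp_openImmersion_iff f₀ S₀.isoSpec.hom F₀ x).mpr
      (hfl₀ x)
  have hc := hO Γ(S₀, ⊤) hQ (f₀ ≫ S₀.isoSpec.hom) inferInstance F₀ hF₀ hfl₀'
  have hE : {x : X | Pr f F x} = g' ⁻¹' {x | Pr (f₀ ≫ S₀.isoSpec.hom) F₀ x} := by
    ext x
    simp only [Set.mem_ofPred_eq, Set.mem_preimage]
    rw [← h.iso f _ _ e x]
    exact h.baseChange (f₀ ≫ S₀.isoSpec.hom) f g' _ hpb' inferInstance F₀ hF₀ x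
  rw [hE]
  exact hc.preimage g'.continuous

/-- **general case.** -/
theorem isOpen (h : IsFibInvM Pr) (hO : OpenOverQReg Pr) {X S : Scheme.{u}}
    (f : X ⟶ S) [LocallyOfFinitePresentation f] (F : X.Modules) [Coh.IsQCoh F]
    (hF : CohB1.IsFP F) (hfl : FlatMod.IsFlatOver f F) :
    IsOpen {x : X | Pr f F x} := by
  rw [isOpen_iff_forall_mem_open]
  intro x hx
  obtain ⟨V, hV, hxV⟩ : ∃ V : S.Opens, IsAffineOpen V ∧ f x ∈ V := by
    obtain ⟨_, ⟨V, hV, rfl⟩, hxV, -⟩ := S.isBasis_affineOpens.exists_subset_of_mem_open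
      (Set.mem_univ (f x)) isOpen_univ
    exact ⟨V, hV, hxV⟩
  obtain ⟨U, hU, hxU, hUV⟩ : ∃ U : X.Opens, IsAffineOpen U ∧ x ∈ U ∧ U ≤ f ⁻¹ᵁ V := by
    obtain ⟨_, ⟨U, hU, rfl⟩, hxU, hUV⟩ := X.isBasis_affineOpens.exists_subset_of_mem_open
      (show x ∈ ((f ⁻¹ᵁ V : X.Opens) : Set X) from hxV) (f ⁻¹ᵁ V).isOpen
    exact ⟨U, hU, hxU, hUV⟩
  haveI : IsAffine (U : Scheme.{u}) := hU
  haveI : IsAffine (V : Scheme.{u}) := hV
  have hFc : Coh.IsCoh F := isCoh_of_isFP F hF
  haveI : F.IsQuasicoherent := hFc.1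
  let G : (U : Scheme.{u}).Modules := (Scheme.Modules.pullback U.ι).obj F
  haveI : SheafOfModules.IsFinitePresentation (R := X.ringCatSheaf) F := hF
  have hGfp : CohB1.IsFP G := Groth.Agent.H44.isFinitePresentation_pullback U.ι F
  haveI : Coh.IsQCoh G := inferInstanceAs (G.IsQuasicoherent)
  have hGc : Coh.IsCoh G := isCoh_of_isFP G hGfp
  have hflG : FlatMod.IsFlatOver (f.resLE V U hUV) G := by
    intro u
    have h1 : FlatMod.IsFlatOverAt (U.ι ≫ f) G u :=
      (Groth.Agent.H71.QCoh.isFlatOverAt_pullback_iff U.ι f F u (Flat.stalkMap U.ι u)).mp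
        (hfl (U.ι u))
    rw [← Scheme.Hom.resLE_comp_ι f hUV] at h1
    exact (Groth.Agent.H70.FibFlat.isFlatOverAt_comp_openImmersion_iff (f.resLE V U hUV) V.ι G
      u).mp h1
  have hc := isOpen_of_isAffine h hO (f.resLE V U hUV) G hGfp hflG
  have hlft : LocallyOfFiniteType f := inferInstance
  have hpbV : IsPullback (𝟙 (U : Scheme.{u})) (f.resLE V U hUV) (f.resLE V U hUV ≫ V.ι) V.ι :=
    IsPullback.of_horiz_isIso_mono ⟨by simp⟩
  have hlft' : LocallyOfFiniteType (f.resLE V U hUV ≫ V.ι) := inferInstance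
  have hE : {u : (U : Scheme.{u}) | Pr (f.resLE V U hUV) G u} =
      {u : (U : Scheme.{u}) | Pr f F (U.ι u)} := by
    ext u
    simp only [Set.mem_ofPred_eq]
    rw [h.iso (f.resLE V U hUV) G _ ((Scheme.Modules.pullbackId (U : Scheme.{u})).app G).symm u]
    have h1 := h.baseChange _ _ _ _ hpbV hlft' G hGc u
    rw [Scheme.Hom.resLE_comp_ι] at h1
    exact h1.trans (h.openImm U.ι f inferInstance hlft F hFc u)
  rw [hE] at hc
  refine ⟨U.ι '' {u : (U : Scheme.{u}) | Pr f F (U.ι u)}, ?_,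
    U.ι.isOpenEmbedding.isOpenMap _ hc, ⟨⟨x, hxU⟩, hx, rfl⟩⟩
  rintro _ ⟨u, hu, rfl⟩
  exact hu

end Groth.Agent.H99.FibrePropOpenM
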