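import Mathlib
import Groth.Agent.H99.CodepthFibM
import Groth.Agent.H99.DVRGen
import Groth.Agent.H99.FibrePropOpenM
import Groth.Agent.H49.FlatModuleApprox
import Groth.Agent.H26.CMFlat
import Groth.Agent.H70.RegLocus.Noeth
import Groth.Agent.H71.QCoh.FlatBaseChange
import Groth.Agent.S4848

/-!
# Openness of the fibrewise codepth loci of a flat module of finite presentation (helper99)

EGA IV 12.1.1 (iii)/(vi) for modules: for `f : X ⟶ S` locally of finite presentation and `F` an
`f`-flat quasi-coherent module of finite presentation, the set of `x` where the stalk of the fibre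
module `F_{f x}` at `x` has codepth at most `n` is open.
-/

set_option autoImplicit false
set_option backward.isDefEq.respectTransparency.types false
set_option linter.style.haveILetI false
set_option linter.unusedSectionVars false
universe u

open AlgebraicGeometry CategoryTheory CategoryTheory.Limits TopologicalSpace Topology IsLocalRing

namespace Groth.Agent.H99.CodepthOpenM

open Groth.Agent.H99.ModPair Groth.Agent.H99.FibModProp Groth.Agent.H99.FibrePropGenM
  Groth.Agent.H99.FibrePropGenR Groth.Agent.H99.CodepthProp Groth.Agent.H99.CodepthFibM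

/-- the local rings of the spectrum of a regular ring are Cohen–Macaulay. -/
theorem codepthLE_zero_stalk_of_isRegularRing (A : CommRingCat.{u}) [IsRegularRing A]
    (s : ↥(Spec A)) : CodepthLE 0 ((Spec A).presheaf.stalk s) := by
  intro _ _
  have h1 : CodepthLE 0 (Localization.AtPrime s.asIdeal) := by
    intro _ _
    have hcm := Groth.Agent.H26.CMFlat.isCohenMacaulayLocalRing_of_isRegularLocalRing
      (Localization.AtPrime s.asIdeal)
    rw [(Groth.Agent.H72.FlatCM.isCohenMacaulayLocalRing_iff _).mp hcm]
    simp
  have h2 : CodepthLE 0 ((Spec (CommRingCat.of A)).presheaf.stalk s) :=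
    codepthLE_iso 0 (Groth.Agent.H25.StalkBC.specStalkEquiv A s).symm @h1
  exact h2

/-- **regular base**: for a module flat over a regular base the fibrewise codepth locus is the
codepth locus of the module, which is open. -/
theorem isOpen_fibCodepthLEM_of_isRegularRing (n : ℕ) (A : CommRingCat.{u}) [IsRegularRing A]
    {Y : Scheme.{u}} (f : Y ⟶ Spec A) [LocallyOfFiniteType f] (G : Y.Modules) (hG : Coh.IsCoh G)
    (hfl : FlatMod.IsFlatOver f G) :
    IsOpen {y : Y | FibMP (CodepthLEM n) f G y} := by
  haveI : IsNoetherianRing A := inferInstance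
  haveI : IsLocallyNoetherian Y := LocallyOfFiniteType.isLocallyNoetherian f
  have hQ : QReg A := ⟨A, inferInstance, inferInstance, RingHom.id A, Function.surjective_id⟩
  have hE : {y : Y | FibMP (CodepthLEM n) f G y} =
      {y : Y | CodepthLEM n (Y.presheaf.stalk y) (G.presheaf.stalk y)} := by
    ext y
    exact (codepthLEM_stalk_iff_fibMP n f G hG y (hfl y)
      (codepthLE_zero_stalk_of_isRegularRing A (f y))).symm
  rw [hE]
  exact isOpen_codepthLEM_stalk n A hQ f G hG

/-- **Noetherian case**: base a quotient of a regular ring. -/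
theorem isOpen_fibCodepthLEM_of_qReg (n : ℕ) (A : CommRingCat.{u}) (hQ : QReg A)
    {X : Scheme.{u}} (f : X ⟶ Spec A) [LocallyOfFiniteType f] (F : X.Modules) (hF : Coh.IsCoh F)
    (hfl : FlatMod.IsFlatOver f F) :
    IsOpen {x : X | FibMP (CodepthLEM n) f F x} := by
  haveI : IsNoetherianRing A := hQ.isNoetherianRing
  haveI : IsLocallyNoetherian X := LocallyOfFiniteType.isLocallyNoetherian f
  haveI : F.IsQuasicoherent := hF.1
  haveI : SheafOfModules.IsFiniteType (R := X.ringCatSheaf) F := hF.2
  haveI : LocallyOfFinitePresentation f :=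
    Groth.Agent.H70.RegLocus.locallyOfFinitePresentation_of_isLocallyNoetherian f
  have hFP : CohB1.IsFP F := Groth.Agent.H70.RegLocus.isFinitePresentation_of_isFiniteType F
  haveI : Coh.IsQCoh F := hF.1
  have hlc := isLocallyConstructible_fibCodepthLEM n f F hFP
  refine Groth.Agent.H99.DVRGen.isOpen_of_isLocallyConstructible_of_stableUnderGeneralization hlc ?_
  refine Groth.Agent.H99.DVRGen.stableUnderGeneralization_of_dvr f _ ?_
  intro V _ _ _ h z z' hz'z _ hz
  have hpb : IsPullback (pullback.fst f h) (pullback.snd f h) f h := IsPullback.of_hasPullback f h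
  have hbc := fibMP_baseChange (isLocPropM_codepthLEM n) f (pullback.snd f h) (pullback.fst f h) h
    hpb F hF
  have hG : Coh.IsCoh ((Scheme.Modules.pullback (pullback.fst f h)).obj F) :=
    isCoh_pullback _ F hF
  have hflV : FlatMod.IsFlatOver (pullback.snd f h)
      ((Scheme.Modules.pullback (pullback.fst f h)).obj F) := fun w =>
    Groth.Agent.H71.QCoh.isFlatOverAt_baseChange hpb F w (hfl _)
  have hopen := isOpen_fibCodepthLEM_of_isRegularRing n (CommRingCat.of V) (pullback.snd f h)
    _ hG hflV
  have h1 : FibMP (CodepthLEM n) (pullback.snd f h)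
      ((Scheme.Modules.pullback (pullback.fst f h)).obj F) z := (hbc z).mpr hz
  have h2 : FibMP (CodepthLEM n) (pullback.snd f h)
      ((Scheme.Modules.pullback (pullback.fst f h)).obj F) z' :=
    hopen.stableUnderGeneralization hz'z h1
  exact @Iff.mp _ _ (hbc z') @h2

/-- **EGA IV 12.1.1 (iii) for modules**: the fibrewise codepth `≤ n` locus of an `f`-flat
quasi-coherent module of finite presentation is open. -/
theorem isOpen_fibCodepthLEM (n : ℕ) {X S : Scheme.{u}} (f : X ⟶ S)
    [LocallyOfFinitePresentation f] (F : X.Modules) [Coh.IsQCoh F] (hF : CohB1.IsFP F)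
    (hfl : FlatMod.IsFlatOver f F) :
    IsOpen {x : X | FibMP (CodepthLEM n) f F x} :=
  Groth.Agent.H99.FibrePropOpenM.isOpen (isFibInvM_fibMP (isLocPropM_codepthLEM n))
    (fun A hQ X f hft F hF hfl => by
      haveI := hft
      exact isOpen_fibCodepthLEM_of_qReg n A hQ f F hF hfl) f F hF hfl

/-- unfolding of the fibrewise codepth condition. -/
theorem fibMP_codepthLEM_iff (n : ℕ) {X S : Scheme.{u}} (f : X ⟶ S) [LocallyOfFiniteType f]
    (F : X.Modules) (hF : Coh.IsCoh F) (x : X) :
    FibMP (CodepthLEM n) f F x ↔
      Module.supportDim ((f.fiber (f x)).presheaf.stalk (f.asFiber x))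
          (((Scheme.Modules.pullback (f.fiberι (f x))).obj F).presheaf.stalk (f.asFiber x)) ≤
        ((LocCoh.depth ((f.fiber (f x)).presheaf.stalk (f.asFiber x))
          (((Scheme.Modules.pullback (f.fiberι (f x))).obj F).presheaf.stalk (f.asFiber x)) : ℕ∞) :
            WithBot ℕ∞) + n := by
  haveI := Groth.Agent.H49.CMChart.isLocallyNoetherian_fiber f (f x)
  haveI := Groth.Agent.H13.finite_stalk_of_isCoh _ (isCoh_pullback (f.fiberι (f x)) F hF)
    (f.asFiber x)
  exact ⟨fun h => h, fun h _ _ _ => h⟩

end Groth.Agent.H99.CodepthOpenM
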