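import Mathlib
import Groth.Agent.H99.CodepthOpenM
import Groth.Agent.H99.SkTop
import Groth.Agent.H99.CompDims

/-!
# Topological form of the rectified depth of the fibre modules (helper99)

For `f : X ⟶ S` and an `O_X`-module `F`, we define pointwise predicates of `(f, F, x)` which are
invariant under base change and open immersions:

* `SuppM f F x`: the stalk at `x` of the fibre module `F_{f x}` is nonzero;
* `DimGE e f F x`: some generization `w` of `x` inside the fibre, in the support, has
  `dim (closure {w} ∩ fibre) ≥ e` (the local dimension at `x` of `Supp F_{f x}` is `≥ e`);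
* `ProfGE n f F x`: topological form of `prof*_x (F_{f x}) ≥ n`.
-/

set_option autoImplicit false
set_option backward.isDefEq.respectTransparency.types false
set_option linter.style.haveILetI false
set_option linter.unusedSectionVars false
universe u

open AlgebraicGeometry CategoryTheory CategoryTheory.Limits TopologicalSpace Topology IsLocalRing
  TensorProduct

namespace Groth.Agent.H99.ProfTop

open Groth.Agent.H99.ModPair Groth.Agent.H99.FibModProp Groth.Agent.H99.FibrePropGenM
  Groth.Agent.H99.CodepthFibM Groth.Agent.H99.RkTop Groth.Agent.H99.FibEqui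

/-- the module is nonzero. -/
def NontrivialM (R : Type u) [CommRing R] (M : Type u) [AddCommGroup M] [Module R M] : Prop :=
  Nontrivial M

theorem isLocPropM_nontrivialM : IsLocPropM NontrivialM.{u} where
  iso := by
    intro R R' M M' _ _ _ _ _ _ σ φ _ h
    haveI : Nontrivial M := h
    exact φ.symm.toEquiv.nontrivial
  cmHom := by
    intro R R' _ _ _ _ _ hcm M _ _ _
    haveI := hcm.isLocalHom
    haveI := hcm.flat
    haveI : Module.FaithfullyFlat R R' := Module.FaithfullyFlat.of_flat_of_isLocalHom
    exact (Module.FaithfullyFlat.nontrivial_tensorProduct_iff_right R R').symm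

/-- the stalk at `x` of the fibre module is nonzero. -/
def SuppM : ∀ ⦃X S : Scheme.{u}⦄, (X ⟶ S) → X.Modules → X → Prop := FibMP NontrivialM

theorem isFibInvM_suppM : IsFibInvM SuppM.{u} := isFibInvM_fibMP isLocPropM_nontrivialM

/-- the fibrewise codepth at `x` is at most `n`. -/
def CM (n : ℕ) : ∀ ⦃X S : Scheme.{u}⦄, (X ⟶ S) → X.Modules → X → Prop := FibMP (CodepthLEM n)

theorem isFibInvM_cM (n : ℕ) : IsFibInvM (CM.{u} n) := isFibInvM_fibMP (isLocPropM_codepthLEM n)

/-- the local dimension at `x` of the support of the fibre module is at least `e`. -/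
def DimGE (e : ℕ) : ∀ ⦃X S : Scheme.{u}⦄, (X ⟶ S) → X.Modules → X → Prop := fun _ _ f F x =>
  ∃ w, w ⤳ x ∧ f w = f x ∧ SuppM f F w ∧ (e : WithBot ℕ∞) ≤ fdim f w

theorem isFibInvM_dimGE (e : ℕ) : IsFibInvM (DimGE.{u} e) where
  iso := by
    intro X S f F G i x
    constructor
    · rintro ⟨w, h1, h2, h3, h4⟩
      exact ⟨w, h1, h2, (isFibInvM_suppM.iso f F G i w).mp h3, h4⟩
    · rintro ⟨w, h1, h2, h3, h4⟩
      exact ⟨w, h1, h2, (isFibInvM_suppM.iso f F G i w).mpr h3, h4⟩
  baseChange := by
    intro X S X' S' f f' g' g hc hft F hF x'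
    haveI := hft
    constructor
    · rintro ⟨w', h1, h2, h3, h4⟩
      refine ⟨g' w', h1.map g'.continuous, ?_,
        (isFibInvM_suppM.baseChange f f' g' g hc hft F hF w').mp h3,
        h4.trans (fdim_baseChange_le f f' g' g hc w')⟩
      rw [comm_apply f f' g' g hc, comm_apply f f' g' g hc, h2]
    · rintro ⟨w, h1, h2, h3, h4⟩
      obtain ⟨ξ', hξ1, hξ2, hξ3, hξ4⟩ := exists_lift_fdim f f' g' g hc x' w h1 h2
      refine ⟨ξ', hξ1, hξ2, ?_, by rw [hξ4]; exact h4⟩
      rw [isFibInvM_suppM.baseChange f f' g' g hc hft F hF ξ', hξ3]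
      exact h3
  openImm := by
    intro U X S j f hj hft F hF u
    haveI := hj
    haveI := hft
    constructor
    · rintro ⟨w, h1, h2, h3, h4⟩
      refine ⟨j w, h1.map j.continuous, by simpa only [Scheme.Hom.comp_apply] using h2,
        (isFibInvM_suppM.openImm j f hj hft F hF w).mp h3, ?_⟩
      rw [← fdim_openImm j f w]
      exact h4
    · rintro ⟨w, h1, h2, h3, h4⟩
      obtain ⟨w₀, rfl, hw₀⟩ := exists_of_specializes_openImm j u w h1
      refine ⟨w₀, hw₀, by simpa only [Scheme.Hom.comp_apply] using h2,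
        (isFibInvM_suppM.openImm j f hj hft F hF w₀).mpr h3, ?_⟩
      rw [fdim_openImm j f w₀]
      exact h4

/-- topological form of `prof*_x (F_{f x}) ≥ n`. -/
def ProfGE (n : ℕ) : ∀ ⦃X S : Scheme.{u}⦄, (X ⟶ S) → X.Modules → X → Prop := fun _ _ f F x =>
  ¬ SuppM f F x ∨ (DimGE n f F x ∧ ∀ m : ℕ, CM m f F x ∨ DimGE (n + m + 1) f F x)

theorem isFibInvM_profGE (n : ℕ) : IsFibInvM (ProfGE.{u} n) where
  iso := by
    intro X S f F G i x
    unfold ProfGE
    rw [isFibInvM_suppM.iso f F G i x, (isFibInvM_dimGE n).iso f F G i x]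
    refine or_congr Iff.rfl (and_congr Iff.rfl (forall_congr' fun m => ?_))
    rw [(isFibInvM_cM m).iso f F G i x, (isFibInvM_dimGE (n + m + 1)).iso f F G i x]
  baseChange := by
    intro X S X' S' f f' g' g hc hft F hF x'
    unfold ProfGE
    rw [isFibInvM_suppM.baseChange f f' g' g hc hft F hF x',
      (isFibInvM_dimGE n).baseChange f f' g' g hc hft F hF x']
    refine or_congr Iff.rfl (and_congr Iff.rfl (forall_congr' fun m => ?_))
    rw [(isFibInvM_cM m).baseChange f f' g' g hc hft F hF x',
      (isFibInvM_dimGE (n + m + 1)).baseChange f f' g' g hc hft F hF x']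
  openImm := by
    intro U X S j f hj hft F hF u
    unfold ProfGE
    rw [isFibInvM_suppM.openImm j f hj hft F hF u,
      (isFibInvM_dimGE n).openImm j f hj hft F hF u]
    refine or_congr Iff.rfl (and_congr Iff.rfl (forall_congr' fun m => ?_))
    rw [(isFibInvM_cM m).openImm j f hj hft F hF u,
      (isFibInvM_dimGE (n + m + 1)).openImm j f hj hft F hF u]

end Groth.Agent.H99.ProfTop
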