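import Mathlib
import Groth.Agent.H99.ProfTop
import Groth.Agent.H99.SkMain
import Groth.Agent.H99.CompDimsSupp

/-!
# Local constructibility of the topological rectified depth conditions (helper99)
-/

set_option autoImplicit false
set_option backward.isDefEq.respectTransparency.types false
set_option linter.style.haveILetI false
set_option linter.unusedSectionVars false
universe u

open AlgebraicGeometry CategoryTheory CategoryTheory.Limits TopologicalSpace Topology IsLocalRing
  TensorProduct

namespace Groth.Agent.H99.ProfCons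

open Groth.Agent.H99.ModPair Groth.Agent.H99.FibModProp Groth.Agent.H99.FibrePropGenM
  Groth.Agent.H99.CodepthFibM Groth.Agent.H99.RkTop Groth.Agent.H99.FibEqui
  Groth.Agent.H99.ProfTop Groth.Agent.H99.CompDims Groth.Agent.H99.RkGen
  Groth.Agent.H99.FibEquiGen Groth.Agent.H17.Chev Groth.Agent.H49.FibreStalk

variable {X S : Scheme.{u}}

/-- the fibre module has nonzero stalk at `x` iff `F` has. -/
theorem suppM_iff (f : X ⟶ S) (F : X.Modules) (hF : Coh.IsCoh F) (x : X) :
    SuppM f F x ↔ x ∈ CohB1.support F := by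
  haveI : F.IsQuasicoherent := hF.1
  haveI := Groth.Agent.H13.finite_stalk_of_isCoh F hF x
  unfold SuppM
  rw [fibMP_iff_quotient isLocPropM_nontrivialM]
  unfold NontrivialM CohB1.support
  rw [Set.mem_ofPred_eq, not_subsingleton_iff_nontrivial]
  constructor
  · intro h
    by_contra hcon
    rw [not_nontrivial_iff_subsingleton] at hcon
    haveI := hcon
    exact not_subsingleton _ (inferInstance : Subsingleton (F.presheaf.stalk x ⧸
      (fibreIdeal f x) • (⊤ : Submodule (X.presheaf.stalk x) (F.presheaf.stalk x))))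
  · intro h
    rw [Submodule.Quotient.nontrivial_iff]
    intro htop
    have hbot : (⊤ : Submodule (X.presheaf.stalk x) (F.presheaf.stalk x)) = ⊥ :=
      Submodule.eq_bot_of_le_smul_of_le_jacobson_bot (fibreIdeal f x) ⊤ Module.Finite.fg_top
        htop.ge ((fibreIdeal_le_maximalIdeal f x).trans (IsLocalRing.maximalIdeal_le_jacobson _))
    have : Subsingleton (F.presheaf.stalk x) :=
      (Submodule.subsingleton_iff (X.presheaf.stalk x)).mp (subsingleton_of_bot_eq_top hbot.symm)
    exact not_subsingleton _ this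

theorem setOf_suppM_eq (f : X ⟶ S) (F : X.Modules) (hF : Coh.IsCoh F) :
    {x : X | SuppM f F x} = CohB1.support F := by
  ext x
  exact suppM_iff f F hF x

variable (f : X ⟶ S) [LocallyOfFiniteType f]

/-- on the open set where the local fibre dimension is `≤ D`, closures of points in their fibres
have dimension `≤ D`. -/
theorem fdim_le_of_fibreDimAt_le (D : ℕ) (x ξ : X) (hx : FlatMor.fibreDimAt f x ≤ D)
    (hξ : ξ ⤳ x) : fdim f ξ ≤ D := by
  obtain ⟨ζ, h1, h2, h3⟩ := exists_fibMax_specializes f ξ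
  calc fdim f ξ ≤ fdim f ζ := fdim_mono f h1 h2
    _ = FlatMor.fibreDimAt f ζ := (fibreDimAt_of_fibMax f ζ h3).symm
    _ ≤ D := (h1.trans hξ).mem_open (isOpen_setOf_fibreDimAt_le f D) hx

open Groth.Agent.H99.SkField in
/-- where the local fibre dimension is `≤ D`, the local rings of the fibres have dimension
`≤ D`. -/
theorem ringKrullDim_fibre_stalk_le (D : ℕ) (ξ : X) (hξ : FlatMor.fibreDimAt f ξ ≤ D) :
    ringKrullDim ((f.fiber (f ξ)).presheaf.stalk (f.asFiber ξ)) ≤ (D : WithBot ℕ∞) := by
  let κ := IsLocalRing.ResidueField (S.presheaf.stalk (f ξ))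
  let q : f.fiber (f ξ) ⟶ Spec (CommRingCat.of κ) := f.fiberToSpecResidueField (f ξ)
  haveI : LocallyOfFiniteType q :=
    inferInstanceAs (LocallyOfFiniteType (pullback.snd f (S.fromSpecResidueField (f ξ))))
  have sq1 : IsPullback (f.fiberι (f ξ)) q f (S.fromSpecResidueField (f ξ)) :=
    IsPullback.of_hasPullback _ _
  obtain ⟨w', hw', hle⟩ := exists_gen_ringKrullDim_le_fdim q (f.asFiber ξ)
  have h1 := fdim_baseChange_le f q (f.fiberι (f ξ)) (S.fromSpecResidueField (f ξ)) sq1 w'
  have hwξ : f.fiberι (f ξ) w' ⤳ ξ := by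
    have := hw'.map (f.fiberι (f ξ)).continuous
    rwa [Scheme.Hom.fiberι_asFiber] at this
  exact (hle.trans h1).trans (fdim_le_of_fibreDimAt_le f D ξ _ hξ hwξ)

/-- where the local fibre dimension is `≤ D`, the fibrewise codepth is `≤ D`. -/
theorem cM_of_fibreDimAt_le (F : X.Modules) (D m : ℕ) (hm : D ≤ m) (ξ : X)
    (hξ : FlatMor.fibreDimAt f ξ ≤ D) : CM m f F ξ := by
  show CodepthLEM m ((f.fiber (f ξ)).presheaf.stalk (f.asFiber ξ)) _
  intro _ _ _
  have h4 := ringKrullDim_fibre_stalk_le f D ξ hξ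
  refine (Module.supportDim_le_ringKrullDim _ _).trans (h4.trans ?_)
  have h5 : (0 : WithBot ℕ∞) ≤ ((LocCoh.depth ((f.fiber (f ξ)).presheaf.stalk (f.asFiber ξ))
      (((Scheme.Modules.pullback (f.fiberι (f ξ))).obj F).presheaf.stalk (f.asFiber ξ)) : ℕ∞) :
        WithBot ℕ∞) := by
    rw [← WithBot.coe_zero]
    exact WithBot.coe_le_coe.mpr zero_le
  calc ((D : ℕ) : WithBot ℕ∞) ≤ (m : WithBot ℕ∞) := by exact_mod_cast hm
    _ ≤ _ := le_add_of_nonneg_left h5

/-- `DimGE` in terms of the components of the support. -/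
theorem dimGE_iff (F : X.Modules) (hF : Coh.IsCoh F) (hcl : IsClosed (CohB1.support F)) (e : ℕ)
    (x : X) :
    DimGE e f F x ↔ ∃ d : ℕ, e ≤ d ∧ NdPr (d : WithBot ℕ∞) f (CohB1.support F) x := by
  constructor
  · rintro ⟨w, h1, h2, h3, h4⟩
    have hw : w ∈ CohB1.support F := (suppM_iff f F hF w).mp h3
    obtain ⟨ξ, hξm, hξw, hfξ⟩ : ∃ ξ, RelMax f (CohB1.support F) ξ ∧ ξ ⤳ w ∧ f ξ = f w := by
      obtain ⟨W, ι, hι, hr⟩ := exists_closedImmersion_range (CohB1.support F) hcl
      haveI := hι
      exact exists_relMax_specializes f ι hr w hw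
    obtain ⟨d, hd⟩ := exists_nat_eq_fdim f ξ
    have h5 : fdim f w ≤ fdim f ξ := fdim_mono f hξw hfξ
    refine ⟨d, ?_, ξ, hξm.1, hξw.trans h1, hfξ.trans h2, ?_, hd⟩
    · have : (e : WithBot ℕ∞) ≤ (d : WithBot ℕ∞) := by rw [← hd]; exact h4.trans h5
      exact_mod_cast this
    · intro w' hw' hw'ξ hfw'
      rw [hξm.2 w' hw' hfw' hw'ξ]
  · rintro ⟨d, hed, ξ, hξZ, hξx, hfξ, -, hd⟩
    refine ⟨ξ, hξx, hfξ, (suppM_iff f F hF ξ).mpr hξZ, ?_⟩
    rw [hd]
    exact_mod_cast hed

/-- a set which, on each open where the local fibre dimension is `≤ D`, agrees with a locally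
constructible set, is locally constructible. -/
theorem isLocallyConstructible_of_cover (E : Set X) (ED : ℕ → Set X)
    (hED : ∀ D, IsLocallyConstructible (ED D))
    (h : ∀ (D : ℕ) (x : X), FlatMor.fibreDimAt f x ≤ D → (x ∈ E ↔ x ∈ ED D)) :
    IsLocallyConstructible E := by
  let O : ℕ → X.Opens := fun D =>
    ⟨{x | FlatMor.fibreDimAt f x ≤ D}, isOpen_setOf_fibreDimAt_le f D⟩
  have hcov : IsOpenCover O := by
    rw [IsOpenCover, eq_top_iff]
    intro x _
    obtain ⟨D, hD⟩ := exists_nat_eq_fibreDimAt f x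
    exact Opens.mem_iSup.mpr ⟨D, hD.le⟩
  refine IsLocallyConstructible.of_isOpenCover hcov (fun D => ?_)
  have heq : (Subtype.val ⁻¹' E : Set (O D)) = Subtype.val ⁻¹' (ED D) := by
    ext ⟨x, hx⟩
    exact h D x hx
  show IsLocallyConstructible (Subtype.val ⁻¹' E : Set (O D))
  rw [heq]
  exact (hED D).preimage_of_isOpenEmbedding (O D).2.isOpenEmbedding_subtypeVal

section Cons

variable {X S : Scheme.{u}} (f : X ⟶ S) [LocallyOfFinitePresentation f] (F : X.Modules)
  [Coh.IsQCoh F] (hF : CohB1.IsFP F)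

include hF in
theorem isLocallyConstructible_suppM : IsLocallyConstructible {x : X | SuppM f F x} := by
  rw [setOf_suppM_eq f F (isCoh_of_isFP F hF)]
  exact Groth.Agent.H99.CompDimsSupp.isLocallyConstructible_support F hF

include hF in
theorem isLocallyConstructible_dimGE (e : ℕ) : IsLocallyConstructible {x : X | DimGE e f F x} := by
  have hFc : Coh.IsCoh F := isCoh_of_isFP F hF
  have hcl : IsClosed (CohB1.support F) := Groth.Agent.H99.CompDimsSupp.isClosed_support F hF
  have hT : ∀ d : ℕ, IsLocallyConstructible {x : X | NdPr (d : WithBot ℕ∞) f (CohB1.support F) x} :=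
    fun d => isLocallyConstructible_ndPr _ f _
      (Groth.Agent.H99.CompDimsSupp.isLocallyConstructible_support F hF)
  refine isLocallyConstructible_of_cover f _
    (fun D => ⋃ d ∈ {d : ℕ | e ≤ d ∧ d ≤ D}, {x : X | NdPr (d : WithBot ℕ∞) f (CohB1.support F) x})
    (fun D => IsLocallyConstructible.biUnion
      ((Set.finite_Iic D).subset (fun d hd => hd.2)) (fun d _ => hT d)) ?_
  intro D x hx
  simp only [Set.mem_ofPred_eq, Set.mem_iUnion, exists_prop]
  rw [dimGE_iff f F hFc hcl e x]
  constructor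
  · rintro ⟨d, hed, hd⟩
    refine ⟨d, ⟨hed, ?_⟩, hd⟩
    obtain ⟨ξ, -, hξx, -, -, hdξ⟩ := hd
    have := fdim_le_of_fibreDimAt_le f D x ξ hx hξx
    rw [hdξ] at this
    exact_mod_cast this
  · rintro ⟨d, ⟨hed, -⟩, hd⟩
    exact ⟨d, hed, hd⟩

include hF in
theorem isLocallyConstructible_cM (m : ℕ) : IsLocallyConstructible {x : X | CM m f F x} :=
  isLocallyConstructible_fibCodepthLEM m f F hF

include hF in
/-- **EGA IV 9.9.3 (prof\*)**: the topological rectified depth condition is locally
constructible. -/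
theorem isLocallyConstructible_profGE (n : ℕ) :
    IsLocallyConstructible {x : X | ProfGE n f F x} := by
  have h1 := isLocallyConstructible_suppM f F hF
  have h2 := fun e => isLocallyConstructible_dimGE f F hF e
  have h3 := fun m => isLocallyConstructible_cM f F hF m
  refine isLocallyConstructible_of_cover f _
    (fun D => {x : X | SuppM f F x}ᶜ ∪ ({x : X | DimGE n f F x} ∩
      ⋂ m ∈ {m : ℕ | m < D}, ({x : X | CM m f F x} ∪ {x : X | DimGE (n + m + 1) f F x})))
    (fun D => (Groth.Agent.H17.isLocallyConstructible_compl h1).union ((h2 n).inter ?_)) ?_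
  · have hfin : {m : ℕ | m < D}.Finite := Set.finite_Iio D
    rw [← Set.sInter_image]
    refine IsLocallyConstructible.sInter (hfin.image _) ?_
    rintro _ ⟨m, -, rfl⟩
    exact (h3 m).union (h2 _)
  · intro D x hx
    simp only [Set.mem_ofPred_eq, Set.mem_union, Set.mem_compl_iff, Set.mem_inter_iff,
      Set.mem_iInter]
    unfold ProfGE
    refine or_congr Iff.rfl (and_congr Iff.rfl ?_)
    constructor
    · intro h m _
      exact h m
    · intro h m
      by_cases hm : m < D
      · exact h m hm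
      · exact Or.inl (cM_of_fibreDimAt_le f F D m (not_lt.mp hm) x hx)

end Cons

end Groth.Agent.H99.ProfCons
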