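import Mathlib
import Groth.Agent.H99.ProfCons
import Groth.Agent.H99.DimFunMod
import Groth.Agent.H99.SkField

/-!
# The rectified depth of the fibre modules: identification with the topological form (helper99)

`profGE_iff`: for `f` locally of finite type and `F` coherent, `ProfGE n f F x` holds iff
`n ≤ prof ((F_{f x})_x) + dim cl {x}` (closure in the fibre).
-/

set_option autoImplicit false
set_option backward.isDefEq.respectTransparency.types false
set_option linter.style.haveILetI false
set_option linter.unusedSectionVars false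
universe u

open AlgebraicGeometry CategoryTheory CategoryTheory.Limits TopologicalSpace Topology IsLocalRing
  TensorProduct

namespace Groth.Agent.H99.ProfField

open Groth.Agent.H99.ModPair Groth.Agent.H99.FibModProp Groth.Agent.H99.FibrePropGenM
  Groth.Agent.H99.CodepthFibM Groth.Agent.H99.RkTop Groth.Agent.H99.FibEqui
  Groth.Agent.H99.ProfTop Groth.Agent.H99.ProfCons Groth.Agent.H99.FieldDim
  Groth.Agent.H99.RkField Groth.Agent.H49.FibreStalk Groth.Agent.H99.DimFunMod

variable {P : ∀ (R : Type u) [CommRing R] (M : Type u) [AddCommGroup M] [Module R M], Prop}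

/-- quotient by the zero ideal. -/
theorem quot_bot_iff (hP : IsLocPropM P) (R : Type u) [CommRing R] (M : Type u) [AddCommGroup M]
    [Module R M] (I : Ideal R) (hI : I = ⊥) :
    P (R ⧸ I) (M ⧸ I • (⊤ : Submodule R M)) ↔ P R M := by
  subst hI
  have hbot : (⊥ : Ideal R) • (⊤ : Submodule R M) = ⊥ := Submodule.bot_smul _
  let φ : (M ⧸ (⊥ : Ideal R) • (⊤ : Submodule R M)) ≃ₗ[R] M :=
    Submodule.quotEquivOfEqBot _ hbot
  refine hP.iso_iff (RingEquiv.quotientBot R) φ.toAddEquiv ?_
  intro r x
  obtain ⟨r, rfl⟩ := Ideal.Quotient.mk_surjective r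
  obtain ⟨m, rfl⟩ := Submodule.Quotient.mk_surjective _ x
  rfl

section Field

variable {K : Type u} [Field K] {Y : Scheme.{u}} (p : Y ⟶ Spec (CommRingCat.of K))
  [LocallyOfFiniteType p] (G : Y.Modules) (hG : Coh.IsCoh G)

include hG in
/-- over a field the fibre is the whole scheme. -/
theorem fibMP_field_iff (hP : IsLocPropM P) (ξ : Y) :
    FibMP P p G ξ ↔ P (Y.presheaf.stalk ξ) (G.presheaf.stalk ξ) := by
  haveI : G.IsQuasicoherent := hG.1
  rw [fibMP_iff_quotient hP]
  have h0 : fibreIdeal p ξ = ⊥ := by
    unfold fibreIdeal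
    rw [maximalIdeal_stalk_spec_field, Ideal.map_bot]
  exact quot_bot_iff hP _ _ _ h0

include hG in
theorem suppM_field_iff (y : Y) : SuppM p G y ↔ Nontrivial (G.presheaf.stalk y) :=
  fibMP_field_iff p G hG isLocPropM_nontrivialM y

include hG in
/-- the local dimension of the support over a field. -/
theorem dimGE_field_iff (k : ℕ) (y : Y) (hy : Nontrivial (G.presheaf.stalk y)) (d : ℕ)
    (hd : Module.supportDim (Y.presheaf.stalk y) (G.presheaf.stalk y) = d) :
    DimGE k p G y ↔ k ≤ d + (delta p y).toNat := by
  haveI : IsLocallyNoetherian Y := isLocallyNoetherian p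
  have h0 := delta_nonneg' p y
  constructor
  · rintro ⟨w, h1, -, h3, h4⟩
    have hw : Nontrivial (G.presheaf.stalk w) := (suppM_field_iff p G hG w).mp h3
    have h5 := le_supportDim_stalk (delta p) (isDimFun p) G hG w y h1 hw
    rw [hd] at h5
    rw [fdim_eq] at h4
    have h5' : (delta p w - delta p y).toNat ≤ d := by exact_mod_cast h5
    have h4' : k ≤ (delta p w).toNat := by exact_mod_cast h4
    omega
  · intro hk
    obtain ⟨w, h1, hw, h2⟩ := exists_supportDim_stalk_le (delta p) (isDimFun p) G hG y hy
    rw [hd] at h2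
    have h2' : d ≤ (delta p w - delta p y).toNat := by exact_mod_cast h2
    have h3 : delta p y ≤ delta p w := by
      by_cases hne : w = y
      · rw [hne]
      · exact ((isDimFun p) w y h1 hne).1.le
    refine ⟨w, h1, Subsingleton.elim _ _, (suppM_field_iff p G hG w).mpr hw, ?_⟩
    rw [fdim_eq]
    have : k ≤ (delta p w).toNat := by omega
    exact_mod_cast this

include hG in
/-- **the rectified depth over a field, topological form.** -/
theorem profGE_field_iff (n : ℕ) (y : Y) :
    ProfGE n p G y ↔ (n : WithBot ℕ∞) ≤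
      ((LocCoh.depth (Y.presheaf.stalk y) (G.presheaf.stalk y) : ℕ∞) : WithBot ℕ∞) +
        topologicalKrullDim ↥(closure ({y} : Set Y)) := by
  haveI : IsLocallyNoetherian Y := isLocallyNoetherian p
  haveI := Groth.Agent.H13.finite_stalk_of_isCoh G hG y
  rw [topologicalKrullDim_closure p y]
  unfold ProfGE
  rw [suppM_field_iff p G hG y]
  rcases subsingleton_or_nontrivial (G.presheaf.stalk y) with hs | hn
  · rw [Groth.Agent.H29.CML.depth_eq_top_of_subsingleton]
    constructor
    · intro _
      have : ((⊤ : ℕ∞) : WithBot ℕ∞) + (((delta p y).toNat : ℕ∞) : WithBot ℕ∞) = ((⊤ : ℕ∞) : WithBot ℕ∞) := by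
        rw [← WithBot.coe_add, top_add]
      rw [this]
      exact WithBot.coe_le_coe.mpr le_top
    · intro _
      exact Or.inl (not_nontrivial_iff_subsingleton.mpr hs)
  · obtain ⟨d, hd⟩ := Groth.Agent.H29.CML.exists_nat_supportDim_eq (A := Y.presheaf.stalk y)
      (G.presheaf.stalk y)
    obtain ⟨e, he⟩ := Groth.Agent.H29.CML.exists_nat_depth_eq (A := Y.presheaf.stalk y)
      (G.presheaf.stalk y)
    have hed : e ≤ d := by
      have := Groth.Agent.H29.CML.depth_le_supportDim (A := Y.presheaf.stalk y)
        (G.presheaf.stalk y)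
      rw [hd, he] at this
      exact_mod_cast this
    have hcm : ∀ m : ℕ, CM m p G y ↔ d ≤ e + m := by
      intro m
      unfold CM
      rw [fibMP_field_iff p G hG (isLocPropM_codepthLEM m) y]
      have : CodepthLEM m (Y.presheaf.stalk y) (G.presheaf.stalk y) ↔
          Module.supportDim (Y.presheaf.stalk y) (G.presheaf.stalk y) ≤
            ((LocCoh.depth (Y.presheaf.stalk y) (G.presheaf.stalk y) : ℕ∞) : WithBot ℕ∞) + m :=
        ⟨fun h => h, fun h _ _ _ => h⟩
      rw [this, hd, he]
      constructor
      · intro h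
        exact_mod_cast h
      · intro h
        exact_mod_cast h
    rw [he, dimGE_field_iff p G hG n y hn d hd]
    have hrhs : ((n : ℕ) : WithBot ℕ∞) ≤ (((e : ℕ) : ℕ∞) : WithBot ℕ∞) +
        (((delta p y).toNat : ℕ∞) : WithBot ℕ∞) ↔ n ≤ e + (delta p y).toNat := by
      constructor
      · intro h
        exact_mod_cast h
      · intro h
        exact_mod_cast h
    rw [hrhs]
    constructor
    · rintro (h | ⟨h1, h2⟩)
      · exact (h hn).elim
      · by_cases hde : d = e
        · omega
        · have h3 := h2 (d - e - 1)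
          rw [hcm, dimGE_field_iff p G hG _ y hn d hd] at h3
          omega
    · intro h
      refine Or.inr ⟨by omega, fun m => ?_⟩
      rw [hcm, dimGE_field_iff p G hG _ y hn d hd]
      omega

end Field

section General

variable {X S : Scheme.{u}} (f : X ⟶ S) [LocallyOfFiniteType f] (F : X.Modules)
  (hF : Coh.IsCoh F)

include hF in
/-- **identification of the topological rectified depth condition.** -/
theorem profGE_iff (n : ℕ) (x : X) :
    ProfGE n f F x ↔ (n : WithBot ℕ∞) ≤
      ((LocCoh.depth ((f.fiber (f x)).presheaf.stalk (f.asFiber x))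
        (((Scheme.Modules.pullback (f.fiberι (f x))).obj F).presheaf.stalk (f.asFiber x)) : ℕ∞) :
          WithBot ℕ∞) +
        topologicalKrullDim ↥(closure ({f.asFiber x} : Set ↥(f.fiber (f x)))) := by
  let κ := IsLocalRing.ResidueField (S.presheaf.stalk (f x))
  let q : f.fiber (f x) ⟶ Spec (CommRingCat.of κ) := f.fiberToSpecResidueField (f x)
  haveI : LocallyOfFiniteType q :=
    inferInstanceAs (LocallyOfFiniteType (pullback.snd f (S.fromSpecResidueField (f x))))
  have sq1 : IsPullback (f.fiberι (f x)) q f (S.fromSpecResidueField (f x)) :=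
    IsPullback.of_hasPullback _ _
  have hG : Coh.IsCoh ((Scheme.Modules.pullback (f.fiberι (f x))).obj F) :=
    isCoh_pullback _ F hF
  have h1 := (isFibInvM_profGE n).baseChange f q (f.fiberι (f x)) (S.fromSpecResidueField (f x))
    sq1 inferInstance F hF (f.asFiber x)
  rw [Scheme.Hom.fiberι_asFiber] at h1
  rw [← h1]
  exact profGE_field_iff q _ hG n (f.asFiber x)

end General

end Groth.Agent.H99.ProfField
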