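import Mathlib
import Groth.Agent.H99.ProfField

/-!
# The rectified depth of the fibre modules is locally constructible (helper99; EGA IV 9.9.3)
-/

set_option autoImplicit false
set_option backward.isDefEq.respectTransparency.types false
set_option linter.style.haveILetI false
set_option linter.unusedSectionVars false
universe u

open AlgebraicGeometry CategoryTheory CategoryTheory.Limits TopologicalSpace Topology IsLocalRing

namespace Groth.Agent.H99.ProfMain

open Groth.Agent.H99.ModPair Groth.Agent.H99.FibModProp Groth.Agent.H99.FibrePropGenM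
  Groth.Agent.H99.ProfTop Groth.Agent.H99.ProfCons Groth.Agent.H99.ProfField
  Groth.Agent.H99.FieldDim

variable {X S : Scheme.{u}} (f : X ⟶ S) [LocallyOfFiniteType f] (F : X.Modules)
  (hF : Coh.IsCoh F)

include hF in
/-- the rectified depth of the fibre module at `x` as an element of `ℕ∞`. -/
theorem exists_prof_eq (x : X) :
    ∃ v : ℕ∞, ((LocCoh.depth ((f.fiber (f x)).presheaf.stalk (f.asFiber x))
        (((Scheme.Modules.pullback (f.fiberι (f x))).obj F).presheaf.stalk (f.asFiber x)) : ℕ∞) :
          WithBot ℕ∞) +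
        topologicalKrullDim ↥(closure ({f.asFiber x} : Set ↥(f.fiber (f x)))) =
          ((v : ℕ∞) : WithBot ℕ∞) ∧
      (v = ⊤ ↔ ¬ SuppM f F x) ∧ ∀ k : ℕ, (k : ℕ∞) ≤ v ↔ ProfGE k f F x := by
  let κ := IsLocalRing.ResidueField (S.presheaf.stalk (f x))
  let q : f.fiber (f x) ⟶ Spec (CommRingCat.of κ) := f.fiberToSpecResidueField (f x)
  haveI : LocallyOfFiniteType q :=
    inferInstanceAs (LocallyOfFiniteType (pullback.snd f (S.fromSpecResidueField (f x))))
  haveI := Groth.Agent.H49.CMChart.isLocallyNoetherian_fiber f (f x)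
  have hG : Coh.IsCoh ((Scheme.Modules.pullback (f.fiberι (f x))).obj F) :=
    isCoh_pullback _ F hF
  haveI := Groth.Agent.H13.finite_stalk_of_isCoh _ hG (f.asFiber x)
  have hsum : ((LocCoh.depth ((f.fiber (f x)).presheaf.stalk (f.asFiber x))
        (((Scheme.Modules.pullback (f.fiberι (f x))).obj F).presheaf.stalk (f.asFiber x)) : ℕ∞) :
          WithBot ℕ∞) +
        topologicalKrullDim ↥(closure ({f.asFiber x} : Set ↥(f.fiber (f x)))) =
      ((LocCoh.depth ((f.fiber (f x)).presheaf.stalk (f.asFiber x))
        (((Scheme.Modules.pullback (f.fiberι (f x))).obj F).presheaf.stalk (f.asFiber x)) +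
          ((delta q (f.asFiber x)).toNat : ℕ∞) : ℕ∞) : WithBot ℕ∞) := by
    rw [topologicalKrullDim_closure q (f.asFiber x), WithBot.coe_add]
  refine ⟨_, hsum, ?_, ?_⟩
  · rw [ENat.add_eq_top]
    simp only [ENat.natCast_ne_top, or_false]
    change _ ↔ ¬ Nontrivial _
    constructor
    · intro h hn
      obtain ⟨e, he⟩ := Groth.Agent.H29.CML.exists_nat_depth_eq
        (A := (f.fiber (f x)).presheaf.stalk (f.asFiber x))
        (((Scheme.Modules.pullback (f.fiberι (f x))).obj F).presheaf.stalk (f.asFiber x))
      rw [he] at h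
      exact ENat.natCast_ne_top e h
    · intro h
      haveI := not_nontrivial_iff_subsingleton.mp h
      exact Groth.Agent.H29.CML.depth_eq_top_of_subsingleton _
  · intro k
    rw [profGE_iff f F hF k x, hsum]
    exact (WithBot.coe_le_coe (a := (k : ℕ∞))).symm

theorem enat_eq_natCast_iff (v : ℕ∞) (m : ℕ) :
    v = (m : ℕ∞) ↔ ((m : ℕ∞) ≤ v ∧ ¬ ((m + 1 : ℕ) : ℕ∞) ≤ v) := by
  induction v with
  | top => simp
  | coe a =>
    constructor
    · intro h
      have : a = m := by exact_mod_cast h
      subst this
      refine ⟨le_rfl, ?_⟩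
      intro h2
      have : a + 1 ≤ a := by exact_mod_cast h2
      omega
    · rintro ⟨h1, h2⟩
      have h1' : m ≤ a := by exact_mod_cast h1
      have h2' : ¬ m + 1 ≤ a := fun h => h2 (by exact_mod_cast h)
      have : a = m := by omega
      rw [this]

end Groth.Agent.H99.ProfMain
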