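import Mathlib
import Groth.Agent.H99.ProfMain
import Groth.Agent.H99.CompDims
import Groth.Agent.H29.AB2

/-!
# Associated points of the fibre modules, topological form (helper99)

For `f : X ⟶ S` and an `O_X`-module `F`:
* `fibDepth f F ξ`: the depth of the stalk at `ξ` of the fibre module `F_{f ξ}`;
* `ZP j f F`: the set of points with `prof*_ξ (F_{f ξ}) ≤ j`;
* `AssDim j f F x`: some associated point of `F_{f x}` of dimension `j` specializes to `x`, in
  the topological form `NdPr j f (ZP j f F) x`.
-/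

set_option autoImplicit false
set_option backward.isDefEq.respectTransparency.types false
set_option linter.style.haveILetI false
set_option linter.unusedSectionVars false
universe u

open AlgebraicGeometry CategoryTheory CategoryTheory.Limits TopologicalSpace Topology IsLocalRing

namespace Groth.Agent.H99.AssTop

open Groth.Agent.H99.ModPair Groth.Agent.H99.FibModProp Groth.Agent.H99.FibrePropGenM
  Groth.Agent.H99.ProfTop Groth.Agent.H99.ProfCons Groth.Agent.H99.ProfField
  Groth.Agent.H99.ProfMain Groth.Agent.H99.RkTop Groth.Agent.H99.CompDims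
  Groth.Agent.H99.FibEqui

section Algebra

variable {R : Type u} [CommRing R] [IsLocalRing R] [IsNoetherianRing R]

/-- the maximal ideal is associated iff the depth is zero. -/
theorem isAssociatedPrime_maximalIdeal_iff (M : Type u) [AddCommGroup M] [Module R M]
    [Module.Finite R M] :
    IsAssociatedPrime (maximalIdeal R) M ↔ LocCoh.depth R M = 0 := by
  constructor
  · intro h
    obtain ⟨-, z, hz⟩ := isAssociatedPrime_iff.mp h
    refine Groth.Agent.H29.AB.depth_eq_zero_of_killed M z ?_ ?_
    · rintro rfl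
      have : (1 : R) ∈ maximalIdeal R := by
        rw [hz]
        simp [Submodule.mem_colon_singleton]
      exact (Ideal.ne_top_iff_one _).mp (maximalIdeal.isMaximal _).ne_top this
    · intro a ha
      rw [hz] at ha
      simpa [Submodule.mem_colon_singleton] using ha
  · intro h
    by_contra hcon
    have hcon' : maximalIdeal R ∉ associatedPrimes R M := fun h' =>
      hcon (AssociatedPrimes.mem_iff.mp h')
    have := Groth.Agent.H9.one_le_depth_of_maximalIdeal_notMem_associatedPrimes hcon'
    rw [h] at this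
    simp at this

end Algebra

variable {X S : Scheme.{u}}

/-- the depth of the stalk of the fibre module. -/
noncomputable def fibDepth (f : X ⟶ S) (F : X.Modules) (ξ : X) : ℕ∞ :=
  LocCoh.depth ((f.fiber (f ξ)).presheaf.stalk (f.asFiber ξ))
    (((Scheme.Modules.pullback (f.fiberι (f ξ))).obj F).presheaf.stalk (f.asFiber ξ))

/-- `fdim` is the dimension of the closure in the fibre scheme. -/
theorem fdim_eq_dim_closure_asFiber (f : X ⟶ S) (ξ : X) :
    fdim f ξ = topologicalKrullDim ↥(closure ({f.asFiber ξ} : Set ↥(f.fiber (f ξ)))) := by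
  rw [Groth.Agent.H17.Chev.dim_closure_fiber_eq f (f ξ) (f.asFiber ξ)]
  have h2 : (f.fiberι (f ξ)).base (f.asFiber ξ) = ξ := Scheme.Hom.fiberι_asFiber f ξ
  rw [h2]
  rfl

section LFT

variable (f : X ⟶ S) [LocallyOfFiniteType f] (F : X.Modules) (hF : Coh.IsCoh F)

include hF in
/-- the topological rectified depth condition in terms of `fibDepth` and `fdim`. -/
theorem profGE_iff' (n : ℕ) (ξ : X) (t : ℕ) (ht : fdim f ξ = t) :
    ProfGE n f F ξ ↔ (n : ℕ∞) ≤ fibDepth f F ξ + t := by
  rw [profGE_iff f F hF n ξ, ← fdim_eq_dim_closure_asFiber, ht]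
  unfold fibDepth
  rw [show ((t : ℕ) : WithBot ℕ∞) = (((t : ℕ) : ℕ∞) : WithBot ℕ∞) from rfl, ← WithBot.coe_add]
  exact WithBot.coe_le_coe (a := (n : ℕ∞))

/-- the set of points with `prof* ≤ j`. -/
def ZP (j : ℕ) : ∀ ⦃X S : Scheme.{u}⦄, (X ⟶ S) → X.Modules → Set X := fun _ _ f F =>
  {ξ | ¬ ProfGE (j + 1) f F ξ}

/-- some associated point of the fibre module of dimension `j` specializes to `x`. -/
def AssDim (j : ℕ) : ∀ ⦃X S : Scheme.{u}⦄, (X ⟶ S) → X.Modules → X → Prop := fun _ _ f F x =>
  NdPr (j : WithBot ℕ∞) f (ZP j f F) x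

include hF in
theorem mem_zP_iff (j : ℕ) (ξ : X) (t : ℕ) (ht : fdim f ξ = t) :
    ξ ∈ ZP j f F ↔ fibDepth f F ξ + t ≤ j := by
  unfold ZP
  rw [Set.mem_ofPred_eq, profGE_iff' f F hF (j + 1) ξ t ht, not_le]
  rcases eq_or_ne (fibDepth f F ξ) ⊤ with h | h
  · rw [h, top_add]
    simp
  · obtain ⟨e, he⟩ := ENat.ne_top_iff_exists.mp h
    rw [← he]
    constructor
    · intro h1
      have : e + t < j + 1 := by exact_mod_cast h1
      have : e + t ≤ j := by omega
      exact_mod_cast this
    · intro h1
      have : e + t ≤ j := by exact_mod_cast h1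
      have : e + t < j + 1 := by omega
      exact_mod_cast this

include hF in
/-- **`AssDim` in terms of depth zero points.** -/
theorem assDim_iff (j : ℕ) (x : X) :
    AssDim j f F x ↔ ∃ ξ : X, ξ ⤳ x ∧ f ξ = f x ∧ fdim f ξ = j ∧ fibDepth f F ξ = 0 := by
  constructor
  · rintro ⟨ξ, hξZ, hξx, hfξ, -, hd⟩
    refine ⟨ξ, hξx, hfξ, hd, ?_⟩
    have h1 := (mem_zP_iff f F hF j ξ j hd).mp hξZ
    rcases eq_or_ne (fibDepth f F ξ) ⊤ with h | h
    · rw [h, top_add] at h1
      simp at h1
    · obtain ⟨e, he⟩ := ENat.ne_top_iff_exists.mp h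
      rw [← he] at h1 ⊢
      have : e + j ≤ j := by exact_mod_cast h1
      have : e = 0 := by omega
      rw [this]
      rfl
  · rintro ⟨ξ, hξx, hfξ, hd, h0⟩
    refine ⟨ξ, ?_, hξx, hfξ, ?_, hd⟩
    · rw [mem_zP_iff f F hF j ξ j hd, h0, zero_add]
    · intro w hw hwξ hfw
      obtain ⟨m, hm⟩ := exists_nat_eq_fdim f w
      have h1 := (mem_zP_iff f F hF j w m hm).mp hw
      have h2 : (m : ℕ∞) ≤ j := le_trans (le_add_self) h1
      have h3 : m ≤ j := by exact_mod_cast h2
      refine specializes_of_fdim_le f hwξ hfw ?_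
      rw [hm, hd]
      exact_mod_cast h3

end LFT

end Groth.Agent.H99.AssTop
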