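import Mathlib
import Groth.Agent.H99.CodepthOpenM

/-!
# Openness of fibrewise properties of flat modules from generization over discrete valuation rings
(helper99; EGA IV 12.1.1 pattern)

If a pointwise property `Pr f F x` is invariant (`IsFibInvM`), locally constructible for morphisms
locally of finite presentation and modules of finite presentation, and generizes from the closed
fibre over every discrete valuation ring (for flat coherent modules), then it defines an open set
for every `f` locally of finite presentation and every `f`-flat module of finite presentation.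
-/

set_option autoImplicit false
set_option backward.isDefEq.respectTransparency.types false
set_option linter.style.haveILetI false
set_option linter.unusedSectionVars false
universe u

open AlgebraicGeometry CategoryTheory CategoryTheory.Limits TopologicalSpace Topology

namespace Groth.Agent.H99.FibrePropDVRM

open Groth.Agent.H99.ModPair Groth.Agent.H99.FibModProp Groth.Agent.H99.FibrePropGenM
  Groth.Agent.H99.FibrePropGenR Groth.Agent.H99.FibrePropOpenM

variable {Pr : ∀ ⦃X S : Scheme.{u}⦄, (X ⟶ S) → X.Modules → X → Prop}

/-- generization from the closed fibre over discrete valuation rings. -/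
def GenOverDVR (Pr : ∀ ⦃X S : Scheme.{u}⦄, (X ⟶ S) → X.Modules → X → Prop) : Prop :=
  ∀ (V : Type u) [CommRing V] [IsDomain V] [IsDiscreteValuationRing V] ⦃Y : Scheme.{u}⦄
    (g : Y ⟶ Spec (CommRingCat.of V)), LocallyOfFiniteType g → ∀ G : Y.Modules, Coh.IsCoh G →
    FlatMod.IsFlatOver g G → ∀ z z' : Y, z' ⤳ z → g z = IsLocalRing.closedPoint V →
    Pr g G z → Pr g G z'

/-- local constructibility for finitely presented data. -/
def IsLCM (Pr : ∀ ⦃X S : Scheme.{u}⦄, (X ⟶ S) → X.Modules → X → Prop) : Prop :=
  ∀ ⦃X S : Scheme.{u}⦄ (f : X ⟶ S), LocallyOfFinitePresentation f → ∀ F : X.Modules,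
    Coh.IsQCoh F → CohB1.IsFP F → IsLocallyConstructible {x : X | Pr f F x}

theorem openOverQReg_of_genOverDVR (h : IsFibInvM Pr) (hlc : IsLCM Pr) (hdvr : GenOverDVR Pr) :
    OpenOverQReg Pr := by
  intro A hQ X f hft F hF hfl
  haveI := hft
  haveI : IsNoetherianRing A := hQ.isNoetherianRing
  haveI : IsLocallyNoetherian X := LocallyOfFiniteType.isLocallyNoetherian f
  haveI : F.IsQuasicoherent := hF.1
  haveI : SheafOfModules.IsFiniteType (R := X.ringCatSheaf) F := hF.2
  haveI : LocallyOfFinitePresentation f :=
    Groth.Agent.H70.RegLocus.locallyOfFinitePresentation_of_isLocallyNoetherian f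
  have hFP : CohB1.IsFP F := Groth.Agent.H70.RegLocus.isFinitePresentation_of_isFiniteType F
  have hlc' := hlc f inferInstance F hF.1 hFP
  refine Groth.Agent.H99.DVRGen.isOpen_of_isLocallyConstructible_of_stableUnderGeneralization hlc' ?_
  refine Groth.Agent.H99.DVRGen.stableUnderGeneralization_of_dvr f _ ?_
  intro V _ _ _ g z z' hz'z hzcl hz
  have hpb : IsPullback (pullback.fst f g) (pullback.snd f g) f g := IsPullback.of_hasPullback f g
  have hbc := h.baseChange f (pullback.snd f g) (pullback.fst f g) g hpb inferInstance F hF
  have hG : Coh.IsCoh ((Scheme.Modules.pullback (pullback.fst f g)).obj F) :=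
    isCoh_pullback _ F hF
  have hflV : FlatMod.IsFlatOver (pullback.snd f g)
      ((Scheme.Modules.pullback (pullback.fst f g)).obj F) := fun w =>
    Groth.Agent.H71.QCoh.isFlatOverAt_baseChange hpb F w (hfl _)
  have h1 : Pr (pullback.snd f g) ((Scheme.Modules.pullback (pullback.fst f g)).obj F) z :=
    (hbc z).mpr hz
  have h2 := hdvr V (pullback.snd f g) inferInstance _ hG hflV z z' hz'z hzcl h1
  exact (hbc z').mp h2

/-- **openness from generization over discrete valuation rings.** -/
theorem isOpen_of_genOverDVR (h : IsFibInvM Pr) (hlc : IsLCM Pr) (hdvr : GenOverDVR Pr)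
    {X S : Scheme.{u}} (f : X ⟶ S) [LocallyOfFinitePresentation f] (F : X.Modules) [Coh.IsQCoh F]
    (hF : CohB1.IsFP F) (hfl : FlatMod.IsFlatOver f F) :
    IsOpen {x : X | Pr f F x} :=
  Groth.Agent.H99.FibrePropOpenM.isOpen h (openOverQReg_of_genOverDVR h hlc hdvr) f F hF hfl

end Groth.Agent.H99.FibrePropDVRM
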