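import Mathlib
import Groth.Agent.H99.AssTop
import Groth.Agent.H99.ProfCons
import Groth.Agent.H99.FibrePropDVRM

/-!
# Invariance and constructibility of `AssDim` (helper99)
-/

set_option autoImplicit false
set_option backward.isDefEq.respectTransparency.types false
set_option linter.style.haveILetI false
set_option linter.unusedSectionVars false
universe u

open AlgebraicGeometry CategoryTheory CategoryTheory.Limits TopologicalSpace Topology IsLocalRing

namespace Groth.Agent.H99.AssInv

open Groth.Agent.H99.ModPair Groth.Agent.H99.FibModProp Groth.Agent.H99.FibrePropGenM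
  Groth.Agent.H99.ProfTop Groth.Agent.H99.ProfCons Groth.Agent.H99.ProfField
  Groth.Agent.H99.ProfMain Groth.Agent.H99.RkTop Groth.Agent.H99.CompDims
  Groth.Agent.H99.FibEqui Groth.Agent.H99.AssTop Groth.Agent.H99.FibrePropDVRM

theorem zP_iso (j : ℕ) {X S : Scheme.{u}} (f : X ⟶ S) (F G : X.Modules) (i : F ≅ G) :
    ZP j f F = ZP j f G := by
  ext ξ
  unfold ZP
  simp only [Set.mem_ofPred_eq]
  rw [(isFibInvM_profGE (j + 1)).iso f F G i ξ]

theorem zP_baseChange (j : ℕ) {X S X' S' : Scheme.{u}} (f : X ⟶ S) (f' : X' ⟶ S') (g' : X' ⟶ X)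
    (g : S' ⟶ S) (hc : IsPullback g' f' f g) (hft : LocallyOfFiniteType f) (F : X.Modules)
    (hF : Coh.IsCoh F) :
    ZP j f' ((Scheme.Modules.pullback g').obj F) = g' ⁻¹' ZP j f F := by
  ext ξ
  unfold ZP
  simp only [Set.mem_ofPred_eq, Set.mem_preimage]
  rw [(isFibInvM_profGE (j + 1)).baseChange f f' g' g hc hft F hF ξ]

theorem zP_openImm (j : ℕ) {U X S : Scheme.{u}} (i : U ⟶ X) (f : X ⟶ S) (hi : IsOpenImmersion i)
    (hft : LocallyOfFiniteType f) (F : X.Modules) (hF : Coh.IsCoh F) :
    ZP j (i ≫ f) ((Scheme.Modules.pullback i).obj F) = i ⁻¹' ZP j f F := by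
  ext ξ
  unfold ZP
  simp only [Set.mem_ofPred_eq, Set.mem_preimage]
  rw [(isFibInvM_profGE (j + 1)).openImm i f hi hft F hF ξ]

theorem isFibInvM_assDim (j : ℕ) : IsFibInvM (AssDim.{u} j) where
  iso := by
    intro X S f F G i x
    unfold AssDim
    rw [zP_iso j f F G i]
  baseChange := by
    intro X S X' S' f f' g' g hc hft F hF x'
    haveI := hft
    unfold AssDim
    rw [zP_baseChange j f f' g' g hc hft F hF]
    exact ndPr_baseChange f f' g' g hc _ _ x'
  openImm := by
    intro U X S i f hi hft F hF u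
    haveI := hft
    haveI := hi
    unfold AssDim
    rw [zP_openImm j i f hi hft F hF]
    exact ndPr_openImm i f _ _ u

theorem isLCM_assDim (j : ℕ) : IsLCM (AssDim.{u} j) := by
  intro X S f hf F hq hF
  haveI := hf
  haveI := hq
  unfold AssDim
  refine isLocallyConstructible_ndPr _ f _ ?_
  exact Groth.Agent.H17.isLocallyConstructible_compl (isLocallyConstructible_profGE f F hF (j + 1))

/-- every associated point of the fibre module specializing to `x` has dimension in `Φ`. -/
def PrΦ (Φ : Finset ℕ) : ∀ ⦃X S : Scheme.{u}⦄, (X ⟶ S) → X.Modules → X → Prop := fun _ _ f F x =>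
  ∀ j : ℕ, j ∉ Φ → ¬ AssDim j f F x

theorem isFibInvM_prΦ (Φ : Finset ℕ) : IsFibInvM (PrΦ.{u} Φ) where
  iso := by
    intro X S f F G i x
    unfold PrΦ
    refine forall_congr' fun j => imp_congr Iff.rfl (not_congr ?_)
    exact (isFibInvM_assDim j).iso f F G i x
  baseChange := by
    intro X S X' S' f f' g' g hc hft F hF x'
    unfold PrΦ
    refine forall_congr' fun j => imp_congr Iff.rfl (not_congr ?_)
    exact (isFibInvM_assDim j).baseChange f f' g' g hc hft F hF x'
  openImm := by
    intro U X S i f hi hft F hF u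
    unfold PrΦ
    refine forall_congr' fun j => imp_congr Iff.rfl (not_congr ?_)
    exact (isFibInvM_assDim j).openImm i f hi hft F hF u

theorem assDim_le_of_fibreDimAt_le {X S : Scheme.{u}} (f : X ⟶ S) [LocallyOfFiniteType f]
    (F : X.Modules) (j D : ℕ) (x : X) (hx : FlatMor.fibreDimAt f x ≤ D) (h : AssDim j f F x) :
    j ≤ D := by
  obtain ⟨ξ, -, hξx, -, -, hd⟩ := h
  have := fdim_le_of_fibreDimAt_le f D x ξ hx hξx
  rw [hd] at this
  exact_mod_cast this

theorem isLCM_prΦ (Φ : Finset ℕ) : IsLCM (PrΦ.{u} Φ) := by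
  intro X S f hf F hq hF
  haveI := hf
  haveI := hq
  refine isLocallyConstructible_of_cover f _
    (fun D => (⋃ j ∈ {j : ℕ | j ≤ D ∧ j ∉ Φ}, {x : X | AssDim j f F x})ᶜ)
    (fun D => Groth.Agent.H17.isLocallyConstructible_compl (IsLocallyConstructible.biUnion
      ((Set.finite_Iic D).subset (fun d hd => hd.1)) (fun j _ =>
        isLCM_assDim j f hf F hq hF))) ?_
  intro D x hx
  simp only [Set.mem_ofPred_eq, Set.mem_iUnion, Set.mem_compl_iff, exists_prop, not_exists,
    not_and]
  unfold PrΦ
  constructor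
  · intro h j hj
    exact h j hj.2
  · intro h j hj hA
    exact h j ⟨assDim_le_of_fibreDimAt_le f F j D x hx hA, hj⟩ hA

end Groth.Agent.H99.AssInv
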