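import Mathlib

/-!
# Properties holding at all points of a fibre (helper99)

For a closed map `f : X ⟶ Y` and a predicate `Q y x'` on the points `x'` of the fibres `X_y`, if
the set of `x` with `Q (f x) (f.asFiber x)` is open in `X`, then the set of `y` such that `Q y x'`
holds for all `x' ∈ X_y` is open in `Y`.
-/

set_option autoImplicit false
universe u

open AlgebraicGeometry CategoryTheory CategoryTheory.Limits TopologicalSpace Topology

namespace Groth.Agent.H99.FibForall

variable {X Y : Scheme.{u}}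

theorem fiberι_apply' (f : X ⟶ Y) (y : Y) (x' : f.fiber y) : f (f.fiberι y x') = y := by
  have hmem : f.fiberι y x' ∈ Set.range (f.fiberι y) := ⟨x', rfl⟩
  rw [f.range_fiberι y] at hmem
  exact hmem

theorem fiber_pred_iff (f : X ⟶ Y) (Q : ∀ y : Y, f.fiber y → Prop) (x : X) (y : Y) (hy : f x = y)
    (z0 : f.fiber y) (hz : f.fiberι y z0 = x) : Q y z0 ↔ Q (f x) (f.asFiber x) := by
  subst hy
  have : z0 = f.asFiber x := by
    apply (f.fiberι (f x)).isEmbedding.injective
    rw [hz, Scheme.Hom.fiberι_asFiber]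
  rw [this]

theorem setOf_forall_fiber_eq (f : X ⟶ Y) (Q : ∀ y : Y, f.fiber y → Prop) :
    {y : Y | ∀ x' : f.fiber y, Q y x'} = (f '' {x : X | Q (f x) (f.asFiber x)}ᶜ)ᶜ := by
  ext y
  simp only [Set.mem_ofPred_eq, Set.mem_compl_iff, Set.mem_image, not_exists, not_and]
  constructor
  · intro hy x hx hxy
    subst hxy
    exact hx (hy (f.asFiber x))
  · intro hy x'
    have hfx : f (f.fiberι y x') = y := fiberι_apply' f y x'
    have h1 : Q (f (f.fiberι y x')) (f.asFiber (f.fiberι y x')) := by
      by_contra hcon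
      exact hy (f.fiberι y x') hcon hfx
    exact (fiber_pred_iff f Q (f.fiberι y x') y hfx x' rfl).mpr h1

theorem isOpen_setOf_forall_fiber (f : X ⟶ Y) (hcl : IsClosedMap f)
    (Q : ∀ y : Y, f.fiber y → Prop) (h : IsOpen {x : X | Q (f x) (f.asFiber x)}) :
    IsOpen {y : Y | ∀ x' : f.fiber y, Q y x'} := by
  rw [setOf_forall_fiber_eq]
  exact (hcl _ h.isClosed_compl).isOpen_compl

end Groth.Agent.H99.FibForall
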