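import Mathlib
import Groth.Agent.H99.AssInv
import Groth.Agent.H99.FibForall
import Groth.Agent.H48.CycFib
import Groth.Prelude.Def_FDesc

/-!
# Associated points of the fibre modules: statement form versus topological form (helper99)
-/

set_option autoImplicit false
set_option backward.isDefEq.respectTransparency.types false
set_option linter.style.haveILetI false
set_option linter.unusedSectionVars false
universe u

open AlgebraicGeometry CategoryTheory CategoryTheory.Limits TopologicalSpace Topology IsLocalRing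

namespace Groth.Agent.H99.AssBridge

open Groth.Agent.H99.ModPair Groth.Agent.H99.FibModProp Groth.Agent.H99.FibrePropGenM
  Groth.Agent.H99.ProfTop Groth.Agent.H99.ProfCons Groth.Agent.H99.ProfField
  Groth.Agent.H99.ProfMain Groth.Agent.H99.RkTop Groth.Agent.H99.CompDims
  Groth.Agent.H99.FibEqui Groth.Agent.H99.AssTop Groth.Agent.H99.FibrePropDVRM
  Groth.Agent.H99.AssInv Groth.Agent.H99.FibForall

variable {X S : Scheme.{u}} (f : X ⟶ S) [LocallyOfFiniteType f] (F : X.Modules)
  (hF : Coh.IsCoh F)

include hF in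
/-- associated points of the fibre module are the points of depth zero. -/
theorem mem_ass_fibre_iff (y : S) (z : f.fiber y) :
    z ∈ AssSch.Ass ((Scheme.Modules.pullback (f.fiberι y)).obj F) ↔
      LocCoh.depth ((f.fiber y).presheaf.stalk z)
        (((Scheme.Modules.pullback (f.fiberι y)).obj F).presheaf.stalk z) = 0 := by
  let κ := IsLocalRing.ResidueField (S.presheaf.stalk y)
  let q : f.fiber y ⟶ Spec (CommRingCat.of κ) := f.fiberToSpecResidueField y
  haveI : LocallyOfFiniteType q :=
    inferInstanceAs (LocallyOfFiniteType (pullback.snd f (S.fromSpecResidueField y)))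
  haveI : IsLocallyNoetherian (f.fiber y) := LocallyOfFiniteType.isLocallyNoetherian q
  have hG : Coh.IsCoh ((Scheme.Modules.pullback (f.fiberι y)).obj F) :=
    isCoh_pullback _ F hF
  haveI := Groth.Agent.H13.finite_stalk_of_isCoh _ hG z
  exact isAssociatedPrime_maximalIdeal_iff _

include hF in
theorem mem_ass_fibre_iff_fibDepth (y : S) (z : f.fiber y) :
    z ∈ AssSch.Ass ((Scheme.Modules.pullback (f.fiberι y)).obj F) ↔
      fibDepth f F (f.fiberι y z) = 0 := by
  rw [mem_ass_fibre_iff f F hF y z]
  exact fiber_pred_iff f (fun y z => LocCoh.depth ((f.fiber y).presheaf.stalk z)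
        (((Scheme.Modules.pullback (f.fiberι y)).obj F).presheaf.stalk z) = 0) (f.fiberι y z) y
    (fiberι_apply' f y z) z rfl

theorem dim_closure_fibre_eq (y : S) (z : f.fiber y) :
    topologicalKrullDim ↥(closure ({z} : Set ↥(f.fiber y))) = fdim f (f.fiberι y z) := by
  have := fiber_pred_iff f (fun y z => topologicalKrullDim ↥(closure ({z} : Set ↥(f.fiber y))) =
    fdim f (f.fiberι y z)) (f.fiberι y z) y (fiberι_apply' f y z) z rfl
  rw [this]
  show topologicalKrullDim _ = fdim f (f.fiberι _ (f.asFiber (f.fiberι y z)))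
  rw [Scheme.Hom.fiberι_asFiber]
  exact (fdim_eq_dim_closure_asFiber f _).symm

include hF in
/-- **bridge**: the statement form of "all associated points through `x` have dimension in `Φ`". -/
theorem prΦ_iff (Φ : Finset ℕ) (x : X) :
    (∀ z ∈ AssSch.Ass ((Scheme.Modules.pullback (f.fiberι (f.base x))).obj F),
      f.asFiber x ∈ closure {z} →
        ∃ n ∈ Φ, topologicalKrullDim ↥(closure ({z} : Set ↥(f.fiber (f.base x)))) =
          (n : WithBot ℕ∞)) ↔ PrΦ Φ f F x := by
  constructor
  · intro h j hj hA
    obtain ⟨ξ, hξx, hfξ, hd, h0⟩ := (assDim_iff f F hF j x).mp hA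
    obtain ⟨z, hz⟩ := mem_range_fiberι f (f x) ξ hfξ
    have hzA : z ∈ AssSch.Ass ((Scheme.Modules.pullback (f.fiberι (f.base x))).obj F) := by
      rw [mem_ass_fibre_iff_fibDepth f F hF (f x) z, hz]
      exact h0
    have hsp : z ⤳ f.asFiber x := by
      rw [← Groth.Agent.H48.CycFib.fiberι_specializes_iff, hz, Scheme.Hom.fiberι_asFiber]
      exact hξx
    obtain ⟨n, hn, hdn⟩ := h z hzA (specializes_iff_mem_closure.mp hsp)
    rw [dim_closure_fibre_eq f (f x) z, hz, hd] at hdn
    have : j = n := by exact_mod_cast hdn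
    exact hj (this ▸ hn)
  · intro h z hzA hcl
    have hsp : z ⤳ f.asFiber x := specializes_iff_mem_closure.mpr hcl
    have hξx : f.fiberι (f x) z ⤳ x := by
      have := (Groth.Agent.H48.CycFib.fiberι_specializes_iff f (f x) z (f.asFiber x)).mpr hsp
      rwa [Scheme.Hom.fiberι_asFiber] at this
    have h0 : fibDepth f F (f.fiberι (f x) z) = 0 :=
      (mem_ass_fibre_iff_fibDepth f F hF (f x) z).mp hzA
    obtain ⟨j, hj⟩ := exists_nat_eq_fdim f (f.fiberι (f x) z)
    have hA : AssDim j f F x :=
      (assDim_iff f F hF j x).mpr ⟨_, hξx, fiberι_apply' f (f x) z, hj, h0⟩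
    refine ⟨j, ?_, ?_⟩
    · by_contra hcon
      exact h j hcon hA
    · rw [dim_closure_fibre_eq f (f x) z, hj]

end Groth.Agent.H99.AssBridge
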