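import Groth.Agent.H99.FibClosure
import Groth.Agent.H99.FibrePropGenD
import Groth.Agent.H17.ProConsCompl

/-!
# The fibrewise closure of a locally constructible subset is locally constructible
(helper99; EGA IV 9.5.1–9.5.4; for S3427, S3428)
-/

set_option autoImplicit false
set_option linter.style.haveILetI false
universe u

open CategoryTheory CategoryTheory.Limits AlgebraicGeometry TopologicalSpace Topology

namespace Groth.Agent.H99.FibClosureMain

open Groth.Agent.H99.FibClosure

theorem isGoodGenD_fibCl : Groth.Agent.H99.FibrePropGenD.IsGoodGenD FibCl.{u} where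
  baseChange := fun X S X' S' f f' g' g h _ Z x' => fibCl_baseChange f f' g' g h Z x'
  openImm := fun U X S j f hj _ Z u => by
    have := hj
    exact fibCl_openImm j f Z u
  generic := fun X S f hN hI hlft hqc Z hZ => by
    have := hN
    have := hI
    have := hlft
    have := hqc
    exact generic f Z hZ

/-- the fibrewise closure of a locally constructible subset is locally constructible. -/
theorem isLocallyConstructible_fibCl {X S : Scheme.{u}} (f : X ⟶ S)
    [LocallyOfFinitePresentation f] (Z : Set X) (hZ : IsLocallyConstructible Z) :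
    IsLocallyConstructible {x : X | x ∈ closure (Z ∩ f ⁻¹' {f x})} :=
  Groth.Agent.H99.FibrePropGenD.isLocallyConstructible isGoodGenD_fibCl f Z hZ

/-- **EGA IV 9.5.3**: the set of points of the base over which `Z` is dense in `Z'` (in the
fibres). -/
theorem isLocallyConstructible_dense {X S : Scheme.{u}} (f : X ⟶ S)
    [LocallyOfFinitePresentation f] [QuasiCompact f] (Z Z' : Set X)
    (hZ : IsLocallyConstructible Z) (hZ' : IsLocallyConstructible Z') :
    IsLocallyConstructible {s : S | Z' ∩ f ⁻¹' {s} ⊆ closure (Z ∩ f ⁻¹' {s})} := by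
  have h1 := isLocallyConstructible_fibCl f Z hZ
  have h2 := hZ'.inter (Groth.Agent.H17.isLocallyConstructible_compl h1)
  have h3 := Groth.Agent.H17.isLocallyConstructible_compl (f.isLocallyConstructible_image h2)
  have hE : {s : S | Z' ∩ f ⁻¹' {s} ⊆ closure (Z ∩ f ⁻¹' {s})} =
      (f '' (Z' ∩ {x : X | x ∈ closure (Z ∩ f ⁻¹' {f x})}ᶜ))ᶜ := by
    ext s
    simp only [Set.mem_ofPred_eq, Set.mem_compl_iff, Set.mem_image, Set.mem_inter_iff, not_exists,
      not_and]
    constructor
    · rintro hs x ⟨hxZ', hxn⟩ rfl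
      exact hxn (hs ⟨hxZ', rfl⟩)
    · rintro hs x ⟨hxZ', hxs⟩
      have hxs' : f x = s := hxs
      subst hxs'
      by_contra hn
      exact hs x ⟨hxZ', hn⟩ rfl
  rw [hE]
  exact h3

/-- **EGA IV 9.5.4**: the set of points of the base over which `Z` is closed in the fibre. -/
theorem isLocallyConstructible_closed {X S : Scheme.{u}} (f : X ⟶ S)
    [LocallyOfFinitePresentation f] [QuasiCompact f] (Z : Set X)
    (hZ : IsLocallyConstructible Z) :
    IsLocallyConstructible {s : S | IsClosed (Subtype.val ⁻¹' Z : Set ↥(f ⁻¹' {s}))} := by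
  have h1 := isLocallyConstructible_fibCl f Z hZ
  have h2 := h1.inter (Groth.Agent.H17.isLocallyConstructible_compl hZ)
  have h3 := Groth.Agent.H17.isLocallyConstructible_compl (f.isLocallyConstructible_image h2)
  have hE : {s : S | IsClosed (Subtype.val ⁻¹' Z : Set ↥(f ⁻¹' {s}))} =
      (f '' ({x : X | x ∈ closure (Z ∩ f ⁻¹' {f x})} ∩ Zᶜ))ᶜ := by
    ext s
    simp only [Set.mem_ofPred_eq, Set.mem_compl_iff, Set.mem_image, Set.mem_inter_iff, not_exists,
      not_and]
    rw [← closure_subset_iff_isClosed, Groth.Agent.H12.closure_preimage_val]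
    constructor
    · rintro hs x ⟨hxc, hxZ⟩ rfl
      exact hxZ (hs (a := ⟨x, rfl⟩) hxc)
    · rintro hs ⟨x, hxs⟩ hxc
      have hxs' : f x = s := hxs
      subst hxs'
      by_contra hn
      exact hs x ⟨hxc, hn⟩ rfl
  rw [hE]
  exact h3

end Groth.Agent.H99.FibClosureMain
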