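import Mathlib
import Groth.Agent.H54.ProjDimTheory6
import Groth.Agent.H99.FieldDim2

/-!
# Transporting the affine dimension theorem from `𝔸(ULift (Fin N); Spec k)` to
`PrimeSpectrum (MvPolynomial (Fin N) k)` (helper99; for S7675)
-/

set_option autoImplicit false
set_option linter.style.haveILetI false
universe u
open AlgebraicGeometry TopologicalSpace CategoryTheory

namespace Groth.Agent.H99.AffDimTransport

section top

variable {T : Type*} [TopologicalSpace T]

/-- Components of an irreducible subspace have its dimension. -/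
theorem dim_component_of_isIrreducible (S : Set T) (hS : IsIrreducible S)
    (Z : Set ↥S) (hZ : Z ∈ irreducibleComponents ↥S) :
    topologicalKrullDim ↥Z = topologicalKrullDim ↥S := by
  haveI : IrreducibleSpace ↥S := isIrreducible_iff_irreducibleSpace.mp hS
  rw [irreducibleComponents_eq_singleton, Set.mem_singleton_iff] at hZ
  subst hZ
  exact Groth.Agent.H99.FieldDim.topologicalKrullDim_univ ↥S

/-- A maximal irreducible subset `V` of `W` gives an irreducible component of `↥W`. -/
theorem preimage_mem_irreducibleComponents (V W : Set T) (hVW : V ⊆ W) (hV : IsIrreducible V)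
    (hmax : ∀ S : Set T, IsIrreducible S → V ⊆ S → S ⊆ W → S ⊆ V) :
    (Subtype.val ⁻¹' V : Set ↥W) ∈ irreducibleComponents ↥W := by
  have himg : (Subtype.val ⁻¹' V : Set ↥W) = Set.range (Set.inclusion hVW) := by
    ext z
    constructor
    · intro hz; exact ⟨⟨z.1, hz⟩, Subtype.ext rfl⟩
    · rintro ⟨v, rfl⟩; exact v.2
  refine ⟨?_, ?_⟩
  · rw [himg, ← Set.image_univ]
    haveI : IrreducibleSpace ↥V := isIrreducible_iff_irreducibleSpace.mp hV
    exact (IrreducibleSpace.isIrreducible_univ ↥V).image _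
      (continuous_inclusion hVW).continuousOn
  · intro Z' hZ' hle
    have h1 : IsIrreducible (Subtype.val '' Z') := hZ'.image _ continuous_subtype_val.continuousOn
    have h2 : V ⊆ Subtype.val '' Z' := by
      intro v hv
      exact ⟨⟨v, hVW hv⟩, hle hv, rfl⟩
    have h3 : Subtype.val '' Z' ⊆ W := by
      rintro _ ⟨z, -, rfl⟩; exact z.2
    intro z hz
    exact hmax _ h1 h2 h3 ⟨z, hz, rfl⟩

theorem dim_preimage_val (V W : Set T) (hVW : V ⊆ W) :
    topologicalKrullDim ↥(Subtype.val ⁻¹' V : Set ↥W) = topologicalKrullDim ↥V := by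
  rw [Groth.Agent.H54.topologicalKrullDim_image_val W (Subtype.val ⁻¹' V : Set ↥W)]
  have : (Subtype.val '' (Subtype.val ⁻¹' V : Set ↥W)) = V := by
    rw [Subtype.image_preimage_coe]
    exact Set.inter_eq_right.mpr hVW
  rw [this]

theorem topologicalKrullDim_eq_of_isEmbedding {A B : Type*} [TopologicalSpace A]
    [TopologicalSpace B] (g : A → B) (hg : Topology.IsEmbedding g) (S : Set B)
    (hS : Set.range g = S) : topologicalKrullDim A = topologicalKrullDim ↥S := by
  subst hS
  exact IsHomeomorph.topologicalKrullDim_eq _ hg.toHomeomorph.isHomeomorph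

theorem dim_image_homeomorph {T' : Type*} [TopologicalSpace T'] (h : T ≃ₜ T') (S : Set T) :
    topologicalKrullDim ↥(h '' S) = topologicalKrullDim ↥S :=
  (IsHomeomorph.topologicalKrullDim_eq _ (h.image S).isHomeomorph).symm

end top

section spec

variable {R : Type*} [CommRing R]

theorem ringKrullDim_quotient_eq_topologicalKrullDim (I : Ideal R) :
    ringKrullDim (R ⧸ I) = topologicalKrullDim ↥(PrimeSpectrum.zeroLocus (I : Set R)) := by
  rw [← PrimeSpectrum.topologicalKrullDim_eq_ringKrullDim]
  refine topologicalKrullDim_eq_of_isEmbedding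
    (PrimeSpectrum.comap (Ideal.Quotient.mk I))
    (PrimeSpectrum.isClosedEmbedding_comap_of_surjective _ _
      Ideal.Quotient.mk_surjective).isEmbedding _ ?_
  rw [_root_.range_comap_of_surjective _ _ Ideal.Quotient.mk_surjective, Ideal.mk_ker]

/-- For a minimal prime `P` over `I`, `V(P)` is a maximal irreducible subset of `V(I)`. -/
theorem zeroLocus_maximal_of_mem_minimalPrimes (I P : Ideal R) (hP : P ∈ I.minimalPrimes)
    (S : Set (PrimeSpectrum R)) (hS : IsIrreducible S)
    (h1 : PrimeSpectrum.zeroLocus (P : Set R) ⊆ S) (h2 : S ⊆ PrimeSpectrum.zeroLocus (I : Set R)) :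
    S ⊆ PrimeSpectrum.zeroLocus (P : Set R) := by
  haveI := hP.1.1
  have hprime : (PrimeSpectrum.vanishingIdeal S).IsPrime :=
    PrimeSpectrum.isIrreducible_iff_vanishingIdeal_isPrime.mp hS
  have hI : I ≤ PrimeSpectrum.vanishingIdeal S := by
    have := PrimeSpectrum.vanishingIdeal_anti_mono h2
    exact le_trans (PrimeSpectrum.le_vanishingIdeal_zeroLocus I) this
  have hle : PrimeSpectrum.vanishingIdeal S ≤ P := by
    have := PrimeSpectrum.vanishingIdeal_anti_mono h1
    rwa [PrimeSpectrum.vanishingIdeal_zeroLocus_eq_radical, Ideal.IsPrime.radical inferInstance]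
      at this
  have hPle : P ≤ PrimeSpectrum.vanishingIdeal S := hP.2 ⟨hprime, hI⟩ hle
  intro x hx
  rw [PrimeSpectrum.mem_zeroLocus]
  intro a ha
  exact (PrimeSpectrum.mem_vanishingIdeal S a).mp (hPle ha) x hx

end spec

section main

variable (k : Type u) [Field k] (N : ℕ)

/-- The homeomorphism between `Spec k[X₁,…,X_N]` and Mathlib's affine space over `Spec k`. -/
noncomputable def homeo :
    PrimeSpectrum (MvPolynomial (Fin N) k) ≃ₜ
      ↥(𝔸(ULift.{u} (Fin N); Spec (CommRingCat.of k))) :=
  (PrimeSpectrum.homeomorphOfRingEquiv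
    (MvPolynomial.renameEquiv k (Equiv.ulift.{u} (α := Fin N)).symm).toRingEquiv).trans
    (Scheme.homeoOfIso (AffineSpace.SpecIso (ULift.{u} (Fin N)) (CommRingCat.of k))).symm

/-- The affine dimension theorem for primes of `k[X₁,…,X_N]`, from its topological form for
Mathlib's affine space (the statement of S7674). -/
theorem affine_dimension_theorem
    (H : ∀ (r s : ℕ) (X Y : Set ↥(𝔸(ULift.{u} (Fin N); Spec (CommRingCat.of k))))
      (_ : IsClosed X) (_ : IsClosed Y)
      (_ : ∀ Z ∈ irreducibleComponents X, topologicalKrullDim Z = r)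
      (_ : ∀ Z ∈ irreducibleComponents Y, topologicalKrullDim Z = s)
      (Z : Set ↥(X ∩ Y)) (_ : Z ∈ irreducibleComponents ↥(X ∩ Y)),
      ((r + s : ℕ) : WithBot ℕ∞) ≤ topologicalKrullDim Z + (N : WithBot ℕ∞))
    (p q P : Ideal (MvPolynomial (Fin N) k)) (hp : p.IsPrime) (hq : q.IsPrime)
    (hP : P ∈ (p ⊔ q).minimalPrimes) :
    ringKrullDim (MvPolynomial (Fin N) k ⧸ p) + ringKrullDim (MvPolynomial (Fin N) k ⧸ q) ≤
      ringKrullDim (MvPolynomial (Fin N) k ⧸ P) + (N : WithBot ℕ∞) := by
  have hPprime : P.IsPrime := hP.1.1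
  set h := homeo k N with hh
  set Vp := PrimeSpectrum.zeroLocus (p : Set (MvPolynomial (Fin N) k)) with hVp
  set Vq := PrimeSpectrum.zeroLocus (q : Set (MvPolynomial (Fin N) k)) with hVq
  set VP := PrimeSpectrum.zeroLocus (P : Set (MvPolynomial (Fin N) k)) with hVP
  have hVpirr : IsIrreducible Vp :=
    (PrimeSpectrum.isIrreducible_zeroLocus_iff_of_radical p hp.isRadical).mpr hp
  have hVqirr : IsIrreducible Vq :=
    (PrimeSpectrum.isIrreducible_zeroLocus_iff_of_radical q hq.isRadical).mpr hq
  have hVPirr : IsIrreducible VP :=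
    (PrimeSpectrum.isIrreducible_zeroLocus_iff_of_radical P hPprime.isRadical).mpr hPprime
  have hinter : Vp ∩ Vq = PrimeSpectrum.zeroLocus ((p ⊔ q : Ideal _) : Set (MvPolynomial (Fin N) k)) := by
    rw [hVp, hVq, ← PrimeSpectrum.zeroLocus_union,
      ← PrimeSpectrum.zeroLocus_span ((p : Set (MvPolynomial (Fin N) k)) ∪ q),
      Ideal.span_union, Ideal.span_eq, Ideal.span_eq]
  have hVPsub : VP ⊆ Vp ∩ Vq := by
    rw [hinter]
    exact PrimeSpectrum.zeroLocus_anti_mono hP.1.2
  -- dimensions as naturals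
  have dimnat : ∀ I : Ideal (MvPolynomial (Fin N) k), I.IsPrime →
      ∃ d : ℕ, ringKrullDim (MvPolynomial (Fin N) k ⧸ I) = (d : WithBot ℕ∞) := by
    intro I hI
    refine Groth.Agent.H54.exists_nat_eq (N := N) ?_ ?_
    · exact ringKrullDim_nonneg_of_nontrivial
    · rw [← Groth.Agent.H54.ringKrullDim_mvPolynomial_fin_field k N]
      exact ringKrullDim_quotient_le I
  obtain ⟨r, hr⟩ := dimnat p hp
  obtain ⟨s, hs⟩ := dimnat q hq
  have hXirr : IsIrreducible (h '' Vp) := hVpirr.image _ h.continuous.continuousOn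
  have hYirr : IsIrreducible (h '' Vq) := hVqirr.image _ h.continuous.continuousOn
  have hdimX : topologicalKrullDim ↥(h '' Vp) = r := by
    rw [dim_image_homeomorph, ← hr, ringKrullDim_quotient_eq_topologicalKrullDim]
  have hdimY : topologicalKrullDim ↥(h '' Vq) = s := by
    rw [dim_image_homeomorph, ← hs, ringKrullDim_quotient_eq_topologicalKrullDim]
  have hsubW : h '' VP ⊆ h '' Vp ∩ h '' Vq := by
    rw [← Set.image_inter h.injective]
    exact Set.image_mono hVPsub
  have hZ := preimage_mem_irreducibleComponents (h '' VP) (h '' Vp ∩ h '' Vq) hsubW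
    (hVPirr.image _ h.continuous.continuousOn) (by
      intro S hS h1 h2
      have hS' : IsIrreducible (h.symm '' S) := hS.image _ h.symm.continuous.continuousOn
      have h1' : VP ⊆ h.symm '' S := by
        intro x hx
        exact ⟨h x, h1 ⟨x, hx, rfl⟩, h.symm_apply_apply x⟩
      have h2' : h.symm '' S ⊆ PrimeSpectrum.zeroLocus ((p ⊔ q : Ideal _) : Set _) := by
        rw [← hinter]
        rintro _ ⟨z, hz, rfl⟩
        have := h2 hz
        rw [← Set.image_inter h.injective] at this
        obtain ⟨x, hx, rfl⟩ := this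
        rwa [h.symm_apply_apply]
      have h3 := zeroLocus_maximal_of_mem_minimalPrimes (p ⊔ q) P hP _ hS' h1' h2'
      intro z hz
      exact ⟨h.symm z, h3 ⟨z, hz, rfl⟩, h.apply_symm_apply z⟩)
  have key := H r s (h '' Vp) (h '' Vq) (h.isClosed_image.mpr (PrimeSpectrum.isClosed_zeroLocus _))
    (h.isClosed_image.mpr (PrimeSpectrum.isClosed_zeroLocus _))
    (fun Z hZ => (dim_component_of_isIrreducible _ hXirr Z hZ).trans hdimX)
    (fun Z hZ => (dim_component_of_isIrreducible _ hYirr Z hZ).trans hdimY) _ hZ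
  rw [dim_preimage_val _ _ hsubW, dim_image_homeomorph,
    ← ringKrullDim_quotient_eq_topologicalKrullDim] at key
  rw [hr, hs]
  exact_mod_cast key

end main

end Groth.Agent.H99.AffDimTransport
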