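import Mathlib
import Groth.Agent.H99.GenSpecB

/-!
# Algebra core (part C): the prime `q`.
-/

set_option autoImplicit false

namespace Groth.Agent.H99.GenSpec

open Ideal

/-- Core: `B` of finite type over the Dedekind domain `R`, `m` a maximal ideal of `B`, `n ≤ m` a
prime lying over `⊥`. Then there is a prime `q ≤ m` lying over `⊥` which is maximal among all primes
of `B` lying over `⊥`. -/
theorem exists_prime_le_maximal_generic {R B : Type*} [CommRing R] [IsDedekindDomain R]
    [CommRing B] [Algebra R B] [Algebra.FiniteType R B]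
    (m : Ideal B) [hm : m.IsMaximal] (n : Ideal B) [hn : n.IsPrime] (hnm : n ≤ m)
    (hn0 : n.comap (algebraMap R B) = ⊥) :
    ∃ q : Ideal B, q.IsPrime ∧ q ≤ m ∧ q.comap (algebraMap R B) = ⊥ ∧
      ∀ P : Ideal B, P.IsPrime → q ≤ P → P.comap (algebraMap R B) = ⊥ → P = q := by
  classical
  by_cases hm0 : m.comap (algebraMap R B) = ⊥
  · exact ⟨m, hm.isPrime, le_rfl, hm0, fun P hP hmP _ => (hm.eq_of_le hP.ne_top hmP).symm⟩
  obtain ⟨π, hπm, hπ0⟩ := Submodule.exists_mem_ne_zero_of_ne_bot hm0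
  have hπm' : algebraMap R B π ∈ m := hπm
  have hBnoeth : IsNoetherianRing B := Algebra.FiniteType.isNoetherianRing R B
  -- for primes below `m`: lying over `⊥` iff not containing `π`
  have hcrit : ∀ P : Ideal B, P.IsPrime → P ≤ m →
      (P.comap (algebraMap R B) = ⊥ ↔ algebraMap R B π ∉ P) := by
    intro P hP hPm
    constructor
    · intro h hπP
      have : π ∈ P.comap (algebraMap R B) := hπP
      rw [h] at this
      exact hπ0 (by simpa using this)
    · intro hπP
      by_contra hne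
      have hPc : (P.comap (algebraMap R B)).IsPrime := Ideal.comap_isPrime _ _
      have hmax : (P.comap (algebraMap R B)).IsMaximal := hPc.isMaximal hne
      have hmc : (m.comap (algebraMap R B)) ≠ ⊤ := (Ideal.comap_isPrime _ _).ne_top
      have heq : P.comap (algebraMap R B) = m.comap (algebraMap R B) :=
        hmax.eq_of_le hmc (Ideal.comap_mono hPm)
      apply hπP
      have : π ∈ P.comap (algebraMap R B) := heq ▸ hπm
      exact this
  -- choose `q`
  let S : Set (Ideal B) := {P | P.IsPrime ∧ P ≤ m ∧ algebraMap R B π ∉ P}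
  have hnS : n ∈ S := ⟨hn, hnm, (hcrit n hn hnm).mp hn0⟩
  obtain ⟨q, hqS, hqmax⟩ : ∃ q : Ideal B, q ∈ S ∧ ∀ I ∈ S, ¬ q < I :=
    set_has_maximal_iff_noetherian.mpr hBnoeth S ⟨n, hnS⟩
  obtain ⟨hqprime, hqm, hπq⟩ := hqS
  have hq0 : q.comap (algebraMap R B) = ⊥ := (hcrit q hqprime hqm).mpr hπq
  -- the quotient domain
  let D := B ⧸ q
  have hDdom : IsDomain D := Ideal.Quotient.isDomain q
  have hmk : Function.Surjective (Ideal.Quotient.mk q) := Ideal.Quotient.mk_surjective
  have hFT : Algebra.FiniteType R D :=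
    Algebra.FiniteType.of_surjective (Ideal.Quotient.mkₐ R q) (Ideal.Quotient.mkₐ_surjective R q)
  let mbar : Ideal D := m.map (Ideal.Quotient.mk q)
  have hmbar : mbar.IsMaximal :=
    Ideal.IsMaximal.map_of_surjective_of_ker_le hmk (by rwa [Ideal.mk_ker])
  have hcomap_mbar : mbar.comap (Ideal.Quotient.mk q) = m := by
    rw [Ideal.comap_map_of_surjective _ hmk, ← RingHom.ker_eq_comap_bot, Ideal.mk_ker,
      sup_eq_left.mpr hqm]
  have hϖ0 : algebraMap R D π ≠ 0 := by
    intro h
    apply hπq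
    rw [← Ideal.Quotient.eq_zero_iff_mem]
    exact h
  have hϖm : algebraMap R D π ∈ mbar := Ideal.mem_map_of_mem _ hπm'
  have H1 : ∀ P : Ideal D, P.IsPrime → P ≤ mbar → P ≠ ⊥ → algebraMap R D π ∈ P := by
    intro P hP hPm hP0
    by_contra hπP
    have hP'prime : (P.comap (Ideal.Quotient.mk q)).IsPrime := Ideal.comap_isPrime _ _
    have hP'm : P.comap (Ideal.Quotient.mk q) ≤ m := by
      rw [← hcomap_mbar]
      exact Ideal.comap_mono hPm
    have hqP' : q ≤ P.comap (Ideal.Quotient.mk q) := by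
      intro a ha
      rw [Ideal.mem_comap, Ideal.Quotient.eq_zero_iff_mem.mpr ha]
      exact P.zero_mem
    have hP'S : P.comap (Ideal.Quotient.mk q) ∈ S := ⟨hP'prime, hP'm, fun h => hπP h⟩
    have heq : P.comap (Ideal.Quotient.mk q) = q := by
      by_contra hne
      exact hqmax _ hP'S (lt_of_le_of_ne hqP' (Ne.symm hne))
    apply hP0
    rw [← Ideal.map_comap_of_surjective _ hmk P, heq, Ideal.map_quotient_self]
  have H2 := prime_le_max_eq mbar (algebraMap R D π) hϖ0 H1
  have hQF : Algebra.QuasiFiniteAt R mbar :=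
    quasiFiniteAt_of_isolated mbar π hϖm hϖ0 H2
  have hAlg : Algebra.IsAlgebraic R D := isAlgebraic_of_quasiFiniteAt mbar
  refine ⟨q, hqprime, hqm, hq0, ?_⟩
  intro P hP hqP hP0
  by_contra hne
  have hPbar0 : P.map (Ideal.Quotient.mk q) ≠ ⊥ := by
    intro h
    apply hne
    have h1 : (P.map (Ideal.Quotient.mk q)).comap (Ideal.Quotient.mk q) = P := by
      rw [Ideal.comap_map_of_surjective _ hmk, ← RingHom.ker_eq_comap_bot, Ideal.mk_ker,
        sup_eq_left.mpr hqP]
    rw [h, ← RingHom.ker_eq_comap_bot, Ideal.mk_ker] at h1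
    exact h1.symm
  obtain ⟨x, hxP, hx0⟩ := Submodule.exists_mem_ne_zero_of_ne_bot hPbar0
  have := Ideal.comap_ne_bot_of_algebraic_mem (R := R) hx0 hxP (hAlg.isAlgebraic x)
  apply this
  rw [eq_bot_iff]
  intro r hr
  have hr' : algebraMap R D r ∈ P.map (Ideal.Quotient.mk q) := hr
  have hr'' : algebraMap R B r ∈ (P.map (Ideal.Quotient.mk q)).comap (Ideal.Quotient.mk q) := hr'
  rw [Ideal.comap_map_of_surjective _ hmk, ← RingHom.ker_eq_comap_bot, Ideal.mk_ker,
        sup_eq_left.mpr hqP] at hr''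
  have : r ∈ P.comap (algebraMap R B) := hr''
  rw [hP0] at this
  exact this

end Groth.Agent.H99.GenSpec
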