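import Mathlib
import Groth.Agent.H99.GenSpecC

/-!
# Scheme-level plumbing: affine charts of a scheme over `Spec R`.
-/

set_option autoImplicit false
universe u

namespace Groth.Agent.H99.GenSpec

open AlgebraicGeometry CategoryTheory

variable {R : Type u} [CommRing R] {X : Scheme.{u}} (f : X ⟶ Spec (CommRingCat.of R))

/-- The ring map `R → Γ(X, U)` induced by `f : X ⟶ Spec R`. -/
noncomputable def chartHom (U : X.Opens) : R →+* Γ(X, U) :=
  (f.appLE ⊤ U le_top).hom.comp (Scheme.ΓSpecIso (CommRingCat.of R)).inv.hom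

theorem asIdeal_map_fromSpec {U : X.Opens} (hU : IsAffineOpen U) (Q : PrimeSpectrum Γ(X, U)) :
    (f.base (hU.fromSpec Q)).asIdeal = Q.asIdeal.comap (chartHom f U) := by
  have h := congr($(IsAffineOpen.SpecMap_appLE_fromSpec f (isAffineOpen_top _) hU le_top) Q)
  rw [IsAffineOpen.fromSpec_top, Scheme.isoSpec_Spec_inv] at h
  have h' : f.base (hU.fromSpec Q) =
      (Spec.map (Scheme.ΓSpecIso (CommRingCat.of R)).inv).base
        ((Spec.map (f.appLE ⊤ U le_top)).base Q) := h.symm
  rw [h']
  rfl

theorem chartHom_finiteType [LocallyOfFiniteType f] {U : X.Opens} (hU : IsAffineOpen U) :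
    (chartHom f U).FiniteType := by
  have h1 : (f.appLE ⊤ U le_top).hom.FiniteType :=
    f.finiteType_appLE (isAffineOpen_top _) hU le_top
  have h2 : (Scheme.ΓSpecIso (CommRingCat.of R)).inv.hom.FiniteType := by
    apply RingHom.FiniteType.of_surjective
    exact ((Scheme.ΓSpecIso (CommRingCat.of R)).symm.commRingCatIsoToRingEquiv).surjective
  exact h1.comp h2

end Groth.Agent.H99.GenSpec
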