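import Mathlib
import Groth.Agent.H99.FieldDim
import Groth.Agent.H99.CodepthOpenM
import Groth.Agent.H72.ExcellentLoc
import Groth.Agent.H26.CMFlat

/-!
# The dimension function on a scheme locally of finite type over a discrete valuation ring
(helper99)

For a discrete valuation ring `V`, `δ_V` takes the value `1` at the generic point and `0` at the
closed point of `Spec V`; for `g : Y ⟶ Spec V` locally of finite type,
`δ_T y = δ_V (g y) + trdeg (κ(y)/κ(g y))` is a dimension function on `Y`.
-/

set_option autoImplicit false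
set_option backward.isDefEq.respectTransparency.types false
set_option linter.style.haveILetI false
set_option linter.unusedSectionVars false
universe u

open AlgebraicGeometry CategoryTheory TopologicalSpace Topology IsLocalRing

namespace Groth.Agent.H99.DVRDimFun

variable (V : Type u) [CommRing V] [IsDomain V] [IsDiscreteValuationRing V]

/-- the dimension function on the spectrum of a discrete valuation ring. -/
noncomputable def deltaV : ↥(Spec (CommRingCat.of V)) → ℤ := fun s =>
  open Classical in if s.asIdeal = ⊥ then 1 else 0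

theorem asIdeal_eq_bot_or (s : ↥(Spec (CommRingCat.of V))) :
    s.asIdeal = ⊥ ∨ s.asIdeal = maximalIdeal V := by
  by_cases h : s.asIdeal = ⊥
  · exact Or.inl h
  · right
    have hmax : s.asIdeal.IsMaximal := Ring.DimensionLEOne.maximalOfPrime h s.isPrime
    exact IsLocalRing.eq_maximalIdeal hmax

theorem maximalIdeal_ne_bot : maximalIdeal V ≠ ⊥ :=
  IsDiscreteValuationRing.not_a_field V

theorem deltaV_of_bot (s : ↥(Spec (CommRingCat.of V))) (h : s.asIdeal = ⊥) : deltaV V s = 1 := by
  unfold deltaV
  rw [if_pos h]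

theorem deltaV_of_max (s : ↥(Spec (CommRingCat.of V))) (h : s.asIdeal = maximalIdeal V) :
    deltaV V s = 0 := by
  unfold deltaV
  rw [if_neg]
  rw [h]
  exact maximalIdeal_ne_bot V

theorem isUniversallyCatenary_stalk (s : ↥(Spec (CommRingCat.of V))) :
    CAlg.IsUniversallyCatenary ((Spec (CommRingCat.of V)).presheaf.stalk s) := by
  haveI := Groth.Agent.H26.CMFlat.isCohenMacaulayRing_of_isRegularRing V
  have hV := Groth.Agent.H72.CMCatenary.isUniversallyCatenary_of_isCohenMacaulayRing V
  letI : Algebra V ((Spec (CommRingCat.of V)).presheaf.stalk s) :=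
    StructureSheaf.stalkAlgebra V s
  haveI : IsLocalization.AtPrime ((Spec (CommRingCat.of V)).presheaf.stalk s) s.asIdeal :=
    StructureSheaf.IsLocalization.to_stalk V s
  haveI : Algebra.EssFiniteType V ((Spec (CommRingCat.of V)).presheaf.stalk s) :=
    Algebra.EssFiniteType.of_isLocalization _ s.asIdeal.primeCompl
  exact Groth.Agent.H72.ExcellentLoc.isUniversallyCatenary_of_essFiniteType V _ hV

/-- `Spec V` with `δ_V` is a base with a dimension function. -/
theorem isSetup_spec_dvr : Cyc.IsSetup (Spec (CommRingCat.of V)) (deltaV V) := by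
  refine ⟨inferInstance, isUniversallyCatenary_stalk V, ?_⟩
  intro x y hxy hne
  have hle : x.asIdeal ≤ y.asIdeal := by
    have := (PrimeSpectrum.le_iff_specializes x y).mpr hxy
    exact this
  have hx : x.asIdeal = ⊥ := by
    rcases asIdeal_eq_bot_or V x with h | h
    · exact h
    · exfalso
      apply hne
      apply PrimeSpectrum.ext
      apply le_antisymm hle
      rw [h]
      exact IsLocalRing.le_maximalIdeal y.isPrime.ne_top
  have hy : y.asIdeal = maximalIdeal V := by
    rcases asIdeal_eq_bot_or V y with h | h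
    · exfalso
      apply hne
      apply PrimeSpectrum.ext
      rw [hx, h]
    · exact h
  rw [deltaV_of_bot V x hx, deltaV_of_max V y hy]
  exact ⟨by norm_num, fun _ => by norm_num⟩

/-- the depth of the local rings of `Spec V`. -/
theorem depth_stalk_add_deltaV (s : ↥(Spec (CommRingCat.of V))) :
    LocCoh.depth ((Spec (CommRingCat.of V)).presheaf.stalk s)
        ((Spec (CommRingCat.of V)).presheaf.stalk s) + ((deltaV V s).toNat : ℕ∞) = 1 := by
  letI : Algebra V ((Spec (CommRingCat.of V)).presheaf.stalk s) :=
    StructureSheaf.stalkAlgebra V s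
  haveI : IsLocalization.AtPrime ((Spec (CommRingCat.of V)).presheaf.stalk s) s.asIdeal :=
    StructureSheaf.IsLocalization.to_stalk V s
  haveI : IsNoetherianRing ((Spec (CommRingCat.of V)).presheaf.stalk s) :=
    IsLocalization.isNoetherianRing s.asIdeal.primeCompl _ inferInstance
  have hdim := IsLocalization.AtPrime.ringKrullDim_eq_height s.asIdeal
    ((Spec (CommRingCat.of V)).presheaf.stalk s)
  have h1 := Groth.Agent.H72.FlatCM.depth_le_ringKrullDim
    ((Spec (CommRingCat.of V)).presheaf.stalk s)
  have h2 : Groth.Agent.H99.CodepthProp.CodepthLE 0 ((Spec (CommRingCat.of V)).presheaf.stalk s) :=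
    Groth.Agent.H99.CodepthOpenM.codepthLE_zero_stalk_of_isRegularRing (CommRingCat.of V) s
  have h2' : ringKrullDim ((Spec (CommRingCat.of V)).presheaf.stalk s) ≤
      ((LocCoh.depth ((Spec (CommRingCat.of V)).presheaf.stalk s)
        ((Spec (CommRingCat.of V)).presheaf.stalk s) : ℕ∞) : WithBot ℕ∞) + ((0 : ℕ) : WithBot ℕ∞) :=
    h2
  rw [Nat.cast_zero, add_zero] at h2'
  have h3 : ((LocCoh.depth ((Spec (CommRingCat.of V)).presheaf.stalk s)
      ((Spec (CommRingCat.of V)).presheaf.stalk s) : ℕ∞) : WithBot ℕ∞) =
      ((s.asIdeal.height : ℕ∞) : WithBot ℕ∞) := by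
    rw [← hdim]
    exact le_antisymm h1 h2'
  have h4 : LocCoh.depth ((Spec (CommRingCat.of V)).presheaf.stalk s)
      ((Spec (CommRingCat.of V)).presheaf.stalk s) = s.asIdeal.height := WithBot.coe_inj.mp h3
  rw [h4]
  rcases asIdeal_eq_bot_or V s with h | h
  · rw [deltaV_of_bot V s h, h, Ideal.height_bot]
    rfl
  · rw [deltaV_of_max V s h, h]
    have h5 : ((maximalIdeal V).height : WithBot ℕ∞) = 1 := by
      rw [IsLocalRing.maximalIdeal_height_eq_ringKrullDim]
      exact IsDiscreteValuationRing.ringKrullDim_eq_one V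
    have h6 : (maximalIdeal V).height = 1 := by exact_mod_cast h5
    rw [h6]
    rfl

variable {V}
variable {Y : Scheme.{u}} (g : Y ⟶ Spec (CommRingCat.of V)) [LocallyOfFiniteType g]

/-- the dimension function on a scheme locally of finite type over `V`. -/
noncomputable def deltaT (y : Y) : ℤ :=
  deltaV V (g y) + ((Groth.Agent.H48.DimIneqSch2.exists_trdeg_eq_nat g y).choose : ℤ)

/-- the transcendence degree of `κ(y)` over `κ(g y)`. -/
noncomputable def tr (y : Y) : ℕ := (Groth.Agent.H48.DimIneqSch2.exists_trdeg_eq_nat g y).choose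

theorem deltaT_eq (y : Y) : deltaT g y = deltaV V (g y) + (tr g y : ℤ) := rfl

theorem deltaCompat : Cyc.DeltaCompat g (deltaT g) (deltaV V) := by
  intro y
  exact ⟨(Groth.Agent.H48.DimIneqSch2.exists_trdeg_eq_nat g y).choose,
    (Groth.Agent.H48.DimIneqSch2.exists_trdeg_eq_nat g y).choose_spec, rfl⟩

theorem isDimFun : Cyc.IsDimFun Y (deltaT g) :=
  Groth.Agent.H48.DimFunSch.isDimFun_of_deltaCompat g _ (isSetup_spec_dvr V) _ (deltaCompat g)

theorem deltaV_nonneg (s : ↥(Spec (CommRingCat.of V))) : 0 ≤ deltaV V s := by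
  rcases asIdeal_eq_bot_or V s with h | h
  · rw [deltaV_of_bot V s h]; norm_num
  · rw [deltaV_of_max V s h]

/-- the dimension of the closure of a point in its fibre. -/
theorem topologicalKrullDim_closure_asFiber (y : Y) :
    topologicalKrullDim ↥(closure ({g.asFiber y} : Set (g.fiber (g y)))) =
      ((tr g y : ℕ∞) : WithBot ℕ∞) := by
  rw [Groth.Agent.H48.CycFib.topologicalKrullDim_closure_asFiber g (deltaT g) (deltaV V)
    (isDimFun g) (deltaCompat g) y, deltaT_eq]
  congr 2
  omega

end Groth.Agent.H99.DVRDimFun
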