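import Mathlib
import Groth.Agent.H99.ProfMain
import Groth.Agent.H99.FibModIso
import Groth.Agent.H99.FibrePropDVRM
import Groth.Agent.H99.DVRDimFun

/-!
# Lower semicontinuity of the rectified depth of the fibres of a flat module (helper99;
EGA IV 12.1.1 (v))
-/

set_option autoImplicit false
set_option backward.isDefEq.respectTransparency.types false
set_option linter.style.haveILetI false
set_option linter.unusedSectionVars false
universe u

open AlgebraicGeometry CategoryTheory CategoryTheory.Limits TopologicalSpace Topology IsLocalRing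
  TensorProduct

namespace Groth.Agent.H99.ProfOpen

open Groth.Agent.H99.ModPair Groth.Agent.H99.FibModProp Groth.Agent.H99.FibrePropGenM
  Groth.Agent.H99.ProfTop Groth.Agent.H99.ProfCons Groth.Agent.H99.ProfField
  Groth.Agent.H99.ProfMain Groth.Agent.H99.FibModIso Groth.Agent.H99.FibrePropDVRM
  Groth.Agent.H99.DVRDimFun Groth.Agent.H49.FibreStalk

section Algebra

variable {A B : Type u} [CommRing A] [CommRing B] [Algebra A B]
  [IsLocalRing A] [IsLocalRing B] [IsNoetherianRing A] [IsNoetherianRing B]
  [IsLocalHom (algebraMap A B)]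

/-- for a finite `B`-module `N` flat over `A`: `depth N = depth A + depth (N / m_A N)`. -/
theorem depth_eq_add_fibre (N : Type u) [AddCommGroup N] [Module B N] [Module A N]
    [IsScalarTower A B N] [Module.Finite B N] [Module.Flat A N] :
    LocCoh.depth B N = LocCoh.depth A A +
      LocCoh.depth (B ⧸ (maximalIdeal A).map (algebraMap A B))
        (N ⧸ ((maximalIdeal A).map (algebraMap A B)) • (⊤ : Submodule B N)) := by
  set I : Ideal B := (maximalIdeal A).map (algebraMap A B) with hI
  have hne : I ≠ ⊤ := Groth.Agent.H72.FlatCM.mB_ne_top (A := A) (B := B)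
  haveI : IsLocalRing (B ⧸ I) :=
    IsLocalRing.of_surjective' (Ideal.Quotient.mk _) Ideal.Quotient.mk_surjective
  haveI : IsLocalHom (algebraMap B (B ⧸ I)) :=
    IsLocalHom.of_surjective _ Ideal.Quotient.mk_surjective
  haveI : Module.Finite B (N ⧸ I • (⊤ : Submodule B N)) := inferInstance
  haveI : Module.Finite (B ⧸ I) (N ⧸ I • (⊤ : Submodule B N)) :=
    Module.Finite.of_restrictScalars_finite B (B ⧸ I) _
  have hdepth := Groth.Agent.H72.DepthFlat.depth_tensor_eq_add_quotient (R := A) (S := B) N A
  have e1 : N ⊗[A] A ≃ₗ[B] N := TensorProduct.AlgebraTensorModule.rid A B N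
  have hd1 : LocCoh.depth B (N ⊗[A] A) = LocCoh.depth B N :=
    Groth.Agent.H15.idealDepth_congr e1 _
  rw [hd1] at hdepth
  have hdepthF : LocCoh.depth B (N ⧸ I • (⊤ : Submodule B N)) =
      LocCoh.depth (B ⧸ I) (N ⧸ I • (⊤ : Submodule B N)) :=
    Groth.Agent.H29.DepthAB.depth_eq _
  rw [← hdepthF]
  exact hdepth

end Algebra

section DVR

variable {V : Type u} [CommRing V] [IsDomain V] [IsDiscreteValuationRing V] {Y : Scheme.{u}}
  (g : Y ⟶ Spec (CommRingCat.of V)) [LocallyOfFiniteType g] (G : Y.Modules) (hG : Coh.IsCoh G)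

include hG in
/-- over a discrete valuation ring, the rectified depth of the fibre module of a flat module is the
rectified depth of the module on the total space (for the dimension function `δ_T`) minus one. -/
theorem prof_total (y : Y) (hfl : FlatMod.IsFlatOverAt g G y) :
    LocCoh.depth ((g.fiber (g y)).presheaf.stalk (g.asFiber y))
        (((Scheme.Modules.pullback (g.fiberι (g y))).obj G).presheaf.stalk (g.asFiber y)) +
        (tr g y : ℕ∞) + 1 =
      LocCoh.depth (Y.presheaf.stalk y) (G.presheaf.stalk y) + ((deltaT g y).toNat : ℕ∞) := by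
  haveI : IsLocallyNoetherian Y := LocallyOfFiniteType.isLocallyNoetherian g
  rw [depth_fibre_eq_quotient g G hG y]
  letI : Algebra ((Spec (CommRingCat.of V)).presheaf.stalk (g y)) (Y.presheaf.stalk y) :=
    (g.stalkMap y).hom.toAlgebra
  letI : Module ((Spec (CommRingCat.of V)).presheaf.stalk (g y)) (G.presheaf.stalk y) :=
    FlatMod.moduleStalkOver g G y
  haveI : IsScalarTower ((Spec (CommRingCat.of V)).presheaf.stalk (g y)) (Y.presheaf.stalk y)
      (G.presheaf.stalk y) := IsScalarTower.of_algebraMap_smul (fun _ _ => rfl)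
  haveI : IsLocalHom (algebraMap ((Spec (CommRingCat.of V)).presheaf.stalk (g y))
      (Y.presheaf.stalk y)) := inferInstanceAs (IsLocalHom (g.stalkMap y).hom)
  haveI : Module.Flat ((Spec (CommRingCat.of V)).presheaf.stalk (g y)) (G.presheaf.stalk y) := hfl
  haveI := Groth.Agent.H13.finite_stalk_of_isCoh G hG y
  have h1 := depth_eq_add_fibre (A := (Spec (CommRingCat.of V)).presheaf.stalk (g y))
    (B := Y.presheaf.stalk y) (G.presheaf.stalk y)
  have h2 := depth_stalk_add_deltaV V (g y)
  have h3 : ((deltaT g y).toNat : ℕ∞) =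
      ((deltaV V (g y)).toNat : ℕ∞) + (tr g y : ℕ∞) := by
    have h0 := deltaV_nonneg (g y)
    rw [deltaT_eq]
    have : (deltaV V (g y) + (tr g y : ℤ)).toNat = (deltaV V (g y)).toNat + tr g y := by omega
    rw [this]
    push_cast
    rfl
  rw [h1, h3, ← h2]
  change LocCoh.depth (Y.presheaf.stalk y ⧸ fibreIdeal g y)
      (G.presheaf.stalk y ⧸ (fibreIdeal g y) • (⊤ : Submodule (Y.presheaf.stalk y)
        (G.presheaf.stalk y))) + _ + _ = _ + LocCoh.depth (Y.presheaf.stalk y ⧸ fibreIdeal g y)
      (G.presheaf.stalk y ⧸ (fibreIdeal g y) • (⊤ : Submodule (Y.presheaf.stalk y)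
        (G.presheaf.stalk y))) + _
  ring

/-- **generization of the rectified depth over discrete valuation rings.** -/
theorem genOverDVR_profGE (n : ℕ) : GenOverDVR (ProfGE.{u} n) := by
  intro V _ _ _ Y g hft G hG hfl z z' hz'z _ hz
  haveI := hft
  haveI : IsLocallyNoetherian Y := LocallyOfFiniteType.isLocallyNoetherian g
  rw [profGE_iff g G hG n, DVRDimFun.topologicalKrullDim_closure_asFiber] at hz ⊢
  have hz1 : (n : ℕ∞) ≤ LocCoh.depth ((g.fiber (g z)).presheaf.stalk (g.asFiber z))
      (((Scheme.Modules.pullback (g.fiberι (g z))).obj G).presheaf.stalk (g.asFiber z)) +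
      (tr g z : ℕ∞) := by
    rw [← WithBot.coe_add] at hz
    exact WithBot.coe_le_coe.mp hz
  rw [← WithBot.coe_add]
  refine WithBot.coe_le_coe.mpr (hz1.trans ?_)
  have e1 := prof_total g G hG z (hfl z)
  have e2 := prof_total g G hG z' (hfl z')
  have h3 := Groth.Agent.H99.DimFunMod.depth_stalk_le (deltaT g) (isDimFun g) G hG z' z hz'z
  have hmono : deltaT g z ≤ deltaT g z' := by
    by_cases hne : z' = z
    · rw [hne]
    · exact ((isDimFun g) z' z hz'z hne).1.le
  have hnn : 0 ≤ deltaT g z := by
    rw [deltaT_eq]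
    have := deltaV_nonneg (g z)
    omega
  have h4 : ((deltaT g z').toNat : ℕ∞) =
      ((deltaT g z' - deltaT g z).toNat : ℕ∞) + ((deltaT g z).toNat : ℕ∞) := by
    have : (deltaT g z').toNat = (deltaT g z' - deltaT g z).toNat + (deltaT g z).toNat := by omega
    rw [this]
    push_cast
    rfl
  have h5 : LocCoh.depth (Y.presheaf.stalk z) (G.presheaf.stalk z) + ((deltaT g z).toNat : ℕ∞) ≤
      LocCoh.depth (Y.presheaf.stalk z') (G.presheaf.stalk z') + ((deltaT g z').toNat : ℕ∞) := by
    rw [h4, ← add_assoc]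
    exact add_le_add_left h3 _
  rw [← e1, ← e2] at h5
  exact (ENat.add_le_add_iff_right (by simp)).mp h5

end DVR

/-- **EGA IV 12.1.1 (v)**: for a flat module of finite presentation, the topological rectified
depth condition defines an open set. -/
theorem isOpen_profGE (n : ℕ) {X S : Scheme.{u}} (f : X ⟶ S) [LocallyOfFinitePresentation f]
    (F : X.Modules) [Coh.IsQCoh F] (hF : CohB1.IsFP F) (hfl : FlatMod.IsFlatOver f F) :
    IsOpen {x : X | ProfGE n f F x} :=
  isOpen_of_genOverDVR (isFibInvM_profGE n)
    (fun _ _ f hf F hq hF => by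
      haveI := hf
      haveI := hq
      exact isLocallyConstructible_profGE f F hF n)
    (genOverDVR_profGE n) f F hF hfl

end Groth.Agent.H99.ProfOpen
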