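import Mathlib
import Groth.Agent.H99.AssBridge
import Groth.Agent.H99.ProfOpen
import Groth.Agent.H99.GenSpecD

/-!
# Associated points of the fibres over a discrete valuation ring (helper99)

`exists_special_point`: for `g : Y ⟶ Spec V` locally of finite type over a discrete valuation ring,
a point `ξ'` of the generic fibre specializing to a point `z` of the closed fibre has an immediate
specialization `ξ` in the closed fibre which specializes to `z`.

`fibDepth_special`: if moreover `ξ'` is an associated point of the generic fibre of a `g`-flat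
coherent module, then `ξ` is an associated point of the closed fibre, of the same dimension.
-/

set_option autoImplicit false
set_option backward.isDefEq.respectTransparency.types false
set_option linter.style.haveILetI false
set_option linter.unusedSectionVars false
universe u

open AlgebraicGeometry CategoryTheory CategoryTheory.Limits TopologicalSpace Topology IsLocalRing

namespace Groth.Agent.H99.AssDVR

open Groth.Agent.H99.ModPair Groth.Agent.H99.FibModProp Groth.Agent.H99.FibrePropGenM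
  Groth.Agent.H99.ProfTop Groth.Agent.H99.ProfCons Groth.Agent.H99.ProfField
  Groth.Agent.H99.ProfMain Groth.Agent.H99.RkTop Groth.Agent.H99.CompDims
  Groth.Agent.H99.FibEqui Groth.Agent.H99.AssTop Groth.Agent.H99.FibrePropDVRM
  Groth.Agent.H99.AssInv Groth.Agent.H99.DVRDimFun Groth.Agent.H99.ProfOpen
  Groth.Agent.H99.GenSpec

section Algebra

variable {C : Type u} [CommRing C] [IsNoetherianRing C]

/-- Krull's principal ideal theorem, relative form. -/
theorem height_map_mk_le_one' (t : C) (Q Q₁ : Ideal C) [Q.IsPrime] [Q₁.IsPrime]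
    (hmin : Q₁ ∈ (Q ⊔ Ideal.span {t}).minimalPrimes) :
    (Q₁.map (Ideal.Quotient.mk Q)).height ≤ 1 := by
  have hsurj : Function.Surjective (Ideal.Quotient.mk Q) := Ideal.Quotient.mk_surjective
  have hcomap : (Ideal.span {Ideal.Quotient.mk Q t}).comap (Ideal.Quotient.mk Q) =
      Q ⊔ Ideal.span {t} := by
    rw [← Set.image_singleton, ← Ideal.map_span, Ideal.comap_map_of_surjective _ hsurj,
      ← RingHom.ker_eq_comap_bot, Ideal.mk_ker, sup_comm]
  have h1 : Q₁ ∈ ((Ideal.span {Ideal.Quotient.mk Q t}).comap (Ideal.Quotient.mk Q)).minimalPrimes := by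
    rw [hcomap]; exact hmin
  rw [Ideal.comap_minimalPrimes_eq_of_surjective hsurj] at h1
  obtain ⟨qb, hqb, rfl⟩ := h1
  rw [Ideal.map_comap_of_surjective _ hsurj]
  exact Ideal.height_le_one_of_isPrincipal_of_mem_minimalPrimes _ qb hqb

end Algebra

variable {V : Type u} [CommRing V] [IsDomain V] [IsDiscreteValuationRing V] {Y : Scheme.{u}}
  (g : Y ⟶ Spec (CommRingCat.of V)) [LocallyOfFiniteType g]

/-- **an immediate specialization into the closed fibre.** -/
theorem exists_special_point (ξ' z : Y) (h : ξ' ⤳ z) (hξ' : (g ξ').asIdeal = ⊥)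
    (hz : (g z).asIdeal = maximalIdeal V) :
    ∃ ξ : Y, ξ' ⤳ ξ ∧ ξ ⤳ z ∧ (g ξ).asIdeal = maximalIdeal V ∧
      deltaT g ξ' = deltaT g ξ + 1 := by
  haveI : IsLocallyNoetherian Y := LocallyOfFiniteType.isLocallyNoetherian g
  obtain ⟨U, hU, hzU, -⟩ := exists_isAffineOpen_mem_and_subset (x := z) (U := ⊤) trivial
  have hξU : ξ' ∈ U := h.mem_open U.2 hzU
  haveI : IsNoetherianRing Γ(Y, U) := IsLocallyNoetherian.component_noetherian ⟨U, hU⟩
  obtain ⟨a, ha⟩ := Groth.Agent.H48.DimFunSch.exists_fromSpec_eq hU ξ' hξU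
  obtain ⟨b, hb⟩ := Groth.Agent.H48.DimFunSch.exists_fromSpec_eq hU z hzU
  have hab : a ≤ b := by
    rw [← Groth.Agent.H48.DimFunSch.fromSpec_specializes_iff hU, ha, hb]
    exact h
  obtain ⟨ϖ, hϖ⟩ := IsDiscreteValuationRing.exists_irreducible V
  have hϖ0 : ϖ ≠ 0 := hϖ.ne_zero
  have hϖm : ϖ ∈ maximalIdeal V := by
    rw [IsLocalRing.mem_maximalIdeal]
    exact hϖ.not_isUnit
  set t : Γ(Y, U) := chartHom g U ϖ with ht
  have hta : t ∉ a.asIdeal := by
    intro hmem
    have h1 : ϖ ∈ a.asIdeal.comap (chartHom g U) := hmem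
    rw [← asIdeal_map_fromSpec g hU a, ha, hξ'] at h1
    exact hϖ0 ((Submodule.mem_bot _).mp h1)
  have htb : t ∈ b.asIdeal := by
    have h1 : ϖ ∈ (g (hU.fromSpec b)).asIdeal := by rw [hb, hz]; exact hϖm
    rw [asIdeal_map_fromSpec g hU b] at h1
    exact h1
  have hle : a.asIdeal ⊔ Ideal.span {t} ≤ b.asIdeal :=
    sup_le hab ((Ideal.span_singleton_le_iff_mem _).mpr htb)
  obtain ⟨q, hqmin, hqb⟩ := Ideal.exists_minimalPrimes_le hle
  haveI : q.IsPrime := hqmin.1.1
  let q' : PrimeSpectrum Γ(Y, U) := ⟨q, inferInstance⟩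
  have haq : a ≤ q' := le_sup_left.trans hqmin.1.2
  have htq : t ∈ q := hqmin.1.2 (le_sup_right (a := a.asIdeal) (Ideal.subset_span rfl))
  have haq' : a < q' := lt_of_le_of_ne haq (fun heq => hta (by rw [heq]; exact htq))
  have hht : (q.map (Ideal.Quotient.mk a.asIdeal)).height ≤ 1 :=
    height_map_mk_le_one' t a.asIdeal q hqmin
  have hht' := Groth.Agent.H48.DimFunSch.height_map_mk_eq hU (deltaT g) (isDimFun g) a q' haq
  have hlt := Groth.Agent.H48.DimFunSch.delta_lt hU (deltaT g) (isDimFun g) a q' haq'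
  rw [show q'.asIdeal = q from rfl] at hht'
  rw [hht'] at hht
  have hnat : (deltaT g (hU.fromSpec a) - deltaT g (hU.fromSpec q')).toNat ≤ 1 := by
    exact_mod_cast hht
  refine ⟨hU.fromSpec q', ?_, ?_, ?_, ?_⟩
  · rw [← ha]
    exact (Groth.Agent.H48.DimFunSch.fromSpec_specializes_iff hU a q').mpr haq
  · rw [← hb]
    exact (Groth.Agent.H48.DimFunSch.fromSpec_specializes_iff hU q' b).mpr hqb
  · rcases asIdeal_eq_bot_or V (g (hU.fromSpec q')) with h0 | h0
    · exfalso
      have h1 : ϖ ∈ (g (hU.fromSpec q')).asIdeal := by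
        rw [asIdeal_map_fromSpec g hU q']
        exact htq
      rw [h0] at h1
      exact hϖ0 ((Submodule.mem_bot _).mp h1)
    · exact h0
  · rw [← ha]
    omega

theorem fdim_eq_tr (y : Y) : fdim g y = ((tr g y : ℕ∞) : WithBot ℕ∞) := by
  rw [fdim_eq_dim_closure_asFiber, DVRDimFun.topologicalKrullDim_closure_asFiber]

variable (G : Y.Modules) (hG : Coh.IsCoh G)

include hG in
/-- **transfer of associated points to the closed fibre.** -/
theorem fibDepth_special (ξ' ξ : Y) (h : ξ' ⤳ ξ) (hd : deltaT g ξ' = deltaT g ξ + 1)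
    (hξ' : (g ξ').asIdeal = ⊥) (hξ : (g ξ).asIdeal = maximalIdeal V)
    (hfl' : FlatMod.IsFlatOverAt g G ξ') (hfl : FlatMod.IsFlatOverAt g G ξ)
    (h0 : fibDepth g G ξ' = 0) :
    fibDepth g G ξ = 0 ∧ tr g ξ = tr g ξ' := by
  haveI : IsLocallyNoetherian Y := LocallyOfFiniteType.isLocallyNoetherian g
  have d1 : deltaT g ξ' = 1 + (tr g ξ' : ℤ) := by rw [deltaT_eq, deltaV_of_bot V _ hξ']
  have d2 : deltaT g ξ = (tr g ξ : ℤ) := by rw [deltaT_eq, deltaV_of_max V _ hξ, zero_add]
  have htr : tr g ξ = tr g ξ' := by omega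
  refine ⟨?_, htr⟩
  have e1 := prof_total g G hG ξ' hfl'
  have e2 := prof_total g G hG ξ hfl
  have h3 := Groth.Agent.H99.DimFunMod.depth_stalk_le (deltaT g) (isDimFun g) G hG ξ' ξ h
  change fibDepth g G ξ' + _ + _ = _ at e1
  change fibDepth g G ξ + _ + _ = _ at e2
  have t1 : (deltaT g ξ').toNat = tr g ξ' + 1 := by omega
  have t2 : (deltaT g ξ).toNat = tr g ξ := by omega
  have t3 : (deltaT g ξ' - deltaT g ξ).toNat = 1 := by omega
  rw [h0, t1] at e1
  rw [t2] at e2
  rw [t3] at h3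
  have hdep' : LocCoh.depth (Y.presheaf.stalk ξ') (G.presheaf.stalk ξ') = 0 := by
    have e1' : ((tr g ξ' + 1 : ℕ) : ℕ∞) =
        LocCoh.depth (Y.presheaf.stalk ξ') (G.presheaf.stalk ξ') + ((tr g ξ' + 1 : ℕ) : ℕ∞) := by
      rw [← e1]
      push_cast
      rw [zero_add]
    generalize LocCoh.depth (Y.presheaf.stalk ξ') (G.presheaf.stalk ξ') = D at e1'
    induction D using ENat.recTopCoe with
    | top => simp at e1'
    | coe D =>
      have : tr g ξ' + 1 = D + (tr g ξ' + 1) := by exact_mod_cast e1'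
      have : D = 0 := by omega
      rw [this]; rfl
  rw [hdep', zero_add] at h3
  have h4 : fibDepth g G ξ + (tr g ξ : ℕ∞) + 1 ≤ ((1 : ℕ) : ℕ∞) + (tr g ξ : ℕ∞) := by
    rw [e2]
    exact add_le_add_left h3 _
  generalize fibDepth g G ξ = E at h4 ⊢
  induction E using ENat.recTopCoe with
  | top => simp at h4
  | coe E =>
    have : E + tr g ξ + 1 ≤ 1 + tr g ξ := by exact_mod_cast h4
    have : E = 0 := by omega
    rw [this]; rfl

include hG in
/-- **generization over discrete valuation rings of the condition on the dimensions of the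
associated points.** -/
theorem assDim_special (j : ℕ) (hfl : FlatMod.IsFlatOver g G) (z z' : Y) (hz'z : z' ⤳ z)
    (hz : (g z).asIdeal = maximalIdeal V) (h : AssDim j g G z') : AssDim j g G z := by
  obtain ⟨ξ', hξ'z', hgξ', hd, h0⟩ := (assDim_iff g G hG j z').mp h
  rw [assDim_iff g G hG j z]
  rcases asIdeal_eq_bot_or V (g ξ') with hb | hm
  · obtain ⟨ξ, h1, h2, h3, h4⟩ := exists_special_point g ξ' z (hξ'z'.trans hz'z) hb hz
    obtain ⟨h5, h6⟩ := fibDepth_special g G hG ξ' ξ h1 h4 hb h3 (hfl ξ') (hfl ξ) h0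
    refine ⟨ξ, h2, ?_, ?_, h5⟩
    · apply PrimeSpectrum.ext
      rw [h3, hz]
    · rw [fdim_eq_tr, h6, ← fdim_eq_tr, hd]
  · refine ⟨ξ', hξ'z'.trans hz'z, ?_, hd, h0⟩
    apply PrimeSpectrum.ext
    rw [hm, hz]

theorem genOverDVR_prΦ (Φ : Finset ℕ) : GenOverDVR (PrΦ.{u} Φ) := by
  intro V _ _ _ Y g hft G hG hfl z z' hz'z hzcl hz
  haveI := hft
  intro j hj hA
  refine hz j hj (assDim_special g G hG j hfl z z' hz'z ?_ hA)
  rw [hzcl]
  rfl

end Groth.Agent.H99.AssDVR
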