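import Mathlib
import Groth.Agent.H99.AssDVR

/-!
# Embedded associated points of the fibre modules, topological form (helper99)

`EmbDim j j' f F x`: an associated point of dimension `j` of `F_{f x}` which is a specialization of
an associated point of dimension `j'` specializes to `x`.
`EmbThrough f F x`: `x` lies on an embedded associated prime cycle of `F_{f x}`.
-/

set_option autoImplicit false
set_option backward.isDefEq.respectTransparency.types false
set_option linter.style.haveILetI false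
set_option linter.unusedSectionVars false
universe u

open AlgebraicGeometry CategoryTheory CategoryTheory.Limits TopologicalSpace Topology IsLocalRing

namespace Groth.Agent.H99.AssEmb

open Groth.Agent.H99.ModPair Groth.Agent.H99.FibModProp Groth.Agent.H99.FibrePropGenM
  Groth.Agent.H99.ProfTop Groth.Agent.H99.ProfCons Groth.Agent.H99.ProfField
  Groth.Agent.H99.ProfMain Groth.Agent.H99.RkTop Groth.Agent.H99.CompDims
  Groth.Agent.H99.FibEqui Groth.Agent.H99.AssTop Groth.Agent.H99.FibrePropDVRM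
  Groth.Agent.H99.AssInv Groth.Agent.H99.DVRDimFun Groth.Agent.H99.ProfOpen
  Groth.Agent.H99.AssDVR Groth.Agent.H99.FibForall

/-- the set where to look for embedded associated points of dimension `j`. -/
def ZE (j j' : ℕ) : ∀ ⦃X S : Scheme.{u}⦄, (X ⟶ S) → X.Modules → Set X := fun _ _ f F =>
  ZP j f F ∩ {ξ | AssDim j' f F ξ}

/-- an associated point of dimension `j` of the fibre module, specialization of an associated point
of dimension `j'`, specializes to `x`. -/
def EmbDim (j j' : ℕ) : ∀ ⦃X S : Scheme.{u}⦄, (X ⟶ S) → X.Modules → X → Prop := fun _ _ f F x =>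
  NdPr (j : WithBot ℕ∞) f (ZE j j' f F) x

/-- `x` lies on an embedded associated prime cycle of the fibre module. -/
def EmbThrough : ∀ ⦃X S : Scheme.{u}⦄, (X ⟶ S) → X.Modules → X → Prop := fun _ _ f F x =>
  ∃ j j' : ℕ, j < j' ∧ EmbDim j j' f F x

theorem zE_iso (j j' : ℕ) {X S : Scheme.{u}} (f : X ⟶ S) (F G : X.Modules) (i : F ≅ G) :
    ZE j j' f F = ZE j j' f G := by
  unfold ZE
  rw [zP_iso j f F G i]
  congr 1
  ext ξ
  exact (isFibInvM_assDim j').iso f F G i ξ

theorem zE_baseChange (j j' : ℕ) {X S X' S' : Scheme.{u}} (f : X ⟶ S) (f' : X' ⟶ S')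
    (g' : X' ⟶ X) (g : S' ⟶ S) (hc : IsPullback g' f' f g) (hft : LocallyOfFiniteType f)
    (F : X.Modules) (hF : Coh.IsCoh F) :
    ZE j j' f' ((Scheme.Modules.pullback g').obj F) = g' ⁻¹' ZE j j' f F := by
  unfold ZE
  rw [zP_baseChange j f f' g' g hc hft F hF, Set.preimage_inter]
  congr 1
  ext ξ
  exact (isFibInvM_assDim j').baseChange f f' g' g hc hft F hF ξ

theorem zE_openImm (j j' : ℕ) {U X S : Scheme.{u}} (i : U ⟶ X) (f : X ⟶ S)
    (hi : IsOpenImmersion i) (hft : LocallyOfFiniteType f) (F : X.Modules) (hF : Coh.IsCoh F) :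
    ZE j j' (i ≫ f) ((Scheme.Modules.pullback i).obj F) = i ⁻¹' ZE j j' f F := by
  unfold ZE
  rw [zP_openImm j i f hi hft F hF, Set.preimage_inter]
  congr 1
  ext ξ
  exact (isFibInvM_assDim j').openImm i f hi hft F hF ξ

theorem isFibInvM_embDim (j j' : ℕ) : IsFibInvM (EmbDim.{u} j j') where
  iso := by
    intro X S f F G i x
    unfold EmbDim
    rw [zE_iso j j' f F G i]
  baseChange := by
    intro X S X' S' f f' g' g hc hft F hF x'
    haveI := hft
    unfold EmbDim
    rw [zE_baseChange j j' f f' g' g hc hft F hF]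
    exact ndPr_baseChange f f' g' g hc _ _ x'
  openImm := by
    intro U X S i f hi hft F hF u
    haveI := hft
    haveI := hi
    unfold EmbDim
    rw [zE_openImm j j' i f hi hft F hF]
    exact ndPr_openImm i f _ _ u

theorem isLCM_embDim (j j' : ℕ) : IsLCM (EmbDim.{u} j j') := by
  intro X S f hf F hq hF
  haveI := hf
  haveI := hq
  unfold EmbDim
  refine isLocallyConstructible_ndPr _ f _ ?_
  exact (Groth.Agent.H17.isLocallyConstructible_compl
    (isLocallyConstructible_profGE f F hF (j + 1))).inter (isLCM_assDim j' f hf F hq hF)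

theorem isFibInvM_embThrough : IsFibInvM EmbThrough.{u} where
  iso := by
    intro X S f F G i x
    unfold EmbThrough
    refine exists_congr fun j => exists_congr fun j' => and_congr Iff.rfl ?_
    exact (isFibInvM_embDim j j').iso f F G i x
  baseChange := by
    intro X S X' S' f f' g' g hc hft F hF x'
    unfold EmbThrough
    refine exists_congr fun j => exists_congr fun j' => and_congr Iff.rfl ?_
    exact (isFibInvM_embDim j j').baseChange f f' g' g hc hft F hF x'
  openImm := by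
    intro U X S i f hi hft F hF u
    unfold EmbThrough
    refine exists_congr fun j => exists_congr fun j' => and_congr Iff.rfl ?_
    exact (isFibInvM_embDim j j').openImm i f hi hft F hF u

section LFT

variable {X S : Scheme.{u}} (f : X ⟶ S) [LocallyOfFiniteType f] (F : X.Modules)
  (hF : Coh.IsCoh F)

include hF in
/-- **`EmbDim` in explicit terms.** -/
theorem embDim_iff (j j' : ℕ) (x : X) :
    EmbDim j j' f F x ↔ ∃ ξ : X, ξ ⤳ x ∧ f ξ = f x ∧ fdim f ξ = j ∧ fibDepth f F ξ = 0 ∧
      AssDim j' f F ξ := by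
  constructor
  · rintro ⟨ξ, ⟨hξZ, hξA⟩, hξx, hfξ, -, hd⟩
    refine ⟨ξ, hξx, hfξ, hd, ?_, hξA⟩
    have h1 := (mem_zP_iff f F hF j ξ j hd).mp hξZ
    rcases eq_or_ne (fibDepth f F ξ) ⊤ with h | h
    · rw [h, top_add] at h1
      simp at h1
    · obtain ⟨e, he⟩ := ENat.ne_top_iff_exists.mp h
      rw [← he] at h1 ⊢
      have : e + j ≤ j := by exact_mod_cast h1
      have : e = 0 := by omega
      rw [this]
      rfl
  · rintro ⟨ξ, hξx, hfξ, hd, h0, hA⟩
    refine ⟨ξ, ⟨?_, hA⟩, hξx, hfξ, ?_, hd⟩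
    · rw [mem_zP_iff f F hF j ξ j hd, h0, zero_add]
    · intro w hw hwξ hfw
      obtain ⟨m, hm⟩ := exists_nat_eq_fdim f w
      have h1 := (mem_zP_iff f F hF j w m hm).mp hw.1
      have h2 : (m : ℕ∞) ≤ j := le_trans (le_add_self) h1
      have h3 : m ≤ j := by exact_mod_cast h2
      refine specializes_of_fdim_le f hwξ hfw ?_
      rw [hm, hd]
      exact_mod_cast h3

include hF in
theorem embDim_le_of_fibreDimAt_le (j j' D : ℕ) (x : X) (hx : FlatMor.fibreDimAt f x ≤ D)
    (h : EmbDim j j' f F x) : j' ≤ D := by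
  obtain ⟨ξ, hξx, -, -, -, hA⟩ := (embDim_iff f F hF j j' x).mp h
  obtain ⟨ξ', -, hξ'ξ, -, -, hd⟩ := hA
  have := fdim_le_of_fibreDimAt_le f D x ξ' hx (hξ'ξ.trans hξx)
  rw [hd] at this
  exact_mod_cast this

end LFT

theorem isLCM_embThrough : IsLCM EmbThrough.{u} := by
  intro X S f hf F hq hF
  haveI := hf
  haveI := hq
  have hFc : Coh.IsCoh F := isCoh_of_isFP F hF
  refine isLocallyConstructible_of_cover f _
    (fun D => ⋃ p ∈ {p : ℕ × ℕ | p.1 < p.2 ∧ p.2 ≤ D}, {x : X | EmbDim p.1 p.2 f F x})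
    (fun D => IsLocallyConstructible.biUnion
      (((Set.finite_Iic D).prod (Set.finite_Iic D)).subset (fun p hp =>
        ⟨(hp.1.le.trans hp.2 : p.1 ≤ D), (hp.2 : p.2 ≤ D)⟩))
      (fun p _ => isLCM_embDim p.1 p.2 f hf F hq hF)) ?_
  intro D x hx
  simp only [Set.mem_ofPred_eq, Set.mem_iUnion, exists_prop, Prod.exists]
  unfold EmbThrough
  constructor
  · rintro ⟨j, j', hjj', h⟩
    exact ⟨j, j', ⟨hjj', embDim_le_of_fibreDimAt_le f F hFc j j' D x hx h⟩, h⟩
  · rintro ⟨j, j', ⟨hjj', -⟩, h⟩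
    exact ⟨j, j', hjj', h⟩

/-- **generization over discrete valuation rings**: no embedded component through `z` implies no
embedded component through its generizations. -/
theorem genOverDVR_not_embThrough : GenOverDVR (fun _ _ f F x => ¬ EmbThrough.{u} f F x) := by
  intro V _ _ _ Y g hft G hG hfl z z' hz'z hzcl hz
  haveI := hft
  have hzm : (g z).asIdeal = maximalIdeal V := by rw [hzcl]; rfl
  rintro ⟨j, j', hjj', hE⟩
  refine hz ⟨j, j', hjj', ?_⟩
  obtain ⟨ξ', hξ'z', hgξ', hd, h0, hA⟩ := (embDim_iff g G hG j j' z').mp hE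
  rw [embDim_iff g G hG j j' z]
  rcases asIdeal_eq_bot_or V (g ξ') with hb | hm
  · obtain ⟨ξ, h1, h2, h3, h4⟩ := exists_special_point g ξ' z (hξ'z'.trans hz'z) hb hzm
    obtain ⟨h5, h6⟩ := fibDepth_special g G hG ξ' ξ h1 h4 hb h3 (hfl ξ') (hfl ξ) h0
    refine ⟨ξ, h2, ?_, ?_, h5, ?_⟩
    · apply PrimeSpectrum.ext
      rw [h3, hzm]
    · rw [fdim_eq_tr, h6, ← fdim_eq_tr, hd]
    · exact assDim_special g G hG j' hfl ξ ξ' h1 h3 hA
  · refine ⟨ξ', hξ'z'.trans hz'z, ?_, hd, h0, hA⟩
    apply PrimeSpectrum.ext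
    rw [hm, hzm]

end Groth.Agent.H99.AssEmb
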