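import Mathlib
import Groth.Agent.H99.AssEmb

/-!
# Embedded associated points of the fibre modules: statement form (helper99)
-/

set_option autoImplicit false
set_option backward.isDefEq.respectTransparency.types false
set_option linter.style.haveILetI false
set_option linter.unusedSectionVars false
universe u

open AlgebraicGeometry CategoryTheory CategoryTheory.Limits TopologicalSpace Topology IsLocalRing

namespace Groth.Agent.H99.AssEmbBridge

open Groth.Agent.H99.ModPair Groth.Agent.H99.FibModProp Groth.Agent.H99.FibrePropGenM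
  Groth.Agent.H99.ProfTop Groth.Agent.H99.ProfCons Groth.Agent.H99.ProfField
  Groth.Agent.H99.ProfMain Groth.Agent.H99.RkTop Groth.Agent.H99.CompDims
  Groth.Agent.H99.FibEqui Groth.Agent.H99.AssTop Groth.Agent.H99.FibrePropDVRM
  Groth.Agent.H99.AssInv Groth.Agent.H99.AssBridge Groth.Agent.H99.AssEmb
  Groth.Agent.H99.FibForall

variable {X S : Scheme.{u}} (f : X ⟶ S) [LocallyOfFiniteType f] (F : X.Modules)
  (hF : Coh.IsCoh F)

/-- the pointwise statement form: no embedded associated point of the fibre through `x'`. -/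
def NoEmbAt (y : S) (x' : f.fiber y) : Prop :=
  ∀ z ∈ AssSch.Ass ((Scheme.Modules.pullback (f.fiberι y)).obj F), x' ∈ closure {z} →
    ∀ z' ∈ AssSch.Ass ((Scheme.Modules.pullback (f.fiberι y)).obj F), z ∈ closure {z'} → z' = z

include hF in
/-- **bridge**: the statement form of "no embedded associated point through `x`". -/
theorem noEmbAt_iff (x : X) : NoEmbAt f F (f x) (f.asFiber x) ↔ ¬ EmbThrough f F x := by
  constructor
  · rintro h ⟨j, j', hjj', hE⟩
    obtain ⟨ξ, hξx, hfξ, hd, h0, hA⟩ := (embDim_iff f F hF j j' x).mp hE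
    obtain ⟨ξ', hξ'ξ, hfξ', hd', h0'⟩ := (assDim_iff f F hF j' ξ).mp hA
    obtain ⟨z, hz⟩ := mem_range_fiberι f (f x) ξ hfξ
    obtain ⟨z', hz'⟩ := mem_range_fiberι f (f x) ξ' (hfξ'.trans hfξ)
    have hzA : z ∈ AssSch.Ass ((Scheme.Modules.pullback (f.fiberι (f x))).obj F) := by
      rw [mem_ass_fibre_iff_fibDepth f F hF (f x) z, hz]
      exact h0
    have hz'A : z' ∈ AssSch.Ass ((Scheme.Modules.pullback (f.fiberι (f x))).obj F) := by
      rw [mem_ass_fibre_iff_fibDepth f F hF (f x) z', hz']
      exact h0'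
    have hsp : z ⤳ f.asFiber x := by
      rw [← Groth.Agent.H48.CycFib.fiberι_specializes_iff, hz, Scheme.Hom.fiberι_asFiber]
      exact hξx
    have hsp' : z' ⤳ z := by
      rw [← Groth.Agent.H48.CycFib.fiberι_specializes_iff, hz, hz']
      exact hξ'ξ
    have heq := h z hzA (specializes_iff_mem_closure.mp hsp) z' hz'A
      (specializes_iff_mem_closure.mp hsp')
    have : ξ' = ξ := by rw [← hz, ← hz', heq]
    rw [this, hd] at hd'
    have : j = j' := by exact_mod_cast hd'
    omega
  · intro h z hzA hcl z' hz'A hcl'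
    by_contra hne
    have hsp : z ⤳ f.asFiber x := specializes_iff_mem_closure.mpr hcl
    have hsp' : z' ⤳ z := specializes_iff_mem_closure.mpr hcl'
    have hξx : f.fiberι (f x) z ⤳ x := by
      have := (Groth.Agent.H48.CycFib.fiberι_specializes_iff f (f x) z (f.asFiber x)).mpr hsp
      rwa [Scheme.Hom.fiberι_asFiber] at this
    have hξ'ξ : f.fiberι (f x) z' ⤳ f.fiberι (f x) z :=
      (Groth.Agent.H48.CycFib.fiberι_specializes_iff f (f x) z' z).mpr hsp'
    have hn : ¬ f.fiberι (f x) z ⤳ f.fiberι (f x) z' := by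
      intro hcon
      have := (Groth.Agent.H48.CycFib.fiberι_specializes_iff f (f x) z z').mp hcon
      exact hne (hsp'.antisymm this).eq
    have h0 : fibDepth f F (f.fiberι (f x) z) = 0 :=
      (mem_ass_fibre_iff_fibDepth f F hF (f x) z).mp hzA
    have h0' : fibDepth f F (f.fiberι (f x) z') = 0 :=
      (mem_ass_fibre_iff_fibDepth f F hF (f x) z').mp hz'A
    have hfz : f (f.fiberι (f x) z) = f x := fiberι_apply' f (f x) z
    have hfz' : f (f.fiberι (f x) z') = f x := fiberι_apply' f (f x) z'
    obtain ⟨j, hj⟩ := exists_nat_eq_fdim f (f.fiberι (f x) z)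
    obtain ⟨j', hj'⟩ := exists_nat_eq_fdim f (f.fiberι (f x) z')
    have hlt := fdim_add_one_le f hξ'ξ (hfz'.trans hfz.symm) hn
    rw [hj, hj'] at hlt
    have hjj' : j < j' := by
      have : j + 1 ≤ j' := by exact_mod_cast hlt
      omega
    refine h ⟨j, j', hjj', (embDim_iff f F hF j j' x).mpr
      ⟨_, hξx, hfz, hj, h0, (assDim_iff f F hF j' _).mpr
        ⟨_, hξ'ξ, hfz'.trans hfz.symm, hj', h0'⟩⟩⟩

/-- `NoEmbedded` in terms of the pointwise form. -/
theorem noEmbedded_iff (y : S) :
    AssSch.NoEmbedded ((Scheme.Modules.pullback (f.fiberι y)).obj F) ↔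
      ∀ x' : f.fiber y, NoEmbAt f F y x' := by
  constructor
  · intro h x' z hz _ z' hz' hcl'
    exact (h z hz z' hz' (specializes_iff_mem_closure.mpr hcl')).symm
  · intro h z hz z' hz' hsp
    exact (h z z hz (subset_closure rfl) z' hz' (specializes_iff_mem_closure.mp hsp)).symm

include hF in
/-- the set of points whose fibre module has no embedded associated point, as the complement of an
image. -/
theorem setOf_noEmbedded_eq :
    {y : S | AssSch.NoEmbedded ((Scheme.Modules.pullback (f.fiberι y)).obj F)} =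
      (f '' {x : X | EmbThrough f F x})ᶜ := by
  have h1 := setOf_forall_fiber_eq f (NoEmbAt f F)
  have h2 : {y : S | AssSch.NoEmbedded ((Scheme.Modules.pullback (f.fiberι y)).obj F)} =
      {y : S | ∀ x' : f.fiber y, NoEmbAt f F y x'} := by
    ext y
    exact noEmbedded_iff f F y
  rw [h2, h1]
  congr 2
  ext x
  simp only [Set.mem_compl_iff, Set.mem_ofPred_eq]
  rw [noEmbAt_iff f F hF x, not_not]

/-- negation of an invariant pointwise property. -/
theorem isFibInvM_not {Pr : ∀ ⦃X S : Scheme.{u}⦄, (X ⟶ S) → X.Modules → X → Prop}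
    (h : IsFibInvM Pr) : IsFibInvM (fun _ _ f F x => ¬ Pr f F x) where
  iso := fun _ _ f F G i x => not_congr (h.iso f F G i x)
  baseChange := fun _ _ _ _ f f' g' g hc hft F hF x' =>
    not_congr (h.baseChange f f' g' g hc hft F hF x')
  openImm := fun _ _ _ j f hj hft F hF u => not_congr (h.openImm j f hj hft F hF u)

theorem isLCM_not {Pr : ∀ ⦃X S : Scheme.{u}⦄, (X ⟶ S) → X.Modules → X → Prop}
    (h : IsLCM Pr) : IsLCM (fun _ _ f F x => ¬ Pr f F x) := by
  intro X S f hf F hq hF
  exact Groth.Agent.H17.isLocallyConstructible_compl (h f hf F hq hF)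

/-- **EGA IV 12.1.1 (vi)**: the set of points lying on no embedded associated prime cycle of their
fibre is open (flat case). -/
theorem isOpen_not_embThrough {X S : Scheme.{u}} (f : X ⟶ S) [LocallyOfFinitePresentation f]
    (F : X.Modules) [Coh.IsQCoh F] (hF : CohB1.IsFP F) (hfl : FlatMod.IsFlatOver f F) :
    IsOpen {x : X | ¬ EmbThrough f F x} :=
  isOpen_of_genOverDVR (isFibInvM_not isFibInvM_embThrough) (isLCM_not isLCM_embThrough)
    genOverDVR_not_embThrough f F hF hfl

end Groth.Agent.H99.AssEmbBridge
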