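import Mathlib
import Groth.Agent.H99.AssEmbBridge

/-!
# The set of dimensions of the associated prime cycles of the fibres (helper99)
-/

set_option autoImplicit false
set_option backward.isDefEq.respectTransparency.types false
set_option linter.style.haveILetI false
set_option linter.unusedSectionVars false
universe u

open AlgebraicGeometry CategoryTheory CategoryTheory.Limits TopologicalSpace Topology IsLocalRing

namespace Groth.Agent.H99.AssDimsCons

open Groth.Agent.H99.ModPair Groth.Agent.H99.FibModProp Groth.Agent.H99.FibrePropGenM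
  Groth.Agent.H99.ProfTop Groth.Agent.H99.ProfCons Groth.Agent.H99.ProfField
  Groth.Agent.H99.ProfMain Groth.Agent.H99.RkTop Groth.Agent.H99.CompDims
  Groth.Agent.H99.FibEqui Groth.Agent.H99.AssTop Groth.Agent.H99.FibrePropDVRM
  Groth.Agent.H99.AssInv Groth.Agent.H99.AssBridge Groth.Agent.H99.AssEmb
  Groth.Agent.H99.FibForall

variable {X S : Scheme.{u}} (f : X ⟶ S) [LocallyOfFiniteType f] (F : X.Modules)
  (hF : Coh.IsCoh F)

/-- the pointwise statement form: the associated points through `x'` have dimension in `Φ`. -/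
def AssDimsAt (Φ : Finset ℕ) (y : S) (x' : f.fiber y) : Prop :=
  ∀ z ∈ AssSch.Ass ((Scheme.Modules.pullback (f.fiberι y)).obj F), x' ∈ closure {z} →
    ∃ n ∈ Φ, topologicalKrullDim ↥(closure ({z} : Set ↥(f.fiber y))) = (n : WithBot ℕ∞)

include hF in
/-- the points `s` such that `F_s` has an associated point of dimension `j`. -/
theorem mem_image_assDim_iff (j : ℕ) (s : S) :
    s ∈ f '' {x : X | AssDim j f F x} ↔
      ∃ z ∈ AssSch.Ass ((Scheme.Modules.pullback (f.fiberι s)).obj F),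
        topologicalKrullDim ↥(closure ({z} : Set ↥(f.fiber s))) = (j : WithBot ℕ∞) := by
  constructor
  · rintro ⟨x, hx, rfl⟩
    obtain ⟨ξ, -, hfξ, hd, h0⟩ := (assDim_iff f F hF j x).mp hx
    obtain ⟨z, hz⟩ := mem_range_fiberι f (f x) ξ hfξ
    refine ⟨z, ?_, ?_⟩
    · rw [mem_ass_fibre_iff_fibDepth f F hF (f x) z, hz]
      exact h0
    · rw [dim_closure_fibre_eq f (f x) z, hz, hd]
  · rintro ⟨z, hzA, hd⟩
    refine ⟨f.fiberι s z, ?_, fiberι_apply' f s z⟩
    rw [Set.mem_ofPred_eq, assDim_iff f F hF j _]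
    refine ⟨_, specializes_rfl, rfl, ?_, (mem_ass_fibre_iff_fibDepth f F hF s z).mp hzA⟩
    rw [← dim_closure_fibre_eq f s z, hd]

include hF in
/-- **the set where the set of dimensions of the associated prime cycles is `Φ`.** -/
theorem setOf_assDims_eq (Φ : Finset ℕ) :
    {s : S | (fun z : ↥(f.fiber s) => topologicalKrullDim ↥(closure ({z} : Set ↥(f.fiber s)))) ''
          AssSch.Ass ((Scheme.Modules.pullback (f.fiberι s)).obj F) =
        (fun n : ℕ => (n : WithBot ℕ∞)) '' (Φ : Set ℕ)} =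
      (f '' {x : X | PrΦ Φ f F x}ᶜ)ᶜ ∩ ⋂ j ∈ Φ, f '' {x : X | AssDim j f F x} := by
  have h1 := setOf_forall_fiber_eq f (AssDimsAt f F Φ)
  have h2 : {x : X | AssDimsAt f F Φ (f x) (f.asFiber x)} = {x : X | PrΦ Φ f F x} := by
    ext x
    exact prΦ_iff f F hF Φ x
  rw [h2] at h1
  rw [← h1]
  ext s
  simp only [Set.mem_ofPred_eq, Set.mem_inter_iff, Set.mem_iInter]
  constructor
  · intro h
    refine ⟨?_, ?_⟩
    · intro x' z hz _
      have : topologicalKrullDim ↥(closure ({z} : Set ↥(f.fiber s))) ∈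
          (fun n : ℕ => (n : WithBot ℕ∞)) '' (Φ : Set ℕ) := by
        rw [← h]
        exact ⟨z, hz, rfl⟩
      obtain ⟨n, hn, hnz⟩ := this
      exact ⟨n, hn, hnz.symm⟩
    · intro j hj
      rw [mem_image_assDim_iff f F hF j s]
      have : ((j : ℕ) : WithBot ℕ∞) ∈
          (fun z : ↥(f.fiber s) => topologicalKrullDim ↥(closure ({z} : Set ↥(f.fiber s)))) ''
          AssSch.Ass ((Scheme.Modules.pullback (f.fiberι s)).obj F) := by
        rw [h]
        exact ⟨j, hj, rfl⟩
      obtain ⟨z, hz, hzj⟩ := this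
      exact ⟨z, hz, hzj⟩
  · rintro ⟨h1, h2⟩
    apply Set.Subset.antisymm
    · rintro _ ⟨z, hz, rfl⟩
      obtain ⟨n, hn, hnz⟩ := h1 z z hz (subset_closure rfl)
      exact ⟨n, hn, hnz.symm⟩
    · rintro _ ⟨j, hj, rfl⟩
      obtain ⟨z, hz, hzj⟩ := (mem_image_assDim_iff f F hF j s).mp (h2 j hj)
      exact ⟨z, hz, hzj⟩

end Groth.Agent.H99.AssDimsCons
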