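import Mathlib
import Groth.Agent.H8.QCohStalk
import Groth.Agent.H13.QuasiFlat
import Groth.Agent.H44.FiniteSections
import Groth.Agent.H48.DimFunSch
import Groth.Prelude.Def_FlatMod2

/-!
# Going down for the support of a flat module (helper99)

* `exists_prime_support_comap_eq`: `A → B` a local homomorphism of local rings, `M` a nonzero finite
  `B`-module flat over `A`; every prime of `A` is the contraction of a prime of the support of `M`.
* `exists_generization_support`: for `F` quasi-coherent of finite type, `f`-flat at a point `x` of its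
  support, every generization of `f x` lifts to a generization of `x` in the support of `F`.
-/

set_option autoImplicit false
set_option backward.isDefEq.respectTransparency.types false
set_option linter.style.haveILetI false
set_option linter.unusedSectionVars false
universe u

open AlgebraicGeometry CategoryTheory TopologicalSpace Topology IsLocalRing TensorProduct

namespace Groth.Agent.H99.SuppGoingDown

section Algebra

variable {A B : Type u} [CommRing A] [CommRing B] [Algebra A B]
  (M : Type u) [AddCommGroup M] [Module A M] [Module B M] [IsScalarTower A B M]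

/-- an element outside the prime `p` is regular on `M / pM` for flat `M`. -/
theorem mem_smul_top_of_smul_mem [Module.Flat A M] (p : Ideal A) [p.IsPrime] (a : A) (ha : a ∉ p)
    (m : M) (h : a • m ∈ p • (⊤ : Submodule A M)) : m ∈ p • (⊤ : Submodule A M) := by
  have h1 : IsSMulRegular (A ⧸ p) a := by
    intro x y hxy
    simp only [Algebra.smul_def, Ideal.Quotient.algebraMap_eq] at hxy
    have hne : Ideal.Quotient.mk p a ≠ 0 := by
      rwa [Ne, Ideal.Quotient.eq_zero_iff_mem]
    exact mul_left_cancel₀ hne hxy
  have h2 : IsSMulRegular (M ⊗[A] (A ⧸ p)) a := IsSMulRegular.lTensor M h1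
  have h3 : IsSMulRegular (M ⧸ p • (⊤ : Submodule A M)) a :=
    ((TensorProduct.tensorQuotEquivQuotSMul M p).isSMulRegular_congr a).mp h2
  have h4 : a • (Submodule.Quotient.mk m : M ⧸ p • (⊤ : Submodule A M)) = a • 0 := by
    rw [smul_zero, ← Submodule.Quotient.mk_smul, Submodule.Quotient.mk_eq_zero]
    exact h
  exact (Submodule.Quotient.mk_eq_zero _).mp (h3 h4)

variable [IsLocalRing A] [IsLocalRing B] [IsLocalHom (algebraMap A B)]

/-- **going down for the support of a flat module.** -/
theorem exists_prime_support_comap_eq [Module.Finite B M] [Module.Flat A M] [Nontrivial M]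
    (p : Ideal A) [p.IsPrime] :
    ∃ q : PrimeSpectrum B, q.asIdeal.comap (algebraMap A B) = p ∧
      Module.annihilator B M ≤ q.asIdeal := by
  set J : Ideal B := p.map (algebraMap A B) with hJ
  set JM : Submodule B M := J • (⊤ : Submodule B M) with hJM
  have hJM' : JM.restrictScalars A = p • (⊤ : Submodule A M) := by
    rw [hJM, hJ, Ideal.smul_restrictScalars, Submodule.restrictScalars_top]
  have hJmax : J ≤ maximalIdeal B := by
    rw [hJ, Ideal.map_le_iff_le_comap]
    intro a ha
    have h1 : a ∈ maximalIdeal A := IsLocalRing.le_maximalIdeal (Ideal.IsPrime.ne_top inferInstance) ha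
    rw [Ideal.mem_comap]
    exact (IsLocalRing.mem_maximalIdeal _).mpr (fun hu =>
      (IsLocalRing.mem_maximalIdeal _).mp h1 (isUnit_of_map_unit (algebraMap A B) a hu))
  have hne : JM ≠ ⊤ := by
    intro htop
    have h1 : (⊤ : Submodule B M) ≤ J • (⊤ : Submodule B M) := by rw [← hJM, htop]
    have h2 := Submodule.eq_bot_of_le_smul_of_le_jacobson_bot J (⊤ : Submodule B M)
      Module.Finite.fg_top h1 (hJmax.trans (IsLocalRing.maximalIdeal_le_jacobson _))
    exact top_ne_bot h2
  haveI : Nontrivial (M ⧸ JM) := Submodule.Quotient.nontrivial_iff.mpr hne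
  have hann : Module.annihilator B (M ⧸ JM) ≠ ⊤ := by
    intro h
    rw [Module.annihilator_eq_top_iff] at h
    exact not_subsingleton _ h
  obtain ⟨m, hm, hle⟩ := Ideal.exists_le_maximal _ hann
  obtain ⟨q, hq, -⟩ := Ideal.exists_minimalPrimes_le hle
  haveI : q.IsPrime := hq.1.1
  have hJq : J ≤ q := by
    refine le_trans ?_ hq.1.2
    intro b hb
    rw [Module.mem_annihilator]
    intro n
    obtain ⟨m, rfl⟩ := Submodule.Quotient.mk_surjective _ n
    rw [← Submodule.Quotient.mk_smul, Submodule.Quotient.mk_eq_zero]
    exact Submodule.smul_mem_smul hb Submodule.mem_top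
  refine ⟨⟨q, inferInstance⟩, ?_, ?_⟩
  · apply le_antisymm
    · intro a ha
      by_contra hap
      have hreg : IsSMulRegular (M ⧸ JM) (algebraMap A B a) := by
        rw [isSMulRegular_iff_right_eq_zero_of_smul]
        intro n hn
        obtain ⟨m, rfl⟩ := Submodule.Quotient.mk_surjective _ n
        rw [← Submodule.Quotient.mk_smul, Submodule.Quotient.mk_eq_zero] at hn
        rw [Submodule.Quotient.mk_eq_zero]
        have h1 : a • m ∈ p • (⊤ : Submodule A M) := by
          rw [← hJM', Submodule.restrictScalars_mem, ← algebraMap_smul B a m]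
          exact hn
        have h2 := mem_smul_top_of_smul_mem M p a hap m h1
        rw [← hJM', Submodule.restrictScalars_mem] at h2
        exact h2
      exact hreg.notMem_of_mem_minimalPrimes hq ha
    · intro a ha
      exact hJq (Ideal.mem_map_of_mem _ ha)
  · refine le_trans ?_ hq.1.2
    intro b hb
    rw [Module.mem_annihilator] at hb ⊢
    intro n
    obtain ⟨m, rfl⟩ := Submodule.Quotient.mk_surjective _ n
    rw [← Submodule.Quotient.mk_smul, hb m, Submodule.Quotient.mk_zero]

end Algebra

section Scheme

variable {X S : Scheme.{u}} (f : X ⟶ S) (F : X.Modules) (hF : Coh.IsCoh F)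

include hF in
/-- the stalk at a point of an affine open is nonzero iff the annihilator of the module of sections
is contained in the prime ideal of the point. -/
theorem nontrivial_stalk_iff_annihilator_le {U : X.Opens} (hU : IsAffineOpen U) {y : X}
    (hy : y ∈ U) :
    Nontrivial (F.presheaf.stalk y) ↔
      Module.annihilator Γ(X, U) Γ(F, U) ≤ (hU.primeIdealOf ⟨y, hy⟩).asIdeal := by
  haveI : F.IsQuasicoherent := hF.1
  haveI : SheafOfModules.IsFiniteType (R := X.ringCatSheaf) F := hF.2
  haveI : Module.Finite Γ(X, U) Γ(F, U) := Groth.Agent.H44.finite_sections_of_isFiniteType F hU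
  rw [← Module.mem_support_iff_of_finite, Module.mem_support_iff]
  letI := Groth.Agent.H8.stalkModule F hy
  haveI := Groth.Agent.H8.isLocalizedModule_germₗ F hU hy
  let e := IsLocalizedModule.iso (hU.primeIdealOf ⟨y, hy⟩).asIdeal.primeCompl
    (Groth.Agent.H8.germₗ F hy)
  exact ⟨fun h => e.toEquiv.nontrivial, fun h => e.symm.toEquiv.nontrivial⟩

include hF in
/-- **going down for the support of a flat module, scheme form.** -/
theorem exists_generization_support (x : X) (hfl : FlatMod.IsFlatOverAt f F x)
    (hx : Nontrivial (F.presheaf.stalk x)) (s' : S) (hs : s' ⤳ f x) :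
    ∃ x' : X, x' ⤳ x ∧ f x' = s' ∧ Nontrivial (F.presheaf.stalk x') := by
  haveI : F.IsQuasicoherent := hF.1
  letI : Algebra (S.presheaf.stalk (f x)) (X.presheaf.stalk x) := (f.stalkMap x).hom.toAlgebra
  letI : Module (S.presheaf.stalk (f x)) (F.presheaf.stalk x) := FlatMod.moduleStalkOver f F x
  haveI : IsScalarTower (S.presheaf.stalk (f x)) (X.presheaf.stalk x) (F.presheaf.stalk x) :=
    IsScalarTower.of_algebraMap_smul (fun _ _ => rfl)
  haveI : IsLocalHom (algebraMap (S.presheaf.stalk (f x)) (X.presheaf.stalk x)) :=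
    inferInstanceAs (IsLocalHom (f.stalkMap x).hom)
  haveI : Module.Flat (S.presheaf.stalk (f x)) (F.presheaf.stalk x) := hfl
  haveI := Groth.Agent.H13.finite_stalk_of_isCoh F hF x
  obtain ⟨p, hp⟩ : s' ∈ Set.range (S.fromSpecStalk (f x)) := by
    rw [Scheme.range_fromSpecStalk]; exact hs
  obtain ⟨q, hq1, hq2⟩ := exists_prime_support_comap_eq (A := S.presheaf.stalk (f x))
    (B := X.presheaf.stalk x) (F.presheaf.stalk x) p.asIdeal
  refine ⟨X.fromSpecStalk x q, ?_, ?_, ?_⟩
  · have : X.fromSpecStalk x q ∈ Set.range (X.fromSpecStalk x) := Set.mem_range_self q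
    rwa [Scheme.range_fromSpecStalk] at this
  · have h1 := congr($(Scheme.SpecMap_stalkMap_fromSpecStalk f (x := x)) q)
    rw [← hp]
    refine Eq.trans h1.symm ?_
    show S.fromSpecStalk (f x) (Spec.map (f.stalkMap x) q) = _
    congr 1
    exact PrimeSpectrum.ext hq1
  · obtain ⟨U, hU, hxU, -⟩ := exists_isAffineOpen_mem_and_subset (x := x) (U := ⊤) trivial
    set Q : PrimeSpectrum Γ(X, U) := Spec.map (X.presheaf.germ U x hxU) q with hQ
    have hx' : X.fromSpecStalk x q = hU.fromSpec Q := by
      rw [← hU.fromSpecStalk_eq_fromSpecStalk hxU]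
      rfl
    have hx'U : X.fromSpecStalk x q ∈ U := by
      rw [hx']
      exact Groth.Agent.H48.DimFunSch.fromSpec_mem hU Q
    have hQ' : hU.primeIdealOf ⟨X.fromSpecStalk x q, hx'U⟩ = Q := by
      apply Groth.Agent.H48.DimFunSch.fromSpec_injective hU
      exact (hU.fromSpec_primeIdealOf ⟨_, hx'U⟩).trans hx'
    rw [nontrivial_stalk_iff_annihilator_le F hF hU hx'U, hQ']
    intro r hr
    show (X.presheaf.germ U x hxU).hom r ∈ q.asIdeal
    refine hq2 ?_
    rw [Module.mem_annihilator]
    intro m
    letI := Groth.Agent.H8.stalkModule F hxU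
    haveI := Groth.Agent.H8.isLocalizedModule_germₗ F hU hxU
    obtain ⟨⟨n, s⟩, hns⟩ := IsLocalizedModule.surj (hU.primeIdealOf ⟨x, hxU⟩).asIdeal.primeCompl
      (Groth.Agent.H8.germₗ F hxU) m
    have hs : IsUnit ((X.presheaf.germ U x hxU).hom (s : Γ(X, U))) := by
      by_contra hcon
      exact s.2 ((Groth.Agent.H8.mem_primeIdealOf_iff hU hxU _).mpr hcon)
    have h1 : (X.presheaf.germ U x hxU).hom (s : Γ(X, U)) •
        ((X.presheaf.germ U x hxU).hom r • m) = 0 := by
      rw [smul_comm]
      have h2 : (X.presheaf.germ U x hxU).hom (s : Γ(X, U)) • m =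
          Groth.Agent.H8.germₗ F hxU n := hns
      rw [h2]
      have h3 : (X.presheaf.germ U x hxU).hom r • Groth.Agent.H8.germₗ F hxU n =
          Groth.Agent.H8.germₗ F hxU (r • n) := ((Groth.Agent.H8.germₗ F hxU).map_smul r n).symm
      rw [h3, Module.mem_annihilator.mp hr n, map_zero]
    exact (hs.smul_eq_zero).mp h1

end Scheme

end Groth.Agent.H99.SuppGoingDown
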