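import Mathlib
import Groth.Agent.H99.AssDimsCons
import Groth.Agent.H99.SuppGoingDown
import Groth.Agent.H99.CompDimsMain
import Groth.Agent.H99.DVRGen

/-!
# The dimensions of the irreducible components of the supports of the fibre modules (helper99)

* `fibDepth_eq_zero_of_relMax`: the maximal points of `Supp F ∩ f⁻¹(s)` are associated points of the
  fibre module;
* `exists_ndPr_support_iff`: `Supp (F_s)` has an irreducible component of dimension `n` iff `s` is
  in the image of `Supp F ∩ {x | all associated points of F_{f x} through x have dimension n}`;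
* `isOpen_image_support_inter`: for a flat module of finite presentation, the image of
  `Supp F ∩ W` is open for every open locally constructible `W`.
-/

set_option autoImplicit false
set_option backward.isDefEq.respectTransparency.types false
set_option linter.style.haveILetI false
set_option linter.unusedSectionVars false
universe u

open AlgebraicGeometry CategoryTheory CategoryTheory.Limits TopologicalSpace Topology IsLocalRing

namespace Groth.Agent.H99.SuppComp

open Groth.Agent.H99.ModPair Groth.Agent.H99.FibModProp Groth.Agent.H99.FibrePropGenM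
  Groth.Agent.H99.ProfTop Groth.Agent.H99.ProfCons Groth.Agent.H99.ProfField
  Groth.Agent.H99.ProfMain Groth.Agent.H99.RkTop Groth.Agent.H99.CompDims
  Groth.Agent.H99.FibEqui Groth.Agent.H99.AssTop Groth.Agent.H99.FibrePropDVRM
  Groth.Agent.H99.AssInv Groth.Agent.H99.AssBridge Groth.Agent.H99.AssEmb
  Groth.Agent.H99.FibForall Groth.Agent.H99.FibEquiGen

variable {X S : Scheme.{u}} (f : X ⟶ S) [LocallyOfFiniteType f] (F : X.Modules)
  (hF : Coh.IsCoh F)

include hF in
theorem mem_support_of_fibDepth_eq_zero (ξ : X) (h : fibDepth f F ξ = 0) :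
    ξ ∈ CohB1.support F := by
  rw [← suppM_iff f F hF ξ]
  show Nontrivial _
  by_contra hcon
  rw [not_nontrivial_iff_subsingleton] at hcon
  let κ := IsLocalRing.ResidueField (S.presheaf.stalk (f ξ))
  let q : f.fiber (f ξ) ⟶ Spec (CommRingCat.of κ) := f.fiberToSpecResidueField (f ξ)
  haveI : LocallyOfFiniteType q :=
    inferInstanceAs (LocallyOfFiniteType (pullback.snd f (S.fromSpecResidueField (f ξ))))
  haveI : IsLocallyNoetherian (f.fiber (f ξ)) := LocallyOfFiniteType.isLocallyNoetherian q
  have := Groth.Agent.H29.CML.depth_eq_top_of_subsingleton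
    (A := (f.fiber (f ξ)).presheaf.stalk (f.asFiber ξ))
    (((Scheme.Modules.pullback (f.fiberι (f ξ))).obj F).presheaf.stalk (f.asFiber ξ))
  unfold fibDepth at h
  rw [h] at this
  exact ENat.top_ne_zero this.symm

include hF in
/-- the maximal points of the support in the fibres are associated points of the fibre modules. -/
theorem fibDepth_eq_zero_of_relMax (ξ : X) (h : RelMax f (CohB1.support F) ξ) :
    fibDepth f F ξ = 0 := by
  obtain ⟨j, hj⟩ := exists_nat_eq_fdim f ξ
  have hZ : ξ ∈ ZP j f F := by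
    unfold ZP
    rw [Set.mem_ofPred_eq]
    rintro (h1 | ⟨h1, -⟩)
    · exact h1 ((suppM_iff f F hF ξ).mpr h.1)
    · obtain ⟨w, hwξ, hfw, hw, hd⟩ := h1
      have := h.2 w ((suppM_iff f F hF w).mp hw) hfw hwξ
      rw [this, hj] at hd
      have : j + 1 ≤ j := by exact_mod_cast hd
      omega
  have h1 := (mem_zP_iff f F hF j ξ j hj).mp hZ
  rcases eq_or_ne (fibDepth f F ξ) ⊤ with h' | h'
  · rw [h', top_add] at h1
    simp at h1
  · obtain ⟨e, he⟩ := ENat.ne_top_iff_exists.mp h'
    rw [← he] at h1 ⊢
    have : e + j ≤ j := by exact_mod_cast h1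
    have : e = 0 := by omega
    rw [this]
    rfl

include hF in
/-- **components of the supports of the fibres in terms of associated points.** -/
theorem exists_ndPr_support_iff (hcl : IsClosed (CohB1.support F)) (n : ℕ) (s : S) :
    (∃ x, f x = s ∧ NdPr (n : WithBot ℕ∞) f (CohB1.support F) x) ↔
      s ∈ f '' (CohB1.support F ∩ {x : X | PrΦ {n} f F x}) := by
  constructor
  · rintro ⟨x, hx, ξ, hξZ, hξx, hfξ, hmax, hd⟩
    refine ⟨ξ, ⟨hξZ, ?_⟩, hfξ.trans hx⟩
    intro j hj hA
    obtain ⟨ξ', hξ'ξ, hfξ', hd', h0⟩ := (assDim_iff f F hF j ξ).mp hA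
    have hξ'Z : ξ' ∈ CohB1.support F := mem_support_of_fibDepth_eq_zero f F hF ξ' h0
    have h1 : ξ ⤳ ξ' := hmax ξ' hξ'Z hξ'ξ hfξ'
    have h2 : ξ' = ξ := (hξ'ξ.antisymm h1).eq
    rw [h2, hd] at hd'
    have : n = j := by exact_mod_cast hd'
    exact hj (by rw [← this]; exact Finset.mem_singleton_self n)
  · rintro ⟨x, ⟨hxZ, hxP⟩, hx⟩
    refine ⟨x, hx, ?_⟩
    obtain ⟨W, ι, hι, hr⟩ := exists_closedImmersion_range (CohB1.support F) hcl
    haveI := hι
    obtain ⟨ξ, hξm, hξx, hfξ⟩ := exists_relMax_specializes f ι hr x hxZ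
    have h0 := fibDepth_eq_zero_of_relMax f F hF ξ hξm
    obtain ⟨j, hj⟩ := exists_nat_eq_fdim f ξ
    have hA : AssDim j f F x := (assDim_iff f F hF j x).mpr ⟨ξ, hξx, hfξ, hj, h0⟩
    have hjn : j = n := by
      by_contra hne
      exact hxP j (by simpa using hne) hA
    refine ⟨ξ, hξm.1, hξx, hfξ, ?_, by rw [hj, hjn]⟩
    intro w hw hwξ hfw
    rw [hξm.2 w hw hfw hwξ]

/-- **for a flat module of finite presentation, the image of the trace of the support on an open
locally constructible subset is open.** -/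
theorem isOpen_image_support_inter {X S : Scheme.{u}} (f : X ⟶ S)
    [LocallyOfFinitePresentation f] [QuasiCompact f] (F : X.Modules) [Coh.IsQCoh F]
    (hF : CohB1.IsFP F) (hfl : FlatMod.IsFlatOver f F) (W : Set X) (hW : IsOpen W)
    (hWc : IsLocallyConstructible W) :
    IsOpen (f '' (CohB1.support F ∩ W)) := by
  have hFc : Coh.IsCoh F := isCoh_of_isFP F hF
  refine Groth.Agent.H99.DVRGen.isOpen_of_isLocallyConstructible_of_stableUnderGeneralization
    (f.isLocallyConstructible_image
      ((Groth.Agent.H99.CompDimsSupp.isLocallyConstructible_support F hF).inter hWc)) ?_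
  rintro s s' hs ⟨x, ⟨hxZ, hxW⟩, rfl⟩
  obtain ⟨x', hx'x, hfx', hx'Z⟩ :=
    Groth.Agent.H99.SuppGoingDown.exists_generization_support f F hFc x (hfl x)
      (not_subsingleton_iff_nontrivial.mp hxZ) s' hs
  exact ⟨x', ⟨not_subsingleton_iff_nontrivial.mpr hx'Z, hx'x.mem_open hW hxW⟩, hfx'⟩

/-- **the fibres whose support has an irreducible component of dimension `n`.** -/
theorem exists_component_dim_iff {X S : Scheme.{u}} (f : X ⟶ S)
    [LocallyOfFinitePresentation f] (F : X.Modules) [Coh.IsQCoh F]
    (hF : CohB1.IsFP F) (n : ℕ) (y : S) :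
    (∃ Z ∈ irreducibleComponents ↥{z : ↥(f.fiber y) |
        Nontrivial (((Scheme.Modules.pullback (f.fiberι y)).obj F).presheaf.stalk z)},
      topologicalKrullDim ↥Z = (n : WithBot ℕ∞)) ↔
      y ∈ f '' (CohB1.support F ∩ {x : X | PrΦ {n} f F x}) := by
  have hFc : Coh.IsCoh F := isCoh_of_isFP F hF
  have hcl := Groth.Agent.H99.CompDimsSupp.isClosed_support F hF
  rw [← exists_ndPr_support_iff f F hFc hcl n y,
    ← Groth.Agent.H99.CompDimsMain.mem_image_dim_iff f (CohB1.support F) y
      (hcl.preimage continuous_subtype_val).isLocallyClosed,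
    ← Groth.Agent.H99.CompDimsSupp.image_dim_support_fibre f F hF y]
  have hset : {z : ↥(f.fiber y) |
        Nontrivial (((Scheme.Modules.pullback (f.fiberι y)).obj F).presheaf.stalk z)} =
      CohB1.support ((Scheme.Modules.pullback (f.fiberι y)).obj F) := by
    ext z
    exact not_subsingleton_iff_nontrivial.symm
  rw [← Groth.Agent.H99.CompDimsSupp.image_dim_irreducibleComponents_homeomorph
    (Homeomorph.setCongr hset)]
  constructor
  · rintro ⟨Z, hZ, hd⟩
    exact ⟨Z, hZ, hd⟩
  · rintro ⟨Z, hZ, hd⟩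
    exact ⟨Z, hZ, hd⟩

end Groth.Agent.H99.SuppComp
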