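import Mathlib
import Groth.Agent.H99.SuppComp

/-!
# Fibres without embedded components and with prescribed component dimensions (helper99)
-/

set_option autoImplicit false
set_option backward.isDefEq.respectTransparency.types false
set_option linter.style.haveILetI false
set_option linter.unusedSectionVars false
universe u

open AlgebraicGeometry CategoryTheory CategoryTheory.Limits TopologicalSpace Topology IsLocalRing

namespace Groth.Agent.H99.AssFinal

open Groth.Agent.H99.ModPair Groth.Agent.H99.FibModProp Groth.Agent.H99.FibrePropGenM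
  Groth.Agent.H99.ProfTop Groth.Agent.H99.ProfCons Groth.Agent.H99.ProfField
  Groth.Agent.H99.ProfMain Groth.Agent.H99.RkTop Groth.Agent.H99.CompDims
  Groth.Agent.H99.FibEqui Groth.Agent.H99.AssTop Groth.Agent.H99.FibrePropDVRM
  Groth.Agent.H99.AssInv Groth.Agent.H99.AssBridge Groth.Agent.H99.AssEmb
  Groth.Agent.H99.FibForall Groth.Agent.H99.FibEquiGen Groth.Agent.H99.AssEmbBridge
  Groth.Agent.H99.AssDimsCons Groth.Agent.H99.SuppComp

variable {X S : Scheme.{u}} (f : X ⟶ S) [LocallyOfFinitePresentation f] (F : X.Modules)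
  [Coh.IsQCoh F] (hF : CohB1.IsFP F)

include hF in
/-- the dimensions of the irreducible components of the support of the fibre module. -/
theorem mem_image_dim_fibre_iff (d : WithBot ℕ∞) (y : S) :
    d ∈ (fun Z : Set ↥{z : ↥(f.fiber y) |
        Nontrivial (((Scheme.Modules.pullback (f.fiberι y)).obj F).presheaf.stalk z)} =>
          topologicalKrullDim ↥Z) '' irreducibleComponents ↥{z : ↥(f.fiber y) |
        Nontrivial (((Scheme.Modules.pullback (f.fiberι y)).obj F).presheaf.stalk z)} ↔
      ∃ x, f x = y ∧ NdPr d f (CohB1.support F) x := by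
  have hcl := Groth.Agent.H99.CompDimsSupp.isClosed_support F hF
  rw [← Groth.Agent.H99.CompDimsMain.mem_image_dim_iff f (CohB1.support F) y
      (hcl.preimage continuous_subtype_val).isLocallyClosed,
    ← Groth.Agent.H99.CompDimsSupp.image_dim_support_fibre f F hF y]
  have hset : {z : ↥(f.fiber y) |
        Nontrivial (((Scheme.Modules.pullback (f.fiberι y)).obj F).presheaf.stalk z)} =
      CohB1.support ((Scheme.Modules.pullback (f.fiberι y)).obj F) := by
    ext z
    exact not_subsingleton_iff_nontrivial.symm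
  rw [← Groth.Agent.H99.CompDimsSupp.image_dim_irreducibleComponents_homeomorph
    (Homeomorph.setCongr hset)]

include hF in
/-- **no embedded component and component dimensions exactly `Φ`**, decomposed. -/
theorem noEmbedded_and_dims_iff (Φ : Finset ℕ) (y : S) :
    (AssSch.NoEmbedded ((Scheme.Modules.pullback (f.fiberι y)).obj F) ∧
      (fun Z : Set ↥{z : ↥(f.fiber y) |
        Nontrivial (((Scheme.Modules.pullback (f.fiberι y)).obj F).presheaf.stalk z)} =>
          topologicalKrullDim ↥Z) '' irreducibleComponents ↥{z : ↥(f.fiber y) |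
        Nontrivial (((Scheme.Modules.pullback (f.fiberι y)).obj F).presheaf.stalk z)} =
        (fun n : ℕ => (n : WithBot ℕ∞)) '' (Φ : Set ℕ)) ↔
      (AssSch.NoEmbedded ((Scheme.Modules.pullback (f.fiberι y)).obj F) ∧
        (∀ x' : f.fiber y, AssDimsAt f F Φ y x') ∧
        ∀ n ∈ Φ, y ∈ f '' (CohB1.support F ∩ {x : X | PrΦ {n} f F x})) := by
  have hFc : Coh.IsCoh F := isCoh_of_isFP F hF
  have hcl := Groth.Agent.H99.CompDimsSupp.isClosed_support F hF
  obtain ⟨W, ι, hι, hr⟩ := exists_closedImmersion_range (CohB1.support F) hcl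
  haveI := hι
  -- translate the pointwise forms
  have hA : (∀ x' : f.fiber y, AssDimsAt f F Φ y x') ↔ ∀ x : X, f x = y → PrΦ Φ f F x := by
    constructor
    · intro h x hx
      subst hx
      exact (prΦ_iff f F hFc Φ x).mp (h (f.asFiber x))
    · intro h x'
      have h1 := (prΦ_iff f F hFc Φ (f.fiberι y x')).mpr (h _ (fiberι_apply' f y x'))
      exact (fiber_pred_iff f (AssDimsAt f F Φ) (f.fiberι y x') y (fiberι_apply' f y x') x'
        rfl).mpr h1
  have hN : AssSch.NoEmbedded ((Scheme.Modules.pullback (f.fiberι y)).obj F) ↔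
      ∀ x : X, f x = y → ¬ EmbThrough f F x := by
    have := setOf_noEmbedded_eq f F hFc
    have h1 : y ∈ {y : S | AssSch.NoEmbedded ((Scheme.Modules.pullback (f.fiberι y)).obj F)} ↔
        y ∈ (f '' {x : X | EmbThrough f F x})ᶜ := by rw [this]
    rw [Set.mem_ofPred_eq] at h1
    rw [h1]
    simp only [Set.mem_compl_iff, Set.mem_image, Set.mem_ofPred_eq, not_exists, not_and]
    exact ⟨fun h x hx hE => h x hE hx, fun h x hE hx => h x hx hE⟩
  rw [hA]
  refine and_congr_right fun hNE => ?_
  rw [hN] at hNE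
  constructor
  · intro hE
    refine ⟨?_, ?_⟩
    · intro x hx j hj hAj
      obtain ⟨ξ, hξx, hfξ, hd, h0⟩ := (assDim_iff f F hFc j x).mp hAj
      have hξZ : ξ ∈ CohB1.support F := mem_support_of_fibDepth_eq_zero f F hFc ξ h0
      obtain ⟨ζ, hζm, hζξ, hfζ⟩ := exists_relMax_specializes f ι hr ξ hξZ
      have h0' := fibDepth_eq_zero_of_relMax f F hFc ζ hζm
      obtain ⟨j', hj'⟩ := exists_nat_eq_fdim f ζ
      by_cases hne : ξ ⤳ ζ
      · -- `ξ` is maximal
        have hζξ' : ζ = ξ := (hζξ.antisymm hne).eq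
        have hnd : NdPr (j : WithBot ℕ∞) f (CohB1.support F) ξ := by
          refine ⟨ξ, hξZ, specializes_rfl, rfl, ?_, hd⟩
          intro w hw hwξ hfw
          rw [← hζξ'] at hwξ hfw ⊢
          rw [hζm.2 w hw hfw hwξ]
        have hmem := (mem_image_dim_fibre_iff f F hF (j : WithBot ℕ∞) y).mpr
          ⟨ξ, (hfξ.trans hx), hnd⟩
        rw [hE] at hmem
        obtain ⟨n, hn, hnj⟩ := hmem
        have hnj' : ((n : ℕ) : WithBot ℕ∞) = ((j : ℕ) : WithBot ℕ∞) := hnj
        have : n = j := by exact_mod_cast hnj'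
        exact hj (this ▸ hn)
      · have hlt := fdim_add_one_le f hζξ hfζ hne
        rw [hd, hj'] at hlt
        have hjj' : j < j' := by
          have : j + 1 ≤ j' := by exact_mod_cast hlt
          omega
        refine hNE ξ (hfξ.trans hx) ⟨j, j', hjj', (embDim_iff f F hFc j j' ξ).mpr
          ⟨ξ, specializes_rfl, rfl, hd, h0, (assDim_iff f F hFc j' ξ).mpr
            ⟨ζ, hζξ, hfζ, hj', h0'⟩⟩⟩
    · intro n hn
      rw [← exists_ndPr_support_iff f F hFc hcl n y,
        ← mem_image_dim_fibre_iff f F hF (n : WithBot ℕ∞) y, hE]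
      exact ⟨n, hn, rfl⟩
  · rintro ⟨h1, h2⟩
    apply Set.Subset.antisymm
    · intro d hd
      obtain ⟨x, hx, ξ, hξZ, hξx, hfξ, hmax, hdξ⟩ := (mem_image_dim_fibre_iff f F hF d y).mp hd
      obtain ⟨j, hj⟩ := exists_nat_eq_fdim f ξ
      have hm : RelMax f (CohB1.support F) ξ :=
        ⟨hξZ, fun w hw hfw hwξ => (hwξ.antisymm (hmax w hw hwξ hfw)).eq⟩
      have h0 := fibDepth_eq_zero_of_relMax f F hFc ξ hm
      have hAj : AssDim j f F ξ :=
        (assDim_iff f F hFc j ξ).mpr ⟨ξ, specializes_rfl, rfl, hj, h0⟩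
      have hjΦ : j ∈ Φ := by
        by_contra hcon
        exact h1 ξ (hfξ.trans hx) j hcon hAj
      exact ⟨j, hjΦ, by rw [← hdξ, hj]⟩
    · rintro _ ⟨n, hn, rfl⟩
      rw [mem_image_dim_fibre_iff f F hF (n : WithBot ℕ∞) y,
        exists_ndPr_support_iff f F hFc hcl n y]
      exact h2 n hn

end Groth.Agent.H99.AssFinal
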