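import Mathlib

/-!
# Locally constructible sets containing a generic point (helper99)

If `η` specializes to every point of `X` and `E` is a locally constructible subset containing `η`,
then `E` contains an open neighbourhood of `η`.
-/

set_option autoImplicit false
universe u

open Topology Set

namespace Groth.Agent.H99.GenericNhd

variable {X : Type u} [TopologicalSpace X]

/-- a constructible set or its complement is a neighbourhood of a generic point. -/
theorem isConstructible_dichotomy (η : X) (hη : ∀ x : X, η ⤳ x) (E : Set X)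
    (hE : IsConstructible E) :
    (η ∈ E → ∃ U : Set X, IsOpen U ∧ η ∈ U ∧ U ⊆ E) ∧
      (η ∉ E → ∃ U : Set X, IsOpen U ∧ η ∈ U ∧ U ⊆ Eᶜ) := by
  induction hE using IsConstructible.empty_union_induction with
  | open_retrocompact U hU _ =>
    refine ⟨fun h => ⟨U, hU, h, subset_rfl⟩, fun h => ⟨univ, isOpen_univ, mem_univ _, ?_⟩⟩
    intro x _ hx
    exact h ((hη x).mem_open hU hx)
  | union s _ t _ hs ht =>
    refine ⟨?_, ?_⟩
    · rintro (h | h)
      · obtain ⟨U, hU, hηU, hUs⟩ := hs.1 h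
        exact ⟨U, hU, hηU, hUs.trans subset_union_left⟩
      · obtain ⟨U, hU, hηU, hUs⟩ := ht.1 h
        exact ⟨U, hU, hηU, hUs.trans subset_union_right⟩
    · intro h
      obtain ⟨U, hU, hηU, hUs⟩ := hs.2 (fun h' => h (Or.inl h'))
      obtain ⟨V, hV, hηV, hVt⟩ := ht.2 (fun h' => h (Or.inr h'))
      refine ⟨U ∩ V, hU.inter hV, ⟨hηU, hηV⟩, ?_⟩
      rintro x ⟨hxU, hxV⟩ (hx | hx)
      · exact hUs hxU hx
      · exact hVt hxV hx
  | compl s _ hs =>
    refine ⟨fun h => hs.2 h, fun h => ?_⟩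
    obtain ⟨U, hU, hηU, hUs⟩ := hs.1 (not_not.mp h)
    exact ⟨U, hU, hηU, by rwa [compl_compl]⟩

/-- **a locally constructible set containing the generic point is a neighbourhood of it.** -/
theorem exists_isOpen_subset (η : X) (hη : ∀ x : X, η ⤳ x) (E : Set X)
    (hE : IsLocallyConstructible E) (h : η ∈ E) : ∃ U : Set X, IsOpen U ∧ η ∈ U ∧ U ⊆ E := by
  obtain ⟨W, hW, hWo, hc⟩ := hE η
  have hηW : η ∈ W := mem_of_mem_nhds hW
  have hη' : ∀ w : W, (⟨η, hηW⟩ : W) ⤳ w := fun w =>
    Topology.IsInducing.subtypeVal.specializes_iff.mp (hη w)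
  obtain ⟨U, hU, hηU, hUE⟩ := (isConstructible_dichotomy (⟨η, hηW⟩ : W) hη' _ hc).1 h
  refine ⟨Subtype.val '' U, hWo.isOpenEmbedding_subtypeVal.isOpenMap _ hU,
    ⟨⟨η, hηW⟩, hηU, rfl⟩, ?_⟩
  rintro _ ⟨w, hw, rfl⟩
  exact hUE hw

end Groth.Agent.H99.GenericNhd
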