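import Mathlib
import Groth.Agent.H99.AssEmbBridge
import Groth.Agent.H99.GenericNhd
import Groth.Agent.H99.SuppComp
import Groth.Agent.H13.PrimChain
import Groth.Agent.H70.RegLocus.Noeth

/-!
# Generic structure of the associated points of the fibre modules (helper99; EGA IV 9.8.3, S5873)
-/

set_option autoImplicit false
set_option backward.isDefEq.respectTransparency.types false
set_option linter.style.haveILetI false
set_option linter.unusedSectionVars false
universe u

open AlgebraicGeometry CategoryTheory CategoryTheory.Limits TopologicalSpace Topology IsLocalRing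

namespace Groth.Agent.H99.AssGeneric

open Groth.Agent.H99.ModPair Groth.Agent.H99.FibModProp Groth.Agent.H99.FibrePropGenM
  Groth.Agent.H99.AssTop Groth.Agent.H99.CompDims Groth.Agent.H99.FibEquiGen
  Groth.Agent.H99.RkTop Groth.Agent.H99.FibForall

variable {X S : Scheme.{u}} (f : X ⟶ S)

section Pointwise

variable [LocallyOfFiniteType f]

/-- points of the same fibre and of the same fibre dimension in specialization relation agree. -/
theorem eq_of_specializes_of_fdim_eq {w ξ : X} (h : w ⤳ ξ) (hf : f w = f ξ)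
    (hd : fdim f w = fdim f ξ) : w = ξ :=
  (h.antisymm (specializes_of_fdim_le f h hf hd.le)).eq

/-- at a point of fibre dimension `j`, `NdPr j` means relative maximality. -/
theorem ndPr_self_iff (Z : Set X) (ζ : X) (j : ℕ) (hj : fdim f ζ = j) :
    NdPr (j : WithBot ℕ∞) f Z ζ ↔ RelMax f Z ζ := by
  constructor
  · rintro ⟨ξ, hξZ, hξζ, hfξ, hmax, hd⟩
    have : ξ = ζ := eq_of_specializes_of_fdim_eq f hξζ hfξ (hd.trans hj.symm)
    subst this
    exact ⟨hξZ, fun w hw hfw hwξ => (hwξ.antisymm (hmax w hw hwξ hfw)).eq⟩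
  · intro h
    exact ⟨ζ, h.1, specializes_rfl, rfl, fun w hw hwζ hfw => by rw [h.2 w hw hfw hwζ], hj⟩

/-- `NdPr` for the closure of a point of the same fibre. -/
theorem ndPr_closure_iff (t x : X) (hf : f t = f x) (j : ℕ) :
    NdPr (j : WithBot ℕ∞) f (closure {t}) x ↔ t ⤳ x ∧ fdim f t = j := by
  constructor
  · rintro ⟨ξ, hξZ, hξx, hfξ, hmax, hd⟩
    have h1 : t ⤳ ξ := specializes_iff_mem_closure.mpr hξZ
    have h2 : ξ ⤳ t := hmax t (subset_closure rfl) h1 (hf.trans hfξ.symm)
    have : ξ = t := (h2.antisymm h1).eq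
    subst this
    exact ⟨hξx, hd⟩
  · rintro ⟨h1, h2⟩
    exact ⟨t, subset_closure rfl, h1, hf, fun w hw _ _ => specializes_iff_mem_closure.mpr hw, h2⟩

variable (F : X.Modules) (hF : Coh.IsCoh F)

include hF in
/-- at a point of fibre dimension `j`, `AssDim j` means depth zero. -/
theorem assDim_self_iff (ζ : X) (j : ℕ) (hj : fdim f ζ = j) :
    AssDim j f F ζ ↔ fibDepth f F ζ = 0 := by
  rw [assDim_iff f F hF j ζ]
  constructor
  · rintro ⟨ξ, hξζ, hfξ, hd, h0⟩
    have : ξ = ζ := eq_of_specializes_of_fdim_eq f hξζ hfξ (hd.trans hj.symm)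
    subst this
    exact h0
  · intro h
    exact ⟨ζ, specializes_rfl, rfl, hj, h⟩

end Pointwise

section Main

variable [IsIntegral S] [IsNoetherian S] [LocallyOfFiniteType f] [QuasiCompact f]
  (F : X.Modules) [Coh.IsQCoh F] (hF : CohB1.IsFP F)

/-- the images in `X` of the associated points of the generic fibre module. -/
def GenAss : Set X := {t | f t = genericPoint S ∧ fibDepth f F t = 0}

include hF in
theorem finite_genAss : (GenAss f F).Finite := by
  have hFc : Coh.IsCoh F := isCoh_of_isFP F hF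
  haveI : LocallyOfFiniteType (f.fiberToSpecResidueField (genericPoint S)) :=
    MorphismProperty.pullback_snd _ _ inferInstance
  haveI : QuasiCompact (f.fiberToSpecResidueField (genericPoint S)) :=
    MorphismProperty.pullback_snd _ _ inferInstance
  haveI := LocallyOfFiniteType.isLocallyNoetherian (f.fiberToSpecResidueField (genericPoint S))
  haveI : CompactSpace ↥(f.fiber (genericPoint S)) :=
    QuasiCompact.compactSpace_of_compactSpace (f.fiberToSpecResidueField (genericPoint S))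
  haveI : IsNoetherian (f.fiber (genericPoint S)) := { }
  have hG : Coh.IsCoh ((Scheme.Modules.pullback (f.fiberι (genericPoint S))).obj F) :=
    isCoh_pullback _ F hFc
  have hfin := Groth.Agent.H13.PrimSub.finite_ass _ hG
  refine (hfin.image (f.fiberι (genericPoint S))).subset ?_
  rintro t ⟨ht1, ht2⟩
  obtain ⟨z, rfl⟩ := Groth.Agent.H99.FibEqui.mem_range_fiberι f (genericPoint S) t ht1
  exact ⟨z, (Groth.Agent.H99.AssBridge.mem_ass_fibre_iff_fibDepth f F hFc _ z).mpr ht2, rfl⟩

include hF in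
/-- **EGA IV 9.8.3, on the total space**: over a neighbourhood of the generic point, the points of
depth zero of the fibre modules are the relatively maximal points of the closures of the generic
associated points, and a relatively maximal point of `closure {t}` does not lie on `closure {t'}`
unless `t` does. -/
theorem exists_open_good :
    ∃ U : S.Opens, genericPoint S ∈ U ∧ ∀ s ∈ U,
      (∀ ζ : X, f ζ = s →
        (fibDepth f F ζ = 0 ↔ ∃ t ∈ GenAss f F, RelMax f (closure {t}) ζ)) ∧
      (∀ t ∈ GenAss f F, ∀ t' ∈ GenAss f F, t ∉ closure ({t'} : Set X) →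
        ∀ ζ : X, f ζ = s → RelMax f (closure {t}) ζ → ζ ∉ closure ({t'} : Set X)) := by
  have hFc : Coh.IsCoh F := isCoh_of_isFP F hF
  haveI : LocallyOfFinitePresentation f :=
    Groth.Agent.H70.RegLocus.locallyOfFinitePresentation_of_isLocallyNoetherian f
  haveI : IsLocallyNoetherian X := LocallyOfFiniteType.isLocallyNoetherian f
  haveI : CompactSpace X := QuasiCompact.compactSpace_of_compactSpace f
  haveI : IsNoetherian X := {}
  haveI : NoetherianSpace X := inferInstance
  have hT := finite_genAss f F hF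
  obtain ⟨D, hD⟩ := Groth.Agent.H99.CompDimsMain.exists_fdim_le f ⊤
    (by simpa using (isCompact_univ : IsCompact (Set.univ : Set S)))
  have hD' : ∀ ξ : X, fdim f ξ ≤ D := fun ξ => hD ξ trivial
  let Bt : ℕ → X → Set X := fun j t => {x | NdPr (j : WithBot ℕ∞) f (closure {t}) x}
  let B : ℕ → Set X := fun j => ⋃ t ∈ GenAss f F, Bt j t
  let A : ℕ → Set X := fun j => {x | AssDim j f F x}
  let Bn : Set X := ⋃ t ∈ GenAss f F, ⋃ t' ∈ {t' ∈ GenAss f F | t ∉ closure ({t'} : Set X)},
    ⋃ j ∈ Set.Iic D, {x | NdPr (j : WithBot ℕ∞) f (Bt j t ∩ closure {t'}) x}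
  let Bad : Set X := (⋃ j ∈ Set.Iic D, ((A j \ B j) ∪ (B j \ A j))) ∪ Bn
  have hclc : ∀ t : X, IsLocallyConstructible (closure ({t} : Set X)) := fun t =>
    (Groth.Agent.H12.isConstructible_of_isClosed isClosed_closure).isLocallyConstructible
  have hBt : ∀ j t, IsLocallyConstructible (Bt j t) := fun j t =>
    isLocallyConstructible_ndPr _ f _ (hclc t)
  have hB : ∀ j, IsLocallyConstructible (B j) := fun j =>
    IsLocallyConstructible.biUnion hT (fun t _ => hBt j t)
  have hA : ∀ j, IsLocallyConstructible (A j) := fun j =>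
    Groth.Agent.H99.AssInv.isLCM_assDim j f inferInstance F inferInstance hF
  have hBn : IsLocallyConstructible Bn := by
    refine IsLocallyConstructible.biUnion hT (fun t _ => ?_)
    refine IsLocallyConstructible.biUnion (hT.subset (Set.sep_subset _ _)) (fun t' _ => ?_)
    refine IsLocallyConstructible.biUnion (Set.finite_Iic D) (fun j _ => ?_)
    exact isLocallyConstructible_ndPr _ f _ ((hBt j t).inter (hclc t'))
  have hBad : IsLocallyConstructible Bad := by
    refine IsLocallyConstructible.union ?_ hBn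
    refine IsLocallyConstructible.biUnion (Set.finite_Iic D) (fun j _ => ?_)
    refine IsLocallyConstructible.union ?_ ?_
    · rw [Set.sdiff_eq]
      exact (hA j).inter (Groth.Agent.H17.isLocallyConstructible_compl (hB j))
    · rw [Set.sdiff_eq]
      exact (hB j).inter (Groth.Agent.H17.isLocallyConstructible_compl (hA j))
  have hE : IsLocallyConstructible (f '' Bad)ᶜ :=
    Groth.Agent.H17.isLocallyConstructible_compl (f.isLocallyConstructible_image hBad)
  -- the generic point is good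
  have hηE : genericPoint S ∈ (f '' Bad)ᶜ := by
    rintro ⟨x, hx, hfx⟩
    have hAB : ∀ j : ℕ, x ∈ A j ↔ x ∈ B j := by
      intro j
      constructor
      · intro h
        obtain ⟨ξ, hξx, hfξ, hd, h0⟩ := (assDim_iff f F hFc j x).mp h
        have hξT : ξ ∈ GenAss f F := ⟨hfξ.trans hfx, h0⟩
        exact Set.mem_biUnion hξT ((ndPr_closure_iff f ξ x hfξ j).mpr ⟨hξx, hd⟩)
      · intro h
        obtain ⟨t, htT, ht⟩ := Set.mem_iUnion₂.mp h
        obtain ⟨h1, h2⟩ := (ndPr_closure_iff f t x (htT.1.trans hfx.symm) j).mp ht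
        exact (assDim_iff f F hFc j x).mpr ⟨t, h1, htT.1.trans hfx.symm, h2, htT.2⟩
    rcases hx with hx | hx
    · obtain ⟨j, -, hj⟩ := Set.mem_iUnion₂.mp hx
      rcases hj with ⟨h1, h2⟩ | ⟨h1, h2⟩
      · exact h2 ((hAB j).mp h1)
      · exact h2 ((hAB j).mpr h1)
    · obtain ⟨t, htT, hx⟩ := Set.mem_iUnion₂.mp hx
      obtain ⟨t', ⟨ht'T, htt'⟩, hx⟩ := Set.mem_iUnion₂.mp hx
      obtain ⟨j, -, ξ, ⟨hξB, hξt'⟩, hξx, hfξ, -, hd⟩ := Set.mem_iUnion₂.mp hx
      have hft : f t = f ξ := htT.1.trans (hfξ.trans hfx).symm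
      obtain ⟨h1, h2⟩ := (ndPr_closure_iff f t ξ hft j).mp hξB
      have : t = ξ := eq_of_specializes_of_fdim_eq f h1 hft (h2.trans hd.symm)
      rw [this] at htt'
      exact htt' hξt'
  obtain ⟨U, hU, hηU, hUE⟩ := Groth.Agent.H99.GenericNhd.exists_isOpen_subset (genericPoint S)
    (fun x => genericPoint_specializes x) _ hE hηE
  refine ⟨⟨U, hU⟩, hηU, fun s hs => ⟨?_, ?_⟩⟩
  · intro ζ hζ
    have hnb : ζ ∉ Bad := fun h => hUE hs ⟨ζ, h, hζ⟩
    obtain ⟨j, hj⟩ := exists_nat_eq_fdim f ζ
    have hjD : j ≤ D := by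
      have := hD' ζ
      rw [hj] at this
      exact_mod_cast this
    have hAB : ζ ∈ A j ↔ ζ ∈ B j := by
      constructor
      · intro h
        by_contra h'
        exact hnb (Or.inl (Set.mem_biUnion (show j ∈ Set.Iic D from hjD) (Or.inl ⟨h, h'⟩)))
      · intro h
        by_contra h'
        exact hnb (Or.inl (Set.mem_biUnion (show j ∈ Set.Iic D from hjD) (Or.inr ⟨h, h'⟩)))
    rw [← assDim_self_iff f F hFc ζ j hj]
    change ζ ∈ A j ↔ _
    rw [hAB]
    constructor
    · intro h
      obtain ⟨t, htT, ht⟩ := Set.mem_iUnion₂.mp h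
      exact ⟨t, htT, (ndPr_self_iff f _ ζ j hj).mp ht⟩
    · rintro ⟨t, htT, ht⟩
      exact Set.mem_biUnion htT ((ndPr_self_iff f _ ζ j hj).mpr ht)
  · intro t htT t' ht'T htt' ζ hζ hmax hζt'
    have hnb : ζ ∉ Bad := fun h => hUE hs ⟨ζ, h, hζ⟩
    obtain ⟨j, hj⟩ := exists_nat_eq_fdim f ζ
    have hjD : j ≤ D := by
      have := hD' ζ
      rw [hj] at this
      exact_mod_cast this
    have hζB : ζ ∈ Bt j t := (ndPr_self_iff f _ ζ j hj).mpr hmax
    have hmaxC : RelMax f (Bt j t ∩ closure {t'}) ζ := by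
      refine ⟨⟨hζB, hζt'⟩, fun w hw hfw hwζ => ?_⟩
      obtain ⟨ξ, hξZ, hξw, -⟩ := hw.1
      exact hmax.2 w (hξw.mem_closed isClosed_closure hξZ) hfw hwζ
    have hnd : NdPr (j : WithBot ℕ∞) f (Bt j t ∩ closure {t'}) ζ :=
      (ndPr_self_iff f _ ζ j hj).mpr hmaxC
    refine hnb (Or.inr ?_)
    refine Set.mem_biUnion htT ?_
    refine Set.mem_biUnion (show t' ∈ {t' ∈ GenAss f F | t ∉ closure ({t'} : Set X)} from
      ⟨ht'T, htt'⟩) ?_
    exact Set.mem_biUnion (show j ∈ Set.Iic D from hjD) hnd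

/-- relative maximality in terms of the fibre scheme. -/
theorem mem_maxTrace_iff (Z : Set X) (s : S) (z : ↥(f.fiber s)) :
    (z ∈ ((f.fiberι s).base ⁻¹' Z) ∧
      ∀ z' ∈ ((f.fiberι s).base ⁻¹' Z), z' ⤳ z → z' = z) ↔ RelMax f Z (f.fiberι s z) := by
  have hfz : f (f.fiberι s z) = s := fiberι_apply' f s z
  constructor
  · rintro ⟨h1, h2⟩
    refine ⟨h1, fun w hw hfw hwz => ?_⟩
    obtain ⟨z', rfl⟩ := Groth.Agent.H99.FibEqui.mem_range_fiberι f s w (hfw.trans hfz)
    have : z' ⤳ z := (f.fiberι s).isEmbedding.isInducing.specializes_iff.mp hwz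
    rw [h2 z' hw this]
  · rintro ⟨h1, h2⟩
    refine ⟨h1, fun z' hz' hz'z => ?_⟩
    have h3 : f.fiberι s z' ⤳ f.fiberι s z := hz'z.map (f.fiberι s).continuous
    have h4 := h2 _ hz' ((fiberι_apply' f s z').trans hfz.symm) h3
    exact (f.fiberι s).isEmbedding.injective h4

include hF in
/-- **EGA IV 9.8.3.** -/
theorem main :
    ∃ U : S.Opens, genericPoint S ∈ U ∧ ∀ s ∈ U,
      (AssSch.Ass ((Scheme.Modules.pullback (f.fiberι s)).obj F) =
          ⋃ x ∈ AssSch.Ass ((Scheme.Modules.pullback (f.fiberι (genericPoint S))).obj F),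
            {z : ↥(f.fiber s) | z ∈ ((f.fiberι s).base ⁻¹' closure {(f.fiberι (genericPoint S)).base x}) ∧ ∀ z' ∈ ((f.fiberι s).base ⁻¹' closure {(f.fiberι (genericPoint S)).base x}), z' ⤳ z → z' = z}) ∧
      (∀ x ∈ AssSch.Ass ((Scheme.Modules.pullback (f.fiberι (genericPoint S))).obj F), ∀ x' ∈ AssSch.Ass ((Scheme.Modules.pullback (f.fiberι (genericPoint S))).obj F), x ≠ x' →
          Disjoint {z : ↥(f.fiber s) | z ∈ ((f.fiberι s).base ⁻¹' closure {(f.fiberι (genericPoint S)).base x}) ∧ ∀ z' ∈ ((f.fiberι s).base ⁻¹' closure {(f.fiberι (genericPoint S)).base x}), z' ⤳ z → z' = z}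
            {z : ↥(f.fiber s) | z ∈ ((f.fiberι s).base ⁻¹' closure {(f.fiberι (genericPoint S)).base x'}) ∧ ∀ z' ∈ ((f.fiberι s).base ⁻¹' closure {(f.fiberι (genericPoint S)).base x'}), z' ⤳ z → z' = z}) ∧
      (∀ x ∈ AssSch.Ass ((Scheme.Modules.pullback (f.fiberι (genericPoint S))).obj F),
        ∀ z ∈ {z : ↥(f.fiber s) | z ∈ ((f.fiberι s).base ⁻¹' closure {(f.fiberι (genericPoint S)).base x}) ∧ ∀ z' ∈ ((f.fiberι s).base ⁻¹' closure {(f.fiberι (genericPoint S)).base x}), z' ⤳ z → z' = z},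
          ((∀ y ∈ AssSch.Ass ((Scheme.Modules.pullback (f.fiberι s)).obj F), y ⤳ z → y = z) ↔
            (∀ y ∈ AssSch.Ass ((Scheme.Modules.pullback (f.fiberι (genericPoint S))).obj F), y ⤳ x → y = x))) := by
  have hFc : Coh.IsCoh F := isCoh_of_isFP F hF
  obtain ⟨U, hηU, hU⟩ := exists_open_good f F hF
  refine ⟨U, hηU, fun s hs => ?_⟩
  obtain ⟨hGa, hGn⟩ := hU s hs
  -- notation
  set η := genericPoint S with hη
  have hassη : ∀ x : ↥(f.fiber η),
      x ∈ AssSch.Ass ((Scheme.Modules.pullback (f.fiberι η)).obj F) ↔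
        f.fiberι η x ∈ GenAss f F := by
    intro x
    rw [Groth.Agent.H99.AssBridge.mem_ass_fibre_iff_fibDepth f F hFc η x]
    exact ⟨fun h => ⟨fiberι_apply' f η x, h⟩, fun h => h.2⟩
  have hasss : ∀ z : ↥(f.fiber s),
      z ∈ AssSch.Ass ((Scheme.Modules.pullback (f.fiberι s)).obj F) ↔
        ∃ x ∈ AssSch.Ass ((Scheme.Modules.pullback (f.fiberι η)).obj F),
          RelMax f (closure {f.fiberι η x}) (f.fiberι s z) := by
    intro z
    rw [Groth.Agent.H99.AssBridge.mem_ass_fibre_iff_fibDepth f F hFc s z,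
      hGa (f.fiberι s z) (fiberι_apply' f s z)]
    constructor
    · rintro ⟨t, htT, ht⟩
      obtain ⟨x, rfl⟩ := Groth.Agent.H99.FibEqui.mem_range_fiberι f η t htT.1
      exact ⟨x, (hassη x).mpr htT, ht⟩
    · rintro ⟨x, hx, ht⟩
      exact ⟨_, (hassη x).mp hx, ht⟩
  -- (b) in the form used below
  have hb : ∀ x ∈ AssSch.Ass ((Scheme.Modules.pullback (f.fiberι η)).obj F),
      ∀ x' ∈ AssSch.Ass ((Scheme.Modules.pullback (f.fiberι η)).obj F), x ≠ x' →
      ∀ z : ↥(f.fiber s), RelMax f (closure {f.fiberι η x}) (f.fiberι s z) →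
        RelMax f (closure {f.fiberι η x'}) (f.fiberι s z) → False := by
    intro x hx x' hx' hne z hz hz'
    by_cases h1 : f.fiberι η x ∈ closure ({f.fiberι η x'} : Set X)
    · by_cases h2 : f.fiberι η x' ∈ closure ({f.fiberι η x} : Set X)
      · have e1 : f.fiberι η x' ⤳ f.fiberι η x := specializes_iff_mem_closure.mpr h1
        have e2 : f.fiberι η x ⤳ f.fiberι η x' := specializes_iff_mem_closure.mpr h2
        exact hne ((f.fiberι η).isEmbedding.injective (e2.antisymm e1).eq)
      · exact hGn _ ((hassη x').mp hx') _ ((hassη x).mp hx) h2 _ (fiberι_apply' f s z) hz' hz.1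
    · exact hGn _ ((hassη x).mp hx) _ ((hassη x').mp hx') h1 _ (fiberι_apply' f s z) hz hz'.1
  refine ⟨?_, ?_, ?_⟩
  · ext z
    rw [hasss z]
    simp only [Set.mem_iUnion, exists_prop]
    constructor
    · rintro ⟨x, hx, hz⟩
      exact ⟨x, hx, (mem_maxTrace_iff f _ s z).mpr hz⟩
    · rintro ⟨x, hx, hz⟩
      exact ⟨x, hx, (mem_maxTrace_iff f _ s z).mp hz⟩
  · intro x hx x' hx' hne
    rw [Set.disjoint_left]
    intro z hz hz'
    exact hb x hx x' hx' hne z ((mem_maxTrace_iff f _ s z).mp hz) ((mem_maxTrace_iff f _ s z).mp hz')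
  · intro x hx z hz
    have hzm : RelMax f (closure {f.fiberι η x}) (f.fiberι s z) := (mem_maxTrace_iff f _ s z).mp hz
    constructor
    · intro hL y hy hyx
      by_contra hne
      have hyx' : f.fiberι η y ⤳ f.fiberι η x := hyx.map (f.fiberι η).continuous
      have hζy : f.fiberι s z ∈ closure ({f.fiberι η y} : Set X) :=
        (hyx'.trans (specializes_iff_mem_closure.mpr hzm.1)).mem_closure
      obtain ⟨ξ, hξm, hξz, hfξ⟩ := Groth.Agent.H99.RkGen.exists_relMax_specializes' f
        (closure {f.fiberι η y}) isClosed_closure _ hζy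
      obtain ⟨y', rfl⟩ := Groth.Agent.H99.FibEqui.mem_range_fiberι f s ξ
        (hfξ.trans (fiberι_apply' f s z))
      have hy'ass : y' ∈ AssSch.Ass ((Scheme.Modules.pullback (f.fiberι s)).obj F) :=
        (hasss y').mpr ⟨y, hy, hξm⟩
      have hy'z : y' ⤳ z := (f.fiberι s).isEmbedding.isInducing.specializes_iff.mp hξz
      have := hL y' hy'ass hy'z
      subst this
      exact hb y hy x hx hne y' hξm hzm
    · intro hR y' hy' hy'z
      obtain ⟨y, hy, hy'm⟩ := (hasss y').mp hy'
      by_cases hyx : y = x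
      · subst hyx
        exact ((mem_maxTrace_iff f _ s z).mpr hzm).2 y' hy'm.1 hy'z
      · exfalso
        have h3 : f.fiberι s y' ⤳ f.fiberι s z := hy'z.map (f.fiberι s).continuous
        have hζy : f.fiberι s z ∈ closure ({f.fiberι η y} : Set X) :=
          h3.mem_closed isClosed_closure hy'm.1
        by_cases hxy : f.fiberι η x ∈ closure ({f.fiberι η y} : Set X)
        · have h4 : f.fiberι η y ⤳ f.fiberι η x := specializes_iff_mem_closure.mpr hxy
          have h5 : y ⤳ x := (f.fiberι η).isEmbedding.isInducing.specializes_iff.mp h4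
          exact hyx (hR y hy h5)
        · exact hGn _ ((hassη x).mp hx) _ ((hassη y).mp hy) hxy _ (fiberι_apply' f s z) hzm hζy

end Main

end Groth.Agent.H99.AssGeneric
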