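import Mathlib
import Groth.Prelude.Def_W4c2arithlefschetzGraph

/-!
# Dual graphs of iterated blow-ups: `l = r`

The intersection matrix is `-(D Dᵀ)` for the proximity matrix `D`, whose inverse `C` is the matrix
of total transforms; hence `mult = Cᵀ C = -mat⁻¹`, and the statement follows from the inverse
of a Schur complement.
-/

set_option autoImplicit false
set_option linter.unusedSectionVars false
set_option linter.unusedSimpArgs false

namespace Groth.Agent.H99.Blowup

open ArLef ArLef.BlowupGraph Matrix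

variable {n : ℕ} (G : BlowupGraph n)

/-- the recursion for the total transform coefficients, on `Fin n` -/
lemma tt_rec (k m : Fin n) :
    G.tt k m = if m < k then 0 else if m = k then 1 else ∑ p ∈ G.par m, G.tt k p := by
  unfold tt
  rw [ttN]
  by_cases h1 : m < k
  · rw [if_pos (by exact_mod_cast h1), if_pos h1]
  · rw [if_neg (by exact_mod_cast h1), if_neg h1]
    by_cases h2 : m = k
    · rw [if_pos (by rw [h2]), if_pos h2]
    · rw [if_neg (by intro h; exact h2 (Fin.ext h)), if_neg h2]
      rw [Finset.sum_attach (G.parN m.1) (fun p => G.ttN k.1 p)]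
      unfold parN
      rw [dif_pos m.2, Finset.sum_map]
      rfl

/-- total transform matrix -/
def Cm : Matrix (Fin n) (Fin n) ℚ := fun k m => (G.tt k m : ℚ)

/-- proximity matrix -/
def Dm : Matrix (Fin n) (Fin n) ℚ := fun p m => if p = m then 1 else if p ∈ G.par m then -1 else 0

lemma not_mem_par_self (m : Fin n) : m ∉ G.par m := fun h => lt_irrefl _ (G.par_lt m m h)

lemma Dm_eq (p m : Fin n) :
    Dm G p m = (if p = m then (1:ℚ) else 0) - (if p ∈ G.par m then (1:ℚ) else 0) := by
  unfold Dm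
  by_cases h1 : p = m
  · subst h1
    rw [if_pos rfl, if_pos rfl, if_neg (not_mem_par_self G p), sub_zero]
  · rw [if_neg h1, if_neg h1]
    by_cases h2 : p ∈ G.par m
    · rw [if_pos h2, if_pos h2]; ring
    · rw [if_neg h2, if_neg h2]; ring

lemma Cm_mul_Dm : Cm G * Dm G = 1 := by
  ext k m
  rw [Matrix.mul_apply, Matrix.one_apply]
  simp only [Dm_eq, mul_sub, Finset.sum_sub_distrib, mul_ite, mul_one, mul_zero,
    Finset.sum_ite_eq', Finset.mem_univ, if_true]
  rw [← Finset.sum_filter]
  have hfil : Finset.univ.filter (fun p => p ∈ G.par m) = G.par m := by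
    ext p; simp
  rw [hfil]
  unfold Cm
  rw [tt_rec G k m]
  by_cases h1 : m < k
  · rw [if_pos h1, if_neg (ne_of_gt h1)]
    have : ∀ p ∈ G.par m, ((G.tt k p : ℤ) : ℚ) = 0 := by
      intro p hp
      have hpk : p < k := lt_trans (G.par_lt m p hp) h1
      rw [tt_rec G k p, if_pos hpk]; simp
    rw [Finset.sum_eq_zero this]; simp
  · rw [if_neg h1]
    by_cases h2 : m = k
    · subst h2
      rw [if_pos rfl, if_pos rfl]
      have : ∀ p ∈ G.par m, ((G.tt m p : ℤ) : ℚ) = 0 := by
        intro p hp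
        rw [tt_rec G m p, if_pos (G.par_lt m p hp)]; simp
      rw [Finset.sum_eq_zero this]; simp
    · rw [if_neg h2, if_neg (fun h => h2 h.symm)]
      push_cast
      ring

/-- the set of later centres lying on both `E_p` and `E_q` -/
def SS (p q : Fin n) : Finset (Fin n) := Finset.univ.filter fun m => p ∈ G.par m ∧ q ∈ G.par m

lemma SS_comm (p q : Fin n) : SS G p q = SS G q p := by
  unfold SS; ext m; simp [and_comm]

lemma par_eq_of_mem_SS {p q m : Fin n} (hpq : p ≠ q) (hm : m ∈ SS G p q) : G.par m = {p, q} := by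
  unfold SS at hm
  rw [Finset.mem_filter] at hm
  symm
  apply Finset.eq_of_subset_of_card_le
  · intro x hx
    rw [Finset.mem_insert, Finset.mem_singleton] at hx
    rcases hx with rfl | rfl
    · exact hm.2.1
    · exact hm.2.2
  · rw [Finset.card_pair hpq]; exact G.card_le_two m

lemma SS_card_le_one {p q : Fin n} (hpq : p < q) : (SS G p q).card ≤ 1 := by
  rw [Finset.card_le_one]
  have key : ∀ a ∈ SS G p q, ∀ b ∈ SS G p q, a < b → False := by
    intro a ha b hb hab
    have hb' := hb
    unfold SS at hb'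
    rw [Finset.mem_filter] at hb'
    have hqa : q < a := by
      unfold SS at ha
      rw [Finset.mem_filter] at ha
      exact G.par_lt a q ha.2.2
    exact (G.meet_of_two b p q hb'.2.1 hb'.2.2 hpq).2 a hqa hab
      (par_eq_of_mem_SS G (ne_of_lt hpq) ha)
  intro a ha b hb
  rcases lt_trichotomy a b with h | h | h
  · exact absurd (key a ha b hb h) id
  · exact h
  · exact absurd (key b hb a ha h) id

lemma adj_iff {p q : Fin n} (hpq : p < q) : G.Adj p q ↔ p ∈ G.par q ∧ SS G p q = ∅ := by
  unfold Adj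
  constructor
  · rintro (⟨h1, h2⟩ | ⟨h1, -⟩)
    · refine ⟨h1, ?_⟩
      rw [Finset.eq_empty_iff_forall_notMem]
      intro m hm
      have hm' := hm
      unfold SS at hm'
      rw [Finset.mem_filter] at hm'
      exact h2 m (G.par_lt m q hm'.2.2) (par_eq_of_mem_SS G (ne_of_lt hpq) hm)
    · exact absurd (G.par_lt p q h1) (not_lt_of_gt hpq)
  · rintro ⟨h1, h2⟩
    left
    refine ⟨h1, fun m _ hm => ?_⟩
    have : m ∈ SS G p q := by
      unfold SS
      rw [Finset.mem_filter, hm]
      simp
    rw [h2] at this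
    exact absurd this (Finset.notMem_empty m)

lemma adj_formula {p q : Fin n} (hpq : p < q) :
    (if G.Adj p q then (1:ℚ) else 0) =
      (if p ∈ G.par q then (1:ℚ) else 0) - ((SS G p q).card : ℚ) := by
  by_cases hS : SS G p q = ∅
  · rw [hS, Finset.card_empty, Nat.cast_zero, sub_zero]
    by_cases h1 : p ∈ G.par q
    · rw [if_pos h1, if_pos ((adj_iff G hpq).mpr ⟨h1, hS⟩)]
    · rw [if_neg h1, if_neg (fun h => h1 ((adj_iff G hpq).mp h).1)]
  · have hne : (SS G p q).Nonempty := Finset.nonempty_iff_ne_empty.mpr hS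
    have hcard : (SS G p q).card = 1 :=
      le_antisymm (SS_card_le_one G hpq) (Finset.card_pos.mpr hne)
    obtain ⟨m, hm⟩ := hne
    have hm' := hm
    unfold SS at hm'
    rw [Finset.mem_filter] at hm'
    have h1 : p ∈ G.par q := (G.meet_of_two m p q hm'.2.1 hm'.2.2 hpq).1
    rw [if_pos h1, if_neg (fun h => hS ((adj_iff G hpq).mp h).2), hcard]
    simp

lemma adj_comm (p q : Fin n) : G.Adj p q ↔ G.Adj q p := by
  unfold Adj; exact or_comm

lemma sum_DD (p q : Fin n) :
    ∑ m, Dm G p m * Dm G q m =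
      (if p = q then (1:ℚ) else 0) - (if q ∈ G.par p then (1:ℚ) else 0)
        - (if p ∈ G.par q then (1:ℚ) else 0) + ((SS G p q).card : ℚ) := by
  have e : ∀ m, Dm G p m * Dm G q m =
      (if p = m then (if q = m then (1:ℚ) else 0) else 0)
      - (if p = m then (if q ∈ G.par m then (1:ℚ) else 0) else 0)
      - (if q = m then (if p ∈ G.par m then (1:ℚ) else 0) else 0)
      + (if p ∈ G.par m ∧ q ∈ G.par m then (1:ℚ) else 0) := by
    intro m
    rw [Dm_eq, Dm_eq]
    by_cases h1 : p = m
    · subst h1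
      have hp := not_mem_par_self G p
      by_cases h2 : q = p
      · subst h2
        simp [hp]
      · by_cases h4 : q ∈ G.par p <;> simp [h2, h4, hp]
    · by_cases h2 : q = m
      · subst h2
        have hq := not_mem_par_self G q
        by_cases h3 : p ∈ G.par q <;> simp [h1, h3, hq]
      · by_cases h3 : p ∈ G.par m <;> by_cases h4 : q ∈ G.par m <;> simp [h1, h2, h3, h4]
  simp only [e, Finset.sum_add_distrib, Finset.sum_sub_distrib, Finset.sum_ite_eq,
    Finset.mem_univ, if_true]
  congr 1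
  · congr 2
    by_cases h : q = p
    · subst h; simp
    · rw [if_neg h, if_neg (fun h' => h h'.symm)]
  · unfold SS
    rw [Finset.card_filter]
    push_cast
    rfl

/-- **The intersection matrix is minus the Gram matrix of the proximity matrix.** -/
lemma mat_eq : G.mat = -(Dm G * (Dm G)ᵀ) := by
  ext p q
  rw [Matrix.neg_apply, Matrix.mul_apply]
  simp only [Matrix.transpose_apply]
  rw [sum_DD]
  unfold mat
  by_cases hpq : p = q
  · subst hpq
    rw [if_pos rfl, if_pos rfl, if_neg (not_mem_par_self G p)]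
    unfold selfInt SS
    have : (Finset.univ.filter fun m => p ∈ G.par m ∧ p ∈ G.par m)
        = Finset.univ.filter fun m => p ∈ G.par m := by
      ext m; simp
    rw [this]
    push_cast
    ring
  · rw [if_neg hpq, if_neg hpq]
    rcases lt_or_gt_of_ne hpq with h | h
    · have hq : q ∉ G.par p := fun hq => absurd (G.par_lt p q hq) (not_lt_of_gt h)
      rw [adj_formula G h, if_neg hq]
      ring
    · have hp : p ∉ G.par q := fun hp => absurd (G.par_lt q p hp) (not_lt_of_gt h)
      have hadj : (if G.Adj p q then (1:ℚ) else 0) = if G.Adj q p then (1:ℚ) else 0 := by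
        by_cases h1 : G.Adj p q
        · rw [if_pos h1, if_pos ((adj_comm G p q).mp h1)]
        · rw [if_neg h1, if_neg (fun h2 => h1 ((adj_comm G q p).mp h2))]
      rw [hadj, adj_formula G h, if_neg hp, SS_comm G p q]
      ring

/-- multiplicity matrix -/
def Nm : Matrix (Fin n) (Fin n) ℚ := fun i j => (G.mult i j : ℚ)

lemma Nm_eq : Nm G = (Cm G)ᵀ * Cm G := by
  ext i j
  rw [Matrix.mul_apply]
  simp only [Matrix.transpose_apply]
  unfold Nm mult Cm
  push_cast
  rfl

lemma Dm_mul_Cm : Dm G * Cm G = 1 := mul_eq_one_comm.mp (Cm_mul_Dm G)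

lemma mat_mul_Nm : G.mat * Nm G = -1 := by
  rw [mat_eq, Nm_eq, Matrix.neg_mul, Matrix.mul_assoc, ← Matrix.mul_assoc (Dm G)ᵀ,
    ← Matrix.transpose_mul, Cm_mul_Dm, Matrix.transpose_one, Matrix.one_mul, Dm_mul_Cm]

lemma Nm_mul_mat : Nm G * G.mat = -1 := by
  have h : (-G.mat) * Nm G = 1 := by rw [Matrix.neg_mul, mat_mul_Nm, neg_neg]
  have := mul_eq_one_comm.mp h
  rw [Matrix.mul_neg] at this
  rw [← this, neg_neg]

lemma mat_symm (p q : Fin n) : G.mat p q = G.mat q p := by
  rw [mat_eq]
  simp only [Matrix.neg_apply, Matrix.mul_apply, Matrix.transpose_apply]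
  congr 1
  exact Finset.sum_congr rfl fun m _ => mul_comm _ _

lemma Nm_symm (i j : Fin n) : Nm G i j = Nm G j i := by
  unfold Nm mult
  congr 1
  exact Finset.sum_congr rfl fun k _ => mul_comm _ _

/-- principal submatrices of the intersection matrix are invertible -/
lemma det_submatrix_ne_zero (I : Finset (Fin n)) :
    (G.mat.submatrix (fun x : I => x.1) (fun x : I => x.1)).det ≠ 0 := by
  intro hdet
  obtain ⟨y, hy0, hy⟩ := Matrix.exists_mulVec_eq_zero_iff.mpr hdet
  set x : Fin n → ℚ := fun i => if h : i ∈ I then y ⟨i, h⟩ else 0 with hx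
  set w : Fin n → ℚ := G.mat *ᵥ x with hw
  have hxI : ∀ i, i ∉ I → x i = 0 := by
    intro i hi; rw [hx]; simp only [dif_neg hi]
  have hwI : ∀ c, c ∈ I → w c = 0 := by
    intro c hc
    have h1 := congrFun hy ⟨c, hc⟩
    rw [Pi.zero_apply, Matrix.mulVec, dotProduct] at h1
    rw [hw, Matrix.mulVec, dotProduct, ← h1]
    rw [← Finset.sum_subset (Finset.subset_univ I) (fun i _ hi => by rw [hxI i hi, mul_zero]),
      ← Finset.sum_coe_sort I]
    refine Finset.sum_congr rfl fun b _ => ?_
    rw [Matrix.submatrix_apply, hx]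
    simp only [dif_pos b.2]
  have hxw : x ⬝ᵥ w = 0 := by
    rw [dotProduct]
    refine Finset.sum_eq_zero fun c _ => ?_
    by_cases hc : c ∈ I
    · rw [hwI c hc, mul_zero]
    · rw [hxI c hc, zero_mul]
  have hxN : x = -(Nm G *ᵥ w) := by
    rw [hw, Matrix.mulVec_mulVec, Nm_mul_mat, Matrix.neg_mulVec, Matrix.one_mulVec, neg_neg]
  have hCw : Cm G *ᵥ w = 0 := by
    rw [← dotProduct_self_eq_zero]
    have : x ⬝ᵥ w = -((Cm G *ᵥ w) ⬝ᵥ (Cm G *ᵥ w)) := by
      rw [hxN, Nm_eq, neg_dotProduct, ← Matrix.mulVec_mulVec, Matrix.mulVec_transpose,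
        ← Matrix.dotProduct_mulVec]
    rw [hxw] at this
    linarith
  have hw0 : w = 0 := by
    have : w = (Dm G * Cm G) *ᵥ w := by rw [Dm_mul_Cm, Matrix.one_mulVec]
    rw [this, ← Matrix.mulVec_mulVec, hCw, Matrix.mulVec_zero]
  have hx0 : x = 0 := by rw [hxN, hw0, Matrix.mulVec_zero, neg_zero]
  apply hy0
  funext b
  have := congrFun hx0 b.1
  rw [hx] at this
  simp only [dif_pos b.2, Pi.zero_apply] at this
  exact this

lemma sum_split (I : Finset (Fin n)) (f : Fin n → ℚ) :
    ∑ j, f j = ∑ j ∈ Finset.univ.filter (fun j => j ∉ I), f j + ∑ b : I, f b.1 := by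
  rw [Finset.sum_coe_sort I f, ← Finset.sum_filter_add_sum_filter_not Finset.univ (fun j => j ∉ I) f,
    add_right_inj]
  apply Finset.sum_congr _ fun _ _ => rfl
  ext j; simp

/-- On the complement of `I`, Mumford's pairing is inverse to `-mult`. -/
lemma sum_pairing_Nm (I : Finset (Fin n)) {a i : Fin n} (hi : i ∉ I) :
    ∑ j ∈ Finset.univ.filter (fun j => j ∉ I), G.pairing I a j * Nm G j i
      = -(if a = i then (1:ℚ) else 0) := by
  set A := G.mat.submatrix (fun x : I => x.1) (fun x : I => x.1) with hA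
  have hAinv : A⁻¹ * A = 1 :=
    Matrix.nonsing_inv_mul A (isUnit_iff_ne_zero.mpr (det_submatrix_ne_zero G I))
  set J := Finset.univ.filter (fun j : Fin n => j ∉ I) with hJ
  have hrow : ∀ c : Fin n, ∑ j ∈ J, G.mat c j * Nm G j i
      = -(if c = i then (1:ℚ) else 0) - ∑ b : I, G.mat c b.1 * Nm G b.1 i := by
    intro c
    have h1 := congrFun (congrFun (mat_mul_Nm G) c) i
    rw [Matrix.mul_apply, Matrix.neg_apply, Matrix.one_apply,
      sum_split I (fun j => G.mat c j * Nm G j i)] at h1
    linarith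
  set v : I → ℚ := fun b => Nm G b.1 i with hv
  set r : I → ℚ := fun b => G.mat a b.1 with hr
  set X : I → ℚ := fun c => ∑ j ∈ J, G.mat c.1 j * Nm G j i with hX
  have hXv : X = -(A *ᵥ v) := by
    funext c
    rw [hX]
    simp only
    rw [hrow c.1, if_neg (fun h : (c:Fin n) = i => hi (by rw [← h]; exact c.2)), neg_zero, zero_sub]
    rfl
  have hswap : ∑ j ∈ J, (∑ b : I, ∑ c : I, G.mat a b.1 * A⁻¹ b c * G.mat c.1 j) * Nm G j i
      = r ⬝ᵥ (A⁻¹ *ᵥ X) := by
    simp only [Finset.sum_mul]
    rw [Finset.sum_comm]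
    rw [dotProduct]
    refine Finset.sum_congr rfl fun b _ => ?_
    rw [Finset.sum_comm, Matrix.mulVec, dotProduct, Finset.mul_sum]
    refine Finset.sum_congr rfl fun c _ => ?_
    rw [hX]
    simp only
    rw [Finset.mul_sum, Finset.mul_sum]
    refine Finset.sum_congr rfl fun j _ => ?_
    ring
  have hfin : r ⬝ᵥ (A⁻¹ *ᵥ X) = -∑ b : I, G.mat a b.1 * Nm G b.1 i := by
    rw [hXv, Matrix.mulVec_neg, Matrix.mulVec_mulVec, hAinv, Matrix.one_mulVec, dotProduct_neg]
    rfl
  unfold pairing
  simp only [sub_mul, Finset.sum_sub_distrib]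
  rw [hrow a, hswap, hfin]
  ring

/-- **`l = r`.** -/
theorem lNum_eq_rNum (I : Finset (Fin n)) (σ : Equiv.Perm (Fin n))
    (hσI : ∀ i : Fin n, σ i ∈ I ↔ i ∈ I) : G.lNum I σ = BlowupGraph.rNum I σ := by
  unfold lNum rNum
  have h1 : ∀ i ∈ Finset.univ.filter (fun i : Fin n => i ∉ I),
      ∑ j ∈ Finset.univ.filter (fun j => j ∉ I), (G.mult i j : ℚ) * G.pairing I (σ i) j
        = -(if σ i = i then (1:ℚ) else 0) := by
    intro i hi
    rw [Finset.mem_filter] at hi
    rw [← sum_pairing_Nm G I (a := σ i) hi.2]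
    refine Finset.sum_congr rfl fun j _ => ?_
    rw [mul_comm, Nm_symm G j i]
    rfl
  rw [Finset.sum_congr rfl h1, Finset.sum_neg_distrib, Finset.sum_ite, Finset.sum_const_zero,
    add_zero, Finset.sum_const, nsmul_eq_mul, mul_one, Finset.filter_filter]

end Groth.Agent.H99.Blowup
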