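import Mathlib
import Groth.Agent.H46.GenFree.Reduced

/-!
# Chevalley-type statements for finite type (not nec. finitely presented) ring maps
(helper99; for S9651, S9652, S9653).  Uses helper46's generic freeness over reduced rings
and Mathlib's Chevalley theorem.
-/

set_option autoImplicit false
set_option linter.style.haveILetI false
universe u

namespace Groth.Agent.H99.ChevFT

open PrimeSpectrum Topology

/-- A constructible set or its complement is a neighbourhood of a generic point. -/
theorem nhds_generic {X : Type*} [TopologicalSpace X] (η : X) (hη : closure {η} = Set.univ)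
    {s : Set X} (hs : IsConstructible s) : s ∈ 𝓝 η ∨ sᶜ ∈ 𝓝 η := by
  induction hs using IsConstructible.empty_union_induction with
  | open_retrocompact U hUo hUc =>
    by_cases h : η ∈ U
    · exact Or.inl (hUo.mem_nhds h)
    · right
      have hcl : closure {η} ⊆ Uᶜ :=
        (hUo.isClosed_compl.closure_subset_iff).mpr (Set.singleton_subset_iff.mpr h)
      rw [hη] at hcl
      rw [Set.univ_subset_iff.mp hcl]
      exact Filter.univ_mem
  | union s hs t ht ihs iht =>
    rcases ihs with h1 | h1
    · exact Or.inl (Filter.mem_of_superset h1 Set.subset_union_left)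
    · rcases iht with h2 | h2
      · exact Or.inl (Filter.mem_of_superset h2 Set.subset_union_right)
      · right
        rw [Set.compl_union]
        exact Filter.inter_mem h1 h2
  | compl s hs ih =>
    rcases ih with h | h
    · right; rwa [compl_compl]
    · exact Or.inl h


section LemmaA

variable {R S : Type u} [CommRing R] [CommRing S] [Algebra R S] [Algebra.FiniteType R S]

/-- Generic constructibility of images: near the generic point of `cl{ξ}`, the image of a
constructible set either contains everything or nothing. -/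
theorem lemmaA (E : Set (PrimeSpectrum S)) (hE : IsConstructible E) (ξ : PrimeSpectrum R) :
    ∃ W : Set (PrimeSpectrum R), IsOpen W ∧ ξ ∈ W ∧
      (W ∩ closure {ξ} ⊆ comap (algebraMap R S) '' E ∨
        Disjoint (W ∩ closure {ξ}) (comap (algebraMap R S) '' E)) := by
  classical
  let p := ξ.asIdeal
  let Rb := R ⧸ p
  let Sb := S ⧸ p.map (algebraMap R S)
  haveI : IsDomain Rb := Ideal.Quotient.isDomain p
  haveI : Algebra.FiniteType R Sb :=
    Algebra.FiniteType.trans (inferInstance : Algebra.FiniteType R S) inferInstance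
  haveI : Algebra.FiniteType Rb Sb := Algebra.FiniteType.of_restrictScalars_finiteType R Rb Sb
  obtain ⟨f0, hf0, hcond⟩ := Groth.Agent.H46.GenFree.exists_cond Rb Sb Sb (1 : Rb) one_ne_zero
  obtain ⟨g, hg⟩ : ∃ g : Rb, g = 1 * f0 := ⟨_, rfl⟩
  rw [← hg] at hf0 hcond
  have hfp : (Localization.awayMap (algebraMap Rb Sb) g).FinitePresentation := hcond.2.2.1
  let q₁ : R →+* Rb := Ideal.Quotient.mk p
  let l₁ : Rb →+* Localization.Away g := algebraMap Rb (Localization.Away g)
  let q₂ : S →+* Sb := Ideal.Quotient.mk (p.map (algebraMap R S))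
  let l₂ : Sb →+* Localization.Away (algebraMap Rb Sb g) := algebraMap Sb _
  let φ : Localization.Away g →+* Localization.Away (algebraMap Rb Sb g) :=
    Localization.awayMap (algebraMap Rb Sb) g
  have hcomm1 : (algebraMap Rb Sb).comp q₁ = q₂.comp (algebraMap R S) := by
    ext x; rfl
  have hcomm2 : φ.comp l₁ = l₂.comp (algebraMap Rb Sb) := IsLocalization.map_comp _
  have hcomm : φ.comp (l₁.comp q₁) = (l₂.comp q₂).comp (algebraMap R S) := by
    rw [← RingHom.comp_assoc, hcomm2, RingHom.comp_assoc, hcomm1, RingHom.comp_assoc]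
  have hq₁ : Function.Surjective q₁ := Ideal.Quotient.mk_surjective
  have hq₂ : Function.Surjective q₂ := Ideal.Quotient.mk_surjective
  have hkerq₁ : RingHom.ker q₁ = p := Ideal.mk_ker
  have hkerq₂ : RingHom.ker q₂ = p.map (algebraMap R S) := Ideal.mk_ker
  have hg0 : g ≠ 0 := hf0
  haveI : IsDomain (Localization.Away g) :=
    IsLocalization.isDomain_localization (powers_le_nonZeroDivisors_of_noZeroDivisors hg0)
  have hl₁inj : Function.Injective (comap l₁) :=
    localization_comap_injective (Localization.Away g) (Submonoid.powers g)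
  have hq₁inj : Function.Injective (comap q₁) := comap_injective_of_surjective q₁ hq₁
  have hrange_l₁ : Set.range (comap l₁) = basicOpen g :=
    localization_away_comap_range (Localization.Away g) g
  have hrange_l₂ : Set.range (comap l₂) = basicOpen (algebraMap Rb Sb g) :=
    localization_away_comap_range (Localization.Away (algebraMap Rb Sb g)) (algebraMap Rb Sb g)
  have hrange_q₁ : Set.range (comap q₁) = zeroLocus (p : Set R) := by
    rw [range_comap_of_surjective _ _ hq₁, hkerq₁]
  have hrange_q₂ : Set.range (comap q₂) = zeroLocus ((p.map (algebraMap R S) : Ideal S) : Set S) := by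
    rw [range_comap_of_surjective _ _ hq₂, hkerq₂]
  have hunit : ∀ x' : PrimeSpectrum (Localization.Away g), g ∉ (comap l₁ x').asIdeal := by
    intro x' hmem
    have hu : IsUnit (l₁ g) := IsLocalization.Away.algebraMap_isUnit g
    exact x'.isPrime.ne_top (Ideal.eq_top_of_isUnit_mem _ hmem hu)
  let ι : PrimeSpectrum (Localization.Away g) → PrimeSpectrum R := fun x' => comap q₁ (comap l₁ x')
  have hιinj : Function.Injective ι := hq₁inj.comp hl₁inj
  have hιp : ∀ x', (p : Set R) ⊆ (ι x').asIdeal := by
    intro x'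
    have : ι x' ∈ Set.range (comap q₁) := ⟨_, rfl⟩
    rw [hrange_q₁] at this
    exact this
  -- the commutative square on spectra
  have hsq : ∀ yt : PrimeSpectrum (Localization.Away (algebraMap Rb Sb g)),
      ι (comap φ yt) = comap (algebraMap R S) (comap q₂ (comap l₂ yt)) := by
    intro yt
    change comap (φ.comp (l₁.comp q₁)) yt = comap ((l₂.comp q₂).comp (algebraMap R S)) yt
    rw [hcomm]
  let T' : Set (PrimeSpectrum (Localization.Away g)) := ι ⁻¹' (comap (algebraMap R S) '' E)
  have hT' : T' = comap φ '' (comap (l₂.comp q₂) ⁻¹' E) := by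
    ext x'
    constructor
    · rintro ⟨y, hyE, hy⟩
      -- `y` comes from `Sb`
      have hy1 : y ∈ Set.range (comap q₂) := by
        rw [hrange_q₂]
        intro z hz
        have hz' : z ∈ p.map (algebraMap R S) := hz
        have hle : p.map (algebraMap R S) ≤ y.asIdeal := by
          rw [Ideal.map_le_iff_le_comap]
          intro a ha
          have : a ∈ (comap (algebraMap R S) y).asIdeal := by
            rw [hy]; exact hιp x' ha
          exact this
        exact hle hz'
      obtain ⟨yb, rfl⟩ := hy1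
      have hy2 : yb ∈ Set.range (comap l₂) := by
        rw [hrange_l₂]
        intro hmem
        -- `g` would lie in the contraction
        have h1 : comap q₁ (comap (algebraMap Rb Sb) yb) = comap q₁ (comap l₁ x') := by
          change comap ((algebraMap Rb Sb).comp q₁) yb = _
          rw [hcomm1]
          exact hy
        have h2 := hq₁inj h1
        have : g ∈ (comap l₁ x').asIdeal := by
          rw [← h2]; exact hmem
        exact hunit x' this
      obtain ⟨yt, rfl⟩ := hy2
      refine ⟨yt, hyE, ?_⟩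
      apply hιinj
      rw [hsq]
      exact hy
    · rintro ⟨yt, hyt, rfl⟩
      exact ⟨_, hyt, (hsq yt).symm⟩
  have hT'c : IsConstructible T' := by
    rw [hT']
    refine isConstructible_comap_image hfp ?_
    obtain ⟨D, rfl⟩ := exists_constructibleSetData_iff.mpr hE
    rw [← ConstructibleSetData.toSet_map]
    exact ConstructibleSetData.isConstructible_toSet _
  let η : PrimeSpectrum (Localization.Away g) := ⟨⊥, Ideal.isPrime_bot⟩
  have hη : closure {η} = Set.univ := by
    rw [PrimeSpectrum.closure_singleton]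
    ext z
    simp [η]
  -- key claim: a neighbourhood of `η` spreads out to an open of `Spec R`
  have claim : ∀ T'' : Set (PrimeSpectrum (Localization.Away g)), T'' ∈ 𝓝 η →
      ∃ W : Set (PrimeSpectrum R), IsOpen W ∧ ξ ∈ W ∧
        ∀ x ∈ W ∩ closure {ξ}, ∃ x' ∈ T'', ι x' = x := by
    intro T'' hT''
    obtain ⟨_, ⟨h', rfl⟩, hηh', hsub⟩ := (isTopologicalBasis_basic_opens.mem_nhds_iff).mp hT''
    have hh'0 : h' ≠ 0 := by
      intro h0
      apply hηh'
      change h' ∈ (⊥ : Ideal _)
      rw [h0]; exact zero_mem _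
    obtain ⟨⟨a, s⟩, has⟩ := IsLocalization.surj (Submonoid.powers g) h'
    simp only at has
    have hsu : IsUnit (l₁ (s : Rb)) := IsLocalization.map_units _ s
    have ha0 : a ≠ 0 := by
      rintro rfl
      rw [map_zero] at has
      rcases mul_eq_zero.mp has with h | h
      · exact hh'0 h
      · exact hsu.ne_zero h
    obtain ⟨a0, rfl⟩ := hq₁ a
    obtain ⟨g0, hg0e⟩ := hq₁ g
    refine ⟨basicOpen (a0 * g0), (basicOpen _).isOpen, ?_, ?_⟩
    · change a0 * g0 ∉ p
      rw [← hkerq₁, RingHom.mem_ker, map_mul, hg0e]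
      exact mul_ne_zero ha0 hg0
    · rintro x ⟨hxW, hxcl⟩
      rw [PrimeSpectrum.closure_singleton] at hxcl
      have hxW' : a0 * g0 ∉ x.asIdeal := hxW
      have hx1 : x ∈ Set.range (comap q₁) := by rw [hrange_q₁]; exact hxcl
      obtain ⟨xb, rfl⟩ := hx1
      have hx2 : xb ∈ Set.range (comap l₁) := by
        rw [hrange_l₁]
        intro hmem
        apply hxW'
        apply Ideal.mul_mem_left
        change q₁ g0 ∈ xb.asIdeal
        rw [hg0e]; exact hmem
      obtain ⟨x', rfl⟩ := hx2
      refine ⟨x', hsub ?_, rfl⟩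
      intro hmem
      apply hxW'
      apply Ideal.mul_mem_right
      change l₁ (q₁ a0) ∈ x'.asIdeal
      rw [← has]
      exact Ideal.mul_mem_right _ _ hmem
  rcases nhds_generic η hη hT'c with h | h
  · obtain ⟨W, hWo, hξW, hW⟩ := claim T' h
    refine ⟨W, hWo, hξW, Or.inl ?_⟩
    intro x hx
    obtain ⟨x', hx'T, rfl⟩ := hW x hx
    exact hx'T
  · obtain ⟨W, hWo, hξW, hW⟩ := claim T'ᶜ h
    refine ⟨W, hWo, hξW, Or.inr ?_⟩
    rw [Set.disjoint_left]
    intro x hx hxim
    obtain ⟨x', hx'T, rfl⟩ := hW x hx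
    exact hx'T hxim

/-- S9651. -/
theorem image_contains_dense_open (E : Set (PrimeSpectrum S)) (hE : IsConstructible E)
    (ξ : PrimeSpectrum R) (hξ : ξ ∈ comap (algebraMap R S) '' E) :
    ∃ U : Set (PrimeSpectrum R), IsOpen U ∧
      closure ({ξ} : Set (PrimeSpectrum R)) ⊆ closure (U ∩ closure {ξ}) ∧
      U ∩ closure {ξ} ⊆ comap (algebraMap R S) '' E := by
  obtain ⟨W, hWo, hξW, h | h⟩ := lemmaA E hE ξ
  · refine ⟨W, hWo, ?_, h⟩
    exact closure_mono (Set.singleton_subset_iff.mpr ⟨hξW, subset_closure rfl⟩)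
  · exact absurd hξ (Set.disjoint_left.mp h ⟨hξW, subset_closure rfl⟩)

end LemmaA

section Jacobson

variable {R S : Type u} [CommRing R] [CommRing S] [Algebra R S] [Algebra.FiniteType R S]

/-- Lemma A for the identity map. -/
theorem lemmaA_self (E : Set (PrimeSpectrum S)) (hE : IsConstructible E) (y : PrimeSpectrum S) :
    ∃ W : Set (PrimeSpectrum S), IsOpen W ∧ y ∈ W ∧
      (W ∩ closure {y} ⊆ E ∨ Disjoint (W ∩ closure {y}) E) := by
  have := lemmaA (R := S) (S := S) E hE y
  simpa [Algebra.algebraMap_self] using this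

/-- Around a point of a constructible set, the set contains a relatively open part of the
closure of the point. -/
theorem exists_open_inter_closure_subset (E : Set (PrimeSpectrum S)) (hE : IsConstructible E)
    (y : PrimeSpectrum S) (hy : y ∈ E) :
    ∃ W : Set (PrimeSpectrum S), IsOpen W ∧ y ∈ W ∧ W ∩ closure {y} ⊆ E := by
  obtain ⟨W, hWo, hyW, h | h⟩ := lemmaA_self E hE y
  · exact ⟨W, hWo, hyW, h⟩
  · exact absurd hy (Set.disjoint_left.mp h ⟨hyW, subset_closure rfl⟩)

theorem isClosed_singleton_of_closedIn [IsJacobsonRing S] (E : Set (PrimeSpectrum S))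
    (hE : IsConstructible E) (y : PrimeSpectrum S) (hy : y ∈ E) (hcl : closure {y} ∩ E = {y}) :
    IsClosed ({y} : Set (PrimeSpectrum S)) := by
  obtain ⟨W, hWo, hyW, hW⟩ := exists_open_inter_closure_subset E hE y hy
  apply isClosed_singleton_of_isLocallyClosed_singleton
  refine ⟨W, closure {y}, hWo, isClosed_closure, ?_⟩
  apply Set.Subset.antisymm
  · exact Set.singleton_subset_iff.mpr ⟨hyW, subset_closure rfl⟩
  · intro z hz
    have : z ∈ closure {y} ∩ E := ⟨hz.2, hW hz⟩
    rw [hcl] at this
    exact this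

theorem exists_closedPoint_mem [IsJacobsonRing S] (E : Set (PrimeSpectrum S))
    (hE : IsConstructible E) (y : PrimeSpectrum S) (hy : y ∈ E) :
    ∃ y' ∈ E, IsClosed ({y'} : Set (PrimeSpectrum S)) ∧ y' ∈ closure ({y} : Set _) := by
  obtain ⟨W, hWo, hyW, hW⟩ := exists_open_inter_closure_subset E hE y hy
  obtain ⟨y', hy'Z, hy'c⟩ := nonempty_inter_closedPoints (Z := W ∩ closure {y})
    ⟨y, hyW, subset_closure rfl⟩ (hWo.isLocallyClosed.inter isClosed_closure.isLocallyClosed)
  exact ⟨y', hW hy'Z, hy'c, hy'Z.2⟩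

theorem isClosed_singleton_comap [IsJacobsonRing R] (y : PrimeSpectrum S)
    (hy : IsClosed ({y} : Set (PrimeSpectrum S))) :
    IsClosed ({comap (algebraMap R S) y} : Set (PrimeSpectrum R)) := by
  rw [isClosed_singleton_iff_isMaximal] at hy ⊢
  haveI := hy
  letI := Ideal.Quotient.field y.asIdeal
  haveI : Algebra.FiniteType R (S ⧸ y.asIdeal) :=
    Algebra.FiniteType.trans (inferInstance : Algebra.FiniteType R S) inferInstance
  haveI : Module.Finite R (S ⧸ y.asIdeal) := finite_of_finite_type_of_isJacobsonRing R _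
  haveI : Algebra.IsIntegral R (S ⧸ y.asIdeal) := Algebra.IsIntegral.of_finite R _
  have h1 : ((⊥ : Ideal (S ⧸ y.asIdeal)).comap (algebraMap R (S ⧸ y.asIdeal))).IsMaximal :=
    Ideal.isMaximal_comap_of_isIntegral_of_isMaximal (R := R) ⊥
  convert h1 using 1
  ext a
  change algebraMap R S a ∈ y.asIdeal ↔ _
  rw [Ideal.mem_comap, Ideal.mem_bot, IsScalarTower.algebraMap_apply R S (S ⧸ y.asIdeal),
    Ideal.Quotient.algebraMap_eq, Ideal.Quotient.eq_zero_iff_mem]

/-- S9652. -/
theorem closedPoints_image [IsJacobsonRing R] [IsJacobsonRing S]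
    (E : Set (PrimeSpectrum S)) (hE : IsConstructible E) :
    {x | x ∈ comap (algebraMap R S) '' E ∧
        closure {x} ∩ comap (algebraMap R S) '' E = {x}} =
        comap (algebraMap R S) '' {y | y ∈ E ∧ closure {y} ∩ E = {y}} ∧
      comap (algebraMap R S) '' {y | y ∈ E ∧ closure {y} ∩ E = {y}} =
        {x | IsClosed ({x} : Set (PrimeSpectrum R))} ∩ comap (algebraMap R S) '' E := by
  have hBC : comap (algebraMap R S) '' {y | y ∈ E ∧ closure {y} ∩ E = {y}} ⊆
      {x | IsClosed ({x} : Set (PrimeSpectrum R))} ∩ comap (algebraMap R S) '' E := by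
    rintro _ ⟨y, ⟨hyE, hycl⟩, rfl⟩
    exact ⟨isClosed_singleton_comap y (isClosed_singleton_of_closedIn E hE y hyE hycl),
      y, hyE, rfl⟩
  have hCA : {x | IsClosed ({x} : Set (PrimeSpectrum R))} ∩ comap (algebraMap R S) '' E ⊆
      {x | x ∈ comap (algebraMap R S) '' E ∧
        closure {x} ∩ comap (algebraMap R S) '' E = {x}} := by
    rintro x ⟨hxc, hxE⟩
    refine ⟨hxE, ?_⟩
    rw [hxc.closure_eq]
    exact Set.inter_eq_left.mpr (Set.singleton_subset_iff.mpr hxE)
  have hAB : {x | x ∈ comap (algebraMap R S) '' E ∧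
        closure {x} ∩ comap (algebraMap R S) '' E = {x}} ⊆
      comap (algebraMap R S) '' {y | y ∈ E ∧ closure {y} ∩ E = {y}} := by
    rintro x ⟨hxE, hxcl⟩
    -- `x` is a closed point
    have hxc : IsClosed ({x} : Set (PrimeSpectrum R)) := by
      obtain ⟨W, hWo, hxW, h | h⟩ := lemmaA E hE x
      · apply isClosed_singleton_of_isLocallyClosed_singleton
        refine ⟨W, closure {x}, hWo, isClosed_closure, ?_⟩
        apply Set.Subset.antisymm
        · exact Set.singleton_subset_iff.mpr ⟨hxW, subset_closure rfl⟩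
        · intro z hz
          have : z ∈ closure {x} ∩ comap (algebraMap R S) '' E := ⟨hz.2, h hz⟩
          rw [hxcl] at this
          exact this
      · exact absurd hxE (Set.disjoint_left.mp h ⟨hxW, subset_closure rfl⟩)
    obtain ⟨y, hyE, rfl⟩ := hxE
    obtain ⟨y', hy'E, hy'c, hy'y⟩ := exists_closedPoint_mem E hE y hyE
    refine ⟨y', ⟨hy'E, ?_⟩, ?_⟩
    · rw [hy'c.closure_eq]
      exact Set.inter_eq_left.mpr (Set.singleton_subset_iff.mpr hy'E)
    · have hcont : Continuous (comap (algebraMap R S)) := PrimeSpectrum.continuous_comap _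
      have : comap (algebraMap R S) y' ∈ closure {comap (algebraMap R S) y} := by
        have h1 := image_closure_subset_closure_image hcont (s := {y}) ⟨y', hy'y, rfl⟩
        simpa using h1
      rw [hxc.closure_eq] at this
      exact this
  exact ⟨Set.Subset.antisymm hAB (hBC.trans hCA), Set.Subset.antisymm hBC (hCA.trans hAB)⟩

/-- S9653. -/
theorem mem_image_iff_dense [IsJacobsonRing R] [IsJacobsonRing S]
    (E : Set (PrimeSpectrum S)) (hE : IsConstructible E) (ξ : PrimeSpectrum R) :
    ξ ∈ comap (algebraMap R S) '' E ↔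
      closure ({ξ} : Set (PrimeSpectrum R)) ⊆
        closure (closure {ξ} ∩ comap (algebraMap R S) '' {y | y ∈ E ∧ closure {y} ∩ E = {y}}) := by
  obtain ⟨-, hBC⟩ := closedPoints_image (R := R) E hE
  constructor
  · intro hξ
    obtain ⟨W, hWo, hξW, h | h⟩ := lemmaA E hE ξ
    · have hloc : IsLocallyClosed (W ∩ closure {ξ}) :=
        hWo.isLocallyClosed.inter isClosed_closure.isLocallyClosed
      have h1 := JacobsonSpace.closure_inter_closedPoints_eq_closure hloc
      have h2 : closure ({ξ} : Set (PrimeSpectrum R)) ⊆ closure (W ∩ closure {ξ}) :=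
        closure_mono (Set.singleton_subset_iff.mpr ⟨hξW, subset_closure rfl⟩)
      rw [← h1] at h2
      refine h2.trans (closure_mono ?_)
      rintro z ⟨hz, hzc⟩
      refine ⟨hz.2, ?_⟩
      rw [hBC]
      exact ⟨hzc, h hz⟩
    · exact absurd hξ (Set.disjoint_left.mp h ⟨hξW, subset_closure rfl⟩)
  · intro hdense
    obtain ⟨W, hWo, hξW, h | h⟩ := lemmaA E hE ξ
    · exact h ⟨hξW, subset_closure rfl⟩
    · exfalso
      have hξcl : ξ ∈ closure (closure {ξ} ∩
          comap (algebraMap R S) '' {y | y ∈ E ∧ closure {y} ∩ E = {y}}) :=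
        hdense (subset_closure rfl)
      obtain ⟨z, hzW, hzcl, hzim⟩ := mem_closure_iff.mp hξcl W hWo hξW
      rw [hBC] at hzim
      exact Set.disjoint_left.mp h ⟨hzW, hzcl⟩ hzim.2

end Jacobson

end Groth.Agent.H99.ChevFT
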