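import Mathlib

/-!
# Connected components meet finite fibres when all clopens surject
-/

set_option autoImplicit false

namespace Groth.Agent.H99.ClopenFibre

variable {X' X : Type*} [TopologicalSpace X']

/-- If a clopen set is not preconnected, it splits into two disjoint nonempty clopen pieces. -/
theorem exists_split_of_not_isPreconnected {W : Set X'} (hW : IsClopen W)
    (hnp : ¬ IsPreconnected W) :
    ∃ A B : Set X', IsClopen A ∧ IsClopen B ∧ A ⊆ W ∧ B ⊆ W ∧ A ∪ B = W ∧ Disjoint A B ∧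
      A.Nonempty ∧ B.Nonempty := by
  unfold IsPreconnected at hnp
  push Not at hnp
  obtain ⟨u, v, hu, hv, hsub, hWu, hWv, hempty⟩ := hnp
  have hdis : ∀ z, z ∈ W → z ∈ u → z ∈ v → False := fun z hz hzu hzv => by
    have : z ∈ W ∩ (u ∩ v) := ⟨hz, hzu, hzv⟩
    rw [hempty] at this
    exact this
  have hA : W ∩ u = W ∩ vᶜ := by
    ext z
    constructor
    · rintro ⟨hz, hzu⟩
      exact ⟨hz, fun hzv => hdis z hz hzu hzv⟩
    · rintro ⟨hz, hzv⟩
      rcases hsub hz with h | h
      · exact ⟨hz, h⟩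
      · exact absurd h hzv
  have hB : W ∩ v = W ∩ uᶜ := by
    ext z
    constructor
    · rintro ⟨hz, hzv⟩
      exact ⟨hz, fun hzu => hdis z hz hzu hzv⟩
    · rintro ⟨hz, hzu⟩
      rcases hsub hz with h | h
      · exact absurd h hzu
      · exact ⟨hz, h⟩
  refine ⟨W ∩ u, W ∩ v, ⟨?_, hW.isOpen.inter hu⟩, ⟨?_, hW.isOpen.inter hv⟩,
    Set.inter_subset_left, Set.inter_subset_left, ?_, ?_, hWu, hWv⟩
  · rw [hA]; exact hW.isClosed.inter hv.isClosed_compl
  · rw [hB]; exact hW.isClosed.inter hu.isClosed_compl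
  · rw [← Set.inter_union_distrib_left]
    exact Set.inter_eq_left.mpr hsub
  · rw [Set.disjoint_left]
    rintro z ⟨hz, hzu⟩ ⟨-, hzv⟩
    exact hdis z hz hzu hzv

/-- Key induction: every clopen neighbourhood of `c` contains a preconnected clopen neighbourhood,
provided every nonempty clopen meets the finite set `F`. -/
theorem exists_isPreconnected_clopen (F : Set X') (hF : F.Finite)
    (hmeet : ∀ W : Set X', IsClopen W → W.Nonempty → (W ∩ F).Nonempty) (c : X') :
    ∀ (n : ℕ) (W : Set X'), IsClopen W → c ∈ W → (W ∩ F).ncard ≤ n →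
      ∃ W' : Set X', IsClopen W' ∧ c ∈ W' ∧ IsPreconnected W' := by
  intro n
  induction n with
  | zero =>
    intro W hW hc hn
    exfalso
    have hfin : (W ∩ F).Finite := hF.subset Set.inter_subset_right
    have h0 : (W ∩ F).ncard = 0 := Nat.le_zero.mp hn
    rw [Set.ncard_eq_zero hfin] at h0
    exact Set.not_nonempty_iff_eq_empty.mpr h0 (hmeet W hW ⟨c, hc⟩)
  | succ n ih =>
    intro W hW hc hn
    by_cases hp : IsPreconnected W
    · exact ⟨W, hW, hc, hp⟩
    obtain ⟨A, B, hA, hB, hAW, hBW, hAB, hdis, hAne, hBne⟩ :=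
      exists_split_of_not_isPreconnected hW hp
    have hfin : (W ∩ F).Finite := hF.subset Set.inter_subset_right
    have key : ∀ A B : Set X', IsClopen A → IsClopen B → A ⊆ W → Disjoint A B → B ⊆ W →
        B.Nonempty → c ∈ A → ∃ W' : Set X', IsClopen W' ∧ c ∈ W' ∧ IsPreconnected W' := by
      intro A B hA hB hAW hdis hBW hBne hcA
      obtain ⟨z, hzB, hzF⟩ := hmeet B hB hBne
      have hss : A ∩ F ⊂ W ∩ F := by
        refine ⟨Set.inter_subset_inter_left _ hAW, fun h => ?_⟩
        have : z ∈ A ∩ F := h ⟨hBW hzB, hzF⟩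
        exact Set.disjoint_left.mp hdis this.1 hzB
      have hlt : (A ∩ F).ncard < (W ∩ F).ncard := Set.ncard_lt_ncard hss hfin
      exact ih A hA hcA (by omega)
    have hcAB : c ∈ A ∪ B := hAB ▸ hc
    rcases hcAB with hcA | hcB
    · exact key A B hA hB hAW hdis hBW hBne hcA
    · exact key B A hB hA hBW hdis.symm hAW hAne hcB

/-- If every nonempty clopen subset of `X'` meets the finite fibre `f ⁻¹' {x}`, then every
connected component of `X'` meets that fibre. -/
theorem exists_mem_connectedComponent (f : X' → X) (x : X) (hfin : (f ⁻¹' {x}).Finite)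
    (hW : ∀ W : Set X', IsClopen W → W.Nonempty → ∃ x' ∈ W, f x' = x) (c : X') :
    ∃ x', f x' = x ∧ x' ∈ connectedComponent c := by
  have hmeet : ∀ W : Set X', IsClopen W → W.Nonempty → (W ∩ f ⁻¹' {x}).Nonempty := by
    intro W hWc hWne
    obtain ⟨x', hx', hfx'⟩ := hW W hWc hWne
    exact ⟨x', hx', hfx'⟩
  obtain ⟨W', hW'c, hcW', hW'p⟩ := exists_isPreconnected_clopen (f ⁻¹' {x}) hfin hmeet c
    ((Set.univ ∩ f ⁻¹' {x}).ncard) Set.univ isClopen_univ (Set.mem_univ c) le_rfl
  obtain ⟨x', hx', hfx'⟩ := hW W' hW'c ⟨c, hcW'⟩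
  exact ⟨x', hfx', hW'p.subset_connectedComponent hcW' hx'⟩

end Groth.Agent.H99.ClopenFibre
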