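import Mathlib

/-!
# Points in the closure of an open subset of a locally Noetherian scheme are specializations of
points of the open subset.
-/

set_option autoImplicit false
universe u

namespace Groth.Agent.H99.GenSpec

open AlgebraicGeometry CategoryTheory

theorem exists_le_mem_of_mem_closure {C : Type*} [CommRing C] [IsNoetherianRing C]
    (T : Set (PrimeSpectrum C)) (hT : IsOpen T) (n : PrimeSpectrum C) (hn : n ∈ closure T) :
    ∃ P ∈ T, P.asIdeal ≤ n.asIdeal := by
  classical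
  by_contra hcon
  push Not at hcon
  have hfin : (minimalPrimes C).Finite := minimalPrimes.finite_of_isNoetherianRing C
  let O : Set (PrimeSpectrum C) :=
    (⋃ p ∈ {p ∈ minimalPrimes C | ¬ p ≤ n.asIdeal}, PrimeSpectrum.zeroLocus (p : Set C))ᶜ
  have hOopen : IsOpen O := by
    rw [isOpen_compl_iff]
    exact (hfin.subset (fun p hp => hp.1)).isClosed_biUnion
      (fun p _ => PrimeSpectrum.isClosed_zeroLocus _)
  have hnO : n ∈ O := by
    simp only [O, Set.mem_compl_iff, Set.mem_iUnion, not_exists]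
    rintro p ⟨-, hpn⟩ hnp
    exact hpn hnp
  obtain ⟨P, hPO, hPT⟩ := mem_closure_iff.mp hn O hOopen hnO
  obtain ⟨p, hp, hpP⟩ := Ideal.exists_minimalPrimes_le (I := ⊥) (J := P.asIdeal) bot_le
  have hpprime : p.IsPrime := hp.1.1
  have hpn : p ≤ n.asIdeal := by
    by_contra hpn
    apply hPO
    simp only [Set.mem_iUnion]
    exact ⟨p, ⟨hp, hpn⟩, hpP⟩
  let pp : PrimeSpectrum C := ⟨p, hpprime⟩
  have hspec : pp ⤳ P := (PrimeSpectrum.le_iff_specializes pp P).mp hpP
  have hppT : pp ∈ T := hspec.mem_open hT hPT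
  exact hcon pp hppT hpn

theorem exists_specializes_of_mem_closure {X : Scheme.{u}} [IsLocallyNoetherian X]
    (U : X.Opens) (x : X) (hx : x ∈ closure (U : Set X)) : ∃ x' : X, x' ∈ U ∧ x' ⤳ x := by
  obtain ⟨_, ⟨W, hW0, rfl⟩, hxW, -⟩ :=
    X.isBasis_affineOpens.exists_subset_of_mem_open (Set.mem_univ x) isOpen_univ
  have hW : IsAffineOpen W := hW0
  have hxW' : x ∈ W := hxW
  have hCnoeth : IsNoetherianRing Γ(X, W) := IsLocallyNoetherian.component_noetherian ⟨W, hW⟩
  let n : ↥(Spec Γ(X, W)) := hW.primeIdealOf ⟨x, hxW'⟩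
  have hnx : hW.fromSpec n = x := hW.fromSpec_primeIdealOf ⟨x, hxW'⟩
  have hemb : Topology.IsOpenEmbedding hW.fromSpec := hW.fromSpec.isOpenEmbedding
  have hTopen : IsOpen (hW.fromSpec ⁻¹' (U : Set X)) := U.isOpen.preimage hW.fromSpec.continuous
  have hncl : n ∈ closure (hW.fromSpec ⁻¹' (U : Set X)) := by
    rw [mem_closure_iff]
    intro O hO hnO
    have hO' : IsOpen (hW.fromSpec '' O) := hemb.isOpenMap _ hO
    have hxO' : x ∈ hW.fromSpec '' O := ⟨n, hnO, hnx⟩
    obtain ⟨y, hyO, hyU⟩ := mem_closure_iff.mp hx _ hO' hxO'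
    obtain ⟨P, hPO, rfl⟩ := hyO
    exact ⟨P, hPO, hyU⟩
  obtain ⟨P, hPT, hPn⟩ := exists_le_mem_of_mem_closure (C := Γ(X, W)) _ hTopen n hncl
  refine ⟨hW.fromSpec P, hPT, ?_⟩
  rw [← hnx]
  exact (hemb.isInducing.specializes_iff).mpr
    ((PrimeSpectrum.le_iff_specializes (R := Γ(X, W)) P n).mp hPn)

end Groth.Agent.H99.GenSpec
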