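import Groth.Agent.H99.CubicA

/-!
# Cubic forms: multilinear algebra around a point of a cubic hypersurface

Abstract setting: a symmetric trilinear form `T` on a vector space `V` over a field of
characteristic zero, `F x = T x x x`.
-/

set_option autoImplicit false
set_option linter.unusedSectionVars false
set_option linter.unusedSimpArgs false

namespace Groth.Agent.H99.Cubic

section abstract
variable {K : Type*} [Field K] [CharZero K] {V : Type*} [AddCommGroup V] [Module K V]
variable (T : V →ₗ[K] V →ₗ[K] V →ₗ[K] K)

/-- symmetry hypotheses bundled -/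
structure IsSymm : Prop where
  swap12 : ∀ x y z, T x y z = T y x z
  swap23 : ∀ x y z, T x y z = T x z y

variable {T}

namespace IsSymm
variable (h : IsSymm T)
include h

lemma pxx (p x : V) : T p x x = T x x p := by rw [h.swap12 p x x, h.swap23 x p x]
lemma xpx (p x : V) : T x p x = T x x p := h.swap23 x p x
lemma pxp (p x : V) : T p x p = T x p p := h.swap12 p x p
lemma ppx (p x : V) : T p p x = T x p p := by rw [h.swap23 p p x, h.swap12 p x p]
lemma swap13 (x y z : V) : T x y z = T z y x := by
  rw [h.swap12 x y z, h.swap23 y x z, h.swap12 y z x]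

/-- Taylor expansion of the cubic along a line -/
lemma expand3 (x p : V) (s : K) :
    T (x + s • p) (x + s • p) (x + s • p) =
      T x x x + 3 * s * T x x p + 3 * s ^ 2 * T x p p + s ^ 3 * T p p p := by
  simp only [map_add, map_smul, LinearMap.add_apply, LinearMap.smul_apply, smul_eq_mul,
    h.pxx, h.xpx, h.pxp, h.ppx]
  ring

lemma expand2 (x p : V) (s : K) :
    T (x + s • p) (x + s • p) p = T x x p + 2 * s * T x p p + s ^ 2 * T p p p := by
  simp only [map_add, map_smul, LinearMap.add_apply, LinearMap.smul_apply, smul_eq_mul,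
    h.pxx, h.xpx, h.pxp, h.ppx]
  ring

lemma expand1 (x p : V) (s : K) :
    T (x + s • p) p p = T x p p + s * T p p p := by
  simp only [map_add, map_smul, LinearMap.add_apply, LinearMap.smul_apply, smul_eq_mul]

/-- polarisation in the first two slots -/
lemma polar2 (x y p : V) :
    T (x + y) (x + y) p = T x x p + 2 * T x y p + T y y p := by
  simp only [map_add, LinearMap.add_apply, h.swap12 y x p]
  ring

end IsSymm

/-- A cubic polynomial function vanishing identically has zero coefficients. -/
lemma cubic_coeffs_zero {a b c d : K} (h : ∀ s : K, a + b * s + c * s ^ 2 + d * s ^ 3 = 0) :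
    a = 0 ∧ b = 0 ∧ c = 0 ∧ d = 0 := by
  have h0 := h 0
  have h1 := h 1
  have h2 := h (-1)
  have h3 := h 2
  have ha : a = 0 := by simpa using h0
  subst ha
  have hc : c = 0 := by
    have : 2 * c = 0 := by linear_combination h1 + h2
    simpa using this
  subst hc
  have hd : d = 0 := by
    have : 6 * d = 0 := by linear_combination h3 - 2 * h1
    simpa using this
  subst hd
  have hb : b = 0 := by linear_combination h1
  exact ⟨rfl, hb, rfl, rfl⟩

/-- If a product of two linear forms vanishes identically, and the second is nonzero, then the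
first vanishes. -/
lemma linear_form_eq_zero_of_mul_eq_zero (δ ℓ : V →ₗ[K] K) (hℓ : ∃ w, ℓ w ≠ 0)
    (hmul : ∀ x, δ x * ℓ x = 0) : ∀ x, δ x = 0 := by
  obtain ⟨w, hw⟩ := hℓ
  have hδw : δ w = 0 := by
    rcases mul_eq_zero.mp (hmul w) with h | h
    · exact h
    · exact absurd h hw
  intro x
  by_cases hx : ℓ x = 0
  · have h1 := hmul (x + w)
    rw [map_add, map_add, hδw, hx, add_zero, zero_add] at h1
    rcases mul_eq_zero.mp h1 with h | h
    · exact h
    · exact absurd h hw
  · rcases mul_eq_zero.mp (hmul x) with h | h
    · exact h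
    · exact absurd h hx

/-- **Invariance ⇒ factorisation of the polar quadric.**
If the reflection `x ↦ x - m x • p` (with `m p = 2`) multiplies the cubic by `c`, the point `p` lies
on the cubic and the tangent form at `p` is nonzero, then `c = 1` and the polar quadric of `p`
is `m` times the tangent form. -/
lemma polar_eq_of_invariant (h : IsSymm T) (p : V) (m : V →ₗ[K] K) (c : K) (hmp : m p = 2)
    (hp : T p p p = 0) (hℓ : ∃ y, T y p p ≠ 0)
    (hinv : ∀ x, T (x - m x • p) (x - m x • p) (x - m x • p) = c * T x x x) :
    c = 1 ∧ ∀ x, T x x p = m x * T x p p := by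
  -- expansion along `x + s p`
  have key : ∀ x : V, ∀ s : K,
      (T (x - m x • p) (x - m x • p) (x - m x • p) - c * T x x x)
      + (-(3 * T (x - m x • p) (x - m x • p) p) - c * (3 * T x x p)) * s
      + (3 * T (x - m x • p) p p - c * (3 * T x p p)) * s ^ 2
      + (-(T p p p) - c * T p p p) * s ^ 3 = 0 := by
    intro x s
    have h1 := hinv (x + s • p)
    have e : (x + s • p) - m (x + s • p) • p = (x - m x • p) + (-s) • p := by
      rw [map_add, map_smul, hmp, smul_eq_mul]
      module
    rw [e, h.expand3, h.expand3] at h1
    linear_combination h1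
  have hx' : ∀ x, T (x - m x • p) p p = T x p p := by
    intro x
    have := h.expand1 x p (-(m x))
    rw [hp, mul_zero, add_zero] at this
    rw [← this, neg_smul, sub_eq_add_neg]
  have hx'' : ∀ x, T (x - m x • p) (x - m x • p) p = T x x p - 2 * m x * T x p p := by
    intro x
    have := h.expand2 x p (-(m x))
    rw [hp, mul_zero, add_zero] at this
    rw [sub_eq_add_neg, ← neg_smul, this]
    ring
  obtain ⟨y, hy⟩ := hℓ
  have hc : c = 1 := by
    obtain ⟨-, -, h2, -⟩ := cubic_coeffs_zero (key y)
    rw [hx'] at h2
    have : (1 - c) * (3 * T y p p) = 0 := by linear_combination h2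
    rcases mul_eq_zero.mp this with h3 | h3
    · linear_combination -h3
    · exfalso
      apply hy
      have h3' : (3:K) ≠ 0 := by norm_num
      exact (mul_eq_zero.mp h3).resolve_left h3'
  refine ⟨hc, fun x => ?_⟩
  obtain ⟨-, h1, -, -⟩ := cubic_coeffs_zero (key x)
  rw [hx'', hc] at h1
  have h6 : (6:K) ≠ 0 := by norm_num
  apply mul_left_cancel₀ h6
  linear_combination -h1

/-- **Factorisation of the polar quadric ⇒ invariance.** -/
lemma invariant_of_polar_eq (h : IsSymm T) (p : V) (m : V →ₗ[K] K)
    (hp : T p p p = 0) (hq : ∀ x, T x x p = m x * T x p p) (x : V) :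
    T (x - m x • p) (x - m x • p) (x - m x • p) = T x x x := by
  have := h.expand3 x p (-(m x))
  rw [neg_smul, ← sub_eq_add_neg] at this
  rw [this, hp, hq x]
  ring

end abstract

end Groth.Agent.H99.Cubic
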