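import Groth.Agent.H99.CubicB

/-!
# Reflections as matrices
-/

set_option autoImplicit false
set_option linter.unusedSectionVars false
set_option linter.unusedSimpArgs false

namespace Groth.Agent.H99.Cubic

section matrix
variable {n : Type*} [Fintype n] [DecidableEq n] {K : Type*} [Field K] [CharZero K]

/-- An involutive matrix with a hyperplane of fixed vectors and `A p = -p` is the reflection
`x ↦ x - m x • p` for a linear form `m` with `m p = 2`. -/
lemma exists_form_of_reflection (A : Matrix n n K) (p : n → K) (hp : p ≠ 0)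
    (hAA : A * A = 1)
    (hfix : Module.finrank K (LinearMap.ker (Matrix.toLin' A - LinearMap.id)) + 1 = Fintype.card n)
    (hAp : A.mulVec p = -p) :
    ∃ m : (n → K) →ₗ[K] K, m p = 2 ∧ ∀ x, A.mulVec x = x - m x • p := by
  set φ : (n → K) →ₗ[K] (n → K) := Matrix.toLin' A with hφ
  have hφφ : ∀ x, φ (φ x) = x := by
    intro x
    have : φ ∘ₗ φ = LinearMap.id := by
      rw [hφ, ← Matrix.toLin'_mul, hAA, Matrix.toLin'_one]
    exact congrArg (fun g : (n → K) →ₗ[K] (n → K) => g x) this
  have h2 : (2:K) ≠ 0 := two_ne_zero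
  set H := LinearMap.ker (φ - LinearMap.id) with hH
  set N := LinearMap.ker (φ + LinearMap.id) with hN
  have hcompl : IsCompl H N := by
    constructor
    · rw [Submodule.disjoint_def]
      intro x hxH hxN
      rw [hH, LinearMap.mem_ker, LinearMap.sub_apply, LinearMap.id_apply, sub_eq_zero] at hxH
      rw [hN, LinearMap.mem_ker, LinearMap.add_apply, LinearMap.id_apply, hxH] at hxN
      have : (2:K) • x = 0 := by rw [two_smul]; exact hxN
      exact (smul_eq_zero.mp this).resolve_left h2
    · rw [codisjoint_iff, eq_top_iff]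
      intro x _
      rw [Submodule.mem_sup]
      refine ⟨(2⁻¹:K) • (x + φ x), ?_, (2⁻¹:K) • (x - φ x), ?_, ?_⟩
      · rw [hH, LinearMap.mem_ker, LinearMap.sub_apply, LinearMap.id_apply, map_smul, map_add,
          hφφ, add_comm, sub_self]
      · rw [hN, LinearMap.mem_ker, LinearMap.add_apply, LinearMap.id_apply, map_smul, map_sub,
          hφφ, ← smul_add]
        simp
      · rw [← smul_add]
        have : x + φ x + (x - φ x) = (2:K) • x := by rw [two_smul]; abel
        rw [this, smul_smul, inv_mul_cancel₀ h2, one_smul]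
  have hsum := Submodule.finrank_add_eq_of_isCompl hcompl
  rw [Module.finrank_fintype_fun_eq_card] at hsum
  have hN1 : Module.finrank K N = 1 := by omega
  have hpN : p ∈ N := by
    rw [hN, LinearMap.mem_ker, LinearMap.add_apply, LinearMap.id_apply, hφ, Matrix.toLin'_apply,
      hAp, neg_add_cancel]
  obtain ⟨i, hi⟩ : ∃ i, p i ≠ 0 := by
    by_contra hcon
    push Not at hcon
    exact hp (funext hcon)
  have hmem : ∀ x, x - φ x ∈ N := by
    intro x
    rw [hN, LinearMap.mem_ker, LinearMap.add_apply, LinearMap.id_apply, map_sub, hφφ]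
    abel
  have hpN0 : (⟨p, hpN⟩ : N) ≠ 0 := by
    intro h0
    exact hp (congrArg Subtype.val h0)
  have hspan := (finrank_eq_one_iff_of_nonzero' (⟨p, hpN⟩ : N) hpN0).mp hN1
  have hc : ∀ x, ∃ c : K, c • p = x - φ x := by
    intro x
    obtain ⟨c, hc⟩ := hspan ⟨x - φ x, hmem x⟩
    exact ⟨c, congrArg Subtype.val hc⟩
  refine ⟨(p i)⁻¹ • ((LinearMap.proj i : (n → K) →ₗ[K] K) ∘ₗ (LinearMap.id - φ)), ?_, ?_⟩
  · simp only [LinearMap.smul_apply, LinearMap.comp_apply, LinearMap.sub_apply,
      LinearMap.id_apply, LinearMap.proj_apply, smul_eq_mul]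
    rw [hφ, Matrix.toLin'_apply, hAp]
    simp only [Pi.sub_apply, Pi.neg_apply]
    field_simp
    ring
  · intro x
    obtain ⟨c, hc⟩ := hc x
    have hm : ((p i)⁻¹ • ((LinearMap.proj i : (n → K) →ₗ[K] K) ∘ₗ (LinearMap.id - φ))) x = c := by
      simp only [LinearMap.smul_apply, LinearMap.comp_apply, LinearMap.sub_apply,
        LinearMap.id_apply, LinearMap.proj_apply, smul_eq_mul]
      rw [← hc]
      simp only [Pi.smul_apply, smul_eq_mul]
      field_simp
    rw [hm, hc, ← Matrix.toLin'_apply]
    abel

/-- The matrix of the reflection `x ↦ x - m x • p`. -/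
noncomputable def reflMatrix (m : (n → K) →ₗ[K] K) (p : n → K) : Matrix n n K :=
  LinearMap.toMatrix' (LinearMap.id - m.smulRight p)

lemma reflMatrix_mulVec (m : (n → K) →ₗ[K] K) (p x : n → K) :
    (reflMatrix m p).mulVec x = x - m x • p := by
  rw [reflMatrix, ← Matrix.toLin'_apply, Matrix.toLin'_toMatrix']
  simp

lemma reflMatrix_mul_self (m : (n → K) →ₗ[K] K) (p : n → K) (hmp : m p = 2) :
    reflMatrix m p * reflMatrix m p = 1 := by
  rw [reflMatrix, ← LinearMap.toMatrix'_comp, ← LinearMap.toMatrix'_id]
  congr 1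
  apply LinearMap.ext
  intro x
  simp only [LinearMap.comp_apply, LinearMap.sub_apply, LinearMap.id_apply,
    LinearMap.smulRight_apply, map_sub, map_smul, hmp, smul_eq_mul]
  module

lemma finrank_ker_reflMatrix (m : (n → K) →ₗ[K] K) (p : n → K) (hp : p ≠ 0) (hmp : m p = 2) :
    Module.finrank K (LinearMap.ker (Matrix.toLin' (reflMatrix m p) - LinearMap.id)) + 1
      = Fintype.card n := by
  have hker : LinearMap.ker (Matrix.toLin' (reflMatrix m p) - LinearMap.id) = LinearMap.ker m := by
    ext x
    rw [LinearMap.mem_ker, LinearMap.mem_ker, LinearMap.sub_apply, LinearMap.id_apply,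
      Matrix.toLin'_apply, reflMatrix_mulVec]
    constructor
    · intro h
      have : m x • p = 0 := by
        have : x - m x • p - x = -(m x • p) := by abel
        rw [this, neg_eq_zero] at h
        exact h
      exact (smul_eq_zero.mp this).resolve_right hp
    · intro h
      rw [h, zero_smul, sub_zero, sub_self]
  rw [hker]
  have hsurj : Function.Surjective m := by
    intro c
    refine ⟨(c / 2) • p, ?_⟩
    rw [map_smul, hmp, smul_eq_mul]
    field_simp
  have := LinearMap.finrank_range_add_finrank_ker m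
  rw [LinearMap.range_eq_top.mpr hsurj, finrank_top, Module.finrank_self,
    Module.finrank_fintype_fun_eq_card] at this
  omega

end matrix

end Groth.Agent.H99.Cubic
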