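import Groth.Agent.H99.CubicC

/-!
# Lines through a point of a cubic hypersurface
-/

set_option autoImplicit false
set_option linter.unusedSectionVars false
set_option linter.unusedSimpArgs false

namespace Groth.Agent.H99.Cubic

open Module Submodule

section planes
variable {K : Type*} [Field K] {V : Type*} [AddCommGroup V] [Module K V]

lemma finrank_span_pair {p a : V} (hp : p ≠ 0) (ha : a ∉ span K {p}) :
    finrank K (span K ({p, a} : Set V)) = 2 := by
  have hli : LinearIndependent K ![p, a] := by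
    rw [LinearIndependent.pair_iff' hp]
    intro c hc
    exact ha (mem_span_singleton.mpr ⟨c, hc⟩)
  have := finrank_span_eq_card hli
  have hr : Set.range ![p, a] = ({p, a} : Set V) := by
    ext x
    simp [Fin.exists_fin_two, eq_comm, or_comm]
  rw [hr] at this
  simpa using this

lemma exists_notMem_span_of_finrank_two {U : Submodule K V} (hU : finrank K U = 2) (p : V) :
    ∃ u ∈ U, u ∉ span K {p} := by
  by_contra hcon
  push Not at hcon
  have hle : U ≤ span K {p} := hcon
  have h1 : finrank K (span K ({p} : Set V)) ≤ 1 := by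
    have := finrank_span_le_card (R := K) ({p} : Set V)
    simpa using this
  have h2 := Submodule.finrank_mono hle
  omega

lemma span_pair_eq_of_finrank_two {U : Submodule K V} (hU : finrank K U = 2) {p a : V}
    (hp : p ≠ 0) (hpU : p ∈ U) (haU : a ∈ U) (ha : a ∉ span K {p}) :
    span K ({p, a} : Set V) = U := by
  have : FiniteDimensional K U := FiniteDimensional.of_finrank_pos (by omega)
  apply Submodule.eq_of_le_of_finrank_eq
  · rw [span_le]
    rintro x (rfl | rfl)
    · exact hpU
    · exact haU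
  · rw [finrank_span_pair hp ha, hU]

lemma exists_coeffs_of_finrank_two {U : Submodule K V} (hU : finrank K U = 2) {p a : V}
    (hp : p ≠ 0) (hpU : p ∈ U) (haU : a ∈ U) (ha : a ∉ span K {p}) {x : V} (hx : x ∈ U) :
    ∃ α β : K, α • p + β • a = x := by
  rw [← span_pair_eq_of_finrank_two hU hp hpU haU ha] at hx
  exact mem_span_pair.mp hx

lemma eq_of_finrank_two_of_mem {U W : Submodule K V} (hU : finrank K U = 2)
    (hW : finrank K W = 2) {p a : V} (hp : p ≠ 0) (ha : a ∉ span K {p})
    (hpU : p ∈ U) (haU : a ∈ U) (hpW : p ∈ W) (haW : a ∈ W) : U = W := by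
  rw [← span_pair_eq_of_finrank_two hU hp hpU haU ha,
    ← span_pair_eq_of_finrank_two hW hp hpW haW ha]

end planes

section lines
variable {K : Type*} [Field K] [CharZero K] {V : Type*} [AddCommGroup V] [Module K V]
variable {T : V →ₗ[K] V →ₗ[K] V →ₗ[K] K}

/-- the tangent linear form `x ↦ T x p p` -/
def ell (T : V →ₗ[K] V →ₗ[K] V →ₗ[K] K) (p : V) : V →ₗ[K] K := (T.flip p).flip p

@[simp] lemma ell_apply (p x : V) : ell T p x = T x p p := rfl

/-- the polar bilinear form `x, y ↦ T x y p` as a linear form in `x` -/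
def polarL (T : V →ₗ[K] V →ₗ[K] V →ₗ[K] K) (w p : V) : V →ₗ[K] K := (T.flip w).flip p

@[simp] lemma polarL_apply (w p x : V) : polarL T w p x = T x w p := rfl

/-- If the cubic vanishes on a subspace through `p`, then the polar quadric of `p` and the
tangent form at `p` vanish on it. -/
lemma line_data (h : IsSymm T) {U : Submodule K V} {p : V} (hpU : p ∈ U)
    (hU : ∀ u ∈ U, T u u u = 0) {u : V} (hu : u ∈ U) :
    T u u p = 0 ∧ T u p p = 0 := by
  have key : ∀ s : K, T u u u + (3 * T u u p) * s + (3 * T u p p) * s ^ 2 + T p p p * s ^ 3 = 0 := by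
    intro s
    have := hU (u + s • p) (U.add_mem hu (U.smul_mem s hpU))
    rw [h.expand3] at this
    linear_combination this
  obtain ⟨-, h1, h2, -⟩ := cubic_coeffs_zero key
  have h3 : (3:K) ≠ 0 := by norm_num
  exact ⟨(mul_eq_zero.mp h1).resolve_left h3, (mul_eq_zero.mp h2).resolve_left h3⟩

lemma line_polar (h : IsSymm T) {U : Submodule K V} {p : V} (hpU : p ∈ U)
    (hU : ∀ u ∈ U, T u u u = 0) {u u' : V} (hu : u ∈ U) (hu' : u' ∈ U) :
    T u u' p = 0 := by
  have h1 := (line_data h hpU hU (U.add_mem hu hu')).1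
  rw [h.polar2, (line_data h hpU hU hu).1, (line_data h hpU hU hu').1] at h1
  have h2 : (2:K) ≠ 0 := two_ne_zero
  have : 2 * T u u' p = 0 := by linear_combination h1
  exact (mul_eq_zero.mp this).resolve_left h2

/-- **Eckardt condition.** In a four-dimensional space, if three distinct planes through `p` lie
on the cubic and the tangent form at `p` is nonzero, the polar quadric of `p` vanishes on the
tangent hyperplane at `p`. -/
lemma polar_vanishes_of_three_lines [FiniteDimensional K V] (hV : finrank K V = 4)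
    (h : IsSymm T) {p : V} (hp : p ≠ 0) (hℓ : ∃ y, T y p p ≠ 0)
    (U : Fin 3 → Submodule K V) (hinj : Function.Injective U)
    (hU : ∀ i, finrank K (U i) = 2 ∧ p ∈ U i ∧ ∀ u ∈ U i, T u u u = 0) :
    ∀ x, T x p p = 0 → T x x p = 0 := by
  have hppp : T p p p = 0 := (hU 0).2.2 p (hU 0).2.1
  -- the tangent hyperplane
  have hsurj : Function.Surjective (ell T p) := by
    obtain ⟨y, hy⟩ := hℓ
    intro c
    refine ⟨(c / T y p p) • y, ?_⟩
    rw [map_smul, ell_apply, smul_eq_mul]
    field_simp
  have hker : finrank K (LinearMap.ker (ell T p)) = 3 := by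
    have := LinearMap.finrank_range_add_finrank_ker (ell T p)
    rw [LinearMap.range_eq_top.mpr hsurj, finrank_top, Module.finrank_self, hV] at this
    omega
  have hUK : ∀ i, U i ≤ LinearMap.ker (ell T p) := by
    intro i u hu
    rw [LinearMap.mem_ker, ell_apply]
    exact (line_data h (hU i).2.1 (hU i).2.2 hu).2
  have hsup : ∀ i j, i ≠ j → U i ⊔ U j = LinearMap.ker (ell T p) := by
    intro i j hij
    have hle : U i ⊔ U j ≤ LinearMap.ker (ell T p) := sup_le (hUK i) (hUK j)
    have hlt : U i < U i ⊔ U j := by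
      refine lt_of_le_of_ne le_sup_left ?_
      intro heq
      have hji : U j ≤ U i := by rw [heq]; exact le_sup_right
      have : FiniteDimensional K (U i) := FiniteDimensional.of_finrank_pos (by rw [(hU i).1]; omega)
      have := Submodule.eq_of_le_of_finrank_eq hji (by rw [(hU i).1, (hU j).1])
      exact hij (hinj this).symm
    have h1 := Submodule.finrank_lt_finrank_of_lt hlt
    have h2 := Submodule.finrank_mono hle
    rw [(hU i).1] at h1
    apply Submodule.eq_of_le_of_finrank_eq hle
    omega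
  -- a third direction
  obtain ⟨u₃, hu₃, hu₃p⟩ := exists_notMem_span_of_finrank_two (hU 2).1 p
  have hu₃K : u₃ ∈ U 0 ⊔ U 1 := by
    rw [hsup 0 1 (by decide)]; exact hUK 2 hu₃
  obtain ⟨a, ha, b, hb, hab⟩ := Submodule.mem_sup.mp hu₃K
  have hap : a ∉ span K {p} := by
    intro hcon
    have hu₃1 : u₃ ∈ U 1 := by
      rw [← hab]
      refine (U 1).add_mem ?_ hb
      obtain ⟨c, rfl⟩ := mem_span_singleton.mp hcon
      exact (U 1).smul_mem c (hU 1).2.1
    have := eq_of_finrank_two_of_mem (hU 1).1 (hU 2).1 hp hu₃p (hU 1).2.1 hu₃1 (hU 2).2.1 hu₃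
    exact absurd (hinj this) (by decide)
  have hbp : b ∉ span K {p} := by
    intro hcon
    have hu₃0 : u₃ ∈ U 0 := by
      rw [← hab]
      refine (U 0).add_mem ha ?_
      obtain ⟨c, rfl⟩ := mem_span_singleton.mp hcon
      exact (U 0).smul_mem c (hU 0).2.1
    have := eq_of_finrank_two_of_mem (hU 0).1 (hU 2).1 hp hu₃p (hU 0).2.1 hu₃0 (hU 2).2.1 hu₃
    exact absurd (hinj this) (by decide)
  have h2 : (2:K) ≠ 0 := two_ne_zero
  -- the mixed term vanishes
  have hTab : T a b p = 0 := by
    have h1 := (line_data h (hU 2).2.1 (hU 2).2.2 hu₃).1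
    rw [← hab, h.polar2, (line_data h (hU 0).2.1 (hU 0).2.2 ha).1,
      (line_data h (hU 1).2.1 (hU 1).2.2 hb).1] at h1
    have : 2 * T a b p = 0 := by linear_combination h1
    exact (mul_eq_zero.mp this).resolve_left h2
  have hℓa : T a p p = 0 := (line_data h (hU 0).2.1 (hU 0).2.2 ha).2
  have hℓb : T b p p = 0 := (line_data h (hU 1).2.1 (hU 1).2.2 hb).2
  intro x hx
  have hxK : x ∈ U 0 ⊔ U 1 := by
    rw [hsup 0 1 (by decide), LinearMap.mem_ker, ell_apply]; exact hx
  obtain ⟨a', ha', b', hb', rfl⟩ := Submodule.mem_sup.mp hxK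
  obtain ⟨α, α', rfl⟩ := exists_coeffs_of_finrank_two (hU 0).1 hp (hU 0).2.1 ha hap ha'
  obtain ⟨β, β', rfl⟩ := exists_coeffs_of_finrank_two (hU 1).1 hp (hU 1).2.1 hb hbp hb'
  rw [h.polar2, (line_data h (hU 0).2.1 (hU 0).2.2 ha').1,
    (line_data h (hU 1).2.1 (hU 1).2.2 hb').1]
  simp only [map_add, map_smul, LinearMap.add_apply, LinearMap.smul_apply, smul_eq_mul,
    hppp, hTab, h.pxp p b, hℓa, hℓb]
  ring

/-- If the polar quadric of `p` vanishes on the tangent hyperplane at `p` (and the tangent form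
is nonzero), it is the product of the tangent form with a linear form `m`, and `m p = 2`. -/
lemma exists_form_of_polar_vanishes (h : IsSymm T) {p : V} (hppp : T p p p = 0)
    (hℓ : ∃ y, T y p p ≠ 0) (hq : ∀ x, T x p p = 0 → T x x p = 0) :
    ∃ m : V →ₗ[K] K, m p = 2 ∧ ∀ x, T x x p = m x * T x p p := by
  obtain ⟨y, hy⟩ := hℓ
  set w : V := (T y p p)⁻¹ • y with hw
  have hℓw : T w p p = 1 := by
    rw [hw, map_smul, LinearMap.smul_apply, LinearMap.smul_apply, smul_eq_mul,
      inv_mul_cancel₀ hy]
  refine ⟨(2:K) • polarL T w p - (T w w p) • ell T p, ?_, ?_⟩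
  · simp only [LinearMap.sub_apply, LinearMap.smul_apply, polarL_apply, ell_apply, smul_eq_mul,
      hppp, h.pxp p w, hℓw]
    ring
  · intro x
    simp only [LinearMap.sub_apply, LinearMap.smul_apply, polarL_apply, ell_apply, smul_eq_mul]
    have hy0 : T (x - T x p p • w) p p = 0 := by
      rw [map_sub, map_smul, LinearMap.sub_apply, LinearMap.sub_apply, LinearMap.smul_apply,
        LinearMap.smul_apply, smul_eq_mul, hℓw, mul_one, sub_self]
    have h1 := hq _ hy0
    have e : x = (x - T x p p • w) + T x p p • w := by abel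
    have h2 := h.polar2 (x - T x p p • w) (T x p p • w) p
    rw [← e, h1] at h2
    rw [h2]
    simp only [map_sub, map_smul, LinearMap.sub_apply, LinearMap.smul_apply, smul_eq_mul]
    ring

end lines

end Groth.Agent.H99.Cubic
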