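import Groth.Agent.H99.CubicD

/-!
# Eckardt points and their involutions on a smooth cubic surface (concrete layer)
-/

set_option autoImplicit false
set_option linter.unusedSectionVars false
set_option linter.unusedSimpArgs false

namespace Groth.Agent.H99.Cubic

open MvPolynomial Module

/-- `e` lies on three distinct lines of the cubic surface `f = 0` -/
def IsEck (f : MvPolynomial (Fin 4) ℂ) (e : Fin 4 → ℂ) : Prop :=
  ∃ U : Fin 3 → Submodule ℂ (Fin 4 → ℂ), Function.Injective U ∧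
    ∀ i : Fin 3, Module.finrank ℂ ↥(U i) = 2 ∧ e ∈ U i ∧ ∀ u ∈ U i, eval u f = 0

/-- `A` is a projective involution of the surface with fixed locus a plane and the point `e` -/
def IsInvol (f : MvPolynomial (Fin 4) ℂ) (A : Matrix (Fin 4) (Fin 4) ℂ) (e : Fin 4 → ℂ) : Prop :=
  A * A = 1 ∧ Module.finrank ℂ ↥(LinearMap.ker (Matrix.toLin' A - LinearMap.id)) = 3 ∧
    A.mulVec e = -e ∧ ∃ c : ℂ, aeval (fun i : Fin 4 => ∑ j : Fin 4, C (A i j) * X j) f = C c * f

/-- smoothness of the surface -/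
def IsSm (f : MvPolynomial (Fin 4) ℂ) : Prop :=
  ∀ v : Fin 4 → ℂ, v ≠ 0 → eval v f = 0 → ∃ i : Fin 4, eval v (pderiv i f) ≠ 0

variable {f : MvPolynomial (Fin 4) ℂ}

lemma isSymm_TT (f : MvPolynomial (Fin 4) ℂ) : IsSymm (TT f) := ⟨TT_swap12 f, TT_swap23 f⟩

lemma finrank_V : finrank ℂ (Fin 4 → ℂ) = 4 := by simp

lemma tangent_ne_zero (hf : f.IsHomogeneous 3) (hsm : IsSm f) {v : Fin 4 → ℂ} (hv : v ≠ 0)
    (hfv : TT f v v v = 0) : ∃ y, TT f y v v ≠ 0 := by
  obtain ⟨i, hi⟩ := hsm v hv (by rw [eval_eq_TT hf]; exact hfv)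
  refine ⟨Pi.single i 1, ?_⟩
  intro h0
  apply hi
  rw [eval_pderiv_eq_TT hf, h0, mul_zero]

/-- The linear form attached to an Eckardt point. -/
lemma eck_form (hf : f.IsHomogeneous 3) (hsm : IsSm f) {e : Fin 4 → ℂ} (he : e ≠ 0)
    (hE : IsEck f e) :
    TT f e e e = 0 ∧ ∃ m : (Fin 4 → ℂ) →ₗ[ℂ] ℂ, m e = 2 ∧ ∀ x, TT f x x e = m x * TT f x e e := by
  obtain ⟨U, hinj, hU⟩ := hE
  have hU' : ∀ i, finrank ℂ (U i) = 2 ∧ e ∈ U i ∧ ∀ u ∈ U i, TT f u u u = 0 := by
    intro i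
    refine ⟨(hU i).1, (hU i).2.1, fun u hu => ?_⟩
    rw [← eval_eq_TT hf]
    exact (hU i).2.2 u hu
  have heee : TT f e e e = 0 := (hU' 0).2.2 e (hU' 0).2.1
  have hℓ := tangent_ne_zero hf hsm he heee
  refine ⟨heee, exists_form_of_polar_vanishes (isSymm_TT f) heee hℓ ?_⟩
  exact polar_vanishes_of_three_lines finrank_V (isSymm_TT f) he hℓ U hinj hU'

/-- The linear form attached to an involution. -/
lemma invol_form (hf : f.IsHomogeneous 3) (hsm : IsSm f) {p : Fin 4 → ℂ} (hp : p ≠ 0)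
    (hfp : TT f p p p = 0) {A : Matrix (Fin 4) (Fin 4) ℂ} (hA : IsInvol f A p) :
    ∃ m : (Fin 4 → ℂ) →ₗ[ℂ] ℂ, m p = 2 ∧ (∀ x, A.mulVec x = x - m x • p) ∧
      ∀ x, TT f x x p = m x * TT f x p p := by
  obtain ⟨hAA, hfix, hAp, c, hc⟩ := hA
  obtain ⟨m, hmp, hm⟩ := exists_form_of_reflection A p hp hAA (by rw [hfix]; simp) hAp
  refine ⟨m, hmp, hm, ?_⟩
  rw [aeval_linear_eq_iff] at hc
  have hinv : ∀ x, TT f (x - m x • p) (x - m x • p) (x - m x • p) = c * TT f x x x := by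
    intro x
    rw [← hm, ← eval_eq_TT hf, ← eval_eq_TT hf]
    exact hc x
  exact (polar_eq_of_invariant (isSymm_TT f) p m c hmp hfp
    (tangent_ne_zero hf hsm hp hfp) hinv).2

/-- The reflection attached to a linear form factoring the polar quadric is an involution of
the surface. -/
lemma isInvol_reflMatrix (hf : f.IsHomogeneous 3) {e : Fin 4 → ℂ} (he : e ≠ 0)
    (heee : TT f e e e = 0) (m : (Fin 4 → ℂ) →ₗ[ℂ] ℂ) (hme : m e = 2)
    (hq : ∀ x, TT f x x e = m x * TT f x e e) : IsInvol f (reflMatrix m e) e := by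
  refine ⟨reflMatrix_mul_self m e hme, ?_, ?_, 1, ?_⟩
  · have := finrank_ker_reflMatrix m e he hme
    simp only [Fintype.card_fin] at this
    omega
  · rw [reflMatrix_mulVec, hme]
    module
  · rw [aeval_linear_eq_iff]
    intro x
    rw [reflMatrix_mulVec, eval_eq_TT hf, eval_eq_TT hf, one_mul]
    exact invariant_of_polar_eq (isSymm_TT f) e m heee hq x

/-- the form factoring the polar quadric is unique -/
lemma form_unique (hf : f.IsHomogeneous 3) (hsm : IsSm f) {e : Fin 4 → ℂ} (he : e ≠ 0)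
    (heee : TT f e e e = 0) (m m' : (Fin 4 → ℂ) →ₗ[ℂ] ℂ)
    (hq : ∀ x, TT f x x e = m x * TT f x e e) (hq' : ∀ x, TT f x x e = m' x * TT f x e e) :
    m = m' := by
  have hℓ := tangent_ne_zero hf hsm he heee
  have := linear_form_eq_zero_of_mul_eq_zero (m - m') (ell (TT f) e) hℓ (by
    intro x
    rw [LinearMap.sub_apply, ell_apply, sub_mul, ← hq, ← hq', sub_self])
  apply LinearMap.ext
  intro x
  have := this x
  rw [LinearMap.sub_apply, sub_eq_zero] at this
  exact this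

lemma matrix_eq_of_mulVec {A B : Matrix (Fin 4) (Fin 4) ℂ} (h : ∀ x, A.mulVec x = B.mulVec x) :
    A = B := by
  apply Matrix.toLin'.injective
  apply LinearMap.ext
  intro x
  rw [Matrix.toLin'_apply, Matrix.toLin'_apply, h]

/-- **Existence and uniqueness of the Eckardt involution.** -/
theorem existsUnique_invol (hf : f.IsHomogeneous 3) (hsm : IsSm f) {e : Fin 4 → ℂ} (he : e ≠ 0)
    (hE : IsEck f e) : ∃! A : Matrix (Fin 4) (Fin 4) ℂ, IsInvol f A e := by
  obtain ⟨heee, m, hme, hq⟩ := eck_form hf hsm he hE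
  refine ⟨reflMatrix m e, isInvol_reflMatrix hf he heee m hme hq, ?_⟩
  intro A' hA'
  obtain ⟨m', hm'e, hA'x, hq'⟩ := invol_form hf hsm he heee hA'
  have := form_unique hf hsm he heee m m' hq hq'
  subst this
  apply matrix_eq_of_mulVec
  intro x
  rw [hA'x, reflMatrix_mulVec]

end Groth.Agent.H99.Cubic
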