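import Groth.Agent.H99.CubicE

/-!
# The line through two Eckardt points
-/

set_option autoImplicit false
set_option linter.unusedSectionVars false
set_option linter.unusedSimpArgs false

namespace Groth.Agent.H99.Cubic

open MvPolynomial Module Submodule

variable {f : MvPolynomial (Fin 4) ℂ}

/-- the image of an Eckardt point under a linear automorphism preserving the surface is an
Eckardt point -/
lemma isEck_mulVec {A : Matrix (Fin 4) (Fin 4) ℂ} (hAA : A * A = 1) {c : ℂ}
    (hinv : ∀ x, eval (A.mulVec x) f = c * eval x f) {e' : Fin 4 → ℂ} (hE : IsEck f e') :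
    IsEck f (A.mulVec e') := by
  obtain ⟨U, hinj, hU⟩ := hE
  have hφφ : ∀ x, A.mulVec (A.mulVec x) = x := by
    intro x
    rw [Matrix.mulVec_mulVec, hAA, Matrix.one_mulVec]
  have hφinj : Function.Injective (Matrix.toLin' A) := by
    intro x y hxy
    rw [Matrix.toLin'_apply, Matrix.toLin'_apply] at hxy
    rw [← hφφ x, ← hφφ y, hxy]
  refine ⟨fun i => (U i).map (Matrix.toLin' A), ?_, ?_⟩
  · intro i j hij
    exact hinj (Submodule.map_injective_of_injective hφinj hij)
  · intro i
    refine ⟨?_, ?_, ?_⟩
    · rw [← (hU i).1]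
      exact (LinearEquiv.finrank_eq (Submodule.equivMapOfInjective _ hφinj (U i))).symm
    · rw [← Matrix.toLin'_apply]
      exact Submodule.mem_map_of_mem (hU i).2.1
    · rintro u ⟨v, hv, rfl⟩
      rw [Matrix.toLin'_apply, hinv, (hU i).2.2 v hv, mul_zero]

lemma smul_add_smul_eq_zero {e e' : Fin 4 → ℂ} (he : e ≠ 0) (he' : e' ∉ span ℂ {e}) {s t : ℂ}
    (h : s • e + t • e' = 0) : s = 0 ∧ t = 0 := by
  have ht : t = 0 := by
    by_contra ht
    apply he'
    rw [mem_span_singleton]
    refine ⟨-(s / t), ?_⟩
    have : t • e' = -(s • e) := by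
      rw [eq_neg_iff_add_eq_zero, add_comm]; exact h
    have h2 : e' = t⁻¹ • (t • e') := by rw [smul_smul, inv_mul_cancel₀ ht, one_smul]
    rw [h2, this, smul_neg, smul_smul, neg_smul, div_eq_inv_mul]
  subst ht
  rw [zero_smul, add_zero] at h
  exact ⟨(smul_eq_zero.mp h).resolve_right he, rfl⟩

/-- the restriction of the cubic to the line through two of its points -/
lemma eval_on_line (hf : f.IsHomogeneous 3) {e e' : Fin 4 → ℂ} (he : TT f e e e = 0)
    (he' : TT f e' e' e' = 0) (s t : ℂ) :
    eval (s • e + t • e') f = 3 * s * t * (s * TT f e e e' + t * TT f e' e' e) := by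
  have h := isSymm_TT f
  rw [eval_eq_TT hf]
  simp only [map_add, map_smul, LinearMap.add_apply, LinearMap.smul_apply, smul_eq_mul]
  rw [h.xpx e' e, h.pxx e' e, h.xpx e e', h.pxx e e', he, he']
  ring

/-- **The line through two Eckardt points.** -/
theorem eck_line (hf : f.IsHomogeneous 3) (hsm : IsSm f) {e e' : Fin 4 → ℂ} (he : e ≠ 0)
    (he' : e' ∉ span ℂ {e}) (hE : IsEck f e) (hE' : IsEck f e') :
    Xor (∀ u ∈ span ℂ {e, e'}, eval u f = 0)
      (∃ e'' : Fin 4 → ℂ, e'' ∈ span ℂ {e, e'} ∧ e'' ∉ span ℂ {e} ∧ e'' ∉ span ℂ {e'} ∧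
        IsEck f e'' ∧
        ∀ u ∈ span ℂ {e, e'}, eval u f = 0 →
          u ∈ span ℂ {e} ∨ u ∈ span ℂ {e'} ∨ u ∈ span ℂ {e''}) := by
  have hsym := isSymm_TT f
  have he'0 : e' ≠ 0 := by
    intro h0; apply he'; rw [h0]; exact zero_mem _
  obtain ⟨heee, m, hme, hq⟩ := eck_form hf hsm he hE
  obtain ⟨heee', m', hme', hq'⟩ := eck_form hf hsm he'0 hE'
  set a : ℂ := TT f e e e' with ha
  set b : ℂ := TT f e' e' e with hb
  -- the two polar relations
  have hba : b = m e' * a := by
    rw [hb, hq e', ha, hsym.pxx e' e]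
  have hab : a = m' e * b := by
    rw [ha, hq' e, hb, hsym.pxx e e']
  have hline : ∀ s t : ℂ, eval (s • e + t • e') f = 3 * s * t * (s * a + t * b) :=
    eval_on_line hf heee heee'
  have hind : ∀ {s t : ℂ}, s • e + t • e' = 0 → s = 0 ∧ t = 0 :=
    fun h => smul_add_smul_eq_zero he he' h
  by_cases hzero : a = 0 ∧ b = 0
  · -- the line lies on the surface
    left
    obtain ⟨ha0, hb0⟩ := hzero
    refine ⟨?_, ?_⟩
    · intro u hu
      obtain ⟨s, t, rfl⟩ := mem_span_pair.mp hu
      rw [hline, ha0, hb0]; ring
    · rintro ⟨e'', he''L, he''1, he''2, -, hall⟩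
      obtain ⟨s₀, t₀, rfl⟩ := mem_span_pair.mp he''L
      -- a point of the line outside the three points
      have key : ∀ t : ℂ, t ≠ 0 → t * s₀ ≠ t₀ → False := by
        intro t ht hts
        have hu : (1:ℂ) • e + t • e' ∈ span ℂ {e, e'} := mem_span_pair.mpr ⟨1, t, rfl⟩
        have hfu : eval ((1:ℂ) • e + t • e') f = 0 := by rw [hline, ha0, hb0]; ring
        rcases hall _ hu hfu with h1 | h1 | h1
        · obtain ⟨c, hc⟩ := mem_span_singleton.mp h1
          have : (c - 1) • e + (-t) • e' = 0 := by
            rw [sub_smul, neg_smul, hc]; abel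
          exact ht (neg_eq_zero.mp (hind this).2)
        · obtain ⟨c, hc⟩ := mem_span_singleton.mp h1
          have : (-1 : ℂ) • e + (c - t) • e' = 0 := by
            rw [sub_smul, hc]; module
          have := (hind this).1
          norm_num at this
        · obtain ⟨c, hc⟩ := mem_span_singleton.mp h1
          have : (c * s₀ - 1) • e + (c * t₀ - t) • e' = 0 := by
            have : c • (s₀ • e + t₀ • e') - ((1:ℂ) • e + t • e') = 0 := by rw [hc, sub_self]
            rw [← this]; module
          obtain ⟨h3, h4⟩ := hind this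
          apply hts
          have h3' : c * s₀ = 1 := by linear_combination h3
          have h4' : c * t₀ = t := by linear_combination h4
          have hc0 : c ≠ 0 := by
            intro hc0; rw [hc0, zero_mul] at h3'; exact zero_ne_one h3'
          apply mul_left_cancel₀ hc0
          rw [h4', ← mul_assoc, mul_comm c t, mul_assoc, h3', mul_one]
      by_cases h1 : (1:ℂ) * s₀ = t₀
      · by_cases h2 : (2:ℂ) * s₀ = t₀
        · have hs0 : s₀ = 0 := by linear_combination h2 - h1
          have ht0 : t₀ = 0 := by rw [← h1, hs0, mul_zero]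
          apply he''1
          rw [hs0, ht0, zero_smul, zero_smul, add_zero]
          exact zero_mem _
        · exact key 2 two_ne_zero h2
      · exact key 1 one_ne_zero h1
  · -- the line meets the surface in three Eckardt points
    right
    have ha0 : a ≠ 0 := by
      intro ha0
      apply hzero
      refine ⟨ha0, ?_⟩
      rw [hba, ha0, mul_zero]
    have hb0 : b ≠ 0 := by
      intro hb0
      apply hzero
      refine ⟨?_, hb0⟩
      rw [hab, hb0, mul_zero]
    have hμ : m e' ≠ 0 := by
      intro h0
      apply hb0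
      rw [hba, h0, zero_mul]
    have hInv := isInvol_reflMatrix hf he heee m hme hq
    obtain ⟨hAA, -, -, c, hc⟩ := hInv
    rw [aeval_linear_eq_iff] at hc
    have hE'' := isEck_mulVec hAA hc hE'
    rw [reflMatrix_mulVec] at hE''
    refine ⟨⟨e' - m e' • e, ?_, ?_, ?_, hE'', ?_⟩, ?_⟩
    · refine mem_span_pair.mpr ⟨-(m e'), 1, ?_⟩
      module
    · intro h1
      obtain ⟨d, hd⟩ := mem_span_singleton.mp h1
      apply he'
      refine mem_span_singleton.mpr ⟨d + m e', ?_⟩
      rw [add_smul, hd]; abel
    · intro h1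
      obtain ⟨d, hd⟩ := mem_span_singleton.mp h1
      have : (-(m e')) • e + (1 - d) • e' = 0 := by
        rw [sub_smul, hd]; module
      exact hμ (neg_eq_zero.mp (hind this).1)
    · intro u hu hfu
      obtain ⟨s, t, rfl⟩ := mem_span_pair.mp hu
      rw [hline] at hfu
      rcases mul_eq_zero.mp hfu with h1 | h1
      · rcases mul_eq_zero.mp h1 with h2 | h2
        · rcases mul_eq_zero.mp h2 with h3 | h3
          · norm_num at h3
          · right; left
            rw [h3, zero_smul, zero_add]
            exact mem_span_singleton.mpr ⟨t, rfl⟩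
        · left
          rw [h2, zero_smul, add_zero]
          exact mem_span_singleton.mpr ⟨s, rfl⟩
      · right; right
        refine mem_span_singleton.mpr ⟨t, ?_⟩
        have hs : s = -(t * m e') := by
          have : a * (s + t * m e') = 0 := by rw [hba] at h1; linear_combination h1
          have := (mul_eq_zero.mp this).resolve_left ha0
          linear_combination this
        rw [hs]; module
    · intro hall
      have h1 := hall ((1:ℂ) • e + (1:ℂ) • e') (mem_span_pair.mpr ⟨1, 1, rfl⟩)
      have h2 := hall ((1:ℂ) • e + (-1:ℂ) • e') (mem_span_pair.mpr ⟨1, -1, rfl⟩)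
      rw [hline] at h1 h2
      apply hzero
      constructor
      · linear_combination (1/6 : ℂ) * h1 - (1/6 : ℂ) * h2
      · linear_combination (1/6 : ℂ) * h1 + (1/6 : ℂ) * h2

end Groth.Agent.H99.Cubic
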