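import Groth.Agent.H99.CubicF

/-!
# Products of Eckardt involutions
-/

set_option autoImplicit false
set_option linter.unusedSectionVars false
set_option linter.unusedSimpArgs false

namespace Groth.Agent.H99.Cubic

open MvPolynomial Module Submodule

variable {f : MvPolynomial (Fin 4) ℂ}

/-- data attached to an Eckardt point together with its involution -/
lemma eck_invol_form (hf : f.IsHomogeneous 3) (hsm : IsSm f) {e : Fin 4 → ℂ} (he : e ≠ 0)
    (hE : IsEck f e) {A : Matrix (Fin 4) (Fin 4) ℂ} (hA : IsInvol f A e) :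
    TT f e e e = 0 ∧ ∃ m : (Fin 4 → ℂ) →ₗ[ℂ] ℂ, m e = 2 ∧ (∀ x, A.mulVec x = x - m x • e) ∧
      ∀ x, TT f x x e = m x * TT f x e e := by
  have heee := (eck_form hf hsm he hE).1
  exact ⟨heee, invol_form hf hsm he heee hA⟩

/-- polarised form of the factorisation of the polar quadric -/
lemma polar_rel {e : Fin 4 → ℂ} {m : (Fin 4 → ℂ) →ₗ[ℂ] ℂ}
    (hq : ∀ x, TT f x x e = m x * TT f x e e) (x y : Fin 4 → ℂ) :
    2 * TT f x y e = m x * TT f y e e + m y * TT f x e e := by
  have h := isSymm_TT f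
  have h1 := hq (x + y)
  rw [h.polar2, hq x, hq y] at h1
  simp only [map_add, LinearMap.add_apply] at h1
  linear_combination h1

/-- the relations between two Eckardt points -/
lemma two_eck_rel {e e' : Fin 4 → ℂ} {m m' : (Fin 4 → ℂ) →ₗ[ℂ] ℂ}
    (hq : ∀ x, TT f x x e = m x * TT f x e e) (hq' : ∀ x, TT f x x e' = m' x * TT f x e' e') :
    TT f e' e' e = m e' * TT f e e e' ∧ TT f e e e' = m' e * TT f e' e' e := by
  have h := isSymm_TT f
  constructor
  · rw [hq e', h.pxx e' e]
  · rw [hq' e, h.pxx e e']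

/-- if the line through two Eckardt points is not on the surface, the coefficients are nonzero -/
lemma two_eck_ne_zero (hf : f.IsHomogeneous 3) {e e' : Fin 4 → ℂ}
    (heee : TT f e e e = 0) (heee' : TT f e' e' e' = 0) {m m' : (Fin 4 → ℂ) →ₗ[ℂ] ℂ}
    (hq : ∀ x, TT f x x e = m x * TT f x e e) (hq' : ∀ x, TT f x x e' = m' x * TT f x e' e')
    (hL : ¬ ∀ u ∈ span ℂ {e, e'}, eval u f = 0) :
    TT f e e e' ≠ 0 ∧ TT f e' e' e ≠ 0 ∧ m e' * m' e = 1 := by
  obtain ⟨hba, hab⟩ := two_eck_rel hq hq'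
  have hnz : ¬ (TT f e e e' = 0 ∧ TT f e' e' e = 0) := by
    rintro ⟨h1, h2⟩
    apply hL
    intro u hu
    obtain ⟨s, t, rfl⟩ := mem_span_pair.mp hu
    rw [eval_on_line hf heee heee', h1, h2]; ring
  have ha0 : TT f e e e' ≠ 0 := by
    intro h0
    exact hnz ⟨h0, by rw [hba, h0, mul_zero]⟩
  have hb0 : TT f e' e' e ≠ 0 := by
    intro h0
    exact hnz ⟨by rw [hab, h0, mul_zero], h0⟩
  refine ⟨ha0, hb0, ?_⟩
  have : TT f e' e' e * (m e' * m' e - 1) = 0 := by
    have h1 := hba
    rw [hab] at h1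
    linear_combination -h1
  have := (mul_eq_zero.mp this).resolve_left hb0
  linear_combination this

/-- **Three collinear Eckardt points: the involutions generate `S₃`.** -/
theorem eck_dihedral (hf : f.IsHomogeneous 3) (hsm : IsSm f) {e e' e'' : Fin 4 → ℂ}
    (he : e ≠ 0) (he' : e' ∉ span ℂ {e}) (he''1 : e'' ∉ span ℂ {e}) (he''2 : e'' ∉ span ℂ {e'})
    (he''L : e'' ∈ span ℂ {e, e'}) (hE : IsEck f e) (hE' : IsEck f e') (hE'' : IsEck f e'')
    (hL : ¬ ∀ u ∈ span ℂ {e, e'}, eval u f = 0)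
    {A A' A'' : Matrix (Fin 4) (Fin 4) ℂ} (hA : IsInvol f A e) (hA' : IsInvol f A' e')
    (hA'' : IsInvol f A'' e'') :
    (¬ ∃ c : ℂ, A * A' = c • (1 : Matrix (Fin 4) (Fin 4) ℂ)) ∧
      (∃ c : ℂ, (A * A') ^ 3 = c • (1 : Matrix (Fin 4) (Fin 4) ℂ)) ∧
      ∃ c : ℂ, A'' = c • (A * A' * A) := by
  have hsym := isSymm_TT f
  have he'0 : e' ≠ 0 := by
    intro h0; apply he'; rw [h0]; exact zero_mem _
  have he''0 : e'' ≠ 0 := by
    intro h0; apply he''1; rw [h0]; exact zero_mem _
  obtain ⟨heee, m, hme, hAx, hq⟩ := eck_invol_form hf hsm he hE hA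
  obtain ⟨heee', m', hme', hA'x, hq'⟩ := eck_invol_form hf hsm he'0 hE' hA'
  obtain ⟨heee'', m'', hme'', hA''x, hq''⟩ := eck_invol_form hf hsm he''0 hE'' hA''
  obtain ⟨ha0, hb0, hμμ⟩ := two_eck_ne_zero hf heee heee' hq hq' hL
  obtain ⟨hba, hab⟩ := two_eck_rel hq hq'
  have hind : ∀ {s t : ℂ}, s • e + t • e' = 0 → s = 0 ∧ t = 0 :=
    fun h => smul_add_smul_eq_zero he he' h
  set μ : ℂ := m e' with hμ
  set μ' : ℂ := m' e with hμ'
  have hμ'0 : μ' ≠ 0 := by
    intro h0; rw [h0, mul_zero] at hμμ; exact zero_ne_one hμμ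
  -- the product `B = A A'`
  have hB : ∀ x, (A * A').mulVec x = x - (m x - μ * m' x) • e - m' x • e' := by
    intro x
    rw [← Matrix.mulVec_mulVec, hA'x, hAx, map_sub, map_smul, smul_eq_mul, ← hμ]
    module
  have hmB : ∀ x, m ((A * A').mulVec x) = -(m x) + μ * m' x := by
    intro x
    rw [hB, map_sub, map_sub, map_smul, map_smul, hme, ← hμ, smul_eq_mul, smul_eq_mul]
    ring
  have hm'B : ∀ x, m' ((A * A').mulVec x) = -(μ' * m x) := by
    intro x
    rw [hB, map_sub, map_sub, map_smul, map_smul, hme', ← hμ', smul_eq_mul, smul_eq_mul]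
    linear_combination (m' x) * hμμ
  refine ⟨?_, ⟨1, ?_⟩, ⟨1, ?_⟩⟩
  · rintro ⟨c, hc⟩
    have h1 := hB e
    rw [hc, Matrix.smul_mulVec, Matrix.one_mulVec, hme, ← hμ'] at h1
    have : (c - (1 - (2 - μ * μ'))) • e + μ' • e' = 0 := by
      have : c • e - (e - (2 - μ * μ') • e - μ' • e') = 0 := by rw [h1, sub_self]
      rw [← this]; module
    exact hμ'0 (hind this).2
  · rw [one_smul]
    apply matrix_eq_of_mulVec
    intro x
    rw [Matrix.one_mulVec, pow_succ, pow_two, ← Matrix.mulVec_mulVec, ← Matrix.mulVec_mulVec]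
    have h1 := hB x
    have h2 := hB ((A * A').mulVec x)
    have h3 := hB ((A * A').mulVec ((A * A').mulVec x))
    simp only [hmB, hm'B] at h2
    simp only [hmB, hm'B] at h3
    have e1 : (-(-m x + μ * m' x) + μ * -(μ' * m x) - μ * -(μ' * (-m x + μ * m' x))) = -(m x) := by
      linear_combination (μ * m' x - 2 * m x) * hμμ
    have e2 : (-m x + μ * m' x - μ * -(μ' * m x)) = μ * m' x := by
      linear_combination (m x) * hμμ
    rw [e1] at h3
    rw [e2] at h2
    rw [h3, h2, h1]
    have e3 : -(μ' * (-m x + μ * m' x)) = μ' * m x - m' x := by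
      linear_combination (-(m' x)) * hμμ
    rw [e3]
    module
  · rw [one_smul]
    -- `e''` is proportional to `A e'`
    obtain ⟨s, t, hst⟩ := mem_span_pair.mp he''L
    have hfe'' : eval e'' f = 0 := by rw [eval_eq_TT hf]; exact heee''
    rw [← hst, eval_on_line hf heee heee'] at hfe''
    have hs0 : s ≠ 0 := by
      intro h0
      apply he''2
      rw [← hst, h0, zero_smul, zero_add]
      exact mem_span_singleton.mpr ⟨t, rfl⟩
    have ht0 : t ≠ 0 := by
      intro h0
      apply he''1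
      rw [← hst, h0, zero_smul, add_zero]
      exact mem_span_singleton.mpr ⟨s, rfl⟩
    have hs : s = -(t * μ) := by
      have h3 : (3:ℂ) ≠ 0 := by norm_num
      have h1 : s * TT f e e e' + t * TT f e' e' e = 0 := by
        rcases mul_eq_zero.mp hfe'' with h1 | h1
        · exfalso
          rcases mul_eq_zero.mp h1 with h2 | h2
          · rcases mul_eq_zero.mp h2 with h4 | h4
            · exact h3 h4
            · exact hs0 h4
          · exact ht0 h2
        · exact h1
      rw [hba] at h1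
      have : TT f e e e' * (s + t * μ) = 0 := by linear_combination h1
      have := (mul_eq_zero.mp this).resolve_left ha0
      linear_combination this
    have he''eq : e'' = t • (e' - μ • e) := by
      rw [← hst, hs]; module
    -- the conjugate involution
    have hC : ∀ x, (A * A' * A).mulVec x = x - (t⁻¹ * m' (A.mulVec x)) • e'' := by
      intro x
      have hAAx : A.mulVec (A.mulVec x) = x := by
        rw [Matrix.mulVec_mulVec, hA.1, Matrix.one_mulVec]
      rw [← Matrix.mulVec_mulVec, ← Matrix.mulVec_mulVec, hA'x (A.mulVec x)]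
      have : A.mulVec (A.mulVec x - m' (A.mulVec x) • e')
          = x - m' (A.mulVec x) • (e' - μ • e) := by
        rw [Matrix.mulVec_sub, Matrix.mulVec_smul, hAAx, hAx e']
      rw [this, he''eq, smul_smul]
      congr 2
      field_simp
    -- the corresponding linear form
    set mh : (Fin 4 → ℂ) →ₗ[ℂ] ℂ := t⁻¹ • (m' ∘ₗ Matrix.toLin' A) with hmh
    have hmhx : ∀ x, mh x = t⁻¹ * m' (A.mulVec x) := by
      intro x
      rw [hmh, LinearMap.smul_apply, LinearMap.comp_apply, Matrix.toLin'_apply, smul_eq_mul]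
    have hmhe : mh e'' = 2 := by
      rw [hmhx, he''eq, Matrix.mulVec_smul, map_smul, smul_eq_mul, ← mul_assoc,
        inv_mul_cancel₀ ht0, one_mul]
      have : A.mulVec (e' - μ • e) = e' := by
        rw [Matrix.mulVec_sub, Matrix.mulVec_smul, hAx e', hAx e, hme, ← hμ]
        module
      rw [this, hme']
    -- invariance of the cubic under the conjugate
    obtain ⟨-, -, -, c, hc⟩ := hA
    obtain ⟨-, -, -, c', hc'⟩ := hA'
    rw [aeval_linear_eq_iff] at hc hc'
    have hinv : ∀ x, TT f (x - mh x • e'') (x - mh x • e'') (x - mh x • e'')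
        = (c * c' * c) * TT f x x x := by
      intro x
      rw [hmhx, ← hC, ← eval_eq_TT hf, ← eval_eq_TT hf, ← Matrix.mulVec_mulVec,
        ← Matrix.mulVec_mulVec, hc, hc', hc]
      ring
    have hqh := (polar_eq_of_invariant hsym e'' mh _ hmhe heee''
      (tangent_ne_zero hf hsm he''0 heee'') hinv).2
    have := form_unique hf hsm he''0 heee'' m'' mh hq'' hqh
    apply matrix_eq_of_mulVec
    intro x
    rw [hA''x, hC, this, hmhx]

end Groth.Agent.H99.Cubic
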