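import Groth.Agent.H99.CubicG

/-!
# Two Eckardt points joined by a line of the surface: the involutions commute
-/

set_option autoImplicit false
set_option linter.unusedSectionVars false
set_option linter.unusedSimpArgs false

namespace Groth.Agent.H99.Cubic

open MvPolynomial Module Submodule

variable {f : MvPolynomial (Fin 4) ℂ}

theorem eck_commute (hf : f.IsHomogeneous 3) (hsm : IsSm f) {e e' : Fin 4 → ℂ} (he : e ≠ 0)
    (he' : e' ∉ span ℂ {e}) (hE : IsEck f e) (hE' : IsEck f e')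
    (hL : ∀ u ∈ span ℂ {e, e'}, eval u f = 0)
    {A A' : Matrix (Fin 4) (Fin 4) ℂ} (hA : IsInvol f A e) (hA' : IsInvol f A' e') :
    (∃ c : ℂ, A * A' = c • (A' * A)) ∧ (∃ d : ℂ, A.mulVec e' = d • e') ∧
      (∃ d : ℂ, A'.mulVec e = d • e) := by
  have hsym := isSymm_TT f
  have he'0 : e' ≠ 0 := by
    intro h0; apply he'; rw [h0]; exact zero_mem _
  obtain ⟨heee, m, hme, hAx, hq⟩ := eck_invol_form hf hsm he hE hA
  obtain ⟨heee', m', hme', hA'x, hq'⟩ := eck_invol_form hf hsm he'0 hE' hA'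
  have hind : ∀ {s t : ℂ}, s • e + t • e' = 0 → s = 0 ∧ t = 0 :=
    fun h => smul_add_smul_eq_zero he he' h
  -- the mixed coefficients vanish
  have h1 := hL ((1:ℂ) • e + (1:ℂ) • e') (mem_span_pair.mpr ⟨1, 1, rfl⟩)
  have h2 := hL ((1:ℂ) • e + (-1:ℂ) • e') (mem_span_pair.mpr ⟨1, -1, rfl⟩)
  rw [eval_on_line hf heee heee'] at h1 h2
  have ha : TT f e e e' = 0 := by linear_combination (1/6 : ℂ) * h1 - (1/6 : ℂ) * h2
  have hb : TT f e' e' e = 0 := by linear_combination (1/6 : ℂ) * h1 + (1/6 : ℂ) * h2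
  set μ : ℂ := m e' with hμ
  set μ' : ℂ := m' e with hμ'
  -- polar relations
  have hp1 : ∀ y, 2 * TT f y e e' = μ * TT f y e e := by
    intro y
    have := polar_rel hq e' y
    rw [hsym.pxx e' e, ha, mul_zero, add_zero, ← hμ] at this
    rw [← this, hsym.swap13 y e e', hsym.swap12 e' e y, hsym.swap23 e e' y,
      hsym.swap12 e y e', hsym.swap13 y e e', hsym.swap23 e' e y]
  have hp2 : ∀ y, 2 * TT f y e e' = μ' * TT f y e' e' := by
    intro y
    have := polar_rel hq' e y
    rw [hsym.pxx e e', hb, mul_zero, add_zero, ← hμ'] at this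
    rw [← this, hsym.swap12 y e e']
  have hℓ := tangent_ne_zero hf hsm he heee
  have hℓ' := tangent_ne_zero hf hsm he'0 heee'
  have hμ0 : μ = 0 := by
    by_contra hμ0
    have hμ'0 : μ' ≠ 0 := by
      intro h0
      obtain ⟨y, hy⟩ := hℓ
      have := hp1 y
      rw [hp2 y, h0, zero_mul] at this
      exact hy ((mul_eq_zero.mp this.symm).resolve_left hμ0)
    obtain ⟨z, hz⟩ := IsAlgClosed.exists_pow_nat_eq (μ ^ 2 - 4 * (μ / μ')) zero_lt_two
    set s : ℂ := (-μ + z) / 2 with hs
    have hquad : s ^ 2 + μ * s + μ / μ' = 0 := by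
      rw [hs]
      field_simp
      have hz' : z ^ 2 * μ' = μ ^ 2 * μ' - 4 * μ := by
        rw [hz]; field_simp
      linear_combination hz'
    have hv0 : s • e + (1:ℂ) • e' ≠ 0 := by
      intro h0
      have := (hind h0).2
      exact one_ne_zero this
    have hvvv : TT f (s • e + (1:ℂ) • e') (s • e + (1:ℂ) • e') (s • e + (1:ℂ) • e') = 0 := by
      rw [← eval_eq_TT hf]
      exact hL _ (mem_span_pair.mpr ⟨s, 1, rfl⟩)
    obtain ⟨y, hy⟩ := tangent_ne_zero hf hsm hv0 hvvv
    apply hy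
    have e1 : TT f y e' e = TT f y e e' := hsym.swap23 y e' e
    have e2 : TT f y e' e' = (μ / μ') * TT f y e e := by
      have := hp2 y
      rw [hp1 y] at this
      field_simp
      linear_combination -this
    simp only [map_add, map_smul, LinearMap.add_apply, LinearMap.smul_apply, smul_eq_mul, e1, e2,
      one_mul]
    have : 2 * TT f y e e' = μ * TT f y e e := hp1 y
    have h3 : TT f y e e' = μ / 2 * TT f y e e := by linear_combination (1/2 : ℂ) * this
    rw [h3]
    linear_combination (TT f y e e) * hquad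
  have hμ'0 : μ' = 0 := by
    obtain ⟨y, hy⟩ := hℓ'
    have := hp2 y
    rw [hp1 y, hμ0, zero_mul] at this
    exact (mul_eq_zero.mp this.symm).resolve_right hy
  refine ⟨⟨1, ?_⟩, ⟨1, ?_⟩, ⟨1, ?_⟩⟩
  · rw [one_smul]
    apply matrix_eq_of_mulVec
    intro x
    rw [← Matrix.mulVec_mulVec, ← Matrix.mulVec_mulVec, hA'x, hAx, hAx x, hA'x (x - m x • e),
      map_sub, map_sub, map_smul, map_smul, ← hμ, ← hμ', hμ0, hμ'0]
    module
  · rw [hAx, ← hμ, hμ0]; module
  · rw [hA'x, ← hμ', hμ'0]; module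

end Groth.Agent.H99.Cubic
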