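import Groth.Agent.H99.CubicH

/-!
# Converse: a point of a smooth cubic surface with a reflection is an Eckardt point
-/

set_option autoImplicit false
set_option linter.unusedSectionVars false
set_option linter.unusedSimpArgs false

namespace Groth.Agent.H99.Cubic

open Module Submodule

section converse
variable {K : Type*} [Field K] [CharZero K] [IsAlgClosed K]
variable {V : Type*} [AddCommGroup V] [Module K V]
variable {T : V →ₗ[K] V →ₗ[K] V →ₗ[K] K}

/-- A point `p` of a smooth cubic together with a linear form `m` factoring its polar quadric. -/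
structure InvData (T : V →ₗ[K] V →ₗ[K] V →ₗ[K] K) (p : V) (m : V →ₗ[K] K) : Prop where
  symm : IsSymm T
  hp : p ≠ 0
  hppp : T p p p = 0
  hmp : m p = 2
  hq : ∀ x, T x x p = m x * T x p p
  smooth : ∀ v, v ≠ 0 → T v v v = 0 → ∃ y, T y v v ≠ 0

variable {p : V} {m : V →ₗ[K] K}

lemma InvData.polar (D : InvData T p m) (x y : V) :
    2 * T x y p = m x * T y p p + m y * T x p p := by
  have h1 := D.hq (x + y)
  rw [D.symm.polar2, D.hq x, D.hq y] at h1
  simp only [map_add, LinearMap.add_apply] at h1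
  linear_combination h1

lemma exists_cubic_root (a b c d : K) (hd : d ≠ 0) : ∃ t : K, a + b * t + c * t ^ 2 + d * t ^ 3 = 0 := by
  have hdeg : (Polynomial.C d * Polynomial.X ^ 3 + Polynomial.C c * Polynomial.X ^ 2
      + Polynomial.C b * Polynomial.X + Polynomial.C a : Polynomial K).degree ≠ 0 := by
    rw [Polynomial.degree_cubic hd]; norm_num
  obtain ⟨t, ht⟩ := IsAlgClosed.exists_root _ hdeg
  refine ⟨t, ?_⟩
  rw [Polynomial.IsRoot.def] at ht
  simp only [Polynomial.eval_add, Polynomial.eval_mul, Polynomial.eval_C, Polynomial.eval_pow,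
    Polynomial.eval_X] at ht
  linear_combination ht

/-- the restriction of the cubic to `ker ℓ ⊓ ker m` has no multiple root -/
lemma InvData.no_double_root (D : InvData T p m) {u : V} (hu0 : u ≠ 0) (hℓu : T u p p = 0)
    (hmu : m u = 0) (hFu : T u u u = 0)
    (hd : ∀ y, T y p p = 0 → m y = 0 → T y u u = 0) : False := by
  have hs := D.symm
  obtain ⟨z0, hz0⟩ := D.smooth p D.hp D.hppp
  obtain ⟨s, hs2⟩ := IsAlgClosed.exists_pow_nat_eq (-(T z0 u u) / T z0 p p) zero_lt_two
  have h2 : (2:K) ≠ 0 := two_ne_zero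
  have hv0 : u + s • p ≠ 0 := by
    intro h0
    have := congrArg m h0
    rw [map_add, map_smul, hmu, D.hmp, map_zero, zero_add, smul_eq_mul] at this
    have hs0 : s = 0 := (mul_eq_zero.mp this).resolve_right h2
    rw [hs0, zero_smul, add_zero] at h0
    exact hu0 h0
  have huup : T u u p = 0 := by rw [D.hq, hmu, zero_mul]
  have hvvv : T (u + s • p) (u + s • p) (u + s • p) = 0 := by
    rw [hs.expand3, hFu, huup, hℓu, D.hppp]; ring
  obtain ⟨y, hy⟩ := D.smooth _ hv0 hvvv
  apply hy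
  -- general expansion of the gradient
  have hgrad : ∀ y, T y (u + s • p) (u + s • p) = T y u u + 2 * s * T y u p + s ^ 2 * T y p p := by
    intro y
    simp only [map_add, map_smul, LinearMap.add_apply, LinearMap.smul_apply, smul_eq_mul]
    rw [hs.swap23 y p u]
    ring
  have hyup : ∀ y, 2 * T y u p = m y * T u p p + m u * T y p p := fun y => D.polar y u
  -- decompose `y`
  set β : K := T y p p / T z0 p p with hβ
  set α : K := m (y - β • z0) / 2 with hα
  set y' : V := y - β • z0 - α • p with hy'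
  have hy'ℓ : T y' p p = 0 := by
    rw [hy']
    simp only [map_sub, map_smul, LinearMap.sub_apply, LinearMap.smul_apply, smul_eq_mul, D.hppp]
    rw [hβ]; field_simp; ring
  have hy'm : m y' = 0 := by
    rw [hy', map_sub (f := m) (y - β • z0), map_smul, D.hmp, smul_eq_mul, hα]
    field_simp; ring
  have e : y = y' + α • p + β • z0 := by rw [hy']; abel
  have g1 : T y' (u + s • p) (u + s • p) = 0 := by
    rw [hgrad, hd y' hy'ℓ hy'm, hy'ℓ]
    have := hyup y'
    rw [hℓu, hmu, hy'm] at this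
    have h3 : T y' u p = 0 := by
      have : 2 * T y' u p = 0 := by rw [this]; ring
      exact (mul_eq_zero.mp this).resolve_left h2
    rw [h3]; ring
  have g2 : T p (u + s • p) (u + s • p) = 0 := by
    rw [hgrad, hs.pxx p u, huup, hs.pxp p u, hℓu, D.hppp]; ring
  have g3 : T z0 (u + s • p) (u + s • p) = 0 := by
    rw [hgrad]
    have := hyup z0
    rw [hℓu, hmu] at this
    have h3 : T z0 u p = 0 := by
      have : 2 * T z0 u p = 0 := by rw [this]; ring
      exact (mul_eq_zero.mp this).resolve_left h2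
    rw [h3, hs2]; field_simp; ring
  have hlin : ∀ v : V, T y v v = T y' v v + α * T p v v + β * T z0 v v := by
    intro v
    rw [e]
    simp only [map_add, map_smul, LinearMap.add_apply, LinearMap.smul_apply, smul_eq_mul]
  rw [hlin, g1, g2, g3]
  ring

/-- a root of the restricted cubic gives a line on the surface through `p` -/
lemma InvData.line_of_root (D : InvData T p m) {u : V} (hu0 : u ≠ 0) (hℓu : T u p p = 0)
    (hmu : m u = 0) (hFu : T u u u = 0) :
    finrank K (span K ({p, u} : Set V)) = 2 ∧ p ∈ span K ({p, u} : Set V) ∧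
      ∀ x ∈ span K ({p, u} : Set V), T x x x = 0 := by
  have h2 : (2:K) ≠ 0 := two_ne_zero
  refine ⟨finrank_span_pair D.hp ?_, subset_span (by simp), ?_⟩
  · intro hcon
    obtain ⟨c, rfl⟩ := mem_span_singleton.mp hcon
    rw [map_smul, D.hmp, smul_eq_mul] at hmu
    have hc : c = 0 := (mul_eq_zero.mp hmu).resolve_right h2
    rw [hc, zero_smul] at hu0
    exact hu0 rfl
  · intro x hx
    obtain ⟨α, β, rfl⟩ := mem_span_pair.mp hx
    rw [add_comm, D.symm.expand3]
    simp only [map_smul, LinearMap.smul_apply, smul_eq_mul, hFu, D.hq u, hmu, hℓu, D.hppp]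
    ring

lemma InvData.span_pair_ne (D : InvData T p m) {u u' : V} (hmu : m u = 0) (hmu' : m u' = 0)
    (hnp : u' ∉ span K {u}) : span K ({p, u} : Set V) ≠ span K ({p, u'} : Set V) := by
  intro heq
  have h2 : (2:K) ≠ 0 := two_ne_zero
  have hu' : u' ∈ span K ({p, u} : Set V) := by
    rw [heq]; exact subset_span (by simp)
  obtain ⟨α, β, hαβ⟩ := mem_span_pair.mp hu'
  have := congrArg m hαβ
  rw [map_add, map_smul, map_smul, D.hmp, hmu, hmu', smul_eq_mul, smul_eq_mul, mul_zero,
    add_zero] at this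
  have hα : α = 0 := (mul_eq_zero.mp this).resolve_right h2
  rw [hα, zero_smul, zero_add] at hαβ
  exact hnp (mem_span_singleton.mpr ⟨β, hαβ⟩)

/-- **The point of a reflection of a smooth cubic surface is an Eckardt point.** -/
theorem InvData.three_lines [FiniteDimensional K V] (hV : finrank K V = 4) (D : InvData T p m) :
    ∃ U : Fin 3 → Submodule K V, Function.Injective U ∧
      ∀ i, finrank K (U i) = 2 ∧ p ∈ U i ∧ ∀ u ∈ U i, T u u u = 0 := by
  have hs := D.symm
  have h2 : (2:K) ≠ 0 := two_ne_zero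
  obtain ⟨z0, hz0⟩ := D.smooth p D.hp D.hppp
  -- the plane `W' = ker ℓ ⊓ ker m`
  have hsurjℓ : Function.Surjective (ell T p) := by
    intro c
    refine ⟨(c / T z0 p p) • z0, ?_⟩
    rw [map_smul, ell_apply, smul_eq_mul]
    field_simp
  have hsurjm : Function.Surjective m := by
    intro c
    refine ⟨(c / 2) • p, ?_⟩
    rw [map_smul, D.hmp, smul_eq_mul]
    field_simp
  have hkℓ : finrank K (LinearMap.ker (ell T p)) = 3 := by
    have := LinearMap.finrank_range_add_finrank_ker (ell T p)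
    rw [LinearMap.range_eq_top.mpr hsurjℓ, finrank_top, Module.finrank_self, hV] at this
    omega
  have hkm : finrank K (LinearMap.ker m) = 3 := by
    have := LinearMap.finrank_range_add_finrank_ker m
    rw [LinearMap.range_eq_top.mpr hsurjm, finrank_top, Module.finrank_self, hV] at this
    omega
  have hsup : finrank K ↥(LinearMap.ker m ⊔ LinearMap.ker (ell T p)) = 4 := by
    have hlt : LinearMap.ker m < LinearMap.ker m ⊔ LinearMap.ker (ell T p) := by
      refine lt_of_le_of_ne le_sup_left ?_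
      intro heq
      have hle : LinearMap.ker (ell T p) ≤ LinearMap.ker m := by rw [heq]; exact le_sup_right
      have hpℓ : p ∈ LinearMap.ker (ell T p) := by
        rw [LinearMap.mem_ker, ell_apply]; exact D.hppp
      have := hle hpℓ
      rw [LinearMap.mem_ker, D.hmp] at this
      exact h2 this
    have h1 := Submodule.finrank_lt_finrank_of_lt hlt
    have h3 := Submodule.finrank_le (LinearMap.ker m ⊔ LinearMap.ker (ell T p))
    rw [hkm] at h1
    rw [hV] at h3
    omega
  have hW' : finrank K ↥(LinearMap.ker m ⊓ LinearMap.ker (ell T p)) = 2 := by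
    have := Submodule.finrank_sup_add_finrank_inf_eq (LinearMap.ker m) (LinearMap.ker (ell T p))
    rw [hsup, hkm, hkℓ] at this
    omega
  set W' := LinearMap.ker m ⊓ LinearMap.ker (ell T p) with hW'def
  have hmemW : ∀ {y : V}, y ∈ W' ↔ m y = 0 ∧ T y p p = 0 := by
    intro y
    rw [hW'def, Submodule.mem_inf, LinearMap.mem_ker, LinearMap.mem_ker, ell_apply]
  -- a first root
  obtain ⟨u₁, hu₁W, hu₁0, hFu₁⟩ : ∃ u ∈ W', u ≠ 0 ∧ T u u u = 0 := by
    obtain ⟨w₂, hw₂W, hw₂⟩ := exists_notMem_span_of_finrank_two hW' (0 : V)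
    have hw₂0 : w₂ ≠ 0 := by
      intro h0; apply hw₂; rw [h0]; exact zero_mem _
    obtain ⟨w₁, hw₁W, hw₁⟩ := exists_notMem_span_of_finrank_two hW' w₂
    by_cases hF : T w₂ w₂ w₂ = 0
    · exact ⟨w₂, hw₂W, hw₂0, hF⟩
    · obtain ⟨t, ht⟩ := exists_cubic_root (T w₁ w₁ w₁) (3 * T w₁ w₁ w₂) (3 * T w₁ w₂ w₂)
        (T w₂ w₂ w₂) hF
      refine ⟨w₁ + t • w₂, W'.add_mem hw₁W (W'.smul_mem t hw₂W), ?_, ?_⟩
      · intro h0
        apply hw₁
        refine mem_span_singleton.mpr ⟨-t, ?_⟩
        rw [neg_smul, eq_comm, eq_neg_iff_add_eq_zero]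
        exact h0
      · rw [hs.expand3]
        linear_combination ht
  obtain ⟨hmu₁, hℓu₁⟩ := hmemW.mp hu₁W
  obtain ⟨w, hwW, hw⟩ := exists_notMem_span_of_finrank_two hW' u₁
  obtain ⟨hmw, hℓw⟩ := hmemW.mp hwW
  have hcoef : ∀ {y : V}, y ∈ W' → ∃ α β : K, α • u₁ + β • w = y :=
    fun hy => exists_coeffs_of_finrank_two hW' hu₁0 hu₁W hwW hw hy
  set A₁ : K := T u₁ u₁ w with hA₁
  set B₁ : K := T u₁ w w with hB₁
  set C₁ : K := T w w w with hC₁
  have hwu₁u₁ : T w u₁ u₁ = A₁ := hs.pxx w u₁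
  have hwu₁w : T w u₁ w = B₁ := hs.swap12 w u₁ w
  have hwwu₁ : T w w u₁ = B₁ := by rw [hs.swap13 w w u₁]
  have hu₁wu₁ : T u₁ w u₁ = A₁ := hs.xpx w u₁
  -- the cubic on `W'`
  have hFW : ∀ α : K, T (α • u₁ + w) (α • u₁ + w) (α • u₁ + w)
      = 3 * A₁ * α ^ 2 + 3 * B₁ * α + C₁ := by
    intro α
    simp only [map_add, map_smul, LinearMap.add_apply, LinearMap.smul_apply, smul_eq_mul,
      hFu₁, hwu₁u₁, hwu₁w, hwwu₁, hu₁wu₁]
    ring
  have hgradu₁ : ∀ α : K, T u₁ (α • u₁ + w) (α • u₁ + w) = 2 * A₁ * α + B₁ := by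
    intro α
    simp only [map_add, map_smul, LinearMap.add_apply, LinearMap.smul_apply, smul_eq_mul,
      hFu₁, hu₁wu₁]
    ring
  have hgradw : ∀ α : K, T w (α • u₁ + w) (α • u₁ + w) = A₁ * α ^ 2 + 2 * B₁ * α + C₁ := by
    intro α
    simp only [map_add, map_smul, LinearMap.add_apply, LinearMap.smul_apply, smul_eq_mul,
      hwu₁u₁, hwu₁w, hwwu₁]
    ring
  have hA₁0 : A₁ ≠ 0 := by
    intro h0
    apply D.no_double_root hu₁0 hℓu₁ hmu₁ hFu₁
    intro y hyℓ hym
    obtain ⟨α, β, rfl⟩ := hcoef (hmemW.mpr ⟨hym, hyℓ⟩)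
    simp only [map_add, map_smul, LinearMap.add_apply, LinearMap.smul_apply, smul_eq_mul,
      hFu₁, hwu₁u₁, h0]
    ring
  have hne : ∀ α : K, α • u₁ + w ≠ 0 := by
    intro α h0
    apply hw
    refine mem_span_singleton.mpr ⟨-α, ?_⟩
    rw [neg_smul, eq_comm, eq_neg_iff_add_eq_zero, add_comm]
    exact h0
  have hinW : ∀ α : K, α • u₁ + w ∈ W' := fun α => W'.add_mem (W'.smul_mem α hu₁W) hwW
  obtain ⟨z, hz⟩ := IsAlgClosed.exists_pow_nat_eq (9 * B₁ ^ 2 - 12 * A₁ * C₁) zero_lt_two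
  have hz0 : z ≠ 0 := by
    intro h0
    rw [h0] at hz
    have hdisc : 9 * B₁ ^ 2 - 12 * A₁ * C₁ = 0 := by rw [← hz]; ring
    set α₀ : K := -B₁ / (2 * A₁) with hα₀
    have hF0 : T (α₀ • u₁ + w) (α₀ • u₁ + w) (α₀ • u₁ + w) = 0 := by
      rw [hFW, hα₀]; field_simp; linear_combination (-(1/3:K)) * hdisc
    obtain ⟨hm0, hℓ0⟩ := hmemW.mp (hinW α₀)
    apply D.no_double_root (hne α₀) hℓ0 hm0 hF0
    intro y hyℓ hym
    obtain ⟨α, β, rfl⟩ := hcoef (hmemW.mpr ⟨hym, hyℓ⟩)
    have g1 : T u₁ (α₀ • u₁ + w) (α₀ • u₁ + w) = 0 := by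
      rw [hgradu₁, hα₀]; field_simp; ring
    have g2 : T w (α₀ • u₁ + w) (α₀ • u₁ + w) = 0 := by
      rw [hgradw, hα₀]; field_simp; linear_combination (-(1/3:K)) * hdisc
    have hlin : ∀ v : V, T (α • u₁ + β • w) v v = α * T u₁ v v + β * T w v v := by
      intro v
      simp only [map_add, map_smul, LinearMap.add_apply, LinearMap.smul_apply, smul_eq_mul]
    rw [hlin, g1, g2]; ring
  set α₁ : K := (-3 * B₁ + z) / (6 * A₁) with hα₁
  set α₂ : K := (-3 * B₁ - z) / (6 * A₁) with hα₂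
  have hα12 : α₁ ≠ α₂ := by
    intro heq
    rw [hα₁, hα₂] at heq
    have h6 : 6 * A₁ ≠ 0 := mul_ne_zero (by norm_num) hA₁0
    have := (div_left_inj' h6).mp heq
    apply hz0
    linear_combination (1/2 : K) * this
  have hF1 : T (α₁ • u₁ + w) (α₁ • u₁ + w) (α₁ • u₁ + w) = 0 := by
    rw [hFW, hα₁]; field_simp; linear_combination (3:K) * hz
  have hF2 : T (α₂ • u₁ + w) (α₂ • u₁ + w) (α₂ • u₁ + w) = 0 := by
    rw [hFW, hα₂]; field_simp; linear_combination (3:K) * hz
  obtain ⟨hm1, hℓ1⟩ := hmemW.mp (hinW α₁)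
  obtain ⟨hm2, hℓ2⟩ := hmemW.mp (hinW α₂)
  -- non-proportionality
  have hindep : ∀ {a b : K}, a • u₁ + b • w = 0 → a = 0 ∧ b = 0 := by
    intro a b hab
    have hb : b = 0 := by
      by_contra hb
      apply hw
      refine mem_span_singleton.mpr ⟨-(a / b), ?_⟩
      have : b • w = -(a • u₁) := by
        rw [eq_neg_iff_add_eq_zero, add_comm]; exact hab
      have h2' : w = b⁻¹ • (b • w) := by rw [smul_smul, inv_mul_cancel₀ hb, one_smul]
      rw [h2', this, smul_neg, smul_smul, neg_smul, div_eq_inv_mul]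
    subst hb
    rw [zero_smul, add_zero] at hab
    exact ⟨(smul_eq_zero.mp hab).resolve_right hu₁0, rfl⟩
  have hn21 : α₁ • u₁ + w ∉ span K {u₁} := by
    intro hcon
    obtain ⟨c, hc⟩ := mem_span_singleton.mp hcon
    have : (c - α₁) • u₁ + (-1 : K) • w = 0 := by
      rw [sub_smul, hc]; module
    have := (hindep this).2
    norm_num at this
  have hn31 : α₂ • u₁ + w ∉ span K {u₁} := by
    intro hcon
    obtain ⟨c, hc⟩ := mem_span_singleton.mp hcon
    have : (c - α₂) • u₁ + (-1 : K) • w = 0 := by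
      rw [sub_smul, hc]; module
    have := (hindep this).2
    norm_num at this
  have hn32 : α₂ • u₁ + w ∉ span K {α₁ • u₁ + w} := by
    intro hcon
    obtain ⟨c, hc⟩ := mem_span_singleton.mp hcon
    have : (c * α₁ - α₂) • u₁ + (c - 1) • w = 0 := by
      have : c • (α₁ • u₁ + w) - (α₂ • u₁ + w) = 0 := by rw [hc, sub_self]
      rw [← this]; module
    obtain ⟨h3, h4⟩ := hindep this
    apply hα12
    have hc1 : c = 1 := by linear_combination h4
    rw [hc1] at h3
    linear_combination h3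
  -- the three lines
  have L1 := D.line_of_root hu₁0 hℓu₁ hmu₁ hFu₁
  have L2 := D.line_of_root (hne α₁) hℓ1 hm1 hF1
  have L3 := D.line_of_root (hne α₂) hℓ2 hm2 hF2
  have N12 := D.span_pair_ne hmu₁ hm1 hn21
  have N13 := D.span_pair_ne hmu₁ hm2 hn31
  have N23 := D.span_pair_ne hm1 hm2 hn32
  refine ⟨![span K {p, u₁}, span K {p, α₁ • u₁ + w}, span K {p, α₂ • u₁ + w}], ?_, ?_⟩
  · intro i j hij
    fin_cases i <;> fin_cases j <;> simp at hij ⊢
    · exact N12 hij
    · exact N13 hij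
    · exact N12 hij.symm
    · exact N23 hij
    · exact N13 hij.symm
    · exact N23 hij.symm
  · intro i
    fin_cases i
    · exact L1
    · exact L2
    · exact L3

end converse

open MvPolynomial in
/-- concrete form: the centre of a reflection of a smooth cubic surface is an Eckardt point -/
theorem isEck_of_isInvol {f : MvPolynomial (Fin 4) ℂ} (hf : f.IsHomogeneous 3) (hsm : IsSm f)
    {A : Matrix (Fin 4) (Fin 4) ℂ} {p : Fin 4 → ℂ} (hp : p ≠ 0) (hfp : eval p f = 0)
    (hA : IsInvol f A p) : IsEck f p := by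
  have hppp : TT f p p p = 0 := by rw [← eval_eq_TT hf]; exact hfp
  obtain ⟨m, hmp, -, hq⟩ := invol_form hf hsm hp hppp hA
  have D : InvData (TT f) p m :=
    ⟨isSymm_TT f, hp, hppp, hmp, hq, fun v hv hvvv => tangent_ne_zero hf hsm hv hvvv⟩
  obtain ⟨U, hinj, hU⟩ := D.three_lines finrank_V
  refine ⟨U, hinj, fun i => ⟨(hU i).1, (hU i).2.1, fun u hu => ?_⟩⟩
  rw [eval_eq_TT hf]
  exact (hU i).2.2 u hu

end Groth.Agent.H99.Cubic
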