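import Groth.Agent.H99.CubicQ

/-!
# Cubic surfaces with a double point whose tangent cone is a smooth conic (no smoothness
assumption elsewhere); counting lemma for parametrised families
-/

set_option autoImplicit false
set_option linter.unusedSectionVars false
set_option linter.unusedVariables false
set_option linter.unusedSimpArgs false
open Module Submodule

namespace Groth.Agent.H99.Cubic

section node
variable {K : Type*} [Field K] [IsAlgClosed K] [CharZero K] {V : Type*} [AddCommGroup V]
  [Module K V] [FiniteDimensional K V]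

/-- a double point `p` of a cubic surface with nondegenerate tangent cone -/
structure IsNode (T : V →ₗ[K] V →ₗ[K] V →ₗ[K] K) (p : V) : Prop where
  symm : IsSymm T
  hV : finrank K V = 4
  hp : p ≠ 0
  sing : ∀ y, T y p p = 0
  nd : ∀ x, (∀ y, T x y p = 0) → x ∈ span K {p}

variable {T : V →ₗ[K] V →ₗ[K] V →ₗ[K] K}

namespace IsNode
variable {p : V} (H : IsNode T p)
include H

lemma Tpxp (x : V) : T p x p = 0 := by rw [H.symm.pxp]; exact H.sing x
lemma Tppx (x : V) : T p p x = 0 := by rw [H.symm.ppx]; exact H.sing x
lemma Txpp (x : V) : T x p p = 0 := H.sing x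
lemma Tpxy (x y : V) : T p x y = T x y p := by
  rw [H.symm.swap12 p x y, H.symm.swap23 x p y]
lemma Txpy (x y : V) : T x p y = T x y p := H.symm.swap23 x p y

lemma exists_pair {x : V} (hx : x ∉ span K {p}) : ∃ y, T x y p ≠ 0 := by
  by_contra hcon
  push Not at hcon
  exact hx (H.nd x hcon)

/-- expansion of the cubic along the line joining a point to the double point -/
lemma expand_p (v : V) (a b : K) :
    T (a • p + b • v) (a • p + b • v) (a • p + b • v) =
      3 * a * b ^ 2 * T v v p + b ^ 3 * T v v v := by
  have h := H.symm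
  have := h.expand3 (b • v) p a
  rw [add_comm] at this
  rw [this]
  simp only [map_smul, LinearMap.smul_apply, smul_eq_mul, H.sing, H.sing p]
  ring

/-- the tangent cone has a point other than the vertex -/
lemma exists_isotropic : ∃ n, n ∉ span K {p} ∧ T n n p = 0 := by
  have h := H.symm
  have h1 : finrank K (span K ({p} : Set V)) ≤ 1 := by
    have := finrank_span_le_card (R := K) ({p} : Set V)
    simpa using this
  obtain ⟨x, hx⟩ := exists_notMem_of_finrank_lt (P := span K {p}) (by rw [H.hV]; omega)
  have h2 : finrank K (span K ({p, x} : Set V)) = 2 := finrank_span_pair H.hp hx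
  obtain ⟨x', hx'⟩ := exists_notMem_of_finrank_lt (P := span K {p, x}) (by rw [H.hV, h2]; omega)
  obtain ⟨a, b, hab, hroot⟩ := exists_root_binary_quadratic (T x x p) (T x x' p) (T x' x' p)
  refine ⟨a • x + b • x', ?_, ?_⟩
  · intro hc
    obtain ⟨c, hc⟩ := mem_span_singleton.mp hc
    by_cases hb : b = 0
    · subst hb
      have ha : a ≠ 0 := by tauto
      apply hx
      have : x = (a⁻¹ * c) • p := by
        rw [mul_smul, hc, zero_smul, add_zero, smul_smul, inv_mul_cancel₀ ha, one_smul]
      rw [this]
      exact mem_span_singleton.mpr ⟨_, rfl⟩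
    · apply hx'
      have : x' = (b⁻¹ * c) • p + (-(b⁻¹ * a)) • x := by
        have h3 : b • x' = c • p - a • x := by rw [hc]; abel
        calc x' = b⁻¹ • (b • x') := by rw [smul_smul, inv_mul_cancel₀ hb, one_smul]
          _ = _ := by
            rw [h3, smul_sub, smul_smul, smul_smul, neg_smul]
            abel
      rw [this]
      exact mem_span_pair.mpr ⟨_, _, rfl⟩
  · simp only [map_add, map_smul, LinearMap.add_apply, LinearMap.smul_apply, smul_eq_mul,
      h.swap12 x' x p]
    linear_combination hroot

end IsNode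

namespace IsNode
variable {p : V} (H : IsNode T p)
include H

/-- every point of the tangent cone is the end point of an adapted frame -/
lemma exists_frame {d : V} (hd : d ∉ span K {p}) (hqd : T d d p = 0) :
    ∃ a b, Frame T p a b d := by
  have h := H.symm
  obtain ⟨y₀, hy₀⟩ := H.exists_pair hd
  -- second isotropic vector
  set a' : V := y₀ - (T y₀ y₀ p / (2 * T d y₀ p)) • d with ha'
  have hqa' : T a' a' p = 0 := by
    simp only [ha', map_sub, map_smul, LinearMap.sub_apply, LinearMap.smul_apply, smul_eq_mul,
      hqd, h.swap12 y₀ d p]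
    field_simp
    ring
  have hBa'd : T a' d p = T d y₀ p := by
    simp only [ha', map_sub, map_smul, LinearMap.sub_apply, LinearMap.smul_apply, smul_eq_mul,
      hqd, h.swap12 y₀ d p]
    ring
  have hBa'd0 : T a' d p ≠ 0 := by rw [hBa'd]; exact hy₀
  have ha'p : a' ∉ span K {p} := by
    intro hc
    obtain ⟨c, hc⟩ := mem_span_singleton.mp hc
    apply hBa'd0
    rw [← hc, map_smul, LinearMap.smul_apply, LinearMap.smul_apply, H.Tpxp, smul_zero]
  have hdL : d ∉ span K {p, a'} := by
    intro hc
    obtain ⟨α, β, hc⟩ := mem_span_pair.mp hc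
    have h1 : T (α • p + β • a') d p = β * T a' d p := by
      simp only [map_add, map_smul, LinearMap.add_apply, LinearMap.smul_apply, smul_eq_mul,
        H.Tpxp]
      ring
    rw [hc, hqd] at h1
    have hβ : β = 0 := (mul_eq_zero.mp h1.symm).resolve_right hBa'd0
    apply hd
    rw [← hc, hβ, zero_smul, add_zero]
    exact mem_span_singleton.mpr ⟨_, rfl⟩
  have hL2 : finrank K (span K ({p, a'} : Set V)) = 2 := finrank_span_pair H.hp ha'p
  have hP3 : finrank K ↥(span K ({p, a'} : Set V) ⊔ span K {d}) = 3 :=
    finrank_sup_span_singleton hL2 hdL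
  obtain ⟨z, hz, hdec⟩ := exists_compl_vector H.hV hP3
  set b : V := z - (T z d p / T a' d p) • a' - (T z a' p / T a' d p) • d with hb
  have hba' : T a' b p = 0 := by
    simp only [hb, map_sub, map_smul, LinearMap.sub_apply, LinearMap.smul_apply, smul_eq_mul,
      hqa', h.swap12 a' z p]
    field_simp
    ring
  have hbd : T b d p = 0 := by
    simp only [hb, map_sub, map_smul, LinearMap.sub_apply, LinearMap.smul_apply, smul_eq_mul,
      hqd]
    field_simp
    ring
  have hbP : b ∉ span K ({p, a'} : Set V) ⊔ span K {d} := by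
    intro hc
    apply hz
    have : z = b + ((T z d p / T a' d p) • a' + (T z a' p / T a' d p) • d) := by
      rw [hb]; abel
    rw [this]
    refine add_mem hc (add_mem (smul_mem _ _ ?_) (smul_mem _ _ ?_))
    · exact (le_sup_left : span K ({p, a'} : Set V) ≤ _) (subset_span (by simp))
    · exact (le_sup_right : span K ({d} : Set V) ≤ _) (mem_span_singleton_self d)
  have hdec' := decomp_of_notMem H.hV hP3 hbP
  -- coordinates with respect to p, a', b, d
  have hspan' : ∀ y : V, ∃ δ α β γ : K, y = δ • p + α • a' + β • b + γ • d := by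
    intro y
    obtain ⟨π, hπ, c, rfl⟩ := hdec' y
    obtain ⟨u, hu, s, rfl⟩ := mem_sup_span_singleton.mp hπ
    obtain ⟨δ, α, rfl⟩ := mem_span_pair.mp hu
    exact ⟨δ, α, c, s, by abel⟩
  have hqb : T b b p ≠ 0 := by
    intro h0
    apply hbP
    have : b ∈ span K {p} := by
      apply H.nd
      intro y
      obtain ⟨δ, α, β, γ, rfl⟩ := hspan' y
      simp only [map_add, map_smul, LinearMap.add_apply, LinearMap.smul_apply, smul_eq_mul,
        H.sing b, h.swap12 b a' p, hba', h0, hbd]
      ring
    obtain ⟨c, hc⟩ := mem_span_singleton.mp this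
    rw [← hc]
    exact smul_mem _ _ ((le_sup_left : span K ({p, a'} : Set V) ≤ _) (subset_span (by simp)))
  -- rescale
  set t : K := -(T b b p) / (2 * T a' d p) with ht
  have ht0 : t ≠ 0 := by
    rw [ht]
    exact div_ne_zero (neg_ne_zero.mpr hqb) (mul_ne_zero two_ne_zero hBa'd0)
  refine ⟨t • a', b, ?_⟩
  refine ⟨?_, hqd, ?_, hbd, hqb, ?_, ?_⟩
  · simp only [map_smul, LinearMap.smul_apply, smul_eq_mul, hqa', mul_zero]
  · simp only [map_smul, LinearMap.smul_apply, smul_eq_mul, hba', mul_zero]
  · simp only [map_smul, LinearMap.smul_apply, smul_eq_mul]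
    rw [ht]
    field_simp
    ring
  · intro y
    obtain ⟨δ, α, β, γ, rfl⟩ := hspan' y
    refine ⟨δ, α / t, β, γ, ?_⟩
    rw [smul_smul, div_mul_cancel₀ _ ht0]

end IsNode

namespace IsNode
variable {p a b d : V} (H : IsNode T p) (F : Frame T p a b d)
include H F

lemma nu_notMem (s : K) : nu a b d s ∉ span K {p} := by
  intro hc
  obtain ⟨c, hc⟩ := mem_span_singleton.mp hc
  apply F.bad_ne H.symm
  rw [← F.B_nu_d H.symm s, ← hc, map_smul, LinearMap.smul_apply, LinearMap.smul_apply, H.Tpxp,
    smul_zero]

lemma nu_eq {s s' e β : K} (heq : nu a b d s' = e • p + β • nu a b d s) : s' = s := by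
  have h1 : T (e • p + β • nu a b d s) d p = β * T a d p := by
    simp only [map_add, map_smul, LinearMap.add_apply, LinearMap.smul_apply, smul_eq_mul,
      H.Tpxp, F.B_nu_d H.symm]
    ring
  rw [← heq, F.B_nu_d H.symm] at h1
  have hβ : β = 1 := by
    have : (β - 1) * T a d p = 0 := by linear_combination -h1
    have := (mul_eq_zero.mp this).resolve_right (F.bad_ne H.symm)
    linear_combination this
  have h2 : T (e • p + β • nu a b d s) b p = β * (s * T b b p) := by
    simp only [map_add, map_smul, LinearMap.add_apply, LinearMap.smul_apply, smul_eq_mul,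
      H.Tpxp, F.B_nu_b H.symm]
    ring
  rw [← heq, F.B_nu_b H.symm, hβ, one_mul] at h2
  exact mul_right_cancel₀ F.qb h2

/-- classification of the points of the tangent cone -/
lemma classify {v : V} (hQ : T v v p = 0) :
    (∃ δ γ : K, v = δ • p + γ • d) ∨
      (∃ δ α s : K, α ≠ 0 ∧ v = δ • p + α • nu a b d s) := by
  have h := H.symm
  obtain ⟨δ, α, β, γ, rfl⟩ := F.span v
  have hQ' : β ^ 2 * T b b p + 2 * α * γ * T a d p = 0 := by
    rw [← hQ]
    simp only [map_add, map_smul, LinearMap.add_apply, LinearMap.smul_apply, smul_eq_mul,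
      H.Tpxp, H.sing, h.swap12 b a p, h.swap12 d a p, h.swap12 d b p, F.qa, F.qd, F.bab, F.bbd]
    ring
  by_cases hα : α = 0
  · left
    rw [hα] at hQ'
    have hβ : β = 0 := by
      have : β ^ 2 * T b b p = 0 := by linear_combination hQ'
      exact pow_eq_zero_iff (two_ne_zero) |>.mp ((mul_eq_zero.mp this).resolve_right F.qb)
    refine ⟨δ, γ, ?_⟩
    rw [hα, hβ, zero_smul, zero_smul, add_zero, add_zero]
  · right
    refine ⟨δ, α, β / α, hα, ?_⟩
    have hγ : γ = α * (β / α) ^ 2 := by
      have h1 : (α * γ - β ^ 2) * T a d p = 0 := by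
        linear_combination (1 / 2 : K) * hQ' - (β ^ 2 / 2) * F.rel
      have h2 := (mul_eq_zero.mp h1).resolve_right (F.bad_ne h)
      field_simp
      linear_combination h2
    unfold nu
    rw [hγ, smul_add, smul_add, smul_smul, smul_smul, mul_div_cancel₀ _ hα]
    abel

end IsNode

end node

section counting
open Polynomial
variable {K : Type*} [Field K] {α : Type*}

open Classical in
/-- counting the members of a family parametrised by the roots of a polynomial of degree at most
`n` together with one point at infinity, present only if the top coefficient vanishes -/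
lemma encard_le_of_param {n : ℕ} (hn : 1 ≤ n) (g : K[X]) (hg0 : g ≠ 0) (hdeg : g.natDegree ≤ n)
    (Φ : K → α) (Uinf : α) (M : Set α)
    (hM : ∀ U ∈ M, (∃ s, g.IsRoot s ∧ U = Φ s) ∨ (g.coeff n = 0 ∧ U = Uinf)) :
    M.encard ≤ n := by
  classical
  have hroots : (Φ '' (↑g.roots.toFinset : Set K)).encard ≤ g.natDegree := by
    calc (Φ '' (↑g.roots.toFinset : Set K)).encard
        ≤ (↑g.roots.toFinset : Set K).encard := Set.encard_image_le _ _
      _ = g.roots.toFinset.card := Set.encard_coe_eq_coe_finsetCard _
      _ ≤ g.natDegree := by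
        exact_mod_cast (Multiset.toFinset_card_le _).trans (card_roots' g)
  by_cases hc : g.coeff n = 0
  · have hlt : g.natDegree < n := by
      rcases Nat.lt_or_ge g.natDegree n with h | h
      · exact h
      · exfalso
        have h1 : g.natDegree = n := le_antisymm hdeg h
        apply hg0
        rw [← leadingCoeff_eq_zero, leadingCoeff, h1]
        exact hc
    have hsub : M ⊆ Φ '' (↑g.roots.toFinset : Set K) ∪ {Uinf} := by
      intro U hU
      rcases hM U hU with ⟨s, hs, rfl⟩ | ⟨-, rfl⟩
      · left
        refine ⟨s, ?_, rfl⟩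
        rw [Finset.mem_coe, Multiset.mem_toFinset, mem_roots hg0]
        exact hs
      · right
        rfl
    calc M.encard ≤ (Φ '' (↑g.roots.toFinset : Set K) ∪ {Uinf}).encard :=
          Set.encard_le_encard hsub
      _ ≤ (Φ '' (↑g.roots.toFinset : Set K)).encard + ({Uinf} : Set α).encard :=
          Set.encard_union_le _ _
      _ ≤ (g.natDegree : ℕ∞) + 1 := by
          rw [Set.encard_singleton]
          gcongr
      _ ≤ n := by exact_mod_cast hlt
  · have hsub : M ⊆ Φ '' (↑g.roots.toFinset : Set K) := by
      intro U hU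
      rcases hM U hU with ⟨s, hs, rfl⟩ | ⟨h0, -⟩
      · refine ⟨s, ?_, rfl⟩
        rw [Finset.mem_coe, Multiset.mem_toFinset, mem_roots hg0]
        exact hs
      · exact absurd h0 hc
    calc M.encard ≤ (Φ '' (↑g.roots.toFinset : Set K)).encard := Set.encard_le_encard hsub
      _ ≤ g.natDegree := hroots
      _ ≤ n := by exact_mod_cast hdeg

end counting

end Groth.Agent.H99.Cubic
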