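import Groth.Agent.H99.CubicR

/-!
# At most six lines through a double point of an irreducible cubic surface which is not a cone
-/

set_option autoImplicit false
set_option linter.unusedSectionVars false
set_option linter.unusedVariables false
set_option linter.unusedSimpArgs false
open Module Submodule Polynomial

namespace Groth.Agent.H99.Cubic

section polys
variable {K : Type*} [Field K] [IsAlgClosed K] [CharZero K] {V : Type*} [AddCommGroup V]
  [Module K V] [FiniteDimensional K V]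
variable {T : V →ₗ[K] V →ₗ[K] V →ₗ[K] K}

lemma natDegree_sextic_le (a b d : V) : (sextic T a b d).natDegree ≤ 6 := by
  unfold sextic
  compute_degree

lemma coeff_sextic (a b d : V) :
    (sextic T a b d).coeff 0 = T a a a ∧ (sextic T a b d).coeff 1 = 3 * T a a b ∧
    (sextic T a b d).coeff 2 = 3 * T a a d + 3 * T a b b ∧
    (sextic T a b d).coeff 3 = 6 * T a b d + T b b b ∧
    (sextic T a b d).coeff 4 = 3 * T a d d + 3 * T b b d ∧
    (sextic T a b d).coeff 5 = 3 * T b d d ∧ (sextic T a b d).coeff 6 = T d d d := by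
  unfold sextic
  refine ⟨?_, ?_, ?_, ?_, ?_, ?_, ?_⟩ <;>
    simp only [coeff_add, coeff_C_mul_X_pow, coeff_C_mul_X, coeff_C] <;> norm_num

/-- the cubic restricted to a pencil of lines `n + s m` -/
noncomputable def cubic3 (T : V →ₗ[K] V →ₗ[K] V →ₗ[K] K) (n m : V) : K[X] :=
  C (T n n n) + C (3 * T n n m) * X + C (3 * T n m m) * X ^ 2 + C (T m m m) * X ^ 3

lemma eval_cubic3 (h : IsSymm T) (n m : V) (s : K) :
    eval s (cubic3 T n m) = T (n + s • m) (n + s • m) (n + s • m) := by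
  rw [h.expand3]
  unfold cubic3
  simp only [eval_add, eval_mul, eval_C, eval_X, eval_pow]
  ring

lemma natDegree_cubic3_le (n m : V) : (cubic3 T n m).natDegree ≤ 3 := by
  unfold cubic3
  compute_degree

lemma coeff_cubic3 (n m : V) :
    (cubic3 T n m).coeff 0 = T n n n ∧ (cubic3 T n m).coeff 1 = 3 * T n n m ∧
    (cubic3 T n m).coeff 2 = 3 * T n m m ∧ (cubic3 T n m).coeff 3 = T m m m := by
  unfold cubic3
  refine ⟨?_, ?_, ?_, ?_⟩ <;>
    simp only [coeff_add, coeff_C_mul_X_pow, coeff_C_mul_X, coeff_C] <;> norm_num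

/-- expansion of the cubic on a combination of three vectors -/
lemma expand_abd (h : IsSymm T) (a b d : V) (α β γ : K) :
    T (α • a + β • b + γ • d) (α • a + β • b + γ • d) (α • a + β • b + γ • d) =
      α ^ 3 * T a a a + 3 * α ^ 2 * β * T a a b + 3 * α ^ 2 * γ * T a a d +
      3 * α * β ^ 2 * T a b b + 6 * α * β * γ * T a b d + 3 * α * γ ^ 2 * T a d d +
      β ^ 3 * T b b b + 3 * β ^ 2 * γ * T b b d + 3 * β * γ ^ 2 * T b d d + γ ^ 3 * T d d d := by
  have s1 : ∀ z, T b a z = T a b z := h.swap12 b a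
  have s2 : ∀ z, T d a z = T a d z := h.swap12 d a
  have s3 : ∀ z, T d b z = T b d z := h.swap12 d b
  have s4 : ∀ x, T x b a = T x a b := fun x => h.swap23 x b a
  have s5 : ∀ x, T x d a = T x a d := fun x => h.swap23 x d a
  have s6 : ∀ x, T x d b = T x b d := fun x => h.swap23 x d b
  simp only [map_add, map_smul, LinearMap.add_apply, LinearMap.smul_apply, smul_eq_mul,
    s1, s2, s3, s4, s5, s6]
  ring

end polys

section quadroots
variable {K : Type*} [Field K] [IsAlgClosed K] [CharZero K]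

/-- the zeros of a nonzero binary quadratic form lie on two lines through the origin, each
spanned by a zero of the form -/
lemma binary_quadratic_roots (A B C : K) (hne : ¬(A = 0 ∧ B = 0 ∧ C = 0)) :
    ∃ α₁ β₁ α₂ β₂ : K, (α₁ ≠ 0 ∨ β₁ ≠ 0) ∧ (α₂ ≠ 0 ∨ β₂ ≠ 0) ∧
      A * α₁ ^ 2 + 2 * B * α₁ * β₁ + C * β₁ ^ 2 = 0 ∧
      A * α₂ ^ 2 + 2 * B * α₂ * β₂ + C * β₂ ^ 2 = 0 ∧
      ∀ α β : K, A * α ^ 2 + 2 * B * α * β + C * β ^ 2 = 0 →
        (∃ c, α = c * α₁ ∧ β = c * β₁) ∨ (∃ c, α = c * α₂ ∧ β = c * β₂) := by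
  by_cases hA : A = 0
  · subst hA
    have hBC : ¬(B = 0 ∧ C = 0) := fun hh => hne ⟨rfl, hh.1, hh.2⟩
    refine ⟨1, 0, C, -2 * B, Or.inl one_ne_zero, ?_, by ring, by ring, ?_⟩
    · by_contra hcon
      push Not at hcon
      apply hBC
      refine ⟨?_, hcon.1⟩
      have : (2:K) * B = 0 := by linear_combination -hcon.2
      exact (mul_eq_zero.mp this).resolve_left two_ne_zero
    · intro α β hαβ
      have h1 : β * (2 * B * α + C * β) = 0 := by linear_combination hαβ
      rcases mul_eq_zero.mp h1 with hβ | h2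
      · left
        exact ⟨α, by ring, by rw [hβ]; ring⟩
      · right
        by_cases hB : B = 0
        · have hC : C ≠ 0 := fun hC => hBC ⟨hB, hC⟩
          rw [hB] at h2
          have hβ : β = 0 := by
            have : C * β = 0 := by linear_combination h2
            exact (mul_eq_zero.mp this).resolve_left hC
          refine ⟨α / C, by field_simp, by rw [hβ, hB]; ring⟩
        · have h2B : (2:K) * B ≠ 0 := mul_ne_zero two_ne_zero hB
          refine ⟨-β / (2 * B), ?_, ?_⟩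
          · apply mul_left_cancel₀ h2B
            rw [← mul_assoc, mul_div_cancel₀ _ h2B]
            linear_combination h2
          · rw [show (-2 : K) * B = -(2 * B) by ring, mul_neg, div_mul_cancel₀ _ h2B, neg_neg]
  · obtain ⟨r₁, hr₁⟩ : ∃ r : K, A * (r * r) + (2 * B) * r + C = 0 :=
      exists_quadratic_eq_zero hA (IsAlgClosed.exists_eq_mul_self _)
    set r₂ : K := -2 * B / A - r₁ with hr₂
    have hsum : A * (r₁ + r₂) = -2 * B := by rw [hr₂]; field_simp; ring
    have hprod : A * (r₁ * r₂) = C := by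
      have : A * (r₁ * r₂) = (A * (r₁ + r₂)) * r₁ - A * (r₁ * r₁) := by ring
      rw [this, hsum]
      linear_combination -hr₁
    have hfac : ∀ α β : K, A * α ^ 2 + 2 * B * α * β + C * β ^ 2 =
        A * (α - r₁ * β) * (α - r₂ * β) := by
      intro α β
      have : A * (α - r₁ * β) * (α - r₂ * β) =
          A * α ^ 2 - (A * (r₁ + r₂)) * α * β + (A * (r₁ * r₂)) * β ^ 2 := by ring
      rw [this, hsum, hprod]
      ring
    refine ⟨r₁, 1, r₂, 1, Or.inr one_ne_zero, Or.inr one_ne_zero, ?_, ?_, ?_⟩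
    · rw [hfac]; ring
    · rw [hfac]; ring
    · intro α β hαβ
      rw [hfac] at hαβ
      rcases mul_eq_zero.mp hαβ with h1 | h1
      · rcases mul_eq_zero.mp h1 with h2 | h2
        · exact absurd h2 hA
        · left
          exact ⟨β, by linear_combination h2, by ring⟩
      · right
        exact ⟨β, by linear_combination h1, by ring⟩

end quadroots

section planes
variable {K : Type*} [Field K] [IsAlgClosed K] [CharZero K] {V : Type*} [AddCommGroup V]
  [Module K V] [FiniteDimensional K V]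
variable {T : V →ₗ[K] V →ₗ[K] V →ₗ[K] K} {a : V}

/-- lines through the double point `a` on the surface inside a hyperplane through `a` on which
the polar quadric of `a` vanishes: at most three -/
lemma encard_lines_in_plane (h : IsSymm T) (ha : a ≠ 0) (hsing : ∀ y, T y a a = 0)
    {n m : V} (hn : n ∉ span K {a}) (hm : m ∉ span K {a, n})
    (hnn : T n n a = 0) (hnm : T n m a = 0) (hmm : T m m a = 0)
    (hyp : ∃ x ∈ span K {a, n} ⊔ span K {m}, T x x x ≠ 0) :
    {U : Submodule K V | a ∈ U ∧ finrank K U = 2 ∧ (∀ u ∈ U, T u u u = 0) ∧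
      U ≤ span K {a, n} ⊔ span K {m}}.encard ≤ 3 := by
  have hGw : ∀ δ γ c : K, T (δ • a + γ • n + c • m) (δ • a + γ • n + c • m)
      (δ • a + γ • n + c • m) = T (γ • n + c • m) (γ • n + c • m) (γ • n + c • m) := by
    intro δ γ c
    have e : δ • a + γ • n + c • m = (γ • n + c • m) + δ • a := by abel
    have hQw : T (γ • n + c • m) (γ • n + c • m) a = 0 := by
      simp only [map_add, map_smul, LinearMap.add_apply, LinearMap.smul_apply, smul_eq_mul,
        hnn, hnm, hmm, h.swap12 m n a]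
      ring
    rw [e, h.expand3, hsing, hsing a, hQw]
    ring
  have hGnm : ∀ γ c : K, T (γ • n + c • m) (γ • n + c • m) (γ • n + c • m) =
      γ ^ 3 * T n n n + 3 * γ ^ 2 * c * T n n m + 3 * γ * c ^ 2 * T n m m + c ^ 3 * T m m m := by
    intro γ c
    simp only [map_add, map_smul, LinearMap.add_apply, LinearMap.smul_apply, smul_eq_mul,
      h.swap12 m n, h.swap23 n m n, h.swap23 m m n]
    ring
  have hmKa : m ∉ span K {a} := by
    intro hc
    apply hm
    obtain ⟨c, rfl⟩ := mem_span_singleton.mp hc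
    exact smul_mem _ _ (subset_span (by simp))
  obtain ⟨c0, c1, c2, c3⟩ := coeff_cubic3 (T := T) n m
  have hg0 : cubic3 T n m ≠ 0 := by
    intro h0
    rw [h0] at c0 c1 c2 c3
    simp only [coeff_zero] at c0 c1 c2 c3
    have h3 : (3:K) ≠ 0 := by norm_num
    have d1 : T n n m = 0 := (mul_eq_zero.mp c1.symm).resolve_left h3
    have d2 : T n m m = 0 := (mul_eq_zero.mp c2.symm).resolve_left h3
    obtain ⟨x, hx, hGx⟩ := hyp
    apply hGx
    obtain ⟨u, hu, c, rfl⟩ := mem_sup_span_singleton.mp hx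
    obtain ⟨δ, γ, rfl⟩ := mem_span_pair.mp hu
    rw [hGw, hGnm, ← c0, d1, d2, ← c3]
    ring
  apply encard_le_of_param (n := 3) (by norm_num) (cubic3 T n m) hg0 (natDegree_cubic3_le n m)
    (fun s => span K ({a, n + s • m} : Set V)) (span K ({a, m} : Set V))
  rintro U ⟨haU, hU2, hUS, hUP⟩
  obtain ⟨v, hvU, hv⟩ := exists_notMem_span_of_finrank_two hU2 a
  obtain ⟨u, hu, c, hvc⟩ := mem_sup_span_singleton.mp (hUP hvU)
  obtain ⟨δ, γ, hu'⟩ := mem_span_pair.mp hu
  have hv' : v = δ • a + γ • n + c • m := by rw [hvc, ← hu']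
  have hGv := hUS v hvU
  rw [hv', hGw, hGnm] at hGv
  by_cases hγ : γ = 0
  · right
    have hc : c ≠ 0 := by
      rintro rfl
      apply hv
      rw [hv', hγ, zero_smul, zero_smul, add_zero, add_zero]
      exact mem_span_singleton.mpr ⟨_, rfl⟩
    have hGm : T m m m = 0 := by
      rw [hγ] at hGv
      have : c ^ 3 * T m m m = 0 := by linear_combination hGv
      exact (mul_eq_zero.mp this).resolve_left (pow_ne_zero 3 hc)
    refine ⟨by rw [c3]; exact hGm, ?_⟩
    have hmU : m ∈ U := by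
      have : m = c⁻¹ • (v - δ • a) := by
        rw [hv', hγ, zero_smul, add_zero, add_sub_cancel_left, smul_smul, inv_mul_cancel₀ hc,
          one_smul]
      rw [this]
      exact U.smul_mem _ (U.sub_mem hvU (U.smul_mem _ haU))
    exact (span_pair_eq_of_finrank_two hU2 ha haU hmU hmKa).symm
  · left
    have hνeq : n + (c / γ) • m = γ⁻¹ • (v - δ • a) := by
      rw [hv', add_assoc, add_sub_cancel_left, smul_add, smul_smul, smul_smul,
        inv_mul_cancel₀ hγ, one_smul, div_eq_inv_mul]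
    have hνU : n + (c / γ) • m ∈ U := by
      rw [hνeq]
      exact U.smul_mem _ (U.sub_mem hvU (U.smul_mem _ haU))
    have hνKa : n + (c / γ) • m ∉ span K {a} := by
      intro hc
      obtain ⟨e, he⟩ := mem_span_singleton.mp hc
      by_cases hc0 : c / γ = 0
      · rw [hc0, zero_smul, add_zero] at he
        exact hn (mem_span_singleton.mpr ⟨e, he⟩)
      · apply hm
        have : m = (c / γ)⁻¹ • (e • a - n) := by
          rw [he, add_sub_cancel_left, smul_smul, inv_mul_cancel₀ hc0, one_smul]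
        rw [this]
        exact smul_mem _ _ (sub_mem (smul_mem _ _ (subset_span (by simp)))
          (subset_span (by simp)))
    refine ⟨c / γ, ?_, (span_pair_eq_of_finrank_two hU2 ha haU hνU hνKa).symm⟩
    rw [IsRoot.def, eval_cubic3 h]
    have e2 : n + (c / γ) • m = γ⁻¹ • (γ • n + c • m) := by
      rw [smul_add, smul_smul, smul_smul, inv_mul_cancel₀ hγ, one_smul, div_eq_inv_mul]
    rw [e2]
    simp only [map_smul, LinearMap.smul_apply, smul_eq_mul]
    rw [hGnm, hGv]
    ring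

end planes

section degenerate
variable {K : Type*} [Field K] [IsAlgClosed K] [CharZero K] {V : Type*} [AddCommGroup V]
  [Module K V] [FiniteDimensional K V]
variable {T : V →ₗ[K] V →ₗ[K] V →ₗ[K] K} {a : V}

/-- the case of a degenerate tangent cone: it is a union of two planes, each containing at most
three lines of the surface through the double point -/
lemma encard_lines_degenerate (h : IsSymm T) (hV : finrank K V = 4) (ha : a ≠ 0)
    (hsing : ∀ y, T y a a = 0) (hQ : ∃ x, T x x a ≠ 0)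
    (hyp : ∀ P : Submodule K V, finrank K P = 3 → ∃ x ∈ P, T x x x ≠ 0)
    {n : V} (hn : n ∉ span K {a}) (hB : ∀ y, T n y a = 0) :
    {U : Submodule K V | a ∈ U ∧ finrank K U = 2 ∧ ∀ u ∈ U, T u u u = 0}.encard ≤ 6 := by
  have hL2 : finrank K (span K ({a, n} : Set V)) = 2 := finrank_span_pair ha hn
  obtain ⟨e₁, he₁⟩ := exists_notMem_of_finrank_lt (P := span K ({a, n} : Set V))
    (by rw [hV, hL2]; omega)
  have hP3 : finrank K ↥(span K ({a, n} : Set V) ⊔ span K {e₁}) = 3 :=
    finrank_sup_span_singleton hL2 he₁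
  obtain ⟨e₂, he₂, hdec⟩ := exists_compl_vector hV hP3
  have hBa : ∀ y, T a y a = 0 := fun y => by rw [h.pxp]; exact hsing y
  have hB' : ∀ y, T y n a = 0 := fun y => by rw [h.swap12]; exact hB y
  have hcoord : ∀ y : V, ∃ δ γ α β : K, y = δ • a + γ • n + α • e₁ + β • e₂ := by
    intro y
    obtain ⟨π, hπ, β, rfl⟩ := hdec y
    obtain ⟨u, hu, α, rfl⟩ := mem_sup_span_singleton.mp hπ
    obtain ⟨δ, γ, rfl⟩ := mem_span_pair.mp hu
    exact ⟨δ, γ, α, β, rfl⟩
  have hQy : ∀ δ γ α β : K,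
      T (δ • a + γ • n + α • e₁ + β • e₂) (δ • a + γ • n + α • e₁ + β • e₂) a =
        T e₁ e₁ a * α ^ 2 + 2 * T e₁ e₂ a * α * β + T e₂ e₂ a * β ^ 2 := by
    intro δ γ α β
    simp only [map_add, map_smul, LinearMap.add_apply, LinearMap.smul_apply, smul_eq_mul,
      hBa, hB, hB', hsing, h.swap12 e₂ e₁ a]
    ring
  have hne : ¬(T e₁ e₁ a = 0 ∧ T e₁ e₂ a = 0 ∧ T e₂ e₂ a = 0) := by
    rintro ⟨h1, h2, h3⟩
    obtain ⟨x, hx⟩ := hQ
    obtain ⟨δ, γ, α, β, rfl⟩ := hcoord x
    apply hx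
    rw [hQy, h1, h2, h3]
    ring
  obtain ⟨α₁, β₁, α₂, β₂, hne₁, hne₂, hr₁, hr₂, hall⟩ :=
    binary_quadratic_roots (T e₁ e₁ a) (T e₁ e₂ a) (T e₂ e₂ a) hne
  -- a combination of e₁, e₂ outside span {a, n}
  have hmL : ∀ α β : K, (α ≠ 0 ∨ β ≠ 0) → α • e₁ + β • e₂ ∉ span K ({a, n} : Set V) := by
    intro α β hαβ hc
    by_cases hβ : β = 0
    · have hα : α ≠ 0 := by tauto
      apply he₁
      rw [hβ, zero_smul, add_zero] at hc
      have : e₁ = α⁻¹ • (α • e₁) := by rw [smul_smul, inv_mul_cancel₀ hα, one_smul]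
      rw [this]
      exact smul_mem _ _ hc
    · apply he₂
      have : e₂ = β⁻¹ • ((α • e₁ + β • e₂) - α • e₁) := by
        rw [add_sub_cancel_left, smul_smul, inv_mul_cancel₀ hβ, one_smul]
      rw [this]
      refine smul_mem _ _ (sub_mem ?_ (smul_mem _ _ ?_))
      · exact (le_sup_left : span K ({a, n} : Set V) ≤ _) hc
      · exact (le_sup_right : span K ({e₁} : Set V) ≤ _) (mem_span_singleton_self e₁)
  have hmm : ∀ α β : K, T e₁ e₁ a * α ^ 2 + 2 * T e₁ e₂ a * α * β + T e₂ e₂ a * β ^ 2 = 0 →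
      T (α • e₁ + β • e₂) (α • e₁ + β • e₂) a = 0 := by
    intro α β hr
    simp only [map_add, map_smul, LinearMap.add_apply, LinearMap.smul_apply, smul_eq_mul,
      h.swap12 e₂ e₁ a]
    linear_combination hr
  have key : ∀ α β : K, (α ≠ 0 ∨ β ≠ 0) →
      T e₁ e₁ a * α ^ 2 + 2 * T e₁ e₂ a * α * β + T e₂ e₂ a * β ^ 2 = 0 →
      {U : Submodule K V | a ∈ U ∧ finrank K U = 2 ∧ (∀ u ∈ U, T u u u = 0) ∧
        U ≤ span K ({a, n} : Set V) ⊔ span K {α • e₁ + β • e₂}}.encard ≤ 3 := by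
    intro α β hαβ hr
    exact encard_lines_in_plane h ha hsing hn (hmL α β hαβ) (hB n) (hB _) (hmm α β hr)
      (hyp _ (finrank_sup_span_singleton hL2 (hmL α β hαβ)))
  have hsub : {U : Submodule K V | a ∈ U ∧ finrank K U = 2 ∧ ∀ u ∈ U, T u u u = 0} ⊆
      {U : Submodule K V | a ∈ U ∧ finrank K U = 2 ∧ (∀ u ∈ U, T u u u = 0) ∧
        U ≤ span K ({a, n} : Set V) ⊔ span K {α₁ • e₁ + β₁ • e₂}} ∪
      {U : Submodule K V | a ∈ U ∧ finrank K U = 2 ∧ (∀ u ∈ U, T u u u = 0) ∧
        U ≤ span K ({a, n} : Set V) ⊔ span K {α₂ • e₁ + β₂ • e₂}} := by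
    rintro U ⟨haU, hU2, hUS⟩
    obtain ⟨v, hvU, hv⟩ := exists_notMem_span_of_finrank_two hU2 a
    obtain ⟨hQv, -⟩ := line_data h haU hUS hvU
    obtain ⟨δ, γ, α, β, hvc⟩ := hcoord v
    rw [hvc, hQy] at hQv
    have hUle : ∀ m : V, (∃ c : K, v = δ • a + γ • n + c • m) →
        U ≤ span K ({a, n} : Set V) ⊔ span K {m} := by
      rintro m ⟨c, hc⟩
      rw [← span_pair_eq_of_finrank_two hU2 ha haU hvU hv, span_le]
      rintro x (hx | hx)
      · rw [hx]
        exact (le_sup_left : span K ({a, n} : Set V) ≤ _) (subset_span (by simp))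
      · rw [Set.mem_singleton_iff] at hx
        rw [hx, hc]
        refine add_mem ((le_sup_left : span K ({a, n} : Set V) ≤ _) ?_)
          (smul_mem _ _ ((le_sup_right : span K ({m} : Set V) ≤ _) (mem_span_singleton_self m)))
        exact add_mem (smul_mem _ _ (subset_span (by simp))) (smul_mem _ _ (subset_span (by simp)))
    rcases hall α β (by linear_combination hQv) with ⟨c, hα, hβ⟩ | ⟨c, hα, hβ⟩
    · left
      refine ⟨haU, hU2, hUS, hUle _ ⟨c, ?_⟩⟩
      rw [hvc, hα, hβ, smul_add, smul_smul, smul_smul]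
      abel
    · right
      refine ⟨haU, hU2, hUS, hUle _ ⟨c, ?_⟩⟩
      rw [hvc, hα, hβ, smul_add, smul_smul, smul_smul]
      abel
  calc _ ≤ _ := Set.encard_le_encard hsub
    _ ≤ _ := Set.encard_union_le _ _
    _ ≤ 3 + 3 := add_le_add (key α₁ β₁ hne₁ hr₁) (key α₂ β₂ hne₂ hr₂)
    _ = 6 := by norm_num

end degenerate

section nondegenerate
variable {K : Type*} [Field K] [IsAlgClosed K] [CharZero K] {V : Type*} [AddCommGroup V]
  [Module K V] [FiniteDimensional K V]
variable {T : V →ₗ[K] V →ₗ[K] V →ₗ[K] K} {p : V}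

lemma Q_abd (h : IsSymm T) {a b d : V} (F : Frame T p a b d) (α β γ : K) :
    T (α • a + β • b + γ • d) (α • a + β • b + γ • d) p = T b b p * (β ^ 2 - α * γ) := by
  simp only [map_add, map_smul, LinearMap.add_apply, LinearMap.smul_apply, smul_eq_mul,
    h.swap12 b a p, h.swap12 d a p, h.swap12 d b p, F.qa, F.qd, F.bab, F.bbd]
  linear_combination (α * γ) * F.rel

/-- if the cubic vanishes on the whole tangent cone, the surface contains a plane -/
lemma sextic_ne_zero_of_no_plane (H : IsNode T p) {a b d : V} (F : Frame T p a b d)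
    (hd : d ∉ span K {p})
    (hyp : ∀ P : Submodule K V, finrank K P = 3 → ∃ x ∈ P, T x x x ≠ 0) :
    sextic T a b d ≠ 0 := by
  have h := H.symm
  intro h0
  obtain ⟨c0, c1, c2, c3, c4, c5, c6⟩ := coeff_sextic (T := T) a b d
  rw [h0] at c0 c1 c2 c3 c4 c5 c6
  simp only [coeff_zero] at c0 c1 c2 c3 c4 c5 c6
  have h3 : (3:K) ≠ 0 := by norm_num
  have r0 : T a a a = 0 := c0.symm
  have r1 : T a a b = 0 := (mul_eq_zero.mp c1.symm).resolve_left h3
  have r2 : T a a d + T a b b = 0 := by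
    have : (3:K) * (T a a d + T a b b) = 0 := by linear_combination -c2
    exact (mul_eq_zero.mp this).resolve_left h3
  have r3 : 6 * T a b d + T b b b = 0 := c3.symm
  have r4 : T a d d + T b b d = 0 := by
    have : (3:K) * (T a d d + T b b d) = 0 := by linear_combination -c4
    exact (mul_eq_zero.mp this).resolve_left h3
  have r5 : T b d d = 0 := (mul_eq_zero.mp c5.symm).resolve_left h3
  have r6 : T d d d = 0 := c6.symm
  have hQb := F.qb
  have hBad := F.bad_ne h
  obtain ⟨t₁, ht₁⟩ : ∃ t₁ : K, t₁ = -(T a b b) / T b b p := ⟨_, rfl⟩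
  obtain ⟨t₂, ht₂⟩ : ∃ t₂ : K, t₂ = -(T b b b) / (3 * T b b p) := ⟨_, rfl⟩
  obtain ⟨t₃, ht₃⟩ : ∃ t₃ : K, t₃ = -(T b b d) / T b b p := ⟨_, rfl⟩
  have hsh : ∀ (v w : V) (c : K), T (v + c • p) w p = T v w p := by
    intro v w c
    simp only [map_add, map_smul, LinearMap.add_apply, LinearMap.smul_apply, smul_eq_mul,
      H.Tpxp]
    ring
  have hx₁0 : a + t₁ • p ≠ 0 := by
    intro hc
    apply hBad
    rw [← hsh a d t₁, hc]
    simp
  have hx₂ : b + t₂ • p ∉ span K {a + t₁ • p} := by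
    intro hc
    obtain ⟨c, hc⟩ := mem_span_singleton.mp hc
    apply hQb
    rw [← hsh b b t₂, ← hc, map_smul, LinearMap.smul_apply, LinearMap.smul_apply, hsh, F.bab,
      smul_zero]
  have hx₃ : d + t₃ • p ∉ span K {a + t₁ • p, b + t₂ • p} := by
    intro hc
    obtain ⟨c₁, c₂, hc⟩ := mem_span_pair.mp hc
    have e1 : T (c₁ • (a + t₁ • p) + c₂ • (b + t₂ • p)) d p = c₁ * T a d p := by
      simp only [map_add, map_smul, LinearMap.add_apply, LinearMap.smul_apply, smul_eq_mul,
        H.Tpxp, F.bbd]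
      ring
    rw [hc, hsh, F.qd] at e1
    have hc₁ : c₁ = 0 := (mul_eq_zero.mp e1.symm).resolve_right hBad
    have e2 : T (c₁ • (a + t₁ • p) + c₂ • (b + t₂ • p)) b p = c₂ * T b b p := by
      simp only [map_add, map_smul, LinearMap.add_apply, LinearMap.smul_apply, smul_eq_mul,
        H.Tpxp, F.bab]
      ring
    rw [hc, hsh, h.swap12 d b p, F.bbd] at e2
    have hc₂ : c₂ = 0 := (mul_eq_zero.mp e2.symm).resolve_right hQb
    rw [hc₁, hc₂, zero_smul, zero_smul, add_zero] at hc
    apply hd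
    have : d = (-t₃) • p := by
      rw [neg_smul]
      exact eq_neg_of_add_eq_zero_left hc.symm
    rw [this]
    exact mem_span_singleton.mpr ⟨_, rfl⟩
  have hP3 : finrank K ↥(span K ({a + t₁ • p, b + t₂ • p} : Set V) ⊔ span K {d + t₃ • p}) = 3 :=
    finrank_sup_span_singleton (finrank_span_pair hx₁0 hx₂) hx₃
  obtain ⟨x, hx, hGx⟩ := hyp _ hP3
  apply hGx
  obtain ⟨u, hu, γ, rfl⟩ := mem_sup_span_singleton.mp hx
  obtain ⟨α, β, rfl⟩ := mem_span_pair.mp hu
  have e : α • (a + t₁ • p) + β • (b + t₂ • p) + γ • (d + t₃ • p) =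
      (α • a + β • b + γ • d) + (α * t₁ + β * t₂ + γ * t₃) • p := by
    simp only [smul_add, smul_smul, add_smul]
    abel
  have hτ : 3 * (α * t₁ + β * t₂ + γ * t₃) * T b b p =
      -(3 * α * T a b b + β * T b b b + 3 * γ * T b b d) := by
    rw [ht₁, ht₂, ht₃]
    field_simp
    ring
  rw [e, h.expand3, H.sing, H.sing p, expand_abd h, Q_abd h F]
  linear_combination (β ^ 2 - α * γ) * hτ + α ^ 3 * r0 + 3 * α ^ 2 * β * r1 +
    3 * α ^ 2 * γ * r2 + α * β * γ * r3 + 3 * α * γ ^ 2 * r4 + 3 * β * γ ^ 2 * r5 + γ ^ 3 * r6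

/-- the case of a nondegenerate tangent cone -/
lemma encard_lines_node (H : IsNode T p)
    (hyp : ∀ P : Submodule K V, finrank K P = 3 → ∃ x ∈ P, T x x x ≠ 0) :
    {U : Submodule K V | p ∈ U ∧ finrank K U = 2 ∧ ∀ u ∈ U, T u u u = 0}.encard ≤ 6 := by
  obtain ⟨d, hd, hqd⟩ := H.exists_isotropic
  obtain ⟨a, b, F⟩ := H.exists_frame hd hqd
  have hg0 := sextic_ne_zero_of_no_plane H F hd hyp
  obtain ⟨-, -, -, -, -, -, c6⟩ := coeff_sextic (T := T) a b d
  apply encard_le_of_param (n := 6) (by norm_num) (sextic T a b d) hg0 (natDegree_sextic_le a b d)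
    (fun s => span K ({p, nu a b d s} : Set V)) (span K ({p, d} : Set V))
  rintro U ⟨hpU, hU2, hUS⟩
  obtain ⟨v, hvU, hv⟩ := exists_notMem_span_of_finrank_two hU2 p
  obtain ⟨hQ, -⟩ := line_data H.symm hpU hUS hvU
  have hG := hUS v hvU
  rcases H.classify F hQ with ⟨δ, γ, hvc⟩ | ⟨δ, α, s, hα, hvc⟩
  · right
    have hγ : γ ≠ 0 := by
      rintro rfl
      apply hv
      rw [hvc, zero_smul, add_zero]
      exact mem_span_singleton.mpr ⟨_, rfl⟩
    rw [hvc, H.expand_p, F.qd, mul_zero, zero_add] at hG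
    have hGd : T d d d = 0 := (mul_eq_zero.mp hG).resolve_left (pow_ne_zero 3 hγ)
    refine ⟨by rw [c6]; exact hGd, ?_⟩
    have hdU : d ∈ U := by
      have : d = γ⁻¹ • (v - δ • p) := by
        rw [hvc, add_sub_cancel_left, smul_smul, inv_mul_cancel₀ hγ, one_smul]
      rw [this]
      exact U.smul_mem _ (U.sub_mem hvU (U.smul_mem _ hpU))
    exact (span_pair_eq_of_finrank_two hU2 H.hp hpU hdU hd).symm
  · left
    rw [hvc, H.expand_p, F.Q_nu H.symm, mul_zero, zero_add] at hG
    have hGν := (mul_eq_zero.mp hG).resolve_left (pow_ne_zero 3 hα)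
    refine ⟨s, by rw [IsRoot.def, eval_sextic H.symm]; exact hGν, ?_⟩
    have hνU : nu a b d s ∈ U := by
      have : nu a b d s = α⁻¹ • (v - δ • p) := by
        rw [hvc, add_sub_cancel_left, smul_smul, inv_mul_cancel₀ hα, one_smul]
      rw [this]
      exact U.smul_mem _ (U.sub_mem hvU (U.smul_mem _ hpU))
    exact (span_pair_eq_of_finrank_two hU2 H.hp hpU hνU (H.nu_notMem F s)).symm

/-- **At most six lines through a double point** of a cubic surface containing no plane and whose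
polar quadric at the point is nonzero. -/
theorem encard_lines_through_double_point (h : IsSymm T) (hV : finrank K V = 4) (hp : p ≠ 0)
    (hsing : ∀ y, T y p p = 0) (hQ : ∃ x, T x x p ≠ 0)
    (hyp : ∀ P : Submodule K V, finrank K P = 3 → ∃ x ∈ P, T x x x ≠ 0) :
    {U : Submodule K V | p ∈ U ∧ finrank K U = 2 ∧ ∀ u ∈ U, T u u u = 0}.encard ≤ 6 := by
  by_cases hnd : ∀ x, (∀ y, T x y p = 0) → x ∈ span K {p}
  · exact encard_lines_node ⟨h, hV, hp, hsing, hnd⟩ hyp
  · push Not at hnd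
    obtain ⟨n, hB, hn⟩ := hnd
    exact encard_lines_degenerate h hV hp hsing hQ hyp hn hB

end nondegenerate

end Groth.Agent.H99.Cubic
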