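import Groth.Agent.H99.CubicS

/-!
# At most six lines through a singular point: translation from polynomials
-/

set_option autoImplicit false
set_option linter.unusedSectionVars false
set_option linter.unusedVariables false
set_option linter.unusedSimpArgs false
open Module Submodule MvPolynomial

namespace Groth.Agent.H99.Cubic

section translate2
variable {K : Type*} [Field K] [IsAlgClosed K] [CharZero K]

/-- an irreducible cubic form does not vanish on a hyperplane -/
lemma no_plane_of_irreducible (F : MvPolynomial (Fin 4) K) (hF : F.IsHomogeneous 3)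
    (hirr : Irreducible F) (P : Submodule K (Fin 4 → K)) (hP : finrank K P = 3) :
    ∃ x ∈ P, eval x F ≠ 0 := by
  by_contra hcon
  push Not at hcon
  have hV : finrank K (Fin 4 → K) = 4 := by simp
  obtain ⟨w, hw⟩ := exists_notMem_of_finrank_lt (P := P) (by rw [hV, hP]; omega)
  obtain ⟨f, hfw, hfP⟩ := Submodule.exists_dual_map_eq_bot_of_notMem hw inferInstance
  have hPle : P ≤ LinearMap.ker f := by
    intro x hx
    rw [LinearMap.mem_ker]
    have : f x ∈ P.map f := ⟨x, hx, rfl⟩
    rw [hfP] at this
    simpa using this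
  have hsurj : Function.Surjective f := by
    intro c
    refine ⟨(c / f w) • w, ?_⟩
    rw [map_smul, smul_eq_mul, div_mul_cancel₀ _ hfw]
  have hker : finrank K (LinearMap.ker f) = 3 := by
    have := LinearMap.finrank_range_add_finrank_ker f
    rw [LinearMap.range_eq_top.mpr hsurj, finrank_top, Module.finrank_self, hV] at this
    omega
  have hPeq : P = LinearMap.ker f :=
    Submodule.eq_of_le_of_finrank_eq hPle (by rw [hP, hker])
  -- the linear form as a polynomial
  have hℓ : ∀ x : Fin 4 → K, eval x (∑ i, C (f (Pi.single i 1)) * X i) = f x := fun x =>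
    eval_formPoly f x
  obtain ⟨j, hj⟩ : ∃ j, f (Pi.single j 1) ≠ 0 := by
    by_contra hall
    push Not at hall
    exact hfw (forall_of_forall_single f hall w)
  have hmem := mem_span_of_vanish (fun i => f (Pi.single i 1)) j hj F (by
    intro x hx
    rw [hℓ] at hx
    apply hcon
    rw [hPeq, LinearMap.mem_ker]
    exact hx)
  obtain ⟨G, hG⟩ := Ideal.mem_span_singleton.mp hmem
  set ℓ : MvPolynomial (Fin 4) K := ∑ i, C (f (Pi.single i 1)) * X i with hℓdef
  have hℓ0 : ℓ ≠ 0 := by
    intro h0
    apply hfw
    rw [← hℓ w, h0, map_zero]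
  have hℓhom : ℓ.IsHomogeneous 1 := formPoly_isHomogeneous f
  have hF0 : F ≠ 0 := hirr.ne_zero
  have hG0 : G ≠ 0 := by
    rintro rfl
    apply hF0
    rw [hG, mul_zero]
  have htd : F.totalDegree = ℓ.totalDegree + G.totalDegree := by
    rw [hG]
    exact totalDegree_mul_of_isDomain hℓ0 hG0
  rw [hF.totalDegree hF0, hℓhom.totalDegree hℓ0] at htd
  rcases hirr.isUnit_or_isUnit hG with hu | hu
  · have := (isUnit_iff_totalDegree_of_isReduced.mp hu).2
    rw [hℓhom.totalDegree hℓ0] at this
    omega
  · have := (isUnit_iff_totalDegree_of_isReduced.mp hu).2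
    omega

/-- a cubic surface which is not a cone has nonzero polar quadric at every point -/
lemma polar_ne_zero_of_not_cone (F : MvPolynomial (Fin 4) K) (hF : F.IsHomogeneous 3)
    (hcone : ¬ ∃ v : Fin 4 → K, v ≠ 0 ∧ ∑ i : Fin 4, v i • pderiv i F = 0)
    (a : Fin 4 → K) (ha : a ≠ 0) : ∃ x, TT F x x a ≠ 0 := by
  have hsymm : IsSymm (TT F) := ⟨TT_swap12 F, TT_swap23 F⟩
  by_contra hcon
  push Not at hcon
  apply hcone
  refine ⟨a, ha, ?_⟩
  apply MvPolynomial.funext
  intro x
  rw [map_sum, map_zero]
  have h1 := LinearMap.pi_apply_eq_sum_univ (ell (TT F) x) a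
  have h2 : ell (TT F) x a = 0 := by
    rw [ell_apply, hsymm.pxx]
    exact hcon x
  rw [h2] at h1
  have h3 : ∑ i, eval x (a i • pderiv i F) = 3 * ∑ i, a i • ell (TT F) x (fun j => if i = j then 1 else 0) := by
    rw [Finset.mul_sum]
    refine Finset.sum_congr rfl fun i _ => ?_
    have : (fun j => if i = j then (1:K) else 0) = Pi.single i 1 := by
      funext j
      simp [Pi.single_apply, eq_comm]
    rw [this, smul_eval, eval_pderiv_eq_TT hF, ell_apply, smul_eq_mul]
    ring
  rw [h3, ← h1, mul_zero]

/-- **At most six lines through a singular point** of an irreducible cubic surface which is not a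
cone. -/
theorem encard_lines_singular_poly (F : MvPolynomial (Fin 4) K) (hF : F.IsHomogeneous 3)
    (hirr : Irreducible F)
    (hcone : ¬ ∃ v : Fin 4 → K, v ≠ 0 ∧ ∑ i : Fin 4, v i • pderiv i F = 0)
    (a : Fin 4 → K) (ha : a ≠ 0) (hsing : ∀ i : Fin 4, eval a (pderiv i F) = 0) :
    {U : Submodule K (Fin 4 → K) | a ∈ U ∧ finrank K U = 2 ∧
      ∀ u ∈ U, TT F u u u = 0}.encard ≤ 6 := by
  have hsymm : IsSymm (TT F) := ⟨TT_swap12 F, TT_swap23 F⟩
  have h3 : (3:K) ≠ 0 := by norm_num
  have hsing' : ∀ y, TT F y a a = 0 := by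
    apply forall_of_forall_single (ell (TT F) a)
    intro i
    rw [ell_apply]
    have := hsing i
    rw [eval_pderiv_eq_TT hF] at this
    exact (mul_eq_zero.mp this).resolve_left h3
  refine encard_lines_through_double_point hsymm (by simp) ha hsing'
    (polar_ne_zero_of_not_cone F hF hcone a ha) ?_
  intro P hP
  obtain ⟨x, hx, hne⟩ := no_plane_of_irreducible F hF hirr P hP
  exact ⟨x, hx, by rw [← eval_eq_TT hF]; exact hne⟩

end translate2

end Groth.Agent.H99.Cubic
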