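import Mathlib
import Groth.Agent.H22.DVRDom

/-!
# A Noetherian local domain which is not a field is dominated by a one-dimensional Noetherian
local ring, essentially of finite type, inside its fraction field (helper99; for S9132).
The chart construction is adapted from helper22's `H22.DVRDom.exists_dvr_dominating`.
-/

set_option autoImplicit false
set_option linter.style.haveILetI false
universe u

namespace Groth.Agent.H99.DomDimOne

open nonZeroDivisors

theorem exists_chart (R : Type u) [CommRing R] [IsDomain R] [IsNoetherianRing R] [IsLocalRing R]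
    (hR : ¬ IsField R) (K : Type u) [Field K] [Algebra R K] [IsFractionRing R K] :
    ∃ (B : Subalgebra R K) (_ : B.FG) (𝔭 : Ideal B), 𝔭.IsPrime ∧ 𝔭.height ≤ 1 ∧ 𝔭 ≠ ⊥ ∧
      IsLocalRing.maximalIdeal R ≤ 𝔭.comap (algebraMap R B) := by
  classical
  haveI : FaithfulSMul R K :=
    (faithfulSMul_iff_algebraMap_injective R K).mpr (IsFractionRing.injective R K)
  have hs : Subfield.closure (Set.range (algebraMap R K) ∪ ((∅ : Finset K) : Set K)) = ⊤ := by
    rw [eq_top_iff]
    intro z _
    obtain ⟨a, b, hb, rfl⟩ := IsFractionRing.div_surjective (A := R) z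
    exact div_mem (Subfield.subset_closure (Or.inl ⟨a, rfl⟩))
      (Subfield.subset_closure (Or.inl ⟨b, rfl⟩))
  obtain ⟨V, -, hAV, hmV⟩ := Groth.Agent.H22.DVRDom.exists_dvr_dominating hR (∅ : Finset K) hs
  obtain ⟨G, hG⟩ := (IsNoetherian.noetherian (IsLocalRing.maximalIdeal R))
  have hGne : ∃ g ∈ G, g ≠ 0 := by
    by_contra h
    push Not at h
    apply hR
    rw [IsLocalRing.isField_iff_maximalIdeal_eq, ← hG, Submodule.span_eq_bot]
    exact h
  have hGnonempty : G.Nonempty := let ⟨g, hg, _⟩ := hGne; ⟨g, hg⟩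
  obtain ⟨x, hxG, hxmax⟩ :=
    Finset.exists_max_image G (fun g => V.valuation (algebraMap R K g)) hGnonempty
  have hx0 : x ≠ 0 := by
    rintro rfl
    obtain ⟨g, hg, hg0⟩ := hGne
    have := hxmax g hg
    rw [map_zero, map_zero, le_zero_iff, map_eq_zero, FaithfulSMul.algebraMap_eq_zero_iff] at this
    exact hg0 this
  set xL := algebraMap R K x with hxL
  have hxL0 : xL ≠ 0 := by
    rw [hxL, Ne, FaithfulSMul.algebraMap_eq_zero_iff]; exact hx0
  have hxm : x ∈ IsLocalRing.maximalIdeal R := by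
    rw [← hG]; exact Submodule.subset_span hxG
  let T : Finset K := G.image (fun g => algebraMap R K g / xL)
  have hTV : ∀ t ∈ T, t ∈ V := by
    intro t ht
    obtain ⟨g, hg, rfl⟩ := Finset.mem_image.mp ht
    rw [← V.valuation_le_one_iff, map_div₀]
    have hpos : 0 < V.valuation xL := by
      rw [pos_iff_ne_zero, Ne, map_eq_zero]; exact hxL0
    exact (div_le_one₀ hpos).mpr (hxmax g hg)
  let B := Algebra.adjoin R (T : Set K)
  have hBV : ∀ b ∈ B, b ∈ V := by
    intro b hb
    induction hb using Algebra.adjoin_induction with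
    | mem t ht => exact hTV t ht
    | algebraMap a => exact hAV a
    | add _ _ _ _ h1 h2 => exact V.add_mem _ _ h1 h2
    | mul _ _ _ _ h1 h2 => exact V.mul_mem _ _ h1 h2
  have hBfg : B.FG := Subalgebra.fg_adjoin_finset T
  have hBN : IsNoetherianRing B := by
    have : Algebra.FiniteType R B := (Subalgebra.fg_iff_finiteType _).mp hBfg
    exact Algebra.FiniteType.isNoetherianRing R B
  let xB : B := ⟨xL, B.algebraMap_mem x⟩
  have hxB0 : xB ≠ 0 := fun h => hxL0 (congrArg Subtype.val h)
  have hxBnu : ¬ IsUnit xB := by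
    rintro ⟨u, hu⟩
    have h1 : ((u⁻¹ : Bˣ) : B).1 * xL = 1 := by
      have := congrArg Subtype.val (u.inv_mul)
      rw [hu] at this
      exact this
    have h2 : xL⁻¹ ∈ V := by
      have : xL⁻¹ = ((u⁻¹ : Bˣ) : B).1 := (eq_inv_of_mul_eq_one_left h1).symm
      rw [this]
      exact hBV _ ((u⁻¹ : Bˣ) : B).2
    have h3 := (V.valuation_le_one_iff _).mpr h2
    rw [map_inv₀] at h3
    have h4 := hmV x hxm
    have hpos : 0 < V.valuation xL := by
      rw [pos_iff_ne_zero, Ne, map_eq_zero]; exact hxL0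
    rw [inv_le_one₀ hpos] at h3
    exact absurd h4 (not_lt.mpr h3)
  have hspan_ne : Ideal.span {xB} ≠ ⊤ := by
    rwa [Ne, Ideal.span_singleton_eq_top]
  obtain ⟨𝔭, h𝔭⟩ := Ideal.nonempty_minimalPrimes hspan_ne
  have h𝔭prime : 𝔭.IsPrime := h𝔭.1.1
  have hxp : xB ∈ 𝔭 := h𝔭.1.2 (Ideal.mem_span_singleton_self _)
  have hht : 𝔭.height ≤ 1 := Ideal.height_le_one_of_isPrincipal_of_mem_minimalPrimes _ 𝔭 h𝔭
  have hp0 : 𝔭 ≠ ⊥ := by
    rintro rfl
    exact hxB0 (by simpa using hxp)
  refine ⟨B, hBfg, 𝔭, h𝔭prime, hht, hp0, ?_⟩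
  rw [← hG, Ideal.span_le]
  intro g hg
  have hmem : algebraMap R K g / xL ∈ B := Algebra.subset_adjoin
    (Finset.mem_image.mpr ⟨g, hg, rfl⟩)
  have hgx : (⟨algebraMap R K g / xL, hmem⟩ : B) * xB = algebraMap R B g :=
    Subtype.ext (div_mul_cancel₀ _ hxL0)
  change algebraMap R B g ∈ 𝔭
  rw [← hgx]
  exact 𝔭.mul_mem_left _ hxp


theorem main (R : Type u) [CommRing R] [IsDomain R] [IsNoetherianRing R] [IsLocalRing R]
    (hR : ¬ IsField R) :
    ∃ R' : Subalgebra R (FractionRing R), ∃ _ : IsLocalRing R',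
      IsNoetherianRing R' ∧ ringKrullDim R' = 1 ∧ IsLocalHom (algebraMap R R') ∧
        Algebra.EssFiniteType R R' := by
  obtain ⟨B, hBfg, 𝔭, h𝔭prime, hht, hp0, hm⟩ := exists_chart R hR (FractionRing R)
  haveI : Algebra.FiniteType R B := (Subalgebra.fg_iff_finiteType _).mp hBfg
  haveI : IsNoetherianRing B := Algebra.FiniteType.isNoetherianRing R B
  haveI : IsFractionRing B (FractionRing R) := by
    apply IsFractionRing.of_field
    intro z
    obtain ⟨a, b, hb, rfl⟩ := IsFractionRing.div_surjective (A := R) z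
    exact ⟨algebraMap R B a, algebraMap R B b, rfl⟩
  have hS : 𝔭.primeCompl ≤ B⁰ := 𝔭.primeCompl_le_nonZeroDivisors
  let R'B : Subalgebra B (FractionRing R) :=
    Localization.subalgebra (FractionRing R) 𝔭.primeCompl hS
  haveI : IsLocalization.AtPrime R'B 𝔭 :=
    Localization.subalgebra.isLocalization_subalgebra _ _ _
  haveI hloc : IsLocalRing R'B := IsLocalization.AtPrime.isLocalRing R'B 𝔭
  have hnoeth : IsNoetherianRing R'B := IsLocalization.isNoetherianRing 𝔭.primeCompl R'B inferInstance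
  have hdim : ringKrullDim R'B = 1 := by
    rw [IsLocalization.AtPrime.ringKrullDim_eq_height 𝔭 R'B]
    have : 𝔭.height = 1 := by
      apply le_antisymm hht
      rw [Order.one_le_iff_ne_zero, Ne, Ideal.height_eq_zero_iff_eq_bot]
      exact hp0
    rw [this]; rfl
  refine ⟨R'B.restrictScalars R, hloc, hnoeth, hdim, ?_, ?_⟩
  · refine ⟨fun a ha => ?_⟩
    by_contra hnu
    have ham : a ∈ IsLocalRing.maximalIdeal R := (IsLocalRing.mem_maximalIdeal a).mpr hnu
    have hap : algebraMap R B a ∈ 𝔭 := hm ham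
    have hu : IsUnit (algebraMap B R'B (algebraMap R B a)) := ha
    rw [IsLocalization.AtPrime.isUnit_to_map_iff R'B 𝔭] at hu
    exact hu hap
  · haveI : Algebra.EssFiniteType B R'B := Algebra.EssFiniteType.of_isLocalization R'B 𝔭.primeCompl
    exact Algebra.EssFiniteType.comp R B R'B

end Groth.Agent.H99.DomDimOne
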