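import Mathlib
import Groth.Prelude.Def_EGA4b
import Groth.Agent.H29.LocTrans
import Groth.Agent.H24.SupportLoc

/-!
# Equidimensional modules: transfer lemmas (helper99)

* `isEquidimModule_of_semilinear`: invariance under semilinear isomorphisms;
* `isEquidimModule_iff_support`: for a finite module, in terms of the minimal points of the support;
* `ringKrullDim_quotient_localization`: `dim (C_P / q') = ht (P / Q)` for `Q = q' ∩ C`.
-/

set_option autoImplicit false
set_option linter.style.haveILetI false
set_option linter.unusedSectionVars false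
universe u

open IsLocalRing

namespace Groth.Agent.H99.EquidimAlg

section Semilinear

variable {R S : Type u} [CommRing R] [CommRing S]
  {M N : Type u} [AddCommGroup M] [Module R M] [AddCommGroup N] [Module S N]

theorem annihilator_comap_of_semilinear (σ : R ≃+* S) (φ : M ≃+ N)
    (hφ : ∀ (r : R) (x : M), φ (r • x) = σ r • φ x) :
    (Module.annihilator S N).comap (σ : R →+* S) = Module.annihilator R M := by
  ext r
  rw [Ideal.mem_comap, Module.mem_annihilator, Module.mem_annihilator]
  constructor
  · intro h x
    apply φ.injective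
    rw [hφ, map_zero]
    exact h (φ x)
  · intro h y
    obtain ⟨x, rfl⟩ := φ.surjective y
    show σ r • φ x = 0
    rw [← hφ, h x, map_zero]

/-- equidimensionality is invariant under semilinear isomorphisms. -/
theorem isEquidimModule_of_semilinear (σ : R ≃+* S) (φ : M ≃+ N)
    (hφ : ∀ (r : R) (x : M), φ (r • x) = σ r • φ x) (h : EGA4.IsEquidimModule R M) :
    EGA4.IsEquidimModule S N := by
  intro q hq
  haveI : q.IsPrime := hq.1.1
  have hsurj : Function.Surjective (σ : R →+* S) := σ.surjective
  have hp : q.comap (σ : R →+* S) ∈ (Module.annihilator R M).minimalPrimes := by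
    rw [← annihilator_comap_of_semilinear σ φ hφ]
    exact Ideal.minimalPrimes_comap_of_surjective hsurj hq
  have h1 := h _ hp
  rw [Groth.Agent.H29.LocTrans.supportDim_eq_of_semilinear σ φ hφ] at h1
  rw [← h1]
  have hmap : q = (q.comap (σ : R →+* S)).map (σ : R →+* S) :=
    (Ideal.map_comap_of_surjective _ hsurj q).symm
  exact (ringKrullDim_eq_of_ringEquiv (Ideal.quotientEquiv _ _ σ hmap)).symm

end Semilinear

section Support

variable {A : Type u} [CommRing A] (M : Type u) [AddCommGroup M] [Module A M] [Module.Finite A M]

/-- the minimal primes of the annihilator are the minimal points of the support. -/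
theorem mem_minimalPrimes_annihilator_iff (p : Ideal A) :
    p ∈ (Module.annihilator A M).minimalPrimes ↔
      ∃ hp : p.IsPrime, (⟨p, hp⟩ : PrimeSpectrum A) ∈ Module.support A M ∧
        ∀ q ∈ Module.support A M, q ≤ ⟨p, hp⟩ → q = ⟨p, hp⟩ := by
  constructor
  · intro h
    refine ⟨h.1.1, ?_, ?_⟩
    · rw [Module.mem_support_iff_of_finite]
      exact h.1.2
    · intro q hq hle
      rw [Module.mem_support_iff_of_finite] at hq
      have := h.2 ⟨q.2, hq⟩ hle
      exact PrimeSpectrum.ext (le_antisymm hle this)
  · rintro ⟨hp, hmem, hmin⟩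
    rw [Module.mem_support_iff_of_finite] at hmem
    refine ⟨⟨hp, hmem⟩, ?_⟩
    rintro q ⟨hq, hqa⟩ hle
    have hqs : (⟨q, hq⟩ : PrimeSpectrum A) ∈ Module.support A M := by
      rw [Module.mem_support_iff_of_finite]
      exact hqa
    have := hmin ⟨q, hq⟩ hqs hle
    rw [PrimeSpectrum.ext_iff] at this
    exact this.ge

/-- equidimensionality in terms of the minimal points of the support. -/
theorem isEquidimModule_iff_support :
    EGA4.IsEquidimModule A M ↔ ∀ p : PrimeSpectrum A, p ∈ Module.support A M →
      (∀ q ∈ Module.support A M, q ≤ p → q = p) →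
        ringKrullDim (A ⧸ p.asIdeal) = Module.supportDim A M := by
  constructor
  · intro h p hp hmin
    exact h p.asIdeal ((mem_minimalPrimes_annihilator_iff M p.asIdeal).mpr ⟨p.2, hp, hmin⟩)
  · intro h p hp
    obtain ⟨hpp, hmem, hmin⟩ := (mem_minimalPrimes_annihilator_iff M p).mp hp
    exact h ⟨p, hpp⟩ hmem hmin

end Support

section Localization

variable {C : Type u} [CommRing C] (P : Ideal C) [P.IsPrime]

/-- `dim (C_P / q') = ht (P / Q)` for `Q = q' ∩ C`. -/
theorem ringKrullDim_quotient_localization (q' : Ideal (Localization.AtPrime P)) [q'.IsPrime] :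
    ringKrullDim (Localization.AtPrime P ⧸ q') =
      (((P.map (Ideal.Quotient.mk (q'.comap (algebraMap C (Localization.AtPrime P))))).height :
        ℕ∞) : WithBot ℕ∞) := by
  set Q : Ideal C := q'.comap (algebraMap C (Localization.AtPrime P)) with hQ
  have hQP : Q ≤ P := by
    have := (IsLocalization.AtPrime.primeSpectrumOrderIso (Localization.AtPrime P) P
      ⟨q', inferInstance⟩).2
    exact this
  have hq' : q' = Q.map (algebraMap C (Localization.AtPrime P)) :=
    (IsLocalization.map_under P.primeCompl (Localization.AtPrime P) q').symm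
  haveI : (P.map (Ideal.Quotient.mk Q)).IsPrime :=
    Ideal.map_isPrime_of_surjective Ideal.Quotient.mk_surjective (by rwa [Ideal.mk_ker])
  have hsub : Algebra.algebraMapSubmonoid (C ⧸ Q) P.primeCompl =
      (P.map (Ideal.Quotient.mk Q)).primeCompl := by
    ext x
    constructor
    · rintro ⟨c, hc, rfl⟩ hmem
      have : c ∈ (P.map (Ideal.Quotient.mk Q)).comap (Ideal.Quotient.mk Q) := hmem
      rw [Ideal.comap_map_of_surjective _ Ideal.Quotient.mk_surjective, ← RingHom.ker_eq_comap_bot,
        Ideal.mk_ker, sup_eq_left.mpr hQP] at this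
      exact hc this
    · intro hx
      obtain ⟨c, rfl⟩ := Ideal.Quotient.mk_surjective x
      refine ⟨c, ?_, rfl⟩
      intro hc
      exact hx (Ideal.mem_map_of_mem _ hc)
  haveI inst : IsLocalization (Algebra.algebraMapSubmonoid (C ⧸ Q) P.primeCompl)
      (Localization.AtPrime P ⧸ Q.map (algebraMap C (Localization.AtPrime P))) := inferInstance
  have e : (Localization.AtPrime P ⧸ q') ≃+*
      (Localization.AtPrime P ⧸ Q.map (algebraMap C (Localization.AtPrime P))) :=
    Ideal.quotEquivOfEq hq'
  rw [ringKrullDim_eq_of_ringEquiv e]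
  haveI : IsLocalization.AtPrime
      (Localization.AtPrime P ⧸ Q.map (algebraMap C (Localization.AtPrime P)))
      (P.map (Ideal.Quotient.mk Q)) := by
    show IsLocalization (P.map (Ideal.Quotient.mk Q)).primeCompl _
    rw [← hsub]
    exact inst
  exact IsLocalization.AtPrime.ringKrullDim_eq_height (P.map (Ideal.Quotient.mk Q)) _

end Localization

end Groth.Agent.H99.EquidimAlg
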