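import Mathlib
import Groth.Agent.H99.FieldDim3
import Groth.Agent.H48.CompDimBC2
import Groth.Agent.H17.Chev.RedSub
import Groth.Agent.H99.IrrFib

/-!
# Equidimensionality of base changes of flat equidimensional morphisms over a field
(helper99; for S10941)
-/

set_option autoImplicit false
set_option backward.isDefEq.respectTransparency.types false
set_option linter.style.haveILetI false
set_option linter.unusedSectionVars false
universe u

open AlgebraicGeometry CategoryTheory TopologicalSpace Limits

namespace Groth.Agent.H99.EquidimBC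

open Groth.Agent.H99.FieldDim

section FibreBC

variable {X Y X' Y' : Scheme.{u}} (f : X ⟶ Y) [LocallyOfFiniteType f] (g : Y' ⟶ Y)
  (f' : X' ⟶ Y') (g' : X' ⟶ X) (hc : IsPullback g' f' f g)

include hc in
/-- Equidimensionality of fibres passes to the fibres of a base change. -/
theorem fibre_components_dim_of_isPullback (y' : Y') (n : WithBot ℕ∞)
    (hfib : ∀ Z ∈ irreducibleComponents (f.fiber (g y') : Type u), topologicalKrullDim Z = n) :
    ∀ Z ∈ irreducibleComponents (f'.fiber y' : Type u), topologicalKrullDim Z = n := by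
  intro Z hZ
  have hsq := isPullback_fiberToSpecResidueField_of_isPullback hc y'
  haveI : LocallyOfFiniteType (f.fiberToSpecResidueField (g y')) :=
    inferInstanceAs (LocallyOfFiniteType (pullback.snd f (Y.fromSpecResidueField (g y'))))
  have himg := Groth.Agent.H48.CompDimBC2.image_topologicalKrullDim_irreducibleComponents
    (Y.residueField (g y')) (Y'.residueField y') (g.residueFieldMap y').hom
    (f.fiberToSpecResidueField (g y')) _ (f'.fiberToSpecResidueField y') hsq
  have hmem : topologicalKrullDim ↥Z ∈
      (fun Z : Set ↥(f'.fiber y') => topologicalKrullDim ↥Z) ''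
        irreducibleComponents ↥(f'.fiber y') := ⟨Z, hZ, rfl⟩
  rw [himg] at hmem
  obtain ⟨Z0, hZ0, h⟩ := hmem
  rw [← h]
  exact hfib Z0 hZ0

end FibreBC

section Top

/-- Irreducible components transfer along an embedding onto a subspace. -/
theorem exists_component_of_isEmbedding {A B : Type*} [TopologicalSpace A] [TopologicalSpace B]
    (e : A → B) (he : Topology.IsEmbedding e) (S : Set B) (hS : Set.range e = S) (W : Set ↥S)
    (hW : W ∈ irreducibleComponents ↥S) :
    ∃ Z ∈ irreducibleComponents A, topologicalKrullDim ↥Z = topologicalKrullDim ↥W := by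
  subst hS
  let h : A ≃ₜ ↥(Set.range e) := he.toHomeomorph
  refine ⟨h ⁻¹' W, ⟨?_, ?_⟩, ?_⟩
  · have : h ⁻¹' W = h.symm '' W := (h.symm.image_eq_preimage_symm W).symm
    rw [this]
    exact hW.1.image _ h.symm.continuous.continuousOn
  · intro Z' hZ' hle
    have h1 : IsIrreducible (h '' Z') := hZ'.image _ h.continuous.continuousOn
    have h2 : W ≤ h '' Z' := by
      intro w hw
      refine ⟨h.symm w, hle ?_, h.apply_symm_apply w⟩
      change h (h.symm w) ∈ W
      rwa [h.apply_symm_apply]
    have h3 : h '' Z' ≤ W := hW.2 h1 h2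
    intro z hz
    exact h3 ⟨z, hz, rfl⟩
  · have h4 : h '' (h ⁻¹' W) = W := h.image_preimage W
    have := IsHomeomorph.topologicalKrullDim_eq _ (h.image (h ⁻¹' W)).isHomeomorph
    rw [this, h4]

end Top

section Main

variable {k : Type u} [Field k] {X Y Y' : Scheme.{u}}
  (qY : Y ⟶ Spec (CommRingCat.of k)) (qY' : Y' ⟶ Spec (CommRingCat.of k))
  [LocallyOfFiniteType qY] [LocallyOfFiniteType qY'] [IrreducibleSpace ↥Y]
  (f : X ⟶ Y) [Flat f] [LocallyOfFiniteType (f ≫ qY)] (g : Y' ⟶ Y)

include qY qY' in
/-- **S10941.** -/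
theorem dim_component_preimage_base_change (n : ℕ)
    (hX : ∀ Z : Set ↥X, Z ∈ irreducibleComponents ↥X →
      topologicalKrullDim ↥Z = topologicalKrullDim ↥Y + (n : WithBot ℕ∞))
    (V : Set ↥Y') (hV : IsClosed V) (hVirr : IsIrreducible V)
    (W : Set ↥((pullback.snd f g).base ⁻¹' V))
    (hW : W ∈ irreducibleComponents ↥((pullback.snd f g).base ⁻¹' V)) :
    topologicalKrullDim ↥W = topologicalKrullDim ↥V + (n : WithBot ℕ∞) := by
  haveI : LocallyOfFiniteType f := locallyOfFiniteType_of_comp f qY
  -- Step 0
  have hdY := topologicalKrullDim_of_irreducible qY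
  set d := (delta qY (genericPoint Y)).toNat with hd
  have hY : ∀ Z ∈ irreducibleComponents (Y : Type u), topologicalKrullDim Z = (d : WithBot ℕ∞) := by
    intro Z hZ
    rw [irreducibleComponents_eq_singleton, Set.mem_singleton_iff] at hZ
    subst hZ
    rw [topologicalKrullDim_univ]
    exact hdY
  have hX' : ∀ Z ∈ irreducibleComponents (X : Type u),
      topologicalKrullDim Z = ((d + n : ℕ) : WithBot ℕ∞) := by
    intro Z hZ
    rw [hX Z hZ, hdY]
    push_cast
    rfl
  -- Step 1
  have hfib := (equidim_iff_fibres_equidim f qY d n hY).mp hX'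
  -- Step 2
  obtain ⟨V', i, hi, hrange⟩ : ∃ (V' : Scheme.{u}) (i : V' ⟶ Y'), IsClosedImmersion i ∧
      Set.range i = V :=
    ⟨(Scheme.IdealSheafData.vanishingIdeal ⟨V, hV⟩).subscheme,
      (Scheme.IdealSheafData.vanishingIdeal ⟨V, hV⟩).subschemeι, inferInstance, by
        rw [Scheme.IdealSheafData.range_subschemeι, Scheme.IdealSheafData.coe_support_vanishingIdeal]
        rfl⟩
  subst hrange
  haveI : IrreducibleSpace ↥(Set.range i) := isIrreducible_iff_irreducibleSpace.mp hVirr
  haveI : IrreducibleSpace ↥V' :=
    Groth.Agent.H99.IrrFib.irreducibleSpace_of_homeomorph i.isEmbedding.toHomeomorph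
  -- Step 3
  have hleft : IsPullback (pullback.fst (pullback.snd f g) i) (pullback.snd (pullback.snd f g) i)
      (pullback.snd f g) i := IsPullback.of_hasPullback _ _
  have hright : IsPullback (pullback.fst f g) (pullback.snd f g) f g :=
    IsPullback.of_hasPullback _ _
  have hpaste := hleft.paste_horiz hright
  -- Step 4
  haveI : Flat (pullback.snd (pullback.snd f g) i) :=
    MorphismProperty.of_isPullback (P := @Flat) hpaste inferInstance
  haveI : LocallyOfFiniteType (pullback.snd (pullback.snd f g) i) :=
    MorphismProperty.of_isPullback (P := @LocallyOfFiniteType) hpaste inferInstance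
  -- Step 5
  have hfibV : ∀ (v : V'), ∀ Z ∈ irreducibleComponents
      ((pullback.snd (pullback.snd f g) i).fiber v : Type u),
      topologicalKrullDim Z = (n : WithBot ℕ∞) := by
    intro v
    exact fibre_components_dim_of_isPullback f (i ≫ g) _ _ hpaste v n (hfib ((i ≫ g) v))
  -- Step 6
  have hdV := topologicalKrullDim_of_irreducible (i ≫ qY')
  set dV := (delta (i ≫ qY') (genericPoint V')).toNat with hdV'
  have hV' : ∀ Z ∈ irreducibleComponents (V' : Type u),
      topologicalKrullDim Z = (dV : WithBot ℕ∞) := by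
    intro Z hZ
    rw [irreducibleComponents_eq_singleton, Set.mem_singleton_iff] at hZ
    subst hZ
    rw [topologicalKrullDim_univ]
    exact hdV
  have hPV := (equidim_iff_fibres_equidim (pullback.snd (pullback.snd f g) i) (i ≫ qY') dV n
    hV').mpr hfibV
  -- Step 7
  have hrangej : Set.range (pullback.fst (pullback.snd f g) i) =
      (pullback.snd f g).base ⁻¹' Set.range i := Scheme.Pullback.range_fst _ _
  obtain ⟨Z, hZ, hdimZ⟩ := exists_component_of_isEmbedding
    (pullback.fst (pullback.snd f g) i) (pullback.fst (pullback.snd f g) i).isEmbedding _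
    hrangej W hW
  rw [← hdimZ, hPV Z hZ]
  have hdimV : topologicalKrullDim ↥V' = topologicalKrullDim ↥(Set.range i) :=
    Groth.Agent.H17.Chev.topologicalKrullDim_eq_of_isEmbedding i i.isEmbedding _ rfl
  rw [← hdimV, hdV]
  push_cast
  rfl

end Main

end Groth.Agent.H99.EquidimBC
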