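import Mathlib
import Groth.Prelude.Def_EGA43
import Groth.Agent.H99.EquidimBC
import Groth.Agent.H99.AffDimTransport
import Groth.Agent.H54.UnivOpenDed

/-!
# Equidimensionality at a point is stable under flat base change (EGA IV 13.3.8)
(helper99; for S2594)
-/

set_option autoImplicit false
set_option backward.isDefEq.respectTransparency.types false
set_option linter.style.haveILetI false
set_option linter.unusedSectionVars false
universe u

open AlgebraicGeometry CategoryTheory TopologicalSpace Limits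

namespace Groth.Agent.H99.EquidimAtBC

/-- Every morphism into the spectrum of a field is flat. -/
theorem flat_of_field {R : CommRingCat.{u}} [IsSemisimpleRing R] {Z : Scheme.{u}}
    (h : Z ⟶ Spec R) : Flat h := by
  rw [HasRingHomProperty.iff_of_source_openCover (P := @Flat) Z.affineCover]
  intro i
  have e : R ≃+* Γ(Spec R, ⊤) := (Scheme.ΓSpecIso R).symm.commRingCatIsoToRingEquiv
  haveI : IsSemisimpleRing Γ(Spec R, ⊤) := e.isSemisimpleRing
  letI := ((Z.affineCover.f i ≫ h).appTop).hom.toAlgebra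
  change Module.Flat _ _
  haveI := Module.projective_of_isSemisimpleRing Γ(Spec R, ⊤) Γ(Z.affineCover.X i, ⊤)
  infer_instance

section lift

variable {X Y Y' : Scheme.{u}} (f : X ⟶ Y) (g : Y' ⟶ Y)

/-- Lifting generizations inside a fibre of `g` along the base change of an arbitrary morphism:
the base change of `f` to a fibre of `g` is flat, being a base change of a morphism to the spectrum
of a field. -/
theorem exists_specializes_of_fibre (ξ' : ↥(pullback f g)) (t' : Y')
    (ht : t' ⤳ (pullback.snd f g) ξ') (hω : g t' = g ((pullback.snd f g) ξ')) :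
    ∃ p : ↥(pullback f g), p ⤳ ξ' ∧ (pullback.snd f g) p = t' := by
  set y'' := (pullback.snd f g) ξ' with hy''
  set ω := g y'' with hωdef
  let j := g.fiberι ω
  let a := g.fiberToSpecResidueField ω
  let b := Y.fromSpecResidueField ω
  -- points of the fibre
  obtain ⟨bt, hbt⟩ : t' ∈ Set.range j := by
    rw [g.range_fiberι ω]; exact hω
  obtain ⟨by', hby'⟩ : y'' ∈ Set.range j := by
    rw [g.range_fiberι ω]; rfl
  have hsp : bt ⤳ by' := by
    rw [← (g.fiberι ω).isEmbedding.isInducing.specializes_iff]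
    change j bt ⤳ j by'
    rw [hbt, hby']; exact ht
  -- the pullback `Q`
  have sqQ : IsPullback (pullback.fst (pullback.snd f g) j) (pullback.snd (pullback.snd f g) j)
      (pullback.snd f g) j := IsPullback.of_hasPullback _ _
  have sqP : IsPullback (pullback.fst f g) (pullback.snd f g) f g := IsPullback.of_hasPullback _ _
  have big : IsPullback (pullback.fst (pullback.snd f g) j ≫ pullback.fst f g)
      (pullback.snd (pullback.snd f g) j) f (j ≫ g) := sqQ.paste_horiz sqP
  have hjg : j ≫ g = a ≫ b := pullback.condition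
  have hcond : (pullback.fst (pullback.snd f g) j ≫ pullback.fst f g) ≫ f =
      (pullback.snd (pullback.snd f g) j ≫ a) ≫ b := by
    calc _ = pullback.snd (pullback.snd f g) j ≫ (j ≫ g) := big.w
      _ = _ := by rw [hjg, Category.assoc]
  let l : pullback (pullback.snd f g) j ⟶ f.fiber ω :=
    pullback.lift (pullback.fst (pullback.snd f g) j ≫ pullback.fst f g)
      (pullback.snd (pullback.snd f g) j ≫ a) hcond
  have hl1 : l ≫ f.fiberι ω = pullback.fst (pullback.snd f g) j ≫ pullback.fst f g :=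
    pullback.lift_fst _ _ _
  have hl2 : l ≫ f.fiberToSpecResidueField ω = pullback.snd (pullback.snd f g) j ≫ a :=
    pullback.lift_snd _ _ _
  have right : IsPullback (f.fiberι ω) (f.fiberToSpecResidueField ω) f b :=
    IsPullback.of_hasPullback _ _
  have big' : IsPullback (l ≫ f.fiberι ω) (pullback.snd (pullback.snd f g) j) f (a ≫ b) := by
    rw [hl1, ← hjg]; exact big
  have left : IsPullback l (pullback.snd (pullback.snd f g) j) (f.fiberToSpecResidueField ω) a :=
    IsPullback.of_right big' hl2 right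
  haveI : IsSemisimpleRing (Y.residueField ω) := inferInstance
  haveI : Flat (f.fiberToSpecResidueField ω) := flat_of_field _
  haveI : Flat (pullback.snd (pullback.snd f g) j) :=
    MorphismProperty.of_isPullback (P := @Flat) left inferInstance
  have hgen : GeneralizingMap (pullback.snd (pullback.snd f g) j) := Flat.generalizingMap _
  obtain ⟨q, hq1, hq2⟩ := Scheme.Pullback.exists_preimage_pullback (f := pullback.snd f g)
    (g := j) ξ' by' hby'.symm
  have hsp' : bt ⤳ (pullback.snd (pullback.snd f g) j) q := by rw [hq2]; exact hsp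
  obtain ⟨q', hq'1, hq'2⟩ := hgen hsp'
  refine ⟨(pullback.fst (pullback.snd f g) j) q', ?_, ?_⟩
  · rw [← hq1]
    exact hq'1.map (pullback.fst (pullback.snd f g) j).continuous
  · have := congrArg (fun φ : pullback (pullback.snd f g) j ⟶ Y' => φ q') sqQ.w
    simp only [Scheme.Hom.comp_apply] at this
    rw [this, hq'2, hbt]

end lift

section transfer

/-- If all irreducible components of `A₁` have dimension `e` and `A` is homeomorphic to `A₁`,
the same holds for `A`. -/
theorem components_dim_of_homeomorph {A A₁ : Type*} [TopologicalSpace A] [TopologicalSpace A₁]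
    (h : A ≃ₜ A₁) (e : WithBot ℕ∞)
    (H : ∀ Z₁ ∈ irreducibleComponents A₁, topologicalKrullDim ↥Z₁ = e) :
    ∀ Z ∈ irreducibleComponents A, topologicalKrullDim ↥Z = e := by
  intro Z hZ
  have h1 : h.symm ⁻¹' Z ∈ irreducibleComponents A₁ := by
    refine preimage_mem_irreducibleComponents hZ h.symm.isOpenEmbedding ?_
    have : Set.range h.symm = Set.univ := h.symm.surjective.range_eq
    rw [this, Set.inter_univ]
    exact hZ.1.nonempty
  have h2 : h.symm ⁻¹' Z = h '' Z := (h.image_eq_preimage_symm Z).symm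
  rw [← H _ h1, h2, Groth.Agent.H99.AffDimTransport.dim_image_homeomorph]

/-- Two spaces embedded in a third one with the same range have components of the same
dimensions. -/
theorem components_dim_of_range_eq {A A₁ B : Type*} [TopologicalSpace A] [TopologicalSpace A₁]
    [TopologicalSpace B] (φ : A → B) (ψ : A₁ → B) (hφ : Topology.IsEmbedding φ)
    (hψ : Topology.IsEmbedding ψ) (hr : Set.range φ = Set.range ψ) (e : WithBot ℕ∞)
    (H : ∀ Z₁ ∈ irreducibleComponents A₁, topologicalKrullDim ↥Z₁ = e) :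
    ∀ Z ∈ irreducibleComponents A, topologicalKrullDim ↥Z = e :=
  components_dim_of_homeomorph
    (hφ.toHomeomorph.trans ((Homeomorph.setCongr hr).trans hψ.toHomeomorph.symm)) e H

/-- The fibre of the restriction of a morphism to an open subscheme, as a subset of the source. -/
theorem range_fibre_open {P Y' : Scheme.{u}} (q : P ⟶ Y') (U' : P.Opens) (y₁ : Y') :
    Set.range (fun a : ↥((U'.ι ≫ q).fiber y₁) => U'.ι ((U'.ι ≫ q).fiberι y₁ a)) =
      {p : P | p ∈ U' ∧ q p = y₁} := by
  ext p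
  constructor
  · rintro ⟨a, rfl⟩
    refine ⟨((U'.ι ≫ q).fiberι y₁ a).2, ?_⟩
    have : (U'.ι ≫ q).fiberι y₁ a ∈ Set.range ((U'.ι ≫ q).fiberι y₁) := ⟨a, rfl⟩
    rw [(U'.ι ≫ q).range_fiberι y₁] at this
    exact this
  · rintro ⟨hp, hq⟩
    have : (⟨p, hp⟩ : ↥U') ∈ Set.range ((U'.ι ≫ q).fiberι y₁) := by
      rw [(U'.ι ≫ q).range_fiberι y₁]
      exact hq
    obtain ⟨a, ha⟩ := this
    exact ⟨a, by change U'.ι ((U'.ι ≫ q).fiberι y₁ a) = p; rw [ha]; rfl⟩

theorem isEmbedding_fibre_open {P Y' : Scheme.{u}} (q : P ⟶ Y') (U' : P.Opens) (y₁ : Y') :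
    Topology.IsEmbedding
      (fun a : ↥((U'.ι ≫ q).fiber y₁) => U'.ι ((U'.ι ≫ q).fiberι y₁ a)) :=
  U'.ι.isOpenEmbedding.isEmbedding.comp ((U'.ι ≫ q).fiberι y₁).isEmbedding

end transfer

section main

theorem closure_image_closure_singleton {A B : Type*} [TopologicalSpace A] [TopologicalSpace B]
    (φ : A → B) (hφ : Continuous φ) (a : A) : closure (φ '' closure {a}) = closure {φ a} := by
  rw [closure_image_closure hφ, Set.image_singleton]

variable {X Y Y' : Scheme.{u}} (f : X ⟶ Y) [LocallyOfFiniteType f] (g : Y' ⟶ Y) [Flat g]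
  [IsLocallyNoetherian Y']

open Groth.Agent.H54.UOD in
theorem isEquidimAt_pullback_snd (x : X) (h : EGA43.IsEquidimAt f x) (x' : ↥(pullback f g))
    (hx' : (pullback.fst f g).base x' = x) : EGA43.IsEquidimAt (pullback.snd f g) x' := by
  obtain ⟨e, U, hxU, hcomp, hfib⟩ := h
  set pr₁ := pullback.fst f g with hpr₁
  set pr₂ := pullback.snd f g with hpr₂
  set y' := pr₂ x' with hy'
  have hcondpt : ∀ p : ↥(pullback f g), f (pr₁ p) = g (pr₂ p) := by
    intro p
    have := congrArg (fun φ : pullback f g ⟶ Y => φ p) (pullback.condition (f := f) (g := g))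
    simpa only [Scheme.Hom.comp_apply] using this
  have hB : IsClosed (⋃₀ {Z | Z ∈ irreducibleComponents (Y' : Type u) ∧ y' ∉ Z}) :=
    isClosed_sUnion_irreducibleComponents Y' (fun Z => y' ∉ Z)
  let V' : Y'.Opens :=
    ⟨(⋃₀ {Z | Z ∈ irreducibleComponents (Y' : Type u) ∧ y' ∉ Z})ᶜ, hB.isOpen_compl⟩
  have hy'V : y' ∈ V' := by
    rintro ⟨Z, ⟨-, hZ⟩, hy⟩; exact hZ hy
  let U' : (pullback f g).Opens := pr₁ ⁻¹ᵁ U ⊓ pr₂ ⁻¹ᵁ V'
  have hx'U' : x' ∈ U' := ⟨by change pr₁ x' ∈ U; rw [hx']; exact hxU, hy'V⟩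
  refine ⟨e, U', hx'U', ?_, ?_⟩
  · -- every irreducible component of `U'` dominates a component of `Y'` through `y'`
    intro Z hZ
    haveI : QuasiSober ↥U' := inferInstanceAs (QuasiSober ↥(U'.toScheme))
    haveI : T0Space ↥U' := inferInstanceAs (T0Space ↥(U'.toScheme))
    obtain ⟨ζ, hζ⟩ :=
      Groth.Agent.H48.CompDimBC2.exists_generic_of_mem_irreducibleComponents Z hZ
    have hζmax : ∀ t : ↥U', t ⤳ ζ → t = ζ :=
      (closure_mem_irreducibleComponents_iff ζ).mp (hζ ▸ hZ)
    set ξ' : ↥(pullback f g) := ζ.1 with hξ'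
    have hξ'U : ξ' ∈ U' := ζ.2
    have hξ'max : ∀ p : ↥(pullback f g), p ⤳ ξ' → p = ξ' := by
      intro p hp
      have hpU : p ∈ U' := hp.mem_open U'.isOpen hξ'U
      have : (⟨p, hpU⟩ : ↥U') ⤳ ζ := (subtype_specializes_iff _ _).mpr hp
      exact congrArg Subtype.val (hζmax _ this)
    haveI : Flat pr₁ := MorphismProperty.pullback_fst (P := @Flat) f g inferInstance
    have hgen1 : GeneralizingMap pr₁ := Flat.generalizingMap pr₁
    set ξ := pr₁ ξ' with hξ
    have hξU : ξ ∈ U := hξ'U.1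
    have hξmax : ∀ t : X, t ⤳ ξ → t = ξ := by
      intro t ht
      obtain ⟨p, hp1, hp2⟩ := hgen1 ht
      rw [← hp2, hξ'max p hp1]
    have hξUmax : ∀ t : ↥U, t ⤳ (⟨ξ, hξU⟩ : ↥U) → t = ⟨ξ, hξU⟩ := by
      intro t ht
      exact Subtype.ext (hξmax t.1 ((subtype_specializes_iff _ _).mp ht))
    haveI : QuasiSober ↥U := inferInstanceAs (QuasiSober ↥(U.toScheme))
    haveI : T0Space ↥U := inferInstanceAs (T0Space ↥(U.toScheme))
    have hZ₀ : closure {(⟨ξ, hξU⟩ : ↥U)} ∈ irreducibleComponents (↥U : Type u) :=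
      (closure_mem_irreducibleComponents_iff _).mpr hξUmax
    obtain ⟨W, hW, -, hWeq⟩ := hcomp _ hZ₀
    have hW' : closure {f ξ} = W :=
      (closure_image_closure_singleton (U.ι ≫ f) (U.ι ≫ f).continuous
        (⟨ξ, hξU⟩ : ↥U)).symm.trans hWeq
    have hωmax : ∀ t : Y, t ⤳ f ξ → t = f ξ :=
      (closure_mem_irreducibleComponents_iff (f ξ)).mp (hW' ▸ hW)
    set y'' := pr₂ ξ' with hy''
    have hgy'' : g y'' = f ξ := (hcondpt ξ').symm
    have hy''max : ∀ t' : Y', t' ⤳ y'' → t' = y'' := by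
      intro t' ht'
      have h1 : g t' ⤳ g y'' := ht'.map g.continuous
      have h2 : g t' = g y'' := by
        rw [hgy''] at h1 ⊢
        exact hωmax _ h1
      obtain ⟨p, hp1, hp2⟩ := exists_specializes_of_fibre f g ξ' t' ht' h2
      rw [← hp2, hξ'max p hp1]
    have hW'' : closure {y''} ∈ irreducibleComponents (Y' : Type u) :=
      (closure_mem_irreducibleComponents_iff y'').mpr hy''max
    refine ⟨closure {y''}, hW'', ?_, ?_⟩
    · by_contra hn
      have : y'' ∈ ⋃₀ {Z | Z ∈ irreducibleComponents (Y' : Type u) ∧ y' ∉ Z} :=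
        ⟨closure {y''}, ⟨hW'', hn⟩, subset_closure rfl⟩
      exact hξ'U.2 this
    · rw [← hζ]
      exact closure_image_closure_singleton (U'.ι ≫ pr₂) (U'.ι ≫ pr₂).continuous ζ
  · -- the fibres
    intro t
    set y₁ := (U'.ι ≫ pr₂).base t with hy₁
    intro Z hZ
    set U₁' : (pullback f g).Opens := pr₁ ⁻¹ᵁ U with hU₁'
    have sq1 : IsPullback (pr₁ ∣_ U) U₁'.ι U.ι pr₁ := isPullback_morphismRestrict pr₁ U
    have sq2 : IsPullback pr₁ pr₂ f g := IsPullback.of_hasPullback f g
    have sq : IsPullback (pr₁ ∣_ U) (U₁'.ι ≫ pr₂) (U.ι ≫ f) g := sq1.paste_vert sq2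
    have hx₁ : pr₁ t.1 ∈ U := t.2.1
    have key : ∀ y : Y, y = (U.ι ≫ f).base ⟨pr₁ t.1, hx₁⟩ →
        ∀ Z ∈ irreducibleComponents (↥((U.ι ≫ f).fiber y) : Type u),
          topologicalKrullDim ↥Z = (e : WithBot ℕ∞) := by
      rintro _ rfl
      exact hfib _
    have hgy₁ : g y₁ = (U.ι ≫ f).base ⟨pr₁ t.1, hx₁⟩ := (hcondpt t.1).symm
    have h1 := Groth.Agent.H99.EquidimBC.fibre_components_dim_of_isPullback (U.ι ≫ f) g
      (U₁'.ι ≫ pr₂) (pr₁ ∣_ U) sq y₁ e (key _ hgy₁)
    have hy₁V : y₁ ∈ V' := t.2.2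
    have hr : Set.range (fun a : ↥((U'.ι ≫ pr₂).fiber y₁) => U'.ι ((U'.ι ≫ pr₂).fiberι y₁ a)) =
        Set.range (fun a : ↥((U₁'.ι ≫ pr₂).fiber y₁) =>
          U₁'.ι ((U₁'.ι ≫ pr₂).fiberι y₁ a)) := by
      rw [range_fibre_open, range_fibre_open]
      ext p
      constructor
      · rintro ⟨hp, hq⟩; exact ⟨hp.1, hq⟩
      · rintro ⟨hp, hq⟩
        refine ⟨⟨hp, ?_⟩, hq⟩
        change pr₂ p ∈ V'
        rw [hq]; exact hy₁V
    exact components_dim_of_range_eq _ _ (isEmbedding_fibre_open pr₂ U' y₁)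
      (isEmbedding_fibre_open pr₂ U₁' y₁) hr e h1 Z hZ

end main

end Groth.Agent.H99.EquidimAtBC
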