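import Mathlib

/-!
# A local domain essentially of finite type over a field `k` is the localization of a finite type
algebra over an extension field `K` at a maximal ideal.
-/

set_option autoImplicit false
universe u

namespace Groth.Agent.H99.EssFTLocal

open IsLocalRing

/-- An element `a / b` with `a b` in a subalgebra is algebraic over the subalgebra. -/
theorem isAlgebraic_of_mul_eq {k κ : Type*} [Field k] [Field κ] [Algebra k κ]
    (R₀ : Subalgebra k κ) (x : κ) (a b : R₀) (hb : (b : κ) ≠ 0) (h : (b : κ) * x = a) :
    IsAlgebraic R₀ x := by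
  refine ⟨Polynomial.C b * Polynomial.X - Polynomial.C a, ?_, ?_⟩
  · intro h0
    have := congrArg (fun p => Polynomial.coeff p 1) h0
    simp only [Polynomial.coeff_sub, Polynomial.coeff_C_mul, Polynomial.coeff_X_one, mul_one,
      Polynomial.coeff_C, one_ne_zero, if_false, sub_zero, Polynomial.coeff_zero] at this
    exact hb (by rw [this]; rfl)
  · simp only [map_sub, map_mul, Polynomial.aeval_C, Polynomial.aeval_X]
    rw [sub_eq_zero]
    exact h

set_option maxHeartbeats 800000 in
theorem main (k : Type u) [Field k] (S : Type u) [CommRing S] [IsDomain S] [IsLocalRing S]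
    [Algebra k S] [Algebra.EssFiniteType k S] :
    ∃ (K : Type u) (_ : Field K) (_ : Algebra k K) (A : Type u) (_ : CommRing A) (_ : Algebra K A)
      (_ : Algebra k A) (_ : IsScalarTower k K A) (_ : Algebra.FiniteType K A) (m : Ideal A)
      (_ : m.IsMaximal), Nonempty (S ≃ₐ[k] Localization.AtPrime m) := by
  classical
  let κ := ResidueField S
  let s : Finset S := Algebra.EssFiniteType.finset k S
  let T : Subalgebra k S := Algebra.EssFiniteType.subalgebra k S
  let res : S →ₐ[k] κ := IsScalarTower.toAlgHom k S κ
  have hres : ∀ z, res z = residue S z := fun _ => rfl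
  -- every element of `S` is a quotient of elements of `T`
  have hfrac : ∀ z : S, ∃ t u : T, IsUnit (u : S) ∧ z * (u : S) = t := by
    intro z
    obtain ⟨⟨t, u, hu⟩, hz⟩ := IsLocalization.surj (Algebra.EssFiniteType.submonoid k S) z
    exact ⟨t, u, hu, hz⟩
  let sbar : Set κ := res '' (s : Set S)
  have hTbar : ∀ t : T, res (t : S) ∈ Algebra.adjoin k sbar := by
    intro t
    have : (t : S) ∈ Algebra.adjoin k (s : Set S) := t.2
    have h2 : res (t : S) ∈ (Algebra.adjoin k (s : Set S)).map res := ⟨_, this, rfl⟩
    rwa [AlgHom.map_adjoin] at h2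
  have halg0 : Algebra.IsAlgebraic (Algebra.adjoin k sbar) κ := by
    refine ⟨fun x => ?_⟩
    obtain ⟨z, rfl⟩ := residue_surjective x
    obtain ⟨t, u, hu, hz⟩ := hfrac z
    refine isAlgebraic_of_mul_eq _ _ ⟨res t, hTbar t⟩ ⟨res u, hTbar u⟩ ?_ ?_
    · change res (u : S) ≠ 0
      rw [hres]
      exact fun h0 => (residue_eq_zero_iff _).mp h0 hu
    · change res (u : S) * residue S z = res (t : S)
      rw [hres, hres, ← map_mul, mul_comm, hz]
  obtain ⟨tset, htsub, htb⟩ := exists_isTranscendenceBasis_subset (R := k) sbar
  -- lifts of the transcendence basis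
  have hlift : ∀ i : tset, ∃ z : S, residue S z = (i : κ) := by
    intro i
    obtain ⟨z, -, hz⟩ := htsub i.2
    exact ⟨z, hz⟩
  choose ℓ hℓ using hlift
  let P := MvPolynomial tset k
  let ψ : P →ₐ[k] S := MvPolynomial.aeval ℓ
  have hψres : ∀ p : P, residue S (ψ p) = MvPolynomial.aeval (fun i : tset => (i : κ)) p := by
    intro p
    have : (res.comp ψ) p = MvPolynomial.aeval (fun i : tset => (i : κ)) p := by
      congr 1
      apply MvPolynomial.algHom_ext
      intro i
      simp only [AlgHom.comp_apply, ψ, MvPolynomial.aeval_X, hres, hℓ]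
    exact this
  have hinj : Function.Injective (MvPolynomial.aeval (fun i : tset => (i : κ)) : P →ₐ[k] κ) :=
    htb.1
  have hunit : ∀ p : nonZeroDivisors P, IsUnit (ψ.toRingHom p) := by
    intro p
    have hp : (p : P) ≠ 0 := nonZeroDivisors.coe_ne_zero p
    by_contra hnu
    have h0 : residue S (ψ p) = 0 := (residue_eq_zero_iff _).mpr hnu
    rw [hψres] at h0
    exact hp (hinj (h0.trans (map_zero _).symm))
  let K := FractionRing P
  let φ : K →+* S := IsLocalization.lift (M := nonZeroDivisors P) (g := ψ.toRingHom) hunit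
  have hφ : ∀ p : P, φ (algebraMap P K p) = ψ p := fun p => IsLocalization.lift_eq _ _
  let algKS : Algebra K S := φ.toAlgebra
  have halgKS : ∀ x : K, algebraMap K S x = φ x := fun _ => rfl
  have towerkKS : IsScalarTower k K S := by
    refine IsScalarTower.of_algebraMap_eq fun c => ?_
    rw [halgKS, IsScalarTower.algebraMap_apply k P K, hφ]
    simp [ψ, P, MvPolynomial.algebraMap_eq]
  -- `κ` is algebraic over `K`
  let algKκ : Algebra K κ := ((residue S).comp φ).toAlgebra
  have halgKκ : ∀ x : K, algebraMap K κ x = residue S (φ x) := fun _ => rfl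
  have towerKSκ : IsScalarTower K S κ := IsScalarTower.of_algebraMap_eq fun x => rfl
  have halgK : Algebra.IsAlgebraic K κ := by
    let algPκ : Algebra P κ :=
      (MvPolynomial.aeval (fun i : tset => (i : κ)) : P →ₐ[k] κ).toRingHom.toAlgebra
    have halgPκ : ∀ p : P, algebraMap P κ p = MvPolynomial.aeval (fun i : tset => (i : κ)) p :=
      fun _ => rfl
    have hR0 := htb.isAlgebraic
    refine ⟨fun x => ?_⟩
    -- algebraic over `P`
    have h1 : IsAlgebraic P x := by
      let f : P →+* Algebra.adjoin k (Set.range (fun i : tset => (i : κ))) :=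
        (htb.1.aevalEquiv : P ≃ₐ[k] _).toRingEquiv.toRingHom
      refine IsAlgebraic.of_ringHom_of_comp_eq (S := Algebra.adjoin k (Set.range (fun i : tset => (i : κ))))
        (B := κ) f (RingHom.id κ) (hR0.isAlgebraic x) ?_ Function.injective_id ?_
      · exact (htb.1.aevalEquiv : P ≃ₐ[k] _).surjective
      · refine RingHom.ext fun p => ?_
        simp only [RingHom.comp_apply, RingHom.id_apply, halgPκ, f]
        exact htb.1.algebraMap_aevalEquiv p
    -- hence over `K`
    have h2 := IsAlgebraic.ringHom_of_comp_eq (S := K) (B := κ) (algebraMap P K) (RingHom.id κ) h1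
      (IsFractionRing.injective P K) (by
        refine RingHom.ext fun p => ?_
        change residue S (φ (algebraMap P K p)) = MvPolynomial.aeval (fun i : tset => (i : κ)) p
        rw [hφ, hψres])
    exact h2
  -- the finite type `K`-algebra
  let A : Subalgebra K S := Algebra.adjoin K (s : Set S)
  have hFT : Algebra.FiniteType K A := (Subalgebra.fg_iff_finiteType A).mp ⟨s, rfl⟩
  have hTA : ∀ x : S, x ∈ T → x ∈ A := by
    intro x hx
    induction hx using Algebra.adjoin_induction with
    | mem x hx => exact Algebra.subset_adjoin hx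
    | algebraMap c =>
      rw [IsScalarTower.algebraMap_apply k K S]
      exact Subalgebra.algebraMap_mem A _
    | add x y _ _ hx hy => exact A.add_mem hx hy
    | mul x y _ _ hx hy => exact A.mul_mem hx hy
  let m : Ideal A := (maximalIdeal S).comap (algebraMap A S)
  have hmprime : m.IsPrime := Ideal.comap_isPrime _ _
  have hmem : ∀ a : A, a ∈ m ↔ ¬ IsUnit (a : S) := fun a => Iff.rfl
  have hmmax : m.IsMaximal := by
    rw [Ideal.isMaximal_iff]
    refine ⟨fun h1 => ?_, ?_⟩
    · exact (hmem 1).mp h1 (by simp)
    · intro J a hmJ ham haJ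
      have haunit : IsUnit (a : S) := not_not.mp fun h => ham ((hmem a).mpr h)
      have hane : residue S (a : S) ≠ 0 := fun h0 => (residue_eq_zero_iff _).mp h0 haunit
      -- the inverse of the residue of `a` is a polynomial in it
      have hint : IsAlgebraic K (residue S (a : S)) :=
        Algebra.IsAlgebraic.isAlgebraic (R := K) (residue S (a : S))
      have hinv : (residue S (a : S))⁻¹ ∈ Algebra.adjoin K {residue S (a : S)} := by
        rw [← IntermediateField.adjoin_simple_toSubalgebra_of_isAlgebraic hint]
        exact (IntermediateField.adjoin K {residue S (a : S)}).inv_mem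
          (IntermediateField.mem_adjoin_simple_self K _)
      obtain ⟨g, hg⟩ := Algebra.adjoin_singleton_eq_range_aeval K (residue S (a : S)) ▸ hinv
      let b : A := Polynomial.aeval a g
      have hb : residue S (b : S) = (residue S (a : S))⁻¹ := by
        rw [← hg]
        exact (Polynomial.aeval_algHom_apply ((IsScalarTower.toAlgHom K S κ).comp A.val) a g).symm
      have hab : a * b - 1 ∈ m := by
        rw [hmem]
        intro hu
        apply (residue_eq_zero_iff _).not.mpr (not_not.mpr hu)
        push_cast
        rw [map_sub, map_mul, hb, map_one, mul_inv_cancel₀ hane, sub_self]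
      have h1 : (1 : A) = a * b - (a * b - 1) := by ring
      rw [h1]
      exact J.sub_mem (J.mul_mem_right _ haJ) (hmJ hab)
  -- `S` is the localization of `A` at `m`
  have hloc : IsLocalization.AtPrime S m := by
    refine (isLocalization_iff _ _).mpr ⟨?_, ?_, ?_⟩
    · rintro ⟨a, ha⟩
      exact not_not.mp fun h => ha ((hmem a).mpr h)
    · intro z
      obtain ⟨t, u, hu, hz⟩ := hfrac z
      have hum : (⟨(u : S), hTA _ u.2⟩ : A) ∈ m.primeCompl := fun h => (hmem _).mp h hu
      exact ⟨(⟨(t : S), hTA _ t.2⟩, ⟨⟨(u : S), hTA _ u.2⟩, hum⟩), hz⟩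
    · intro x y hxy
      exact ⟨1, by rw [Subtype.ext hxy]⟩
  let e : S ≃ₐ[A] Localization.AtPrime m := IsLocalization.algEquiv m.primeCompl S _
  exact ⟨K, inferInstance, inferInstance, A, inferInstance, inferInstance, inferInstance,
    inferInstance, hFT, m, hmmax, ⟨e.restrictScalars k⟩⟩


end Groth.Agent.H99.EssFTLocal
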