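import Mathlib

set_option autoImplicit false
set_option linter.unusedSectionVars false
open CategoryTheory CategoryTheory.Limits

universe w u₁ u₂

namespace Groth.Agent.H99.FaithfulExact

section Basic

variable {A : Type u₁} [Category.{w} A] [Abelian A]
  {B : Type u₂} [Category.{w} B] [Abelian B]
  (F : A ⥤ B) [F.Faithful] [PreservesFiniteLimits F] [PreservesFiniteColimits F]

instance reflectsIsos : F.ReflectsIsomorphisms := inferInstance

/-- AB5 transfers along a faithful exact colimit-preserving functor. -/
theorem ab5 [HasColimitsOfSize.{w, w} A] [HasColimitsOfSize.{w, w} B] [AB5OfSize.{w, w} B]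
    [PreservesColimitsOfSize.{w, w} F] : AB5OfSize.{w, w} A where
  ofShape J _ _ := HasExactColimitsOfShape.domain_of_functor J F

end Basic

section SubMap

variable {A : Type u₁} [Category.{w} A] [Abelian A]
  {B : Type u₂} [Category.{w} B] [Abelian B]
  (F : A ⥤ B) [F.Additive] [F.Faithful] [PreservesFiniteLimits F] [PreservesFiniteColimits F]

/-- The map on subobjects induced by a mono-preserving functor. -/
noncomputable def subMap (a : A) (S : Subobject a) : Subobject (F.obj a) :=
  Subobject.mk (F.map S.arrow)

lemma subMap_mono (a : A) : Monotone (subMap F a) := by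
  intro S T h
  refine Subobject.mk_le_mk_of_comm (F.map (Subobject.ofLE S T h)) ?_
  rw [← F.map_comp, Subobject.ofLE_arrow]

lemma subMap_le_iff (a : A) (S T : Subobject a) : subMap F a S ≤ subMap F a T ↔ S ≤ T := by
  refine ⟨fun h => ?_, fun h => subMap_mono F a h⟩
  let k := Subobject.ofMkLEMk _ _ h
  have hk : k ≫ F.map T.arrow = F.map S.arrow := Subobject.ofMkLEMk_comp h
  have h0 : S.arrow ≫ cokernel.π T.arrow = 0 := by
    apply F.map_injective
    rw [F.map_comp, ← hk, Category.assoc, ← F.map_comp, cokernel.condition, F.map_zero,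
      F.map_zero, comp_zero]
  exact Subobject.le_of_comm (Abelian.monoLift T.arrow S.arrow h0) (Abelian.monoLift_comp _ _ _)

lemma subMap_injective (a : A) : Function.Injective (subMap F a) := by
  intro S T h
  exact le_antisymm ((subMap_le_iff F a S T).1 h.le) ((subMap_le_iff F a T S).1 h.ge)

lemma subMap_strictMono (a : A) : StrictMono (subMap F a) := by
  intro S T hST
  rw [lt_iff_le_not_ge] at hST ⊢
  exact ⟨(subMap_le_iff F a S T).2 hST.1, fun h => hST.2 ((subMap_le_iff F a T S).1 h)⟩

lemma isNoetherianObject_of_map (a : A) [IsNoetherianObject (F.obj a)] : IsNoetherianObject a := by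
  have : WellFoundedGT (Subobject (F.obj a)) := inferInstance
  have : WellFoundedGT (Subobject a) := (subMap_strictMono F a).wellFoundedGT
  exact ⟨this⟩

lemma small_subobject (a : A) [Small.{w} (Subobject (F.obj a))] : Small.{w} (Subobject a) :=
  small_of_injective (f := subMap F a) (subMap_injective F a)

include F in
lemma wellPowered [WellPowered.{w} B] : WellPowered.{w} A where
  subobject_small a := small_subobject F a

end SubMap

section PullbackColimit

attribute [local instance] IsFiltered.isConnected

variable {A : Type u₁} [Category.{w} A] [Abelian A] [HasColimitsOfSize.{w, w} A]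
  [AB5OfSize.{w, w} A]
  {J : Type w} [SmallCategory J] [IsFiltered J]
  {D : J ⥤ A} {c : Cocone D} (hc : IsColimit c) {X : A} (η : X ⟶ c.pt)

include hc in
/-- In an AB5 abelian category, pulling back a filtered colimit cocone along a map `η : X ⟶ c.pt`
gives a jointly epimorphic family over `X`. -/
theorem exists_pullback_family :
    ∃ (Φ : J ⥤ A) (p : Φ ⟶ (Functor.const J).obj X) (ℓ : Φ ⟶ D),
      (∀ j, p.app j ≫ η = ℓ.app j ≫ c.ι.app j) ∧
      ((∀ j, Mono (c.ι.app j)) → ∀ j, Mono (p.app j)) ∧
      (∀ {Y : A} (h : X ⟶ Y), (∀ j, p.app j ≫ h = 0) → h = 0) := by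
  let Δη : (Functor.const J).obj X ⟶ (Functor.const J).obj c.pt := (Functor.const J).map η
  let γ : D ⟶ (Functor.const J).obj c.pt := c.ι
  refine ⟨pullback Δη γ, pullback.fst Δη γ, pullback.snd Δη γ, ?_, ?_, ?_⟩
  · intro j
    have := congr_app (pullback.condition (f := Δη) (g := γ)) j
    simpa [Δη, γ] using this
  · intro hmono j
    have : Mono γ := NatTrans.mono_of_mono_app γ
    exact (NatTrans.mono_iff_mono_app (pullback.fst Δη γ)).1 inferInstance j
  · intro Y h hh
    have hpb : IsPullback (colim.map (pullback.fst Δη γ)) (colim.map (pullback.snd Δη γ))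
        (colim.map Δη) (colim.map γ) := (IsPullback.of_hasPullback Δη γ).map colim
    let e1 : colimit D ≅ c.pt := (colimit.isColimit D).coconePointUniqueUpToIso hc
    let e2 : colimit ((Functor.const J).obj c.pt) ≅ c.pt :=
      (colimit.isColimit _).coconePointUniqueUpToIso (isColimitConstCocone J c.pt)
    let e3 : colimit ((Functor.const J).obj X) ≅ X :=
      (colimit.isColimit _).coconePointUniqueUpToIso (isColimitConstCocone J X)
    have he2 : ∀ j, colimit.ι ((Functor.const J).obj c.pt) j ≫ e2.hom = 𝟙 _ := fun j =>
      IsColimit.comp_coconePointUniqueUpToIso_hom (colimit.isColimit _)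
        (isColimitConstCocone J c.pt) j
    have he3 : ∀ j, colimit.ι ((Functor.const J).obj X) j ≫ e3.hom = 𝟙 _ := fun j =>
      IsColimit.comp_coconePointUniqueUpToIso_hom (colimit.isColimit _)
        (isColimitConstCocone J X) j
    have hγ' : colim.map γ ≫ e2.hom = e1.hom := by
      apply colimit.hom_ext
      intro j
      rw [colim_map, ι_colimMap_assoc, he2 j, Category.comp_id]
      exact (IsColimit.comp_coconePointUniqueUpToIso_hom (colimit.isColimit D) hc j).symm
    have hγ : colim.map γ = e1.hom ≫ e2.inv := by
      rw [← hγ', Category.assoc, Iso.hom_inv_id, Category.comp_id]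
    have : IsIso (colim.map γ) := by rw [hγ]; infer_instance
    have : IsIso (colim.map (pullback.fst Δη γ)) := hpb.isIso_fst_of_isIso
    have h0 : (colim.map (pullback.fst Δη γ) ≫ e3.hom) ≫ h = 0 := by
      apply colimit.hom_ext
      intro j
      rw [Category.assoc, colim_map, ι_colimMap_assoc, ← Category.assoc (colimit.ι _ j) e3.hom h,
        he3 j, Category.id_comp, hh j, comp_zero]
    exact (cancel_epi (colim.map (pullback.fst Δη γ) ≫ e3.hom)).1 (h0.trans comp_zero.symm)

end PullbackColimit

end Groth.Agent.H99.FaithfulExact
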