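import Groth.Agent.H99.FaithfulExactA
import Groth.Agent.H16.NoethObj

set_option autoImplicit false
set_option linter.unusedSectionVars false
open CategoryTheory CategoryTheory.Limits

universe w u₁ u₂

namespace Groth.Agent.H99.FaithfulExact

section Sup

variable {B : Type u₂} [Category.{w} B] [Abelian B]

/-- The sup of two subobjects is a quotient of the coproduct. -/
lemma exists_epi_coprod_sup {Y : B} (P Q : Subobject Y) :
    ∃ f : (P : B) ⨿ (Q : B) ⟶ ((P ⊔ Q : Subobject Y) : B), Epi f := by
  refine ⟨coprod.desc (Subobject.ofLE P (P ⊔ Q) le_sup_left)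
    (Subobject.ofLE Q (P ⊔ Q) le_sup_right), ?_⟩
  apply Preadditive.epi_of_cancel_zero
  intro Z g hg
  have hP : Subobject.ofLE P (P ⊔ Q) le_sup_left ≫ g = 0 := by
    have := congrArg (fun k => coprod.inl ≫ k) hg
    simp only [comp_zero] at this
    rw [← Category.assoc, coprod.inl_desc] at this
    exact this
  have hQ : Subobject.ofLE Q (P ⊔ Q) le_sup_right ≫ g = 0 := by
    have := congrArg (fun k => coprod.inr ≫ k) hg
    simp only [comp_zero] at this
    rw [← Category.assoc, coprod.inr_desc] at this
    exact this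
  let K : Subobject Y := Subobject.mk (kernel.ι g ≫ (P ⊔ Q).arrow)
  have hPK : P ≤ K := by
    refine Subobject.le_mk_of_comm (kernel.lift g _ hP) ?_
    rw [kernel.lift_ι_assoc, Subobject.ofLE_arrow]
  have hQK : Q ≤ K := by
    refine Subobject.le_mk_of_comm (kernel.lift g _ hQ) ?_
    rw [kernel.lift_ι_assoc, Subobject.ofLE_arrow]
  have hle : P ⊔ Q ≤ K := sup_le hPK hQK
  let t := Subobject.ofLEMk _ _ hle
  have ht : t ≫ kernel.ι g ≫ (P ⊔ Q).arrow = (P ⊔ Q).arrow := Subobject.ofLEMk_comp hle
  have ht' : t ≫ kernel.ι g = 𝟙 _ := by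
    rw [← cancel_mono (P ⊔ Q).arrow, Category.assoc, ht, Category.id_comp]
  calc g = (t ≫ kernel.ι g) ≫ g := by rw [ht', Category.id_comp]
    _ = 0 := by rw [Category.assoc, kernel.condition, comp_zero]

end Sup

section BSide

/-- the family `s` is separating. -/
def Sep {B : Type u₂} [Category.{w} B] {ι : Type w} (s : ι → B) : Prop :=
  ∀ ⦃X Y : B⦄ (f g : X ⟶ Y), (∀ (i : ι) (h : s i ⟶ X), h ≫ f = h ≫ g) → f = g

lemma isSeparating_ofObj {B : Type u₂} [Category.{w} B] {ι : Type w} {s : ι → B}
    (hsep : Sep s) : (ObjectProperty.ofObj s).IsSeparating := by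
  intro X Y f g h
  apply hsep
  intro i k
  exact h (s i) ⟨i⟩ k

lemma isGrothendieckAbelian {B : Type u₂} [Category.{w} B] [Abelian B]
    [HasColimitsOfSize.{w, w} B] [AB5OfSize.{w, w} B] {ι : Type w} {s : ι → B}
    (hsep : Sep s) : IsGrothendieckAbelian.{w} B where
  hasSeparator := ⟨⟨∐ s, (isSeparating_ofObj hsep).isSeparator_coproduct⟩⟩

variable {B : Type u₂} [Category.{w} B] [Abelian B] [IsGrothendieckAbelian.{w} B]
  {ι : Type w} (s : ι → B)

/-- index category: finite sets of maps from the generators. -/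
abbrev JJ (Y : B) : Type w := Finset (Σ i : ι, s i ⟶ Y)

open Classical in
/-- the finitely generated subobject attached to a finite set of maps. -/
noncomputable def bS (Y : B) (S : JJ s Y) : Subobject Y :=
  S.sup (fun x => imageSubobject x.2)

lemma bS_mono (Y : B) : Monotone (bS s Y) := by
  intro S T h
  exact Finset.sup_mono h

variable {s}

lemma iSup_bS (hsep : Sep s) (Y : B) : ⨆ S, bS s Y S = ⊤ := by
  classical
  set T : Subobject Y := ⨆ S, bS s Y S with hT
  have h0 : cokernel.π T.arrow = 0 := by
    apply hsep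
    intro i h
    rw [comp_zero]
    have hle : imageSubobject h ≤ T := by
      have : bS s Y {⟨i, h⟩} = imageSubobject h := by simp [bS]
      rw [← this]
      exact le_iSup (bS s Y) _
    have : h = factorThruImageSubobject h ≫ Subobject.ofLE _ _ hle ≫ T.arrow := by
      rw [Subobject.ofLE_arrow, imageSubobject_arrow_comp]
    rw [this, Category.assoc, Category.assoc, cokernel.condition, comp_zero, comp_zero]
  have : Epi T.arrow := Abelian.epi_of_cokernel_π_eq_zero _ h0
  have : IsIso T.arrow := isIso_of_mono_of_epi _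
  exact Subobject.eq_top_of_isIso_arrow T

variable (s)

/-- the functor `S ↦ b_S` to `MonoOver Y`. -/
noncomputable def βF (Y : B) : JJ s Y ⥤ MonoOver Y :=
  (bS_mono s Y).functor ⋙ Subobject.representative

lemma subobjectMk_βF (Y : B) (S : JJ s Y) :
    Subobject.mk ((βF s Y).obj S).obj.hom = bS s Y S := by
  simp [βF]

lemma DD_obj_eq (Y : B) (S : JJ s Y) :
    (((βF s Y ⋙ MonoOver.forget Y) ⋙ Over.forget Y).obj S) = (bS s Y S : B) := rfl

/-- Induction principle for the objects `b_S`. -/
theorem bS_induction (motive : B → Prop)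
    (h0 : ∀ Z : B, IsZero Z → motive Z)
    (hstep : ∀ (i : ι) (Q Z : B) (f : s i ⨿ Q ⟶ Z), Epi f → motive Q → motive Z)
    (Y : B) (S : JJ s Y) : motive (bS s Y S : B) := by
  classical
  induction S using Finset.induction_on with
  | empty =>
    apply h0
    have : bS s Y ∅ = ⊥ := by simp [bS]
    rw [this]
    exact (isZero_zero B).of_iso Subobject.botCoeIsoZero
  | insert x T hx ih =>
    have : bS s Y (insert x T) = imageSubobject x.2 ⊔ bS s Y T := by simp [bS]
    rw [this]
    obtain ⟨f, hf⟩ := exists_epi_coprod_sup (imageSubobject x.2) (bS s Y T)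
    refine hstep x.1 _ _ (coprod.map (factorThruImageSubobject x.2) (𝟙 _) ≫ f) ?_ ih
    infer_instance

variable {s} in
lemma isNoetherianObject_bS (hsN : ∀ i, IsNoetherianObject (s i)) (Y : B) (S : JJ s Y) :
    IsNoetherianObject (bS s Y S : B) := by
  refine bS_induction s (fun Z => IsNoetherianObject Z) (fun Z hZ => isNoetherianObject_of_isZero hZ)
    ?_ Y S
  intro i Q Z f hf hQ
  have := hsN i
  have : IsNoetherianObject (s i ⨿ Q) :=
    ⟨(isNoetherianObject (C := B)).prop_coprod _ _ (hsN i).1 hQ.1⟩
  exact Groth.Agent.H16.NoethObj.isNoetherianObject_of_epi f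

instance (Y : B) : IsFiltered (JJ s Y) := by
  classical
  infer_instance

/-- the cocone (in `Over Y`) on the `b_S` with point `𝟙 Y`. -/
noncomputable def coconeOver (Y : B) : Cocone (βF s Y ⋙ MonoOver.forget Y) where
  pt := Over.mk (𝟙 Y)
  ι :=
    { app := fun S => Over.mkIdTerminal.from _
      naturality := fun _ _ _ => Over.mkIdTerminal.hom_ext _ _ }

instance (Y : B) : Mono (coconeOver s Y).pt.hom := by
  dsimp [coconeOver]; infer_instance

/-- the cocone in `B` with point `Y`. -/
noncomputable abbrev coconeB (Y : B) : Cocone ((βF s Y ⋙ MonoOver.forget Y) ⋙ Over.forget Y) :=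
  (Over.forget Y).mapCocone (coconeOver s Y)

variable {s}

/-- `Y` is the filtered colimit of its finitely generated subobjects. -/
noncomputable def isColimitCoconeB (hsep : Sep s) (Y : B) : IsColimit (coconeB s Y) := by
  apply IsGrothendieckAbelian.isColimitMapCoconeOfSubobjectMkEqISup
  have : Subobject.mk (coconeOver s Y).pt.hom = ⊤ := by
    dsimp [coconeOver]
    exact Subobject.mk_eq_top_of_isIso _
  rw [this, ← iSup_bS hsep Y]
  congr 1
  funext S
  exact (subobjectMk_βF s Y S).symm

lemma coconeB_ι_app (Y : B) (S : JJ s Y) :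
    (coconeB s Y).ι.app S = ((βF s Y).obj S).obj.hom := by
  have := Over.w ((coconeOver s Y).ι.app S)
  dsimp [coconeOver] at this ⊢
  simp at this ⊢

end BSide

end Groth.Agent.H99.FaithfulExact
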