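import Groth.Agent.H99.FaithfulExactB

set_option autoImplicit false
set_option linter.unusedSectionVars false
open CategoryTheory CategoryTheory.Limits

universe w u₁ u₂

namespace Groth.Agent.H99.FaithfulExact

section ASide

variable {A : Type u₁} [Category.{w} A] [Abelian A] [HasColimitsOfSize.{w, w} A]
  {B : Type u₂} [Category.{w} B] [Abelian B] [IsGrothendieckAbelian.{w} B]
  {F : A ⥤ B} {G : B ⥤ A} (adj : F ⊣ G) [F.Additive] [F.Faithful]
  [PreservesFiniteLimits F] [PreservesFiniteColimits F]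
  [PreservesFilteredColimitsOfSize.{w, w} G]
  {ι : Type w} {s : ι → B} (hsep : Sep s)

omit [Abelian A] [HasColimitsOfSize.{w, w} A] [Abelian B] [IsGrothendieckAbelian.{w} B]
  [F.Additive] [F.Faithful] [PreservesFiniteLimits F] [PreservesFiniteColimits F]
  [PreservesFilteredColimitsOfSize.{w, w} G] in
lemma transpose_fac {a X : A} {b : B} (pa : a ⟶ X) (la : a ⟶ G.obj b) (i : b ⟶ F.obj X)
    (h : pa ≫ adj.unit.app X = la ≫ G.map i) :
    (F.map la ≫ adj.counit.app b) ≫ i = F.map pa := by
  rw [Category.assoc, ← adj.counit_naturality i, ← F.map_comp_assoc, ← h, F.map_comp_assoc,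
    adj.left_triangle_components, Category.comp_id]

include adj in
lemma ab5' : AB5OfSize.{w, w} A := by
  have : PreservesColimitsOfSize.{w, w} F := adj.leftAdjoint_preservesColimits
  exact ab5 F

/-- the diagram of finitely generated subobjects of `Y`. -/
noncomputable abbrev DD (s : ι → B) (Y : B) : JJ s Y ⥤ B :=
  (βF s Y ⋙ MonoOver.forget Y) ⋙ Over.forget Y

include adj hsep in
/-- Key lemma: every object `X` of `A` is a filtered union of subobjects `Φ S` with
`F (Φ S) ↪ b_S` and `Φ S ↪ G b_S`. -/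
theorem key (X : A) :
    ∃ (Φ : JJ s (F.obj X) ⥤ A) (p : Φ ⟶ (Functor.const _).obj X),
      (∀ S, Mono (p.app S)) ∧
      (∀ S, ∃ m : F.obj (Φ.obj S) ⟶ (DD s (F.obj X)).obj S, Mono m) ∧
      (∀ S, ∃ ℓ : Φ.obj S ⟶ G.obj ((DD s (F.obj X)).obj S), Mono ℓ) ∧
      (∀ {Y : A} (h : X ⟶ Y), (∀ S, p.app S ≫ h = 0) → h = 0) := by
  have := ab5' adj
  let Y := F.obj X
  let cB := coconeB s Y
  let hcB : IsColimit cB := isColimitCoconeB hsep Y
  let cA : Cocone (DD s Y ⋙ G) := G.mapCocone cB
  let hcA : IsColimit cA := isColimitOfPreserves G hcB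
  let η : X ⟶ cA.pt := adj.unit.app X
  have hη : Mono η := inferInstanceAs (Mono (adj.unit.app X))
  have hGmono : ∀ S, Mono (cA.ι.app S) := by
    intro S
    have : PreservesLimitsOfSize.{0, 0} G := adj.rightAdjoint_preservesLimits
    have : G.PreservesMonomorphisms := inferInstance
    have : Mono (cB.ι.app S) := by
      rw [coconeB_ι_app]; exact ((βF s Y).obj S).property
    exact inferInstanceAs (Mono (G.map (cB.ι.app S)))
  obtain ⟨Φ, p, ℓ, h1, h2, h3⟩ := exists_pullback_family hcA η
  have hp := h2 hGmono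
  refine ⟨Φ, p, hp, ?_, ?_, fun h hh => h3 h hh⟩
  · intro S
    have := hp S
    let m : F.obj (Φ.obj S) ⟶ (DD s Y).obj S :=
      F.map (ℓ.app S) ≫ adj.counit.app ((DD s Y).obj S)
    have hm : m ≫ cB.ι.app S = F.map (p.app S) :=
      transpose_fac adj (p.app S) (ℓ.app S) (cB.ι.app S) (h1 S)
    have : F.PreservesMonomorphisms := inferInstance
    have hpS : Mono (p.app S) := hp S
    have : Mono (m ≫ cB.ι.app S) := by
      rw [hm]; exact @Functor.map_mono _ _ _ _ F _ _ _ (p.app S) hpS
    exact ⟨m, mono_of_mono m (cB.ι.app S)⟩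
  · intro S
    have := hp S
    have : Mono (ℓ.app S ≫ cA.ι.app S) := by rw [← h1 S]; infer_instance
    exact ⟨ℓ.app S, mono_of_mono (ℓ.app S) (cA.ι.app S)⟩

include adj hsep in
/-- A noetherian object of `A` has noetherian image under `F` (when the generators `s i`
are noetherian). -/
theorem isNoetherianObject_map (hsN : ∀ i, IsNoetherianObject (s i)) (a : A)
    [IsNoetherianObject a] : IsNoetherianObject (F.obj a) := by
  classical
  obtain ⟨Φ, p, hp, hm, -, hepi⟩ := key adj hsep a
  let r : JJ s (F.obj a) → Subobject a := fun S => Subobject.mk (p.app S)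
  have hr : Monotone r := by
    intro S T hST
    refine Subobject.mk_le_mk_of_comm (Φ.map (homOfLE hST)) ?_
    simp
  obtain ⟨x, ⟨S₀, rfl⟩, hmax⟩ := wellFounded_gt.has_min (Set.range r) ⟨_, ⟨∅, rfl⟩⟩
  have hle : ∀ S, r S ≤ r S₀ := by
    intro S
    have h1 : r S ≤ r (S ∪ S₀) := hr Finset.subset_union_left
    have h2 : r S₀ ≤ r (S ∪ S₀) := hr Finset.subset_union_right
    have h3 : ¬ r (S ∪ S₀) > r S₀ := hmax _ ⟨_, rfl⟩
    have h4 : r (S ∪ S₀) = r S₀ := by
      by_contra hne
      exact h3 (lt_of_le_of_ne h2 (Ne.symm hne))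
    rw [← h4]; exact h1
  have hepi₀ : Epi (p.app S₀) := by
    apply Preadditive.epi_of_cancel_zero
    intro Z g hg
    apply hepi
    intro S
    have := Subobject.ofMkLEMk_comp (hle S)
    rw [← this, Category.assoc, hg, comp_zero]
  have hiso : IsIso (p.app S₀) := isIso_of_mono_of_epi _
  obtain ⟨m, hmono⟩ := hm S₀
  have : IsNoetherianObject ((DD s (F.obj a)).obj S₀) := isNoetherianObject_bS hsN _ S₀
  have : IsIso (F.map (p.app S₀)) := inferInstance
  exact isNoetherianObject_of_mono (inv (F.map (p.app S₀)) ≫ m)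

end ASide

end Groth.Agent.H99.FaithfulExact
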