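import Groth.Agent.H99.FaithfulExactC

set_option autoImplicit false
set_option linter.unusedSectionVars false
open CategoryTheory CategoryTheory.Limits ZeroObject

universe w u₁ u₂

namespace Groth.Agent.H99.FaithfulExact

section Quot

variable {B : Type u₂} [Category.{w} B] [Abelian B]

/-- every quotient is the cokernel of a subobject. -/
lemma quot_iso {P Z : B} (ρ : P ⟶ Z) [Epi ρ] :
    ∃ K : Subobject P, Nonempty (cokernel K.arrow ≅ Z) := by
  refine ⟨kernelSubobject ρ, ⟨?_⟩⟩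
  exact cokernelIsoOfEq (kernelSubobject_arrow ρ).symm ≪≫ cokernelEpiComp _ _ ≪≫
    asIso (Abelian.factorThruCoimage ρ)

variable {ι : Type w} (s : ι → B)

/-- iterated coproducts of generators indexed by a list. -/
noncomputable def PL : List ι → B
  | [] => 0
  | i :: L => s i ⨿ PL L

variable [IsGrothendieckAbelian.{w} B]

lemma bS_quot (Y : B) (S : JJ s Y) :
    ∃ (L : List ι) (ρ : PL s L ⟶ (bS s Y S : B)), Epi ρ := by
  refine bS_induction s (fun Z => ∃ (L : List ι) (ρ : PL s L ⟶ Z), Epi ρ) ?_ ?_ Y S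
  · intro Z hZ
    exact ⟨[], 0, ⟨fun g h _ => hZ.eq_of_src g h⟩⟩
  · rintro i Q Z f hf ⟨L, ρ, hρ⟩
    have h1 : Epi (coprod.map (𝟙 (s i)) ρ) := coprod.map_epi _ _
    refine ⟨i :: L, (coprod.map (𝟙 (s i)) ρ ≫ f : s i ⨿ PL s L ⟶ Z), ?_⟩
    exact @epi_comp _ _ _ _ _ _ h1 f hf

end Quot

section Family

variable {A : Type u₁} [Category.{w} A] [Abelian A] [WellPowered.{w} A]
  {B : Type u₂} [Category.{w} B] [Abelian B] [IsGrothendieckAbelian.{w} B]
  (G : B ⥤ A) {ι : Type w} (s : ι → B)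

/-- index type for quotients of finite coproducts of generators. -/
abbrev K0 : Type w := Σ L : List ι, Shrink.{w} (Subobject (PL s L))

/-- the quotient attached to an index. -/
noncomputable def bq (k : K0 s) : B :=
  cokernel ((equivShrink.{w} (Subobject (PL s k.1))).symm k.2).arrow

/-- index type for the small family in `A`. -/
abbrev K1 : Type w := Σ k : K0 s, Shrink.{w} (Subobject (G.obj (bq s k)))

/-- the small family in `A`: subobjects of `G` of quotients of finite coproducts of generators. -/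
noncomputable def tt (k : K1 G s) : A :=
  (((equivShrink.{w} (Subobject (G.obj (bq s k.1)))).symm k.2 : Subobject (G.obj (bq s k.1))) : A)

lemma exists_iso_tt {a : A} {b : B} (ℓ : a ⟶ G.obj b) [Mono ℓ]
    (hb : ∃ (L : List ι) (ρ : PL s L ⟶ b), Epi ρ) :
    ∃ k : K1 G s, Nonempty (a ≅ tt G s k) := by
  obtain ⟨L, ρ, hρ⟩ := hb
  obtain ⟨K, ⟨e⟩⟩ := quot_iso ρ
  obtain ⟨K', rfl⟩ : ∃ K' : Shrink.{w} (Subobject (PL s L)),
      (equivShrink.{w} (Subobject (PL s L))).symm K' = K :=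
    ⟨equivShrink.{w} _ K, by simp⟩
  let k₀ : K0 s := ⟨L, K'⟩
  let ℓ' : a ⟶ G.obj (bq s k₀) := ℓ ≫ G.map e.inv
  have hm : Mono (G.map e.inv) := inferInstance
  have : Mono ℓ' := @mono_comp _ _ _ _ _ ℓ _ (G.map e.inv) hm
  obtain ⟨T', hT'⟩ : ∃ T' : Shrink.{w} (Subobject (G.obj (bq s k₀))),
      (equivShrink.{w} (Subobject (G.obj (bq s k₀)))).symm T' = Subobject.mk ℓ' :=
    ⟨equivShrink.{w} _ (Subobject.mk ℓ'), by simp⟩
  refine ⟨⟨k₀, T'⟩, ⟨?_⟩⟩
  refine (Subobject.underlyingIso ℓ').symm ≪≫ eqToIso ?_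
  dsimp only [tt]
  rw [hT']

end Family

section Final

variable {A : Type u₁} [Category.{w} A] [Abelian A] [HasColimitsOfSize.{w, w} A]
  {B : Type u₂} [Category.{w} B] [Abelian B] [IsGrothendieckAbelian.{w} B]
  {F : A ⥤ B} {G : B ⥤ A} (adj : F ⊣ G) [F.Additive] [F.Faithful]
  [PreservesFiniteLimits F] [PreservesFiniteColimits F]
  [PreservesFilteredColimitsOfSize.{w, w} G]
  {ι : Type w} {s : ι → B} (hsep : Sep s)

include adj hsep in
/-- the small family `tt` is separating in `A`; moreover it suffices to use the members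
satisfying any property `Pr` which holds for all objects `a` with `F a ↪ b_S`. -/
theorem sep_tt [WellPowered.{w} A] (Pr : A → Prop)
    (hPr : ∀ (a a' : A) (Y : B) (S : JJ s Y) (m : F.obj a ⟶ (bS s Y S : B)), Mono m →
      (a ≅ a') → Pr a') :
    Sep (fun k : {k : K1 G s // Pr (tt G s k)} => tt G s k.1) := by
  intro X Y f g h
  rw [← sub_eq_zero]
  obtain ⟨Φ, p, hp, hm, hℓ, hepi⟩ := key adj hsep X
  apply hepi
  intro S
  obtain ⟨ℓ, hℓmono⟩ := hℓ S
  obtain ⟨m, hmmono⟩ := hm S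
  obtain ⟨k, ⟨e⟩⟩ := exists_iso_tt G s ℓ (bS_quot s _ S)
  have hk : Pr (tt G s k) := hPr _ _ _ S m hmmono e
  have := h ⟨k, hk⟩ (e.inv ≫ p.app S)
  rw [Category.assoc, Category.assoc, cancel_epi] at this
  rw [Preadditive.comp_sub, sub_eq_zero]
  exact this

include adj in
theorem wellPowered' : WellPowered.{w} A := wellPowered F

end Final

end Groth.Agent.H99.FaithfulExact
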