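import Mathlib
import Groth.Agent.H99.RkGen
import Groth.Agent.H12.Constr

/-!
# The fibrewise closure of a subset (helper99; for S3427, S3428; EGA IV 9.5.1)

`FibCl f Z x`: the point `x` lies in the closure of `Z ∩ f⁻¹(f x)`. We prove invariance under base
change and open immersions, and that over an irreducible Noetherian base, for `Z` constructible,
the fibrewise closure coincides with the closure of `Z` over a nonempty open of the base.
-/

set_option autoImplicit false
set_option backward.isDefEq.respectTransparency.types false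
set_option linter.style.haveILetI false
set_option linter.unusedSectionVars false
universe u

open AlgebraicGeometry CategoryTheory CategoryTheory.Limits TopologicalSpace Topology

namespace Groth.Agent.H99.FibClosure

open Groth.Agent.H99.FibEqui Groth.Agent.H99.FibEquiGen Groth.Agent.H99.RkGen

variable {X S : Scheme.{u}}

/-- `x` lies in the closure of the trace of `Z` on the fibre of `f` through `x`. -/
def FibCl : ∀ ⦃X S : Scheme.{u}⦄, (X ⟶ S) → Set X → X → Prop := fun _ _ f Z x =>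
  x ∈ closure (Z ∩ f ⁻¹' {f x})

section BaseChange

variable {X' S' : Scheme.{u}} (f : X ⟶ S) (f' : X' ⟶ S') (g' : X' ⟶ X) (g : S' ⟶ S)
  (h : IsPullback g' f' f g)

include h in
/-- the map induced on fibres by a base change is open (for the topology induced by the ambient
spaces). -/
theorem exists_isOpen_image_fibre (s' : S') (W' : Set X') (hW' : IsOpen W') :
    ∃ O : Set X, IsOpen O ∧ g' '' (W' ∩ f' ⁻¹' {s'}) = O ∩ f ⁻¹' {g s'} := by
  let c : f'.fiber s' ⟶ f.fiber (g s') :=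
    pullback.map f' (S'.fromSpecResidueField s') f (S.fromSpecResidueField (g s')) g'
      (Spec.map (g.residueFieldMap s')) g h.w.symm (by simp)
  have hsq : IsPullback c (f'.fiberToSpecResidueField s') (f.fiberToSpecResidueField (g s'))
      (Spec.map (g.residueFieldMap s')) := isPullback_fiberToSpecResidueField_of_isPullback h s'
  haveI : UniversallyOpen (Spec.map (g.residueFieldMap s')) := inferInstance
  haveI : UniversallyOpen c := MorphismProperty.of_isPullback (P := @UniversallyOpen) hsq.flip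
    inferInstance
  have hcι : c ≫ f.fiberι (g s') = f'.fiberι s' ≫ g' := pullback.lift_fst _ _ _
  have hcι' : ∀ t : f'.fiber s', f.fiberι (g s') (c t) = g' (f'.fiberι s' t) := fun t => by
    change (c ≫ f.fiberι (g s')) t = (f'.fiberι s' ≫ g') t
    rw [hcι]
  have hV : IsOpen (c '' ((f'.fiberι s') ⁻¹' W')) :=
    c.isOpenMap _ (hW'.preimage (f'.fiberι s').continuous)
  obtain ⟨O, hO, hOV⟩ := (f.fiberι (g s')).isEmbedding.isInducing.isOpen_iff.mp hV
  refine ⟨O, hO, ?_⟩
  ext y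
  constructor
  · rintro ⟨x', ⟨hx'W, hx's⟩, rfl⟩
    obtain ⟨t, rfl⟩ := mem_range_fiberι f' s' x' hx's
    refine ⟨?_, ?_⟩
    · have : c t ∈ (f.fiberι (g s')) ⁻¹' O := by
        rw [hOV]; exact ⟨t, hx'W, rfl⟩
      rw [← hcι']
      exact this
    · rw [Set.mem_preimage, Set.mem_singleton_iff, comm_apply f f' g' g h, show f' _ = s' from hx's]
  · rintro ⟨hyO, hys⟩
    obtain ⟨t, rfl⟩ := mem_range_fiberι f (g s') y hys
    have : t ∈ c '' ((f'.fiberι s') ⁻¹' W') := by rw [← hOV]; exact hyO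
    obtain ⟨t', ht'W, rfl⟩ := this
    refine ⟨f'.fiberι s' t', ⟨ht'W, Groth.Agent.H48.CycFib.map_fiberι f' s' t'⟩, ?_⟩
    rw [hcι']

include h in
/-- **Base change invariance** of the fibrewise closure. -/
theorem fibCl_baseChange (Z : Set X) (x' : X') :
    FibCl f' (g' ⁻¹' Z) x' ↔ FibCl f Z (g' x') := by
  unfold FibCl
  have hfx : f (g' x') = g (f' x') := comm_apply f f' g' g h x'
  constructor
  · intro hx'
    have h1 : g' x' ∈ g' '' closure (g' ⁻¹' Z ∩ f' ⁻¹' {f' x'}) := ⟨x', hx', rfl⟩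
    have h2 := image_closure_subset_closure_image g'.continuous h1
    refine closure_mono ?_ h2
    rintro _ ⟨z, ⟨hzZ, hzs⟩, rfl⟩
    refine ⟨hzZ, ?_⟩
    rw [Set.mem_preimage, Set.mem_singleton_iff, comm_apply f f' g' g h, show f' z = f' x' from hzs,
      hfx]
  · intro hx
    rw [mem_closure_iff]
    intro W' hW' hx'W'
    obtain ⟨O, hO, hOeq⟩ := exists_isOpen_image_fibre f f' g' g h (f' x') W' hW'
    have hgx : g' x' ∈ O := by
      have : g' x' ∈ g' '' (W' ∩ f' ⁻¹' {f' x'}) := ⟨x', ⟨hx'W', rfl⟩, rfl⟩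
      rw [hOeq] at this
      exact this.1
    obtain ⟨t, htO, htZ, hts⟩ := mem_closure_iff.mp hx O hO hgx
    have : t ∈ g' '' (W' ∩ f' ⁻¹' {f' x'}) := by
      rw [hOeq]
      refine ⟨htO, ?_⟩
      rw [Set.mem_preimage, Set.mem_singleton_iff, show f t = f (g' x') from hts, hfx]
    obtain ⟨w', ⟨hw'W, hw's⟩, rfl⟩ := this
    exact ⟨w', hw'W, htZ, hw's⟩

end BaseChange

section OpenImm

variable {U : Scheme.{u}} (j : U ⟶ X) [IsOpenImmersion j] (f : X ⟶ S)

/-- **Invariance under open immersions into the source.** -/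
theorem fibCl_openImm (Z : Set X) (u : U) : FibCl (j ≫ f) (j ⁻¹' Z) u ↔ FibCl f Z (j u) := by
  unfold FibCl
  have h1 : j ⁻¹' Z ∩ (j ≫ f) ⁻¹' {(j ≫ f) u} = j ⁻¹' (Z ∩ f ⁻¹' {f (j u)}) := by
    ext t
    simp only [Set.mem_inter_iff, Set.mem_preimage, Set.mem_singleton_iff, Scheme.Hom.comp_apply]
  rw [h1, ← j.isOpenEmbedding.isOpenMap.preimage_closure_eq_closure_preimage j.continuous]
  rfl

end OpenImm

section Generic

variable (f : X ⟶ S) [IsNoetherian S] [IrreducibleSpace S] [LocallyOfFiniteType f] [QuasiCompact f]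

/-- **EGA IV 9.5.1**: over a nonempty open of the base, the fibrewise closure of a constructible
set is its closure. -/
theorem exists_open_fibCl_iff (Z : Set X) (hZ : IsConstructible Z) :
    ∃ U₀ : S.Opens, genericPoint S ∈ U₀ ∧
      ∀ x : X, f x ∈ U₀ → (FibCl f Z x ↔ x ∈ closure Z) := by
  haveI : IsLocallyNoetherian X := LocallyOfFiniteType.isLocallyNoetherian f
  haveI : CompactSpace X := QuasiCompact.compactSpace_of_compactSpace f
  haveI : IsNoetherian X := {}
  haveI : NoetherianSpace X := inferInstance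
  suffices H : ∃ U₀ : S.Opens, genericPoint S ∈ U₀ ∧
      ∀ x : X, f x ∈ U₀ → x ∈ closure Z → FibCl f Z x by
    obtain ⟨U₀, hη, hU₀⟩ := H
    exact ⟨U₀, hη, fun x hx => ⟨fun hc => closure_mono Set.inter_subset_left hc, hU₀ x hx⟩⟩
  refine Groth.Agent.H12.constructible_induction
    (P := fun Z => ∃ U₀ : S.Opens, genericPoint S ∈ U₀ ∧
      ∀ x : X, f x ∈ U₀ → x ∈ closure Z → FibCl f Z x) ?_ ?_ hZ
  · -- the locally closed case
    intro O V hO hV
    obtain ⟨ℱ, hℱf, hℱc, hℱi, hℱU⟩ :=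
      NoetherianSpace.exists_finite_set_isClosed_irreducible hV.isClosed_compl
    have hD : ∀ F ∈ ℱ, ∃ 𝒟 : Set (Set X), 𝒟.Finite ∧ (∀ D ∈ 𝒟, IsClosed D) ∧
        (∀ D ∈ 𝒟, IsIrreducible D) ∧ F \ O = ⋃₀ 𝒟 := fun F hF =>
      NoetherianSpace.exists_finite_set_isClosed_irreducible
        ((hℱc F hF).sdiff hO)
    choose! 𝒟 h𝒟f h𝒟c h𝒟i h𝒟U using hD
    let 𝒜 : Set (Set X) := ℱ ∪ ⋃ F ∈ ℱ, 𝒟 F
    have h𝒜f : 𝒜.Finite := hℱf.union (hℱf.biUnion fun F hF => h𝒟f F hF)
    have h𝒜i : ∀ C ∈ 𝒜, IsIrreducible C := by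
      rintro C (hC | hC)
      · exact hℱi C hC
      · simp only [Set.mem_iUnion, exists_prop] at hC
        obtain ⟨F, hF, hCF⟩ := hC
        exact h𝒟i F hF C hCF
    have h𝒜c : ∀ C ∈ 𝒜, IsClosed C := by
      rintro C (hC | hC)
      · exact hℱc C hC
      · simp only [Set.mem_iUnion, exists_prop] at hC
        obtain ⟨F, hF, hCF⟩ := hC
        exact h𝒟c F hF C hCF
    obtain ⟨e, U₀, hη, -, c3⟩ := exists_generic_data f 𝒜 h𝒜f h𝒜i h𝒜c
    refine ⟨U₀, hη, fun x hx hxcl => ?_⟩
    -- `x` lies in a member `F` meeting `O`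
    have hOV : O \ V = ⋃ F ∈ ℱ, O ∩ F := by
      ext t
      simp only [Set.mem_sdiff, Set.mem_iUnion, Set.mem_inter_iff, exists_prop]
      constructor
      · rintro ⟨htO, htV⟩
        have : t ∈ ⋃₀ ℱ := hℱU ▸ htV
        obtain ⟨F, hF, htF⟩ := this
        exact ⟨F, hF, htO, htF⟩
      · rintro ⟨F, hF, htO, htF⟩
        refine ⟨htO, ?_⟩
        have : t ∈ Vᶜ := by rw [hℱU]; exact ⟨F, hF, htF⟩
        exact this
    obtain ⟨F, hF, hxF, hne⟩ : ∃ F ∈ ℱ, x ∈ F ∧ (O ∩ F).Nonempty := by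
      rw [hOV, hℱf.closure_biUnion] at hxcl
      simp only [Set.mem_iUnion, exists_prop] at hxcl
      obtain ⟨F, hF, hxF⟩ := hxcl
      refine ⟨F, hF, ?_, ?_⟩
      · exact closure_minimal Set.inter_subset_right (hℱc F hF) hxF
      · by_contra hemp
        rw [Set.not_nonempty_iff_eq_empty] at hemp
        rw [hemp, closure_empty] at hxF
        exact hxF
    obtain ⟨ξ, hξm, hξx, hfξ⟩ := exists_relMax_specializes' f F (hℱc F hF) x hxF
    have hfξU : f ξ ∈ (U₀ : Set S) := by rw [hfξ]; exact hx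
    have hξO : ξ ∈ O := by
      by_contra hξO
      have hξD : ξ ∈ F \ O := ⟨hξm.1, hξO⟩
      rw [h𝒟U F hF] at hξD
      obtain ⟨D, hD, hξD'⟩ := hξD
      have hDA : D ∈ 𝒜 := Or.inr (by
        simp only [Set.mem_iUnion, exists_prop]; exact ⟨F, hF, hD⟩)
      have hFD : F ⊆ D := c3 F (Or.inl hF) D hDA ξ hξm hfξU hξD'
      obtain ⟨t, htO, htF⟩ := hne
      have : t ∈ F \ O := by rw [h𝒟U F hF]; exact ⟨D, hD, hFD htF⟩
      exact this.2 htO
    have hξV : ξ ∉ V := by
      have : ξ ∈ Vᶜ := by rw [hℱU]; exact ⟨F, hF, hξm.1⟩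
      exact this
    unfold FibCl
    have hmem : ξ ∈ (O \ V) ∩ f ⁻¹' {f x} := ⟨⟨hξO, hξV⟩, hfξ⟩
    exact closure_mono (Set.singleton_subset_iff.mpr hmem) hξx.mem_closure
  · -- unions
    rintro s t ⟨Us, hηs, hs⟩ ⟨Ut, hηt, ht⟩
    refine ⟨Us ⊓ Ut, ⟨hηs, hηt⟩, fun x hx hxcl => ?_⟩
    rw [closure_union] at hxcl
    unfold FibCl at *
    rcases hxcl with hxs | hxt
    · exact closure_mono (Set.inter_subset_inter_left _ Set.subset_union_left) (hs x hx.1 hxs)
    · exact closure_mono (Set.inter_subset_inter_left _ Set.subset_union_right) (ht x hx.2 hxt)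

/-- **Generic constructibility** of the fibrewise closure. -/
theorem generic (Z : Set X) (hZ : IsConstructible Z) :
    ∃ U : S.Opens, (U : Set S).Nonempty ∧
      IsConstructible ({x : X | FibCl f Z x} ∩ f ⁻¹' (U : Set S)) := by
  haveI : IsLocallyNoetherian X := LocallyOfFiniteType.isLocallyNoetherian f
  haveI : CompactSpace X := QuasiCompact.compactSpace_of_compactSpace f
  haveI : IsNoetherian X := {}
  haveI : NoetherianSpace X := inferInstance
  obtain ⟨U₀, hη, hU₀⟩ := exists_open_fibCl_iff f Z hZ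
  refine ⟨U₀, ⟨_, hη⟩, ?_⟩
  have key : {x : X | FibCl f Z x} ∩ f ⁻¹' (U₀ : Set S) = closure Z ∩ f ⁻¹' (U₀ : Set S) := by
    ext x
    simp only [Set.mem_inter_iff, Set.mem_ofPred_eq, Set.mem_preimage]
    exact and_congr_left fun hx => hU₀ x hx
  rw [key]
  exact (Groth.Agent.H12.isConstructible_of_isClosed isClosed_closure).inter
    (Groth.Agent.H12.isConstructible_of_isOpen (U₀.2.preimage f.continuous))

end Generic

end Groth.Agent.H99.FibClosure
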