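import Mathlib
import Groth.Agent.H99.CodepthOpenM

/-!
# From openness on the source to openness on the base for closed morphisms (helper99)

For a closed map `f : X ⟶ Y` and a pointwise fibre property `FibMP P f F` defining an open subset
of `X`, the set of `y` such that `P` holds at all points of the fibre `X_y` is open in `Y`
(EGA IV 12.2.1 from 12.1.1).
-/

set_option autoImplicit false
set_option backward.isDefEq.respectTransparency.types false
set_option linter.style.haveILetI false
set_option linter.unusedSectionVars false
universe u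

open AlgebraicGeometry CategoryTheory CategoryTheory.Limits TopologicalSpace Topology

namespace Groth.Agent.H99.FibModProper

open Groth.Agent.H99.ModPair Groth.Agent.H99.FibModProp

variable {P : ∀ (R : Type u) [CommRing R] (M : Type u) [AddCommGroup M] [Module R M], Prop}
  {X Y : Scheme.{u}}

theorem fiberι_apply (f : X ⟶ Y) (y : Y) (x' : f.fiber y) : f (f.fiberι y x') = y := by
  have hmem : f.fiberι y x' ∈ Set.range (f.fiberι y) := ⟨x', rfl⟩
  rw [f.range_fiberι y] at hmem
  exact hmem

/-- the set of points of the base all of whose fibre points satisfy `P`. -/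
theorem setOf_forall_fiber_eq (f : X ⟶ Y) (F : X.Modules) :
    {y : Y | ∀ x' : f.fiber y, P ((f.fiber y).presheaf.stalk x')
      (((Scheme.Modules.pullback (f.fiberι y)).obj F).presheaf.stalk x')} =
    (f '' {x : X | FibMP P f F x}ᶜ)ᶜ := by
  ext y
  simp only [Set.mem_ofPred_eq, Set.mem_compl_iff, Set.mem_image, not_exists, not_and]
  constructor
  · intro hy x hx hxy
    subst hxy
    exact hx (hy (f.asFiber x))
  · intro hy x'
    have hfx : f (f.fiberι y x') = y := fiberι_apply f y x'
    have h1 : FibMP P f F (f.fiberι y x') := by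
      by_contra hcon
      exact hy (f.fiberι y x') hcon hfx
    exact (fiber_stalk_iff_asFiber (P := P) f F (f.fiberι y x') y hfx x' rfl).mpr h1

/-- **closed maps**: openness on the source gives openness on the base. -/
theorem isOpen_setOf_forall_fiber (f : X ⟶ Y) (hcl : IsClosedMap f) (F : X.Modules)
    (h : IsOpen {x : X | FibMP P f F x}) :
    IsOpen {y : Y | ∀ x' : f.fiber y, P ((f.fiber y).presheaf.stalk x')
      (((Scheme.Modules.pullback (f.fiberι y)).obj F).presheaf.stalk x')} := by
  rw [setOf_forall_fiber_eq]
  exact (hcl _ h.isClosed_compl).isOpen_compl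

/-- unfolding of the codepth condition at a point of a fibre. -/
theorem codepthLEM_fiber_iff (n : ℕ) (f : X ⟶ Y) [LocallyOfFiniteType f] (F : X.Modules)
    (hF : Coh.IsCoh F) (y : Y) (x' : f.fiber y) :
    CodepthLEM n ((f.fiber y).presheaf.stalk x')
        (((Scheme.Modules.pullback (f.fiberι y)).obj F).presheaf.stalk x') ↔
      Module.supportDim ((f.fiber y).presheaf.stalk x')
          (((Scheme.Modules.pullback (f.fiberι y)).obj F).presheaf.stalk x') ≤
        ((LocCoh.depth ((f.fiber y).presheaf.stalk x')
          (((Scheme.Modules.pullback (f.fiberι y)).obj F).presheaf.stalk x') : ℕ∞) :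
            WithBot ℕ∞) + n := by
  haveI := Groth.Agent.H49.CMChart.isLocallyNoetherian_fiber f y
  haveI := Groth.Agent.H13.finite_stalk_of_isCoh _ (isCoh_pullback (f.fiberι y) F hF) x'
  exact ⟨fun h => h, fun h _ _ _ => h⟩

/-- codepth `≤ 0` means zero or Cohen–Macaulay. -/
theorem codepth_zero_iff_cm (R : Type u) [CommRing R] [IsLocalRing R] [IsNoetherianRing R]
    (M : Type u) [AddCommGroup M] [Module R M] [Module.Finite R M] :
    Module.supportDim R M ≤ ((LocCoh.depth R M : ℕ∞) : WithBot ℕ∞) + (0 : ℕ) ↔
      (Subsingleton M ∨ LocCoh.IsCohenMacaulayModule R M) := by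
  unfold LocCoh.IsCohenMacaulayModule
  constructor
  · intro h1
    rcases subsingleton_or_nontrivial M with h2 | h2
    · exact Or.inl h2
    · right
      refine le_antisymm ?_ (Groth.Agent.H29.CML.depth_le_supportDim _)
      simpa using h1
  · rintro (h1 | h1)
    · rw [(Module.supportDim_eq_bot_iff_subsingleton _ _).mpr h1]
      exact bot_le
    · rw [h1]
      simp

/-- the Cohen–Macaulay condition at a point of a fibre, as a codepth condition. -/
theorem codepthLEM_zero_fiber_iff (f : X ⟶ Y) [LocallyOfFiniteType f] (F : X.Modules)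
    (hF : Coh.IsCoh F) (y : Y) (x' : f.fiber y) :
    CodepthLEM 0 ((f.fiber y).presheaf.stalk x')
        (((Scheme.Modules.pullback (f.fiberι y)).obj F).presheaf.stalk x') ↔
      (Subsingleton (((Scheme.Modules.pullback (f.fiberι y)).obj F).presheaf.stalk x') ∨
        LocCoh.IsCohenMacaulayModule ((f.fiber y).presheaf.stalk x')
          (((Scheme.Modules.pullback (f.fiberι y)).obj F).presheaf.stalk x')) := by
  rw [codepthLEM_fiber_iff 0 f F hF y x']
  haveI := Groth.Agent.H49.CMChart.isLocallyNoetherian_fiber f y
  haveI := Groth.Agent.H13.finite_stalk_of_isCoh _ (isCoh_pullback (f.fiberι y) F hF) x'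
  exact codepth_zero_iff_cm _ _

end Groth.Agent.H99.FibModProper
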