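import Mathlib
import Groth.Agent.H48.DimIneq
import Groth.Agent.H17.DimIneq

/-!
# Fibre dimension over a point with Noetherian local ring (helper99; for S1553, S1554)

Ring-level: `R₀ → C` of finite type, `p` a prime of `R₀` with `(R₀)_p` Noetherian.  We localise at
`p` and apply the dimension inequality `Groth.Agent.H48.DimIneq.height_add_trdeg_le`.
-/

set_option autoImplicit false
set_option linter.style.haveILetI false
set_option linter.unusedSectionVars false
universe u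

namespace Groth.Agent.H99.FibreDimLoc

open Algebra Groth.Agent.H48.DimIneq

attribute [local instance] FractionRing.liftAlgebra

section Ev₀

variable (C : Type u) [CommRing C] (P : Ideal C) [P.IsPrime]

/-- evaluation `C → Frac (C/P)` -/
noncomputable def ev₀ : C →+* FractionRing (C ⧸ P) :=
  (algebraMap (C ⧸ P) (FractionRing (C ⧸ P))).comp (Ideal.Quotient.mk P)

theorem ev₀_eq_zero_iff (c : C) : ev₀ C P c = 0 ↔ c ∈ P := by
  rw [ev₀, RingHom.comp_apply, map_eq_zero_iff _ (IsFractionRing.injective _ _),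
    Ideal.Quotient.eq_zero_iff_mem]

theorem ker_ev₀ : RingHom.ker (ev₀ C P) = P := by
  ext c
  rw [RingHom.mem_ker, ev₀_eq_zero_iff]

theorem isFrac_ev₀ : IsFrac (ev₀ C P) := by
  intro y
  obtain ⟨a', s', hs', rfl⟩ := IsFractionRing.div_surjective (A := C ⧸ P) y
  obtain ⟨a, rfl⟩ := Ideal.Quotient.mk_surjective a'
  obtain ⟨s, rfl⟩ := Ideal.Quotient.mk_surjective s'
  have hs0 : ev₀ C P s ≠ 0 := by
    change algebraMap (C ⧸ P) (FractionRing (C ⧸ P)) (Ideal.Quotient.mk P s) ≠ 0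
    rw [Ne, map_eq_zero_iff _ (IsFractionRing.injective _ _)]
    exact nonZeroDivisors.ne_zero hs'
  refine ⟨a, s, hs0, ?_⟩
  change _ / ev₀ C P s * ev₀ C P s = ev₀ C P a
  rw [div_mul_cancel₀ _ hs0]
  rfl

end Ev₀

theorem isFrac_of_comp {B₀ B K : Type u} [CommRing B₀] [CommRing B] [Field K] (φ : B₀ →+* B)
    (ev : B →+* K) (h : IsFrac (ev.comp φ)) : IsFrac ev := by
  intro y
  obtain ⟨a, s, hs, hy⟩ := h y
  exact ⟨φ a, φ s, hs, hy⟩

section Loc

variable (R₀ C : Type u) [CommRing R₀] [CommRing C] [Algebra R₀ C]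
  (p : Ideal R₀) [p.IsPrime] (q : Ideal R₀) [q.IsPrime] (P : Ideal C) [P.IsPrime] [P.LiesOver q]

/-- The localisation of `C` at the image of the complement of `p`. -/
abbrev Cp : Type u := Localization (algebraMapSubmonoid C p.primeCompl)

theorem isUnit_ev₀_of_le (hq : q ≤ p) (y : p.primeCompl) : IsUnit (ev₀ R₀ q y) := by
  rw [isUnit_iff_ne_zero, Ne, ev₀_eq_zero_iff]
  exact fun h => y.2 (hq h)

theorem isUnit_ev₀_of_le' (hq : q ≤ p) (y : algebraMapSubmonoid C p.primeCompl) :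
    IsUnit (ev₀ C P y) := by
  rw [isUnit_iff_ne_zero, Ne, ev₀_eq_zero_iff]
  obtain ⟨r, hr, hy⟩ := y.2
  rw [← hy]
  intro h
  have : r ∈ P.under R₀ := h
  rw [← P.over_def q] at this
  exact hr (hq this)

/-- evaluation `(R₀)_p → Frac (R₀/q)` for `q ≤ p` -/
noncomputable def evA (hq : q ≤ p) : Localization.AtPrime p →+* FractionRing (R₀ ⧸ q) :=
  IsLocalization.lift (M := p.primeCompl) (g := ev₀ R₀ q) (isUnit_ev₀_of_le R₀ p q hq)

/-- evaluation `C_p → Frac (C/P)` for `P` over `q ≤ p` -/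
noncomputable def evB (hq : q ≤ p) : Cp R₀ C p →+* FractionRing (C ⧸ P) :=
  IsLocalization.lift (M := algebraMapSubmonoid C p.primeCompl) (g := ev₀ C P)
    (isUnit_ev₀_of_le' R₀ C p q P hq)

theorem evA_comp (hq : q ≤ p) :
    (evA R₀ p q hq).comp (algebraMap R₀ (Localization.AtPrime p)) = ev₀ R₀ q :=
  IsLocalization.lift_comp _

theorem evB_comp (hq : q ≤ p) :
    (evB R₀ C p q P hq).comp (algebraMap C (Cp R₀ C p)) = ev₀ C P :=
  IsLocalization.lift_comp _

theorem ev₀_square :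
    (algebraMap (FractionRing (R₀ ⧸ q)) (FractionRing (C ⧸ P))).comp (ev₀ R₀ q) =
      (ev₀ C P).comp (algebraMap R₀ C) := by
  ext r
  simp only [ev₀, RingHom.comp_apply]
  rw [← IsScalarTower.algebraMap_apply (R₀ ⧸ q) (FractionRing (R₀ ⧸ q)) (FractionRing (C ⧸ P)),
    IsScalarTower.algebraMap_apply (R₀ ⧸ q) (C ⧸ P) (FractionRing (C ⧸ P)),
    Ideal.Quotient.algebraMap_mk_of_liesOver]

theorem ev_square (hq : q ≤ p) :
    (algebraMap (FractionRing (R₀ ⧸ q)) (FractionRing (C ⧸ P))).comp (evA R₀ p q hq) =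
      (evB R₀ C p q P hq).comp (algebraMap (Localization.AtPrime p) (Cp R₀ C p)) := by
  apply IsLocalization.ringHom_ext p.primeCompl
  rw [RingHom.comp_assoc, evA_comp, RingHom.comp_assoc,
    ← IsScalarTower.algebraMap_eq R₀ (Localization.AtPrime p) (Cp R₀ C p),
    IsScalarTower.algebraMap_eq R₀ C (Cp R₀ C p), ← RingHom.comp_assoc, evB_comp, ev₀_square]

theorem isFrac_evA (hq : q ≤ p) : IsFrac (evA R₀ p q hq) :=
  isFrac_of_comp (algebraMap R₀ (Localization.AtPrime p)) _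
    (by rw [evA_comp]; exact isFrac_ev₀ R₀ q)

theorem isFrac_evB (hq : q ≤ p) : IsFrac (evB R₀ C p q P hq) :=
  isFrac_of_comp (algebraMap C (Cp R₀ C p)) _
    (by rw [evB_comp]; exact isFrac_ev₀ C P)

theorem comap_ker_evB (hq : q ≤ p) :
    (RingHom.ker (evB R₀ C p q P hq)).under C = P := by
  rw [Ideal.under_def, RingHom.comap_ker, evB_comp, ker_ev₀]

theorem ker_evB (hq : q ≤ p) :
    RingHom.ker (evB R₀ C p q P hq) = P.map (algebraMap C (Cp R₀ C p)) := by
  rw [← IsLocalization.map_under (algebraMapSubmonoid C p.primeCompl) (Cp R₀ C p)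
    (RingHom.ker (evB R₀ C p q P hq)), comap_ker_evB]

/-- The residual transcendence degree is unchanged by localisation at `p`. -/
theorem trdeg_loc (hq : q ≤ p) (P' : Ideal (Cp R₀ C p)) [P'.IsPrime] (hP' : P'.under C = P) :
    Algebra.trdeg (Localization.AtPrime p ⧸ P'.under (Localization.AtPrime p)) (Cp R₀ C p ⧸ P') =
      Algebra.trdeg (R₀ ⧸ q) (C ⧸ P) := by
  have hkerB : RingHom.ker (evB R₀ C p q P hq) = P' := by
    rw [ker_evB, ← hP', IsLocalization.map_under (algebraMapSubmonoid C p.primeCompl)]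
  have hkerA : RingHom.ker (evA R₀ p q hq) = P'.under (Localization.AtPrime p) := by
    rw [ker_evA_eq_comap (ev_square R₀ C p q P hq), hkerB]
  have h1 := trdeg_quotient_eq (ev_square R₀ C p q P hq) (isFrac_evA R₀ p q hq)
    (isFrac_evB R₀ C p q P hq) (P'.under (Localization.AtPrime p)) P' hkerA hkerB
  have h2 := trdeg_quotient_eq (ev₀_square R₀ C q P) (isFrac_ev₀ R₀ q) (isFrac_ev₀ C P) q P
    (ker_ev₀ R₀ q) (ker_ev₀ C P)
  rw [h1, h2]

end Loc

section CI

variable (R₀ C : Type u) [CommRing R₀] [CommRing C] [Algebra R₀ C] [Algebra.FiniteType R₀ C]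
  (p : Ideal R₀) [p.IsPrime]

theorem finiteType_loc : Algebra.FiniteType (Localization.AtPrime p) (Cp R₀ C p) := by
  have hft : Algebra.FiniteType R₀ C := inferInstance
  rw [← RingHom.finiteType_algebraMap] at hft ⊢
  haveI : IsLocalization (Submonoid.map (algebraMap R₀ C) p.primeCompl) (Cp R₀ C p) :=
    inferInstanceAs (IsLocalization (algebraMapSubmonoid C p.primeCompl) (Cp R₀ C p))
  exact RingHom.finiteType_localizationPreserves (algebraMap R₀ C) p.primeCompl
    (Localization.AtPrime p) (Cp R₀ C p) hft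

/-- Contracting a minimal prime of the localisation gives a minimal prime. -/
theorem under_mem_minimalPrimes (q₀ : Ideal (Cp R₀ C p)) (hmin : q₀ ∈ minimalPrimes (Cp R₀ C p)) :
    q₀.under C ∈ minimalPrimes C := by
  haveI hq₀ : q₀.IsPrime := hmin.1.1
  obtain ⟨hprime, hdisj⟩ := (IsLocalization.isPrime_iff_isPrime_disjoint
    (algebraMapSubmonoid C p.primeCompl) (Cp R₀ C p) q₀).mp hq₀
  refine ⟨⟨hprime, bot_le⟩, ?_⟩
  rintro Q' ⟨hQ'prime, -⟩ hle'
  have hdisj' : Disjoint ((algebraMapSubmonoid C p.primeCompl : Submonoid C) : Set C) (Q' : Set C) :=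
    Set.disjoint_of_subset_right hle' hdisj
  have hprime' := IsLocalization.isPrime_of_isPrime_disjoint
    (algebraMapSubmonoid C p.primeCompl) (Cp R₀ C p) Q' hQ'prime hdisj'
  have hle'' : Q'.map (algebraMap C (Cp R₀ C p)) ≤ q₀ := Ideal.map_le_iff_le_comap.mpr hle'
  have hge : q₀ ≤ Q'.map (algebraMap C (Cp R₀ C p)) := hmin.2 ⟨hprime', bot_le⟩ hle''
  have := Ideal.comap_mono (f := algebraMap C (Cp R₀ C p)) hge
  rwa [← Ideal.under_def, ← Ideal.under_def, IsLocalization.under_map_of_isPrime_disjoint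
    (algebraMapSubmonoid C p.primeCompl) (Cp R₀ C p) hQ'prime hdisj'] at this

/-- **Dimension inequality** with only the local ring `(R₀)_p` assumed Noetherian. -/
theorem height_add_trdeg_le [IsNoetherianRing (Localization.AtPrime p)]
    (Q : Ideal C) [Q.IsPrime] [Q.LiesOver p] (d : ℕ)
    (hd : ∀ (Q₀ : Ideal C) [Q₀.IsPrime], Q₀ ∈ minimalPrimes C → Q₀ ≤ Q →
      Algebra.trdeg (R₀ ⧸ Q₀.under R₀) (C ⧸ Q₀) ≤ d) :
    (Q.height : Cardinal.{u}) + Algebra.trdeg (R₀ ⧸ p) (C ⧸ Q) ≤ (p.height : Cardinal.{u}) + d := by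
  haveI := finiteType_loc R₀ C p
  have key := Groth.Agent.H48.DimIneq.height_add_trdeg_le (ev_square R₀ C p p Q le_rfl)
    (isFrac_evA R₀ p p le_rfl) (isFrac_evB R₀ C p p Q le_rfl) (d : Cardinal.{u}) (by
      intro q₀ hq₀ hmin hle
      have hmin' := under_mem_minimalPrimes R₀ C p q₀ hmin
      haveI : (q₀.under C).IsPrime := hmin'.1.1
      have hle' : q₀.under C ≤ Q := by
        have := Ideal.comap_mono (f := algebraMap C (Cp R₀ C p)) hle
        rwa [← Ideal.under_def, ← Ideal.under_def, comap_ker_evB] at this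
      haveI : ((q₀.under C).under R₀).IsPrime := Ideal.IsPrime.under R₀ _
      have hle'' : (q₀.under C).under R₀ ≤ p := by
        have h1 : (q₀.under C).under R₀ ≤ Q.under R₀ := Ideal.comap_mono hle'
        exact h1.trans (Q.over_def p).ge
      rw [trdeg_loc R₀ C p ((q₀.under C).under R₀) (q₀.under C) hle'' q₀ rfl]
      exact hd _ hmin' hle')
  have h2 := trdeg_quotient_eq (ev₀_square R₀ C p Q) (isFrac_ev₀ R₀ p) (isFrac_ev₀ C Q) p Q
    (ker_ev₀ R₀ p) (ker_ev₀ C Q)
  have h3 : (RingHom.ker (evB R₀ C p p Q le_rfl)).height = Q.height := by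
    rw [← IsLocalization.height_under (algebraMapSubmonoid C p.primeCompl), comap_ker_evB]
  have h4 : (RingHom.ker (evA R₀ p p le_rfl)).height = p.height := by
    rw [← IsLocalization.height_under p.primeCompl, Ideal.under_def, RingHom.comap_ker, evA_comp,
      ker_ev₀]
  rw [h3, h4, ← h2] at key
  exact key

end CI

section Fibre

open Groth.Agent.H11.FtDim Groth.Agent.H17.DimIneq Groth.Agent.H24

variable (R S : Type u) [CommRing R] [CommRing S] [Algebra R S] [Algebra.FiniteType R S]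
  (p : Ideal R) [p.IsPrime]

theorem liesOver_comap_includeRight (P₀ : Ideal (p.Fiber S)) [P₀.IsPrime] :
    (P₀.comap (Algebra.TensorProduct.includeRight : S →ₐ[R] p.Fiber S).toRingHom).LiesOver p := by
  constructor
  have h1 : p = P₀.under R := P₀.over_def p
  rw [Ideal.under_def, Ideal.comap_comap]
  refine h1.trans ?_
  rw [Ideal.under_def]
  congr 1
  ext r
  exact ((Algebra.TensorProduct.includeRight : S →ₐ[R] p.Fiber S).commutes r).symm

/-- Bound for the local dimension of the fibre in terms of the residual transcendence degrees of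
the generisations in the fibre. -/
theorem localDim_fiber_add_le (q : Ideal S) [q.IsPrime] [q.LiesOver p]
    (Q : PrimeSpectrum (p.Fiber S))
    (hQ : Q.asIdeal.comap (Algebra.TensorProduct.includeRight : S →ₐ[R] p.Fiber S).toRingHom = q)
    (k M : ℕ)
    (h : ∀ (q₁ : Ideal S) [q₁.IsPrime] [q₁.LiesOver p], q₁ ≤ q →
      Algebra.trdeg (R ⧸ p) (S ⧸ q₁) + (k : Cardinal.{u}) ≤ M) :
    FlatMor.localDim (PrimeSpectrum (p.Fiber S)) Q + (k : WithBot ℕ∞) ≤ M := by
  have hkM : k ≤ M := by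
    have h1 := h q le_rfl
    have h2 : (k : Cardinal.{u}) ≤ M := le_trans (le_add_self) h1
    exact_mod_cast h2
  obtain ⟨N, rfl⟩ := Nat.exists_eq_add_of_le' hkM
  suffices hs : FlatMor.localDim (PrimeSpectrum (p.Fiber S)) Q ≤ (N : WithBot ℕ∞) by
    push_cast
    gcongr
  apply Groth.Agent.H11.FtDim.localDim_le (k := p.ResidueField) Q
  intro P₀ hP₀ hle
  haveI : P₀.IsPrime := hP₀.1.1
  set q₁ : Ideal S :=
    P₀.comap (Algebra.TensorProduct.includeRight : S →ₐ[R] p.Fiber S).toRingHom with hq₁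
  haveI : q₁.IsPrime := Ideal.comap_isPrime _ _
  haveI : q₁.LiesOver p := liesOver_comap_includeRight R S p P₀
  have hle₁ : q₁ ≤ q := by
    rw [← hQ]
    exact Ideal.comap_mono hle
  have h1 := h q₁ hle₁
  haveI := finiteType_quotient_of_liesOver R S p q₁
  have hlt : Algebra.trdeg (R ⧸ p) (S ⧸ q₁) < Cardinal.aleph0 :=
    trdeg_lt_aleph0_of_finiteType
  obtain ⟨r, hr⟩ := Cardinal.lt_aleph0.mp hlt
  have hrN : r ≤ N := by
    rw [hr] at h1
    have : ((r + k : ℕ) : Cardinal.{u}) ≤ ((N + k : ℕ) : Cardinal.{u}) := by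
      push_cast at h1 ⊢
      exact h1
    have := Nat.cast_le.mp this
    omega
  have h2 := coheight_eq_trdeg (k := p.ResidueField) (S := p.Fiber S) P₀ r
    ((trdeg_residueField_fiber R S p P₀ (iA := IsLocalRing.ResidueField.algebra _) q₁ rfl).trans hr)
  rw [← coheight_eq_ringKrullDim_quotient (⟨P₀, inferInstance⟩ : PrimeSpectrum (p.Fiber S)), h2]
  exact_mod_cast hrN

theorem trdeg_congr_under {p p' : Ideal R} (q₁ : Ideal S) [q₁.LiesOver p] [q₁.LiesOver p']
    (h : p = p') : Algebra.trdeg (R ⧸ p) (S ⧸ q₁) = Algebra.trdeg (R ⧸ p') (S ⧸ q₁) := by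
  subst h
  rfl

theorem one_le_height_of_not_mem_minimalPrimes (q₁ : Ideal S) [q₁.IsPrime]
    (h : q₁ ∉ minimalPrimes S) : (1 : Cardinal.{u}) ≤ (q₁.height : Cardinal.{u}) := by
  have h1 : 1 ≤ q₁.height := by
    rw [Order.one_le_iff_pos, pos_iff_ne_zero, Ne, Ideal.height_eq_zero_iff]
    exact h
  exact_mod_cast h1

/-- Ring-level form of S1553. -/
theorem localDim_fiber_add_one_le [IsNoetherianRing (Localization.AtPrime p)]
    (q : Ideal S) [q.IsPrime] [q.LiesOver p] (Q : PrimeSpectrum (p.Fiber S))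
    (hQ : Q.asIdeal.comap (Algebra.TensorProduct.includeRight : S →ₐ[R] p.Fiber S).toRingHom = q)
    (d : ℕ)
    (hd : ∀ (Q₀ : Ideal S) [Q₀.IsPrime], Q₀ ∈ minimalPrimes S → Q₀ ≤ q →
      Q₀.under R ≠ p ∧ Algebra.trdeg (R ⧸ Q₀.under R) (S ⧸ Q₀) ≤ d) :
    FlatMor.localDim (PrimeSpectrum (p.Fiber S)) Q + 1 ≤
      (d : WithBot ℕ∞) + ((p.height : ℕ∞) : WithBot ℕ∞) := by
  cases hh : p.height with
  | top =>
    have : (d : WithBot ℕ∞) + ((⊤ : ℕ∞) : WithBot ℕ∞) = ((⊤ : ℕ∞) : WithBot ℕ∞) := by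
      rw [← WithBot.coe_natCast, ← WithBot.coe_add, add_top]
    rw [this]
    exact le_top
  | coe h =>
    have key := localDim_fiber_add_le R S p q Q hQ 1 (d + h) (by
      intro q₁ _ _ hle
      have hnm : q₁ ∉ minimalPrimes S := fun hm => (hd q₁ hm hle).1 (q₁.over_def p).symm
      have h1 := one_le_height_of_not_mem_minimalPrimes S q₁ hnm
      have h2 := height_add_trdeg_le R S p q₁ d
        (fun Q₀ _ hm hle₀ => (hd Q₀ hm (hle₀.trans hle)).2)
      rw [hh] at h2
      calc Algebra.trdeg (R ⧸ p) (S ⧸ q₁) + ((1 : ℕ) : Cardinal.{u})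
          = 1 + Algebra.trdeg (R ⧸ p) (S ⧸ q₁) := by rw [Nat.cast_one, add_comm]
        _ ≤ (q₁.height : Cardinal.{u}) + Algebra.trdeg (R ⧸ p) (S ⧸ q₁) := by gcongr
        _ ≤ (((h : ℕ∞)) : Cardinal.{u}) + d := h2
        _ = ((d + h : ℕ) : Cardinal.{u}) := by
          rw [Cardinal.ofENat_nat, add_comm]
          push_cast
          rfl)
    have e : ((d : WithBot ℕ∞) + (((h : ℕ∞)) : WithBot ℕ∞)) = ((d + h : ℕ) : WithBot ℕ∞) := by
      push_cast
      rfl
    rw [e]
    exact_mod_cast key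

/-- Ring-level form of S1554 (upper bound). -/
theorem localDim_fiber_le_of_height_le_one [IsNoetherianRing (Localization.AtPrime p)]
    (hp : p.height ≤ 1)
    (q : Ideal S) [q.IsPrime] [q.LiesOver p] (Q : PrimeSpectrum (p.Fiber S))
    (hQ : Q.asIdeal.comap (Algebra.TensorProduct.includeRight : S →ₐ[R] p.Fiber S).toRingHom = q)
    (d : ℕ)
    (hd : ∀ (Q₀ : Ideal S) [Q₀.IsPrime], Q₀ ∈ minimalPrimes S → Q₀ ≤ q →
      Algebra.trdeg (R ⧸ Q₀.under R) (S ⧸ Q₀) ≤ d) :
    FlatMor.localDim (PrimeSpectrum (p.Fiber S)) Q ≤ (d : WithBot ℕ∞) := by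
  have key := localDim_fiber_add_le R S p q Q hQ 0 d (by
    intro q₁ _ _ hle
    rw [Nat.cast_zero, add_zero]
    by_cases hm : q₁ ∈ minimalPrimes S
    · rw [trdeg_congr_under R S q₁ (q₁.over_def p)]
      exact hd q₁ hm hle
    · have h1 := one_le_height_of_not_mem_minimalPrimes S q₁ hm
      have h2 := height_add_trdeg_le R S p q₁ d
        (fun Q₀ _ hm hle₀ => hd Q₀ hm (hle₀.trans hle))
      haveI := finiteType_quotient_of_liesOver R S p q₁
      have hlt : Algebra.trdeg (R ⧸ p) (S ⧸ q₁) < Cardinal.aleph0 :=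
        trdeg_lt_aleph0_of_finiteType
      obtain ⟨r, hr⟩ := Cardinal.lt_aleph0.mp hlt
      rw [hr] at h2 ⊢
      have hp' : (p.height : Cardinal.{u}) ≤ 1 := by exact_mod_cast hp
      have h3 : ((1 + r : ℕ) : Cardinal.{u}) ≤ ((1 + d : ℕ) : Cardinal.{u}) := by
        push_cast
        calc (1 : Cardinal.{u}) + r ≤ (q₁.height : Cardinal.{u}) + r := by gcongr
          _ ≤ (p.height : Cardinal.{u}) + d := h2
          _ ≤ 1 + d := by gcongr
      have := Nat.cast_le.mp h3
      exact_mod_cast (by omega : r ≤ d))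
  simpa using key

end Fibre

end Groth.Agent.H99.FibreDimLoc
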