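import Mathlib
import Groth.Agent.H99.FibreDimLoc
import Groth.Agent.H17.Chev.Chart
import Groth.Agent.H17.Chev.Main
import Groth.Agent.H17.Chev.Closed
import Groth.Agent.H17.Chev.DimEqScheme
import Groth.Agent.H48.DimIneqSch
import Groth.Agent.H24.AffineChart

/-!
# Fibre dimension over a point with Noetherian local ring, scheme level (helper99; S1553, S1554)
-/

set_option autoImplicit false
set_option backward.isDefEq.respectTransparency.types false
set_option linter.style.haveILetI false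
universe u

open CategoryTheory CategoryTheory.Limits AlgebraicGeometry

namespace Groth.Agent.H99.FibreDimLoc

open Groth.Agent.H17.Chev Groth.Agent.H48.DimIneqSch

/-- Lower bound: the local fibre dimension at `x` is at least that at a generic point of a
component through `x`. -/
theorem le_fibreDimAt_of_generic {X Y : Scheme.{u}} (f : X ⟶ Y) [LocallyOfFiniteType f]
    (x : X) (d : ℕ)
    (hgen : ∀ Z ∈ irreducibleComponents (X : Type u), x ∈ Z → ∀ η : X, IsGenericPoint η Z →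
      FlatMor.fibreDimAt f η = d) :
    (d : WithBot ℕ∞) ≤ FlatMor.fibreDimAt f x := by
  obtain ⟨m, hm⟩ := exists_nat_eq_fibreDimAt f x
  rw [hm]
  have hopen := isOpen_setOf_fibreDimAt_le f m
  obtain ⟨η, hirr, hsp⟩ := exists_generic_specializes x
  have hmem : η ∈ {x' : X | FlatMor.fibreDimAt f x' ≤ m} := hsp.mem_open hopen hm.le
  have h1 := hgen (closure {η}) hirr (specializes_iff_mem_closure.mp hsp) η
    isGenericPoint_closure
  change FlatMor.fibreDimAt f η ≤ m at hmem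
  rw [h1] at hmem
  exact hmem

/-- **S1553 / S1554, combined.** -/
theorem fibreDimAt_bounds {X Y : Scheme.{u}} (f : X ⟶ Y) [LocallyOfFiniteType f]
    (x : X) [hnoeth : IsNoetherianRing (Y.presheaf.stalk (f.base x))] (d : ℕ)
    (hgen : ∀ Z ∈ irreducibleComponents (X : Type u), x ∈ Z → ∀ η : X, IsGenericPoint η Z →
      FlatMor.fibreDimAt f η = d) :
    (ringKrullDim (Y.presheaf.stalk (f.base x)) ≤ 1 → FlatMor.fibreDimAt f x ≤ d) ∧
    ((∀ Z ∈ irreducibleComponents (X : Type u), x ∈ Z → ∀ η : X, IsGenericPoint η Z →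
        f.base η ≠ f.base x) →
      FlatMor.fibreDimAt f x + 1 ≤
        (d : WithBot ℕ∞) + ringKrullDim (Y.presheaf.stalk (f.base x))) := by
  obtain ⟨V, U, hV, hU, hxU, hUV⟩ := Groth.Agent.H24.exists_affine_charts f x
  have hyV : f.base x ∈ V := hUV hxU
  letI : Algebra Γ(Y, V) Γ(X, U) := (f.appLE V U hUV).hom.toAlgebra
  haveI hft : Algebra.FiniteType Γ(Y, V) Γ(X, U) := f.finiteType_appLE hV hU hUV
  have hsq : Spec.map (CommRingCat.ofHom (algebraMap Γ(Y, V) Γ(X, U))) ≫ hV.fromSpec =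
      hU.fromSpec ≫ f := IsAffineOpen.SpecMap_appLE_fromSpec f hV hU hUV
  let q : ↥(Spec Γ(X, U)) := hU.primeIdealOf ⟨x, hxU⟩
  have hq : hU.fromSpec.base q = x := hU.fromSpec_primeIdealOf ⟨x, hxU⟩
  haveI : q.asIdeal.IsPrime := q.isPrime
  let pP : PrimeSpectrum Γ(Y, V) := PrimeSpectrum.comap (algebraMap Γ(Y, V) Γ(X, U)) q
  haveI : q.asIdeal.LiesOver pP.asIdeal := ⟨rfl⟩
  -- the local ring of the base
  have hPu : (hV.primeIdealOf ⟨f.base x, hyV⟩).asIdeal = pP.asIdeal :=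
    congr($(IsAffineOpen.comap_primeIdealOf_appLE V hV U hU hUV hxU).1).symm
  have hstalk : IsNoetherianRing
      (Localization.AtPrime (hV.primeIdealOf ⟨f.base x, hyV⟩).asIdeal) := by
    algebraize [(Y.presheaf.germ V (f.base x) hyV).hom]
    have := hV.isLocalization_stalk ⟨f.base x, hyV⟩
    let e := IsLocalization.algEquiv (hV.primeIdealOf ⟨f.base x, hyV⟩).asIdeal.primeCompl
      (Y.presheaf.stalk (f.base x))
      (Localization.AtPrime (hV.primeIdealOf ⟨f.base x, hyV⟩).asIdeal)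
    exact isNoetherianRing_of_ringEquiv _ e.toRingEquiv
  have key : ∀ (p' : Ideal Γ(Y, V)) [p'.IsPrime],
      (hV.primeIdealOf ⟨f.base x, hyV⟩).asIdeal = p' →
      IsNoetherianRing (Localization.AtPrime p') := by
    rintro p' _ rfl
    exact hstalk
  haveI hnoeth' : IsNoetherianRing (Localization.AtPrime pP.asIdeal) := key _ hPu
  let Q := PrimeSpectrum.preimageHomeomorphFiber Γ(Y, V) Γ(X, U) pP ⟨q, rfl⟩
  have hQ : Q.asIdeal.comap (Algebra.TensorProduct.includeRight :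
      Γ(X, U) →ₐ[Γ(Y, V)] pP.asIdeal.Fiber Γ(X, U)).toRingHom = q.asIdeal :=
    congrArg (fun z => z.1.asIdeal)
      ((PrimeSpectrum.preimageEquivFiber Γ(Y, V) Γ(X, U) pP).symm_apply_apply ⟨q, rfl⟩)
  have hfx : FlatMor.fibreDimAt f x =
      FlatMor.localDim (PrimeSpectrum (pP.asIdeal.Fiber Γ(X, U))) Q := by
    rw [← hq]
    exact chart_fibreDimAt f Γ(Y, V) Γ(X, U) hU.fromSpec hV.fromSpec hsq pP q rfl q rfl
  have hdimY : ringKrullDim (Y.presheaf.stalk (f.base x)) =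
      ((pP.asIdeal.height : ℕ∞) : WithBot ℕ∞) := by
    have h1 := chart_stalk_target f Γ(Y, V) Γ(X, U) hU.fromSpec hV.fromSpec hsq q
    rw [hq] at h1
    exact h1
  -- the generic points
  have hmin : ∀ (Q₀ : Ideal Γ(X, U)) [Q₀.IsPrime], Q₀ ∈ minimalPrimes Γ(X, U) →
      Q₀ ≤ q.asIdeal →
      ∃ ξ : X, closure {ξ} ∈ irreducibleComponents X ∧ ξ ⤳ x ∧
        (Q₀.under Γ(Y, V) = pP.asIdeal → f.base ξ = f.base x) ∧
        (FlatMor.fibreDimAt f ξ = d →
          Algebra.trdeg (Γ(Y, V) ⧸ Q₀.under Γ(Y, V)) (Γ(X, U) ⧸ Q₀) ≤ d) := by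
    intro Q₀ _ hQ₀min hQ₀le
    obtain ⟨ξ, hξU, hξq, hξirr, hξx⟩ := exists_point_of_minimalPrime hU x hxU Q₀ hQ₀min hQ₀le
    refine ⟨ξ, hξirr, hξx, ?_, ?_⟩
    · intro hu
      let q₀ : ↥(Spec Γ(X, U)) := hU.primeIdealOf ⟨ξ, hξU⟩
      have hq₀ : hU.fromSpec.base q₀ = ξ := hU.fromSpec_primeIdealOf ⟨ξ, hξU⟩
      have hcomap : (Spec.map (CommRingCat.ofHom (algebraMap Γ(Y, V) Γ(X, U)))).base q₀ =
          (Spec.map (CommRingCat.ofHom (algebraMap Γ(Y, V) Γ(X, U)))).base q := by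
        apply PrimeSpectrum.ext
        change q₀.asIdeal.under Γ(Y, V) = pP.asIdeal
        rw [← hu, hξq]
      rw [← hq₀, ← hq, chart_map_eq f Γ(Y, V) Γ(X, U) hU.fromSpec hV.fromSpec hsq q₀,
        chart_map_eq f Γ(Y, V) Γ(X, U) hU.fromSpec hV.fromSpec hsq q, hcomap]
    · intro hfd
      subst hξq
      let q₀ : ↥(Spec Γ(X, U)) := hU.primeIdealOf ⟨ξ, hξU⟩
      have hq₀ : hU.fromSpec.base q₀ = ξ := hU.fromSpec_primeIdealOf ⟨ξ, hξU⟩
      let pP₀ : PrimeSpectrum Γ(Y, V) := PrimeSpectrum.comap (algebraMap Γ(Y, V) Γ(X, U)) q₀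
      haveI : q₀.asIdeal.LiesOver pP₀.asIdeal := ⟨rfl⟩
      let Q' := PrimeSpectrum.preimageHomeomorphFiber Γ(Y, V) Γ(X, U) pP₀ ⟨q₀, rfl⟩
      have hQ' : Q'.asIdeal.comap (Algebra.TensorProduct.includeRight :
          Γ(X, U) →ₐ[Γ(Y, V)] pP₀.asIdeal.Fiber Γ(X, U)).toRingHom = q₀.asIdeal :=
        congrArg (fun z => z.1.asIdeal)
          ((PrimeSpectrum.preimageEquivFiber Γ(Y, V) Γ(X, U) pP₀).symm_apply_apply ⟨q₀, rfl⟩)
      have h1 : FlatMor.fibreDimAt f ξ =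
          FlatMor.localDim (PrimeSpectrum (pP₀.asIdeal.Fiber Γ(X, U))) Q' := by
        rw [← hq₀]
        exact chart_fibreDimAt f Γ(Y, V) Γ(X, U) hU.fromSpec hV.fromSpec hsq pP₀ q₀ rfl q₀ rfl
      obtain ⟨r, hr, hl⟩ := Groth.Agent.H17.DimIneq.localDim_fiber_eq Γ(Y, V) Γ(X, U)
        pP₀.asIdeal q₀.asIdeal Q' hQ'
      rw [hfd, hl] at h1
      have h2 : ((d : ℕ∞) : WithBot ℕ∞) = ((Q'.asIdeal.height + (r : ℕ∞) : ℕ∞) : WithBot ℕ∞) := by
        push_cast
        exact h1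
      have h3 : (d : ℕ∞) = Q'.asIdeal.height + (r : ℕ∞) := WithBot.coe_injective h2
      have h4 : (r : ℕ∞) ≤ d := by rw [h3]; exact le_add_self
      have h5 : r ≤ d := by exact_mod_cast h4
      change Algebra.trdeg (Γ(Y, V) ⧸ pP₀.asIdeal) (Γ(X, U) ⧸ q₀.asIdeal) ≤ d
      rw [hr]
      exact_mod_cast h5
  constructor
  · intro hdim1
    rw [hfx]
    have hp : pP.asIdeal.height ≤ 1 := by
      rw [hdimY] at hdim1
      exact_mod_cast hdim1
    refine localDim_fiber_le_of_height_le_one Γ(Y, V) Γ(X, U) pP.asIdeal hp q.asIdeal Q hQ d ?_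
    intro Q₀ _ hQ₀min hQ₀le
    obtain ⟨ξ, hξirr, hξx, -, h4⟩ := hmin Q₀ hQ₀min hQ₀le
    exact h4 (hgen (closure {ξ}) hξirr (specializes_iff_mem_closure.mp hξx) ξ
      isGenericPoint_closure)
  · intro hne
    rw [hfx, hdimY]
    refine localDim_fiber_add_one_le Γ(Y, V) Γ(X, U) pP.asIdeal q.asIdeal Q hQ d ?_
    intro Q₀ _ hQ₀min hQ₀le
    obtain ⟨ξ, hξirr, hξx, h3, h4⟩ := hmin Q₀ hQ₀min hQ₀le
    refine ⟨fun hu => ?_, h4 (hgen (closure {ξ}) hξirr (specializes_iff_mem_closure.mp hξx) ξ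
      isGenericPoint_closure)⟩
    exact hne (closure {ξ}) hξirr (specializes_iff_mem_closure.mp hξx) ξ
      isGenericPoint_closure (h3 hu)

end Groth.Agent.H99.FibreDimLoc
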