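import Mathlib

/-!
# Dominant morphisms to normal curves are flat (helper99; for S0220)
-/

set_option autoImplicit false
set_option backward.isDefEq.respectTransparency.types false
universe u

open CategoryTheory AlgebraicGeometry

namespace Groth.Agent.H99.FlatCurve

/-- On an integral scheme, the specialization map from a stalk to the stalk at (a point equal to)
the generic point is injective. -/
theorem stalkSpecializes_injective_of_eq_genericPoint {Y : Scheme.{u}} [IsIntegral Y] (z y : Y)
    (hz : z = genericPoint Y) (h : z ⤳ y) :
    Function.Injective (Y.presheaf.stalkSpecializes h) := by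
  subst hz
  exact IsFractionRing.injective (Y.presheaf.stalk y) Y.functionField

/-- The stalk at (a point equal to) the generic point of an integral scheme is a field. -/
theorem isField_stalk_of_eq_genericPoint {Y : Scheme.{u}} [IsIntegral Y] (z : Y)
    (hz : z = genericPoint Y) : IsField (Y.presheaf.stalk z) := by
  subst hz
  exact Field.toIsField Y.functionField

/-- A morphism of integral schemes mapping the generic point to the generic point is injective on
all stalks. -/
theorem stalkMap_injective_of_dominant {X Y : Scheme.{u}} [IsIntegral X] [IsIntegral Y]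
    (f : X ⟶ Y) (hf : f (genericPoint X) = genericPoint Y) (x : X) :
    Function.Injective (f.stalkMap x) := by
  rw [injective_iff_map_eq_zero]
  intro a ha
  have hspec : genericPoint X ⤳ x := (genericPoint_spec X).specializes trivial
  have key := Scheme.Hom.stalkSpecializes_stalkMap_apply f (genericPoint X) x hspec a
  rw [ha, map_zero] at key
  have hfield := isField_stalk_of_eq_genericPoint (f (genericPoint X)) hf
  let _ := hfield.toField
  have hinj : Function.Injective (f.stalkMap (genericPoint X)).hom :=
    (f.stalkMap (genericPoint X)).hom.injective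
  have h0 : Y.presheaf.stalkSpecializes (f.base.hom.map_specializes hspec) a = 0 := by
    apply hinj
    rw [map_zero]
    exact key
  have hinj2 := stalkSpecializes_injective_of_eq_genericPoint (f (genericPoint X)) (f x) hf
    (f.base.hom.map_specializes hspec)
  apply hinj2
  rw [map_zero]
  exact h0

/-- If `X` is integral, the stalks of `Y` at the points of the image are Dedekind domains and the
stalk maps are injective, then `f` is flat. -/
theorem flat_of_isDedekindDomain_stalk {X Y : Scheme.{u}} [IsIntegral X] (f : X ⟶ Y)
    (hD : ∀ x : X, IsDedekindDomain (Y.presheaf.stalk (f x)))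
    (hinj : ∀ x : X, Function.Injective (f.stalkMap x)) : Flat f := by
  rw [Flat.iff_flat_stalkMap]
  intro x
  have := hD x
  algebraize [(f.stalkMap x).hom]
  have : FaithfulSMul (Y.presheaf.stalk (f x)) (X.presheaf.stalk x) :=
    (faithfulSMul_iff_algebraMap_injective _ _).mpr (hinj x)
  change Module.Flat (Y.presheaf.stalk (f x)) (X.presheaf.stalk x)
  infer_instance

/-- The Krull dimension of a scheme is the Krull dimension of its specialization order. -/
theorem topologicalKrullDim_eq_krullDim (Y : Scheme.{u}) :
    topologicalKrullDim ↥Y = Order.krullDim ↥Y :=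
  Order.krullDim_eq_of_orderIso (irreducibleSetEquivPoints (α := ↥Y))

/-- A morphism from an irreducible scheme to an irreducible scheme of dimension `≤ 1` whose image
has at least two points maps the generic point to the generic point. -/
theorem map_genericPoint_of_dim_le_one {X Y : Scheme.{u}} [IrreducibleSpace X] [IrreducibleSpace Y]
    (hY : topologicalKrullDim ↥Y ≤ 1) (f : X ⟶ Y) (hnc : (Set.range f.base).Nontrivial) :
    f (genericPoint X) = genericPoint Y := by
  by_contra hne
  -- some point of the image differs from `y₀ = f η`
  obtain ⟨y₁, ⟨x₁, rfl⟩, hy₁⟩ : ∃ y₁ ∈ Set.range f.base, y₁ ≠ f (genericPoint X) :=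
    hnc.exists_ne _
  have h1 : f (genericPoint X) ⤳ f x₁ :=
    ((genericPoint_spec X).specializes trivial).map f.continuous
  have h2 : genericPoint Y ⤳ f (genericPoint X) := (genericPoint_spec Y).specializes trivial
  rw [topologicalKrullDim_eq_krullDim, Order.krullDim_le_one_iff] at hY
  rcases hY (f (genericPoint X)) with hmin | hmax
  · have hle : f x₁ ≤ f (genericPoint X) := Scheme.le_iff_specializes.mpr h1
    have h1' : f x₁ ⤳ f (genericPoint X) := Scheme.le_iff_specializes.mp (hmin hle)
    exact hy₁ (h1'.antisymm h1).eq
  · have hle : f (genericPoint X) ≤ genericPoint Y := Scheme.le_iff_specializes.mpr h2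
    have h2' : f (genericPoint X) ⤳ genericPoint Y := Scheme.le_iff_specializes.mp (hmax hle)
    exact hne (h2'.antisymm h2).eq

/-- The stalks of an integral locally Noetherian scheme of dimension `≤ 1` with integrally closed
local rings are Dedekind domains. -/
theorem isDedekindDomain_stalk {Y : Scheme.{u}} [IsIntegral Y] [IsLocallyNoetherian Y]
    (hY : topologicalKrullDim ↥Y ≤ 1) (y : Y) [IsIntegrallyClosed (Y.presheaf.stalk y)] :
    IsDedekindDomain (Y.presheaf.stalk y) := by
  have hdim : ringKrullDim (Y.presheaf.stalk y) ≤ 1 := by
    rw [ringKrullDim_stalk_eq_coheight]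
    refine le_trans ?_ hY
    rw [topologicalKrullDim_eq_krullDim]
    exact Order.coheight_le_krullDim y
  have hK : Ring.KrullDimLE 1 (Y.presheaf.stalk y) := Ring.krullDimLE_iff.mpr hdim
  have hD : Ring.DimensionLEOne (Y.presheaf.stalk y) :=
    ⟨fun {p} hp hprime => Ring.krullDimLE_one_iff_of_noZeroDivisors.mp hK p hp hprime⟩
  exact { }

end Groth.Agent.H99.FlatCurve
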