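import Mathlib

/-!
# A polynomial `F` of degree `< p` satisfies the multiplicative functional equation of the
formal group `S + T + μST` iff it satisfies the ODE `a₁ F = F' (1 + μ S)`.
(helper99; used for S13156)
-/

namespace Groth.Agent.H99.FormalGrpODE

open Polynomial

theorem isUnit_natCast_of_lt {B : Type*} [CommRing B] (p : ℕ)
    (hu : IsUnit ((Nat.factorial (p - 1) : ℕ) : B)) (k : ℕ) (hk : k + 1 < p) :
    IsUnit ((k + 1 : ℕ) : B) := by
  have hdvd : (k + 1) ∣ Nat.factorial (p - 1) := Nat.dvd_factorial (Nat.succ_pos k) (by omega)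
  obtain ⟨m, hm⟩ := hdvd
  rw [hm, Nat.cast_mul] at hu
  exact isUnit_of_mul_isUnit_left hu

/-- Uniqueness for the ODE `(1 + μ T) Y' = c Y`, `Y(0) = 0`, for polynomials of degree `< p`. -/
theorem ode_unique {B : Type*} [CommRing B] (p : ℕ)
    (hu : IsUnit ((Nat.factorial (p - 1) : ℕ) : B))
    (μ c : B) (Y : B[X]) (hdeg : Y.natDegree < p) (h0 : Y.coeff 0 = 0)
    (hode : (1 + C μ * X) * derivative Y = C c * Y) : Y = 0 := by
  have key : ∀ k, Y.coeff k = 0 := by
    intro k
    induction k with
    | zero => exact h0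
    | succ k ih =>
      by_cases hk : k + 1 < p
      · have h1 := congrArg (fun q => q.coeff k) hode
        have h2 : ((1 + C μ * X) * derivative Y).coeff k = Y.coeff (k + 1) * ((k + 1 : ℕ) : B) := by
          rw [add_mul, one_mul, mul_assoc, coeff_add, coeff_C_mul, coeff_derivative]
          cases k with
          | zero => simp
          | succ j => rw [coeff_X_mul, coeff_derivative, ih]; simp
        simp only [h2, coeff_C_mul, ih, mul_zero] at h1
        exact (isUnit_natCast_of_lt p hu k hk).mul_left_eq_zero.mp h1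
      · exact coeff_eq_zero_of_natDegree_lt (by omega)
  ext k; simp [key k]

variable {A : Type*} [CommRing A]

/-- `w = s + t + μ s t` in `A[s][t]`. -/
noncomputable def wE (μ : A) : A[X][X] := C X + X + C (C μ) * C X * X

/-- The defect of the functional equation, as an element of `A[s][t]`. -/
noncomputable def Hp (μ : A) (F : A[X]) : A[X][X] :=
  aeval (C X : A[X][X]) F * aeval (X : A[X][X]) F - C (C (F.coeff 0 ^ 2)) - aeval (wE μ) F
    + C (C (F.coeff 0))

/-- The defect of the functional equation, as an element of `A[S, T]`. -/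
noncomputable def Hm (μ : A) (F : A[X]) : MvPolynomial (Fin 2) A :=
  aeval (MvPolynomial.X 0 : MvPolynomial (Fin 2) A) F *
      aeval (MvPolynomial.X 1 : MvPolynomial (Fin 2) A) F - MvPolynomial.C (F.coeff 0 ^ 2)
    - aeval (MvPolynomial.X 0 + MvPolynomial.X 1 +
        MvPolynomial.C μ * MvPolynomial.X 0 * MvPolynomial.X 1 : MvPolynomial (Fin 2) A) F
    + MvPolynomial.C (F.coeff 0)

theorem aeval_CX (G : A[X]) : aeval (C X : A[X][X]) G = C G := by
  have := aeval_algHom_apply (CAlgHom : A[X] →ₐ[A] A[X][X]) (X : A[X]) G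
  simpa using this

theorem chain (q : A[X][X]) (G : A[X]) :
    derivative (aeval q G) = aeval q (derivative G) * derivative q := by
  have := Derivation.comp_aeval_eq q
    ((derivative' : Derivation A[X] A[X][X] A[X][X]).restrictScalars A) G
  exact this

theorem aeval_eq_comp (q : A[X][X]) (G : A[X]) :
    aeval q G = (G.map (algebraMap A A[X])).comp q := by
  rw [comp, eval₂_map, aeval_def]
  rfl

theorem natDegree_aeval_le (q : A[X][X]) (hq : q.natDegree ≤ 1) (G : A[X]) :
    (aeval q G).natDegree ≤ G.natDegree := by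
  rw [aeval_eq_comp]
  refine natDegree_comp_le.trans ?_
  calc (G.map (algebraMap A A[X])).natDegree * q.natDegree
      ≤ G.natDegree * 1 := Nat.mul_le_mul natDegree_map_le hq
    _ = G.natDegree := mul_one _

theorem wE_eq (μ : A) : wE μ = C (1 + C μ * X) * X + C X := by
  unfold wE
  simp only [map_add, map_mul, map_one]
  ring

theorem natDegree_wE_le (μ : A) : (wE μ).natDegree ≤ 1 := by
  rw [wE_eq]
  exact natDegree_linear_le

theorem derivative_wE (μ : A) : derivative (wE μ) = 1 + C (C μ) * C X := by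
  rw [wE_eq, derivative_add, derivative_C_mul, derivative_X, derivative_C, add_zero, mul_one]
  simp only [map_add, map_mul, map_one]

theorem one_add_mul_wE (μ : A) :
    1 + C (C μ) * wE μ = (1 + C (C μ) * C X) * (1 + C (C μ) * X) := by
  unfold wE
  ring

/-- Transport of the ODE along `aeval q`. -/
theorem ode_aeval (μ : A) (F : A[X])
    (hode : F * C (F.coeff 1) = derivative F * (1 + C μ * X)) (q : A[X][X]) :
    aeval q F * C (C (F.coeff 1)) = aeval q (derivative F) * (1 + C (C μ) * q) := by
  have := congrArg (aeval q) hode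
  simpa [Polynomial.algebraMap_apply, ← C_eq_algebraMap] using this

theorem coeff_zero_mul_coeff_one (μ : A) (F : A[X])
    (hode : F * C (F.coeff 1) = derivative F * (1 + C μ * X)) :
    F.coeff 0 * F.coeff 1 = F.coeff 1 := by
  have := congrArg (fun q => q.coeff 0) hode
  simpa [coeff_derivative, mul_coeff_zero] using this

/-- evaluation at `t = 0`, as an `A`-algebra map. -/
noncomputable def ev0 : A[X][X] →ₐ[A] A[X] :=
  (aeval (0 : A[X]) : A[X][X] →ₐ[A[X]] A[X]).restrictScalars A

@[simp] theorem ev0_C (G : A[X]) : ev0 (C G) = G := by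
  simp [ev0]

@[simp] theorem ev0_X : ev0 (X : A[X][X]) = 0 := by
  simp [ev0]

theorem ev0_wE (μ : A) : ev0 (wE μ) = X := by
  unfold wE
  simp

theorem ev0_aeval (q : A[X][X]) (G : A[X]) : ev0 (aeval q G) = aeval (ev0 q) G :=
  (aeval_algHom_apply ev0 q G).symm

theorem coeff_zero_eq_ev0 (Y : A[X][X]) : Y.coeff 0 = ev0 Y := by
  rw [coeff_zero_eq_aeval_zero]; rfl

theorem aeval_zero' (G : A[X]) : aeval (0 : A[X]) G = C (G.coeff 0) := by
  rw [← coeff_zero_eq_aeval_zero', C_eq_algebraMap]

theorem ev0_Hp (μ : A) (F : A[X]) :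
    ev0 (Hp μ F) = F * C (F.coeff 0) - C (F.coeff 0 ^ 2) - F + C (F.coeff 0) := by
  unfold Hp
  rw [aeval_CX]
  simp only [map_add, map_sub, map_mul, ev0_C, ev0_aeval, ev0_X, ev0_wE, aeval_zero',
    aeval_X_left_apply]


theorem natDegree_Hp_le (μ : A) (F : A[X]) : (Hp μ F).natDegree ≤ F.natDegree := by
  unfold Hp
  rw [aeval_CX]
  have e1 : (C F * aeval (X : A[X][X]) F).natDegree ≤ F.natDegree :=
    (natDegree_C_mul_le _ _).trans (natDegree_aeval_le X natDegree_X_le F)
  have e2 : ∀ a : A, (C (C a) : A[X][X]).natDegree ≤ F.natDegree := fun a => by simp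
  have e3 : (aeval (wE μ) F).natDegree ≤ F.natDegree := natDegree_aeval_le _ (natDegree_wE_le μ) F
  exact (natDegree_add_le _ _).trans (max_le ((natDegree_sub_le _ _).trans
    (max_le ((natDegree_sub_le _ _).trans (max_le e1 (e2 _))) e3)) (e2 _))

theorem derivative_Hp (μ : A) (F : A[X]) :
    derivative (Hp μ F) = C F * aeval (X : A[X][X]) (derivative F)
      - aeval (wE μ) (derivative F) * (1 + C (C μ) * C X) := by
  unfold Hp
  rw [aeval_CX]
  simp only [derivative_add, derivative_sub, derivative_C_mul, derivative_C, chain, derivative_X,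
    derivative_wE, mul_one, sub_zero, add_zero]

/-- `(⇐)`: the ODE implies the functional equation. -/
theorem Hp_eq_zero (p : ℕ) (hu : IsUnit ((Nat.factorial (p - 1) : ℕ) : A)) (μ : A) (F : A[X])
    (hF : F.natDegree < p)
    (hode : F * C (F.coeff 1) = derivative F * (1 + C μ * X)) : Hp μ F = 0 := by
  have h01 := coeff_zero_mul_coeff_one μ F hode
  have hu' : IsUnit ((Nat.factorial (p - 1) : ℕ) : A[X]) := by
    have := hu.map (C : A →+* A[X])
    simpa using this
  refine ode_unique p hu' (C μ) (C (F.coeff 1)) (Hp μ F)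
    ((natDegree_Hp_le μ F).trans_lt hF) ?_ ?_
  · -- value at `t = 0`
    rw [coeff_zero_eq_ev0, ev0_Hp]
    refine ode_unique p hu μ 0 _ ?_ ?_ ?_
    · refine lt_of_le_of_lt ?_ hF
      have e2 : ∀ a : A, (C a : A[X]).natDegree ≤ F.natDegree := fun a => by simp
      exact (natDegree_add_le _ _).trans (max_le ((natDegree_sub_le _ _).trans
        (max_le ((natDegree_sub_le _ _).trans (max_le (natDegree_mul_C_le _ _) (e2 _))) le_rfl))
        (e2 _))
    · simp only [coeff_add, coeff_sub, coeff_mul_C, coeff_C_zero]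
      ring
    · simp only [derivative_add, derivative_sub, derivative_mul, derivative_C, mul_zero, add_zero,
        sub_zero, map_zero, zero_mul]
      have h3 : (C (F.coeff 1) : A[X]) * (C (F.coeff 0) - 1) = 0 := by
        rw [← C_1, ← C_sub, ← C_mul, mul_sub, mul_one, mul_comm, h01, sub_self, C_0]
      linear_combination (-(C (F.coeff 0) - 1)) * hode + F * h3
  · rw [derivative_Hp]
    have hi := ode_aeval μ F hode (X : A[X][X])
    have hii := ode_aeval μ F hode (wE μ)
    have hiii := one_add_mul_wE μ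
    have hv : (C (C (F.coeff 1)) : A[X][X]) * (C (C (F.coeff 0 ^ 2)) - C (C (F.coeff 0))) = 0 := by
      rw [← C_sub, ← C_sub, ← C_mul, ← C_mul]
      have : F.coeff 1 * (F.coeff 0 ^ 2 - F.coeff 0) = 0 := by
        linear_combination F.coeff 0 * h01
      rw [this, C_0, C_0]
    unfold Hp
    rw [aeval_CX]
    linear_combination (-(C F : A[X][X])) * hi + hii + aeval (wE μ) (derivative F) * hiii + hv

/-- `(⇒)`: the functional equation implies the ODE. -/
theorem ode_of_Hp_eq_zero (μ : A) (F : A[X]) (h : Hp μ F = 0) :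
    F * C (F.coeff 1) = derivative F * (1 + C μ * X) := by
  have h1 : derivative (Hp μ F) = 0 := by rw [h, derivative_zero]
  rw [derivative_Hp] at h1
  have h2 := congrArg ev0 h1
  simp only [map_sub, map_mul, map_add, map_one, ev0_C, ev0_aeval, ev0_X, ev0_wE, aeval_zero',
    aeval_X_left_apply, map_zero, coeff_derivative] at h2
  simp only [Nat.cast_zero, C_0, zero_add, mul_one] at h2
  linear_combination h2

/-- The map `A[S,T] → A[s][t]`. -/
noncomputable def θ : MvPolynomial (Fin 2) A →ₐ[A] A[X][X] :=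
  MvPolynomial.aeval ![(C X : A[X][X]), X]

/-- The map `A[s][t] → A[S,T]`. -/
noncomputable def Ψ : A[X][X] →ₐ[A] MvPolynomial (Fin 2) A :=
  Polynomial.aevalTower (Polynomial.aeval (MvPolynomial.X 0 : MvPolynomial (Fin 2) A))
    (MvPolynomial.X 1)

theorem θ_Hm (μ : A) (F : A[X]) : θ (Hm μ F) = Hp μ F := by
  unfold Hm Hp wE
  simp only [map_add, map_sub, map_mul, ← aeval_algHom_apply]
  simp [θ, Polynomial.algebraMap_apply]

theorem Ψ_Hp (μ : A) (F : A[X]) : Ψ (Hp μ F) = Hm μ F := by
  unfold Hm Hp wE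
  simp only [map_add, map_sub, map_mul, ← aeval_algHom_apply]
  simp [Ψ]

theorem Hm_eq_zero_iff (p : ℕ) (hu : IsUnit ((Nat.factorial (p - 1) : ℕ) : A)) (μ : A) (F : A[X])
    (hF : F.natDegree < p) :
    Hm μ F = 0 ↔ F * C (F.coeff 1) = derivative F * (1 + C μ * X) := by
  constructor
  · intro h
    apply ode_of_Hp_eq_zero μ F
    rw [← θ_Hm, h, map_zero]
  · intro h
    rw [← Ψ_Hp, Hp_eq_zero p hu μ F hF h, map_zero]

end Groth.Agent.H99.FormalGrpODE
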