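import Mathlib
import Groth.Agent.S1341
import Groth.Agent.S1349

set_option autoImplicit false
set_option backward.isDefEq.respectTransparency.types false
set_option linter.style.haveILetI false

universe w u

open CategoryTheory CategoryTheory.Limits AlgebraicGeometry TopologicalSpace Topology

namespace Groth.Agent.H99.FppfQF

/-- In every nonempty fibre of a flat morphism locally of finite presentation there is a point,
closed in the fibre, at which the morphism is Cohen–Macaulay. -/
theorem exists_cm_closed_point {X S : Scheme.{u}} (f : X ⟶ S)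
    [Flat f] [LocallyOfFinitePresentation f] (x₀ : X) :
    ∃ x : X, f.base x = f.base x₀ ∧ MoreMor.IsCMAt f x ∧
      IsClosed ({f.asFiber x} : Set ↑(f.fiber (f.base x))) := by
  obtain ⟨hopen, hdense⟩ := Groth.Agent.S1341.result f
  obtain ⟨s, hs⟩ : ∃ s : S, f.base x₀ = s := ⟨_, rfl⟩
  rw [hs]
  haveI : LocallyOfFiniteType (f.fiberToSpecResidueField s) :=
    MorphismProperty.pullback_snd _ _ inferInstance
  haveI : JacobsonSpace (f.fiber s) :=
    LocallyOfFiniteType.jacobsonSpace (f.fiberToSpecResidueField s)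
  have hx₀' : x₀ ∈ Set.range (f.fiberι s).base := by rw [Scheme.Hom.range_fiberι]; exact hs
  obtain ⟨w₀, -⟩ := hx₀'
  have hW : IsOpen ((f.fiberι s).base ⁻¹' {x : ↑X | MoreMor.IsCMAt f x}) :=
    hopen.preimage (f.fiberι s).continuous
  obtain ⟨w₁, hw₁⟩ : ((f.fiberι s).base ⁻¹' {x : ↑X | MoreMor.IsCMAt f x}).Nonempty := by
    have := (hdense s).inter_open_nonempty Set.univ isOpen_univ ⟨w₀, trivial⟩
    simpa using this
  obtain ⟨w, hwW, hwcl⟩ := nonempty_inter_closedPoints ⟨w₁, hw₁⟩ hW.isLocallyClosed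
  obtain ⟨x, hx⟩ : ∃ x : X, x = (f.fiberι s).base w := ⟨_, rfl⟩
  have hfx : f.base x = s := by
    have : x ∈ Set.range (f.fiberι s).base := ⟨w, hx.symm⟩
    rw [Scheme.Hom.range_fiberι] at this
    exact this
  clear hs
  subst hfx
  refine ⟨x, rfl, ?_, ?_⟩
  · have : (f.fiberι (f.base x)).base w ∈ {x : ↑X | MoreMor.IsCMAt f x} := hwW
    rw [← hx] at this
    exact this
  · have hw : w = f.asFiber x := by
      apply (f.fiberι (f.base x)).isEmbedding.injective
      rw [f.fiberι_asFiber]
      exact hx.symm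
    rw [← hw]
    exact hwcl

/-- Through every point of the image of a flat morphism `f` locally of finite presentation there is
an affine flat quasi-finite chart factoring through `f`. -/
theorem exists_flat_chart {X S : Scheme.{u}} (f : X ⟶ S)
    [Flat f] [LocallyOfFinitePresentation f] (x₀ : X) :
    ∃ (T : Scheme.{u}) (h : T ⟶ X), IsAffine T ∧ Flat (h ≫ f) ∧
      LocallyOfFinitePresentation (h ≫ f) ∧ LocallyQuasiFinite (h ≫ f) ∧
      f.base x₀ ∈ Set.range (h ≫ f).base := by
  obtain ⟨x, hxs, hcm, hcl⟩ := exists_cm_closed_point f x₀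
  obtain ⟨V, Z, i, -, ⟨z, hz⟩, hfl, hfp, hqf, -⟩ := Groth.Agent.S1349.result f x hcm hcl
  obtain ⟨T₀, hT₀, hzT⟩ : ∃ T₀ : Z.Opens, IsAffineOpen T₀ ∧ z ∈ T₀ := by
    obtain ⟨_, ⟨T₀, hT₀, rfl⟩, hzT, -⟩ :=
      Z.isBasis_affineOpens.exists_subset_of_mem_open (a := z) (Set.mem_univ z) isOpen_univ
    exact ⟨T₀, hT₀, hzT⟩
  haveI : IsAffine (T₀ : Scheme.{u}) := hT₀
  refine ⟨T₀, T₀.ι ≫ i ≫ V.ι, inferInstance, ?_, ?_, ?_, ?_⟩
  · rw [Category.assoc, Category.assoc]
    infer_instance
  · rw [Category.assoc, Category.assoc]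
    infer_instance
  · rw [Category.assoc, Category.assoc]
    infer_instance
  · refine ⟨⟨z, hzT⟩, ?_⟩
    have h1 : T₀.ι.base ⟨z, hzT⟩ = z := rfl
    rw [Category.assoc, Category.assoc, Scheme.Hom.comp_base, TopCat.comp_app, h1,
      ← Category.assoc, Scheme.Hom.comp_base, TopCat.comp_app, hz, hxs]

/-- The property "flat, locally of finite presentation and locally quasi-finite". -/
abbrev P' : MorphismProperty Scheme.{u} :=
  (@Flat ⊓ @LocallyOfFinitePresentation) ⊓ @LocallyQuasiFinite

instance : (P' : MorphismProperty Scheme.{u}).IsMultiplicative where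
  id_mem X := ⟨⟨inferInstance, inferInstance⟩, inferInstance⟩
  comp_mem f g hf hg := by
    haveI : Flat f := hf.1.1
    haveI : LocallyOfFinitePresentation f := hf.1.2
    haveI : LocallyQuasiFinite f := hf.2
    haveI : Flat g := hg.1.1
    haveI : LocallyOfFinitePresentation g := hg.1.2
    haveI : LocallyQuasiFinite g := hg.2
    exact ⟨⟨inferInstance, inferInstance⟩, inferInstance⟩

instance : (P' : MorphismProperty Scheme.{u}).IsStableUnderBaseChange :=
  inferInstanceAs (MorphismProperty.IsStableUnderBaseChange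
    ((@Flat ⊓ @LocallyOfFinitePresentation) ⊓ @LocallyQuasiFinite))

instance : IsZariskiLocalAtSource (P' : MorphismProperty Scheme.{u}) :=
  inferInstanceAs (IsZariskiLocalAtSource
    ((@Flat ⊓ @LocallyOfFinitePresentation) ⊓ @LocallyQuasiFinite))

theorem P'_le_isOpenMap :
    (P' : MorphismProperty Scheme.{u}) ≤ fun _ _ f ↦ IsOpenMap f.base := by
  intro X Y f hf
  haveI : Flat f := hf.1.1
  haveI : LocallyOfFinitePresentation f := hf.1.2
  exact f.isOpenMap

/-- Every fppf covering is refined by a covering by flat, finitely presented, locally quasi-finite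
morphisms. -/
theorem fppfTopology_le : Scheme.fppfTopology.{u} ≤ Scheme.propQCTopology P' := by
  rw [Precoverage.toGrothendieck_le_iff_le_toPrecoverage]
  intro Y R hR
  rw [GrothendieckTopology.mem_toPrecoverage_iff]
  obtain ⟨ι, Z₀, g₀, rfl⟩ := R.exists_eq_ofArrows
  have hR' : Presieve.ofArrows Z₀ g₀ ∈
      Scheme.precoverage (@Flat ⊓ @LocallyOfFinitePresentation) Y := hR
  rw [Scheme.ofArrows_mem_precoverage_iff] at hR'
  obtain ⟨hcov, hprop₀⟩ := hR'
  choose idx hidx using hcov
  choose x hx using hidx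
  let Z : Y → Scheme.{u} := fun y => Z₀ (idx y)
  let g : ∀ y, Z y ⟶ Y := fun y => g₀ (idx y)
  have hprop : ∀ y, (@Flat ⊓ @LocallyOfFinitePresentation) (g y) := fun y => hprop₀ (idx y)
  have hchart : ∀ y : Y, ∃ (T : Scheme.{u}) (h : T ⟶ Z y), IsAffine T ∧ Flat (h ≫ g y) ∧
      LocallyOfFinitePresentation (h ≫ g y) ∧ LocallyQuasiFinite (h ≫ g y) ∧
      y ∈ Set.range (h ≫ g y).base := by
    intro y
    haveI : Flat (g y) := (hprop y).1
    haveI : LocallyOfFinitePresentation (g y) := (hprop y).2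
    have := exists_flat_chart (g y) (x y)
    rw [hx y] at this
    exact this
  choose T h hT hfl hfp hqf hy using hchart
  have hmem : Presieve.ofArrows T (fun y => h y ≫ g y) ∈ Scheme.propQCPrecoverage P' Y := by
    have h1 : Presieve.ofArrows T (fun y => h y ≫ g y) ∈ Scheme.precoverage P' Y := by
      rw [Scheme.ofArrows_mem_precoverage_iff]
      exact ⟨fun y => ⟨y, hy y⟩, fun y => ⟨⟨hfl y, hfp y⟩, hqf y⟩⟩
    exact ⟨Scheme.precoverage_le_qcPrecoverage_of_isOpenMap P'_le_isOpenMap _ h1, h1⟩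
  refine (Scheme.propQCTopology P').superset_covering ?_
    (Precoverage.generate_mem_toGrothendieck hmem)
  rw [Sieve.generate_le_iff]
  rintro W _ ⟨y⟩
  exact ⟨Z y, h y, g y, ⟨idx y⟩, rfl⟩

end Groth.Agent.H99.FppfQF
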