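import Mathlib
import Groth.Agent.H17.Chev.RedSubMain
import Groth.Agent.H17.Chev.RedSubChev

/-!
# EGA IV 13.3.x: the dimension formula for an irreducible closed subset `X' ⊆ X`
(helper99; for S4985)
-/

set_option autoImplicit false
set_option backward.isDefEq.respectTransparency.types false
set_option linter.style.haveILetI false
set_option linter.unusedSectionVars false
universe u

open AlgebraicGeometry CategoryTheory TopologicalSpace Limits Order Topology

namespace Groth.Agent.H99.IrrClosedDim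

open Groth.Agent.H17.Chev

theorem exists_nat_of_nonneg_of_lt_top {x : WithBot ℕ∞} (h0 : 0 ≤ x) (h1 : x < ⊤) :
    ∃ n : ℕ, x = (n : WithBot ℕ∞) := by
  induction x using WithBot.recBotCoe with
  | bot => simp at h0
  | coe y =>
    induction y using ENat.recTopCoe with
    | top => exact absurd h1 (lt_irrefl _)
    | coe a => exact ⟨a, rfl⟩

theorem arith (dA dA' dB' dB'k dBk fd e' : WithBot ℕ∞)
    (h1 : dB' + fd ≤ dA' + dB'k + e') (h3 : dA' ≤ dA) (h4 : dB'k ≤ dBk) (h5 : e' ≤ fd)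
    (n0 : 0 ≤ dA') (n1 : 0 ≤ dB'k) (n2 : 0 ≤ dB') (n3 : 0 ≤ e')
    (f0 : dA < ⊤) (f1 : dBk < ⊤) (f2 : dB' < ⊤) (f3 : fd < ⊤) :
    dB' = dA + dBk ↔ (dA' = dA ∧ dB'k = dBk ∧ fd = e' ∧ dB' = dA' + dB'k) := by
  obtain ⟨a, rfl⟩ := exists_nat_of_nonneg_of_lt_top (n0.trans h3) f0
  obtain ⟨a', rfl⟩ := exists_nat_of_nonneg_of_lt_top n0 (lt_of_le_of_lt h3 f0)
  obtain ⟨bk, rfl⟩ := exists_nat_of_nonneg_of_lt_top (n1.trans h4) f1
  obtain ⟨bk', rfl⟩ := exists_nat_of_nonneg_of_lt_top n1 (lt_of_le_of_lt h4 f1)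
  obtain ⟨b', rfl⟩ := exists_nat_of_nonneg_of_lt_top n2 f2
  obtain ⟨d, rfl⟩ := exists_nat_of_nonneg_of_lt_top (n3.trans h5) f3
  obtain ⟨e, rfl⟩ := exists_nat_of_nonneg_of_lt_top n3 (lt_of_le_of_lt h5 f3)
  have h1' : b' + d ≤ a' + bk' + e := by exact_mod_cast h1
  have h3' : a' ≤ a := by exact_mod_cast h3
  have h4' : bk' ≤ bk := by exact_mod_cast h4
  have h5' : e ≤ d := by exact_mod_cast h5
  constructor
  · intro h
    have h' : b' = a + bk := by exact_mod_cast h
    refine ⟨?_, ?_, ?_, ?_⟩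
    · have : a' = a := by omega
      exact_mod_cast this
    · have : bk' = bk := by omega
      exact_mod_cast this
    · have : d = e := by omega
      exact_mod_cast this
    · have : b' = a' + bk' := by omega
      exact_mod_cast this
  · rintro ⟨h1, h2, -, h4⟩
    rw [h4, h1, h2]

theorem topologicalKrullDim_nonneg_of_nonempty (T : Type*) [TopologicalSpace T] [Nonempty T] :
    0 ≤ topologicalKrullDim T := by
  haveI : Nonempty (IrreducibleCloseds T) :=
    ⟨⟨closure {Classical.arbitrary T}, isIrreducible_singleton.closure, isClosed_closure⟩⟩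
  exact Order.krullDim_nonneg

theorem main {X Y X₁ Y₁ : Scheme.{u}} [IsLocallyNoetherian Y] (f : X ⟶ Y)
    [LocallyOfFiniteType f]
    (X' : Set X) (hc : IsClosed X') (hirr : IsIrreducible X')
    (iX : X₁ ⟶ X) [IsClosedImmersion iX] (hrX : Set.range iX.base = X')
    (iY : Y₁ ⟶ Y) [IsClosedImmersion iY] (hrY : Set.range iY.base = closure (f.base '' X'))
    (w : X₁) (v : Y₁) (hv : iY.base v = f.base (iX.base w))
    (η' : Y) (hη' : closure ({η'} : Set Y) = closure (f.base '' X')) :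
    ringKrullDim (X₁.presheaf.stalk w) =
        ringKrullDim (Y.presheaf.stalk (f.base (iX.base w))) +
          ringKrullDim ((f.fiber (f.base (iX.base w))).presheaf.stalk (f.asFiber (iX.base w))) ↔
      (ringKrullDim (Y₁.presheaf.stalk v) = ringKrullDim (Y.presheaf.stalk (f.base (iX.base w))) ∧
        ringKrullDim (((iX ≫ f).fiber ((iX ≫ f).base w)).presheaf.stalk ((iX ≫ f).asFiber w)) =
          ringKrullDim ((f.fiber (f.base (iX.base w))).presheaf.stalk (f.asFiber (iX.base w))) ∧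
        FlatMor.fibreDimAt (iX ≫ f) w = topologicalKrullDim ↥(X' ∩ f.base ⁻¹' {η'}) ∧
        ringKrullDim (X₁.presheaf.stalk w) = ringKrullDim (Y₁.presheaf.stalk v) +
          ringKrullDim (((iX ≫ f).fiber ((iX ≫ f).base w)).presheaf.stalk
            ((iX ≫ f).asFiber w))) := by
  subst hrX
  obtain ⟨ξ, hξ⟩ := QuasiSober.sober hirr hc
  have hηξ : η' = f.base ξ := by
    have h1 : IsGenericPoint η' (closure (f.base '' Set.range iX.base)) := hη'
    have h2 : IsGenericPoint (f.base ξ) (closure (f.base '' Set.range iX.base)) :=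
      (closure_image_eq_of_isGenericPoint f.base f.continuous _ ξ hξ).symm
    exact h1.eq h2
  subst hηξ
  have hx : iX.base w ∈ Set.range iX.base := ⟨w, rfl⟩
  have hy : f.base (iX.base w) ∈ closure {f.base ξ} := by
    have h1 : ξ ⤳ iX.base w := by
      rw [specializes_iff_mem_closure, hξ.def]; exact hx
    exact (h1.map f.continuous).mem_closure
  have hmain := (coheight_add_localDim_le_and_eq f _ hc ξ hξ (iX.base w) hx hy).1
  have hchev := dim_generic_le_localDim f _ hc ξ hξ (iX.base w) hx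
  have hsq : (iX ≫ f) ≫ 𝟙 Y = iX ≫ f := Category.comp_id _
  have hinj : Function.Injective (𝟙 Y : Y ⟶ Y).base := fun a b h => h
  have T1 := sq_stalk_source f iX (𝟙 Y) (iX ≫ f) hsq w
  have T2 := sq_fibreDimAt f iX (𝟙 Y) (iX ≫ f) hsq hinj w
  have T4 := sq_stalk_fiber f iX (𝟙 Y) (iX ≫ f) hsq hinj w
  have hsq' : f ≫ 𝟙 Y = 𝟙 X ≫ f := by simp
  have T4' := sq_stalk_fiber f (𝟙 X) (𝟙 Y) f hsq' hinj (iX.base w)
  have TA' := stalk_eq_coheight_range iY v
  have TA := ringKrullDim_stalk_eq_coheight (f.base (iX.base w))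
  have hXN : IsLocallyNoetherian X := LocallyOfFiniteType.isLocallyNoetherian f
  have hX₁N : IsLocallyNoetherian X₁ := LocallyOfFiniteType.isLocallyNoetherian (iX ≫ f)
  have hY₁N : IsLocallyNoetherian Y₁ := LocallyOfFiniteType.isLocallyNoetherian iY
  have hlft : LocallyOfFiniteType (f.fiberToSpecResidueField (f.base (iX.base w))) :=
    inferInstanceAs (LocallyOfFiniteType
      (pullback.snd f (Y.fromSpecResidueField (f.base (iX.base w)))))
  have hFN : IsLocallyNoetherian (f.fiber (f.base (iX.base w))) :=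
    LocallyOfFiniteType.isLocallyNoetherian (f.fiberToSpecResidueField (f.base (iX.base w)))
  have hA' : (coheight (⟨iY.base v, v, rfl⟩ : ↥(Set.range iY.base))) =
      coheight (⟨f.base (iX.base w), hy⟩ : ↥(closure {f.base ξ})) :=
    coheight_subtype_congr' (hrY.trans hη'.symm) hv _ _
  refine arith _ _ _ _ _ _ _ ?_ ?_ ?_ ?_ ?_ ?_ ?_ ?_ ?_ ?_ ?_ ?_
  · rw [T1, T2, T4, TA', hA']
    exact hmain
  · rw [TA', TA]
    have h := coheight_le_coheight_apply_of_strictMono
      (Subtype.val : ↥(Set.range iY.base) → Y) (Subtype.strictMono_coe _) ⟨iY.base v, v, rfl⟩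
    have h2 : coheight (iY.base v) = coheight (f.base (iX.base w)) := by rw [hv]
    rw [h2] at h
    exact_mod_cast h
  · rw [T4, T4']
    let g : ↥(Set.range iX.base ∩ f.base ⁻¹' {f.base (iX.base w)}) →
        ↥(Set.range (𝟙 X : X ⟶ X).base ∩
          f.base ⁻¹' {f.base ((𝟙 X : X ⟶ X).base (iX.base w))}) :=
      fun z => ⟨z.1, ⟨z.1, rfl⟩, z.2.2⟩
    have hg : StrictMono g := fun a b hab => hab
    have h := coheight_le_coheight_apply_of_strictMono g hg
      ⟨iX.base w, sq_mem f iX (𝟙 Y) (iX ≫ f) hsq w⟩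
    exact_mod_cast h
  · rw [T2]
    exact hchev
  · exact ringKrullDim_nonneg_of_nontrivial
  · exact ringKrullDim_nonneg_of_nontrivial
  · exact ringKrullDim_nonneg_of_nontrivial
  · haveI : Nonempty ↥(Set.range iX.base ∩ f.base ⁻¹' {f.base ξ}) := ⟨⟨ξ, hξ.mem, rfl⟩⟩
    exact topologicalKrullDim_nonneg_of_nonempty _
  · exact ringKrullDim_lt_top
  · exact ringKrullDim_lt_top
  · exact ringKrullDim_lt_top
  · obtain ⟨n, hn⟩ := exists_nat_eq_fibreDimAt (iX ≫ f) w
    rw [hn]
    exact WithBot.coe_lt_coe.mpr (ENat.natCast_lt_top n)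

end Groth.Agent.H99.IrrClosedDim
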