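import Mathlib
import Groth.Agent.H99.IrrClosedDim
import Groth.Agent.H17.Chev.LocDimField

/-!
# EGA IV 13.3.x, second form (helper99; for S4986)
-/

set_option autoImplicit false
set_option backward.isDefEq.respectTransparency.types false
set_option linter.style.haveILetI false
set_option linter.unusedSectionVars false
universe u

open AlgebraicGeometry CategoryTheory TopologicalSpace Limits Order Topology

namespace Groth.Agent.H99.IrrClosedDim

open Groth.Agent.H17.Chev

/-- The dimension of the closure of a point in a fibre, in terms of the ambient space. -/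
theorem dim_closure_asFiber {X Y : Scheme.{u}} (g : X ⟶ Y) (x : X) :
    topologicalKrullDim ↥(closure ({g.asFiber x} : Set ↥(g.fiber (g.base x)))) =
      topologicalKrullDim ↥(closure ({x} : Set X) ∩ g.base ⁻¹' {g.base x}) := by
  let e : ↥(closure ({g.asFiber x} : Set ↥(g.fiber (g.base x)))) → X :=
    fun z => (g.fiberι (g.base x)).base z.1
  have he : IsEmbedding e := (g.fiberι (g.base x)).isEmbedding.comp IsEmbedding.subtypeVal
  refine topologicalKrullDim_eq_of_isEmbedding e he _ ?_
  ext t
  constructor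
  · rintro ⟨z, rfl⟩
    refine ⟨?_, ?_⟩
    · have h1 : g.asFiber x ⤳ z.1 := specializes_iff_mem_closure.mpr z.2
      have h2 := h1.map (g.fiberι (g.base x)).continuous
      rw [g.fiberι_asFiber] at h2
      exact h2.mem_closure
    · have : (g.fiberι (g.base x)).base z.1 ∈ Set.range (g.fiberι (g.base x)).base := ⟨_, rfl⟩
      rw [Scheme.Hom.range_fiberι] at this
      exact this
  · rintro ⟨h1, h2⟩
    have : t ∈ Set.range (g.fiberι (g.base x)).base := by
      rw [Scheme.Hom.range_fiberι]; exact h2
    obtain ⟨z, rfl⟩ := this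
    have h3 : (g.fiberι (g.base x)).base (g.asFiber x) ⤳ (g.fiberι (g.base x)).base z := by
      rw [g.fiberι_asFiber x]
      exact specializes_iff_mem_closure.mpr h1
    have h4 : g.asFiber x ⤳ z :=
      (g.fiberι (g.base x)).isEmbedding.isInducing.specializes_iff.mp h3
    exact ⟨⟨z, h4.mem_closure⟩, rfl⟩

/-- `dim_x(X_y) = dim O_{X_y,x} + dim (closure{x} ∩ X_y)`. -/
theorem fibreDimAt_eq_stalk_add {X Y : Scheme.{u}} (g : X ⟶ Y) [LocallyOfFiniteType g] (x : X) :
    FlatMor.fibreDimAt g x =
      ringKrullDim ((g.fiber (g.base x)).presheaf.stalk (g.asFiber x)) +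
        topologicalKrullDim ↥(closure ({x} : Set X) ∩ g.base ⁻¹' {g.base x}) := by
  have hlft : LocallyOfFiniteType (g.fiberToSpecResidueField (g.base x)) :=
    inferInstanceAs (LocallyOfFiniteType (pullback.snd g (Y.fromSpecResidueField (g.base x))))
  unfold FlatMor.fibreDimAt
  rw [localDim_eq_coheight_add (Y.residueField (g.base x)) (g.fiberToSpecResidueField (g.base x))
    (g.asFiber x), ringKrullDim_stalk_eq_coheight, dim_closure_asFiber]

theorem add_right_cancel_of_nat {a b c : WithBot ℕ∞} (n : ℕ) (hc : c = n) :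
    a + c = b + c ↔ a = b := by
  subst hc
  constructor
  · intro h
    induction a using WithBot.recBotCoe with
    | bot =>
      induction b using WithBot.recBotCoe with
      | bot => rfl
      | coe b =>
        exfalso
        rw [WithBot.bot_add] at h
        have h2 : ((b + (n : ℕ∞) : ℕ∞) : WithBot ℕ∞) = ⊥ := by
          rw [h]; push_cast; rfl
        exact WithBot.coe_ne_bot h2
    | coe a =>
      induction b using WithBot.recBotCoe with
      | bot =>
        exfalso
        rw [WithBot.bot_add] at h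
        have h2 : ((a + (n : ℕ∞) : ℕ∞) : WithBot ℕ∞) = ⊥ := by
          rw [← h]; push_cast; rfl
        exact WithBot.coe_ne_bot h2
      | coe b =>
        have h' : a + (n : ℕ∞) = b + (n : ℕ∞) := by exact_mod_cast h
        have : a = b := (ENat.add_left_injective_of_ne_top (ENat.natCast_ne_top n)) h'
        rw [this]
  · rintro rfl; rfl

theorem main2 {X Y X₁ Y₁ : Scheme.{u}} [IsLocallyNoetherian Y] (f : X ⟶ Y)
    [LocallyOfFiniteType f]
    (X' : Set X) (hc : IsClosed X') (hirr : IsIrreducible X')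
    (iX : X₁ ⟶ X) [IsClosedImmersion iX] (hrX : Set.range iX.base = X')
    (iY : Y₁ ⟶ Y) [IsClosedImmersion iY] (hrY : Set.range iY.base = closure (f.base '' X'))
    (w : X₁) (v : Y₁) (hv : iY.base v = f.base (iX.base w)) (hx : iX.base w ∈ X')
    (η' : Y) (hη' : closure ({η'} : Set Y) = closure (f.base '' X'))
    (h : ringKrullDim (X.presheaf.stalk (iX.base w)) =
        ringKrullDim (Y.presheaf.stalk (f.base (iX.base w))) +
          ringKrullDim ((f.fiber (f.base (iX.base w))).presheaf.stalk
            (f.asFiber (iX.base w)))) :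
    (ringKrullDim (Y₁.presheaf.stalk v) = ringKrullDim (Y.presheaf.stalk (f.base (iX.base w))) ∧
        FlatMor.localDim ↥(X' ∩ f.base ⁻¹' {f.base (iX.base w)}) ⟨iX.base w, ⟨hx, rfl⟩⟩ =
          FlatMor.fibreDimAt f (iX.base w) ∧
        FlatMor.fibreDimAt (iX ≫ f) w = topologicalKrullDim ↥(X' ∩ f.base ⁻¹' {η'}) ∧
        ringKrullDim (X₁.presheaf.stalk w) = ringKrullDim (Y₁.presheaf.stalk v) +
          ringKrullDim (((iX ≫ f).fiber ((iX ≫ f).base w)).presheaf.stalk
            ((iX ≫ f).asFiber w))) ↔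
      ringKrullDim (X₁.presheaf.stalk w) = ringKrullDim (X.presheaf.stalk (iX.base w)) := by
  have hmain := main f X' hc hirr iX hrX iY hrY w v hv η' hη'
  rw [h, hmain]
  subst hrX
  have hsq : (iX ≫ f) ≫ 𝟙 Y = iX ≫ f := Category.comp_id _
  have hinj : Function.Injective (𝟙 Y : Y ⟶ Y).base := fun a b h => h
  have T2 := sq_fibreDimAt f iX (𝟙 Y) (iX ≫ f) hsq hinj w
  have F1 := fibreDimAt_eq_stalk_add f (iX.base w)
  have F2 := fibreDimAt_eq_stalk_add (iX ≫ f) w
  -- the closures agree
  have hcl : topologicalKrullDim ↥(closure ({w} : Set X₁) ∩ (iX ≫ f).base ⁻¹' {(iX ≫ f).base w}) =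
      topologicalKrullDim ↥(closure ({iX.base w} : Set X) ∩ f.base ⁻¹' {f.base (iX.base w)}) := by
    let e : ↥(closure ({w} : Set X₁) ∩ (iX ≫ f).base ⁻¹' {(iX ≫ f).base w}) → X :=
      fun z => iX.base z.1
    have he : IsEmbedding e := iX.isEmbedding.comp IsEmbedding.subtypeVal
    refine topologicalKrullDim_eq_of_isEmbedding e he _ ?_
    ext t
    constructor
    · rintro ⟨z, rfl⟩
      refine ⟨?_, z.2.2⟩
      have h1 : w ⤳ z.1 := specializes_iff_mem_closure.mpr z.2.1
      exact (h1.map iX.continuous).mem_closure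
    · rintro ⟨h1, h2⟩
      have h3 : t ∈ Set.range iX.base :=
        (closure_minimal (Set.singleton_subset_iff.mpr hx) hc) h1
      obtain ⟨z, rfl⟩ := h3
      have h4 : w ⤳ z :=
        iX.isEmbedding.isInducing.specializes_iff.mp (specializes_iff_mem_closure.mpr h1)
      exact ⟨⟨z, h4.mem_closure, h2⟩, rfl⟩
  obtain ⟨n, hn⟩ := exists_nat_eq_fibreDimAt f (iX.base w)
  -- `c` is a natural number
  have hcnat : ∃ c : ℕ, topologicalKrullDim
      ↥(closure ({iX.base w} : Set X) ∩ f.base ⁻¹' {f.base (iX.base w)}) = c := by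
    refine exists_nat_of_nonneg_of_lt_top ?_ ?_
    · haveI : Nonempty ↥(closure ({iX.base w} : Set X) ∩ f.base ⁻¹' {f.base (iX.base w)}) :=
        ⟨⟨iX.base w, subset_closure rfl, rfl⟩⟩
      exact topologicalKrullDim_nonneg_of_nonempty _
    · have h0 : (0 : WithBot ℕ∞) ≤ ringKrullDim ((f.fiber (f.base (iX.base w))).presheaf.stalk
          (f.asFiber (iX.base w))) := ringKrullDim_nonneg_of_nontrivial
      have h1 : topologicalKrullDim
          ↥(closure ({iX.base w} : Set X) ∩ f.base ⁻¹' {f.base (iX.base w)}) ≤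
          FlatMor.fibreDimAt f (iX.base w) := by
        rw [F1]
        exact le_add_of_nonneg_left h0
      refine lt_of_le_of_lt h1 ?_
      rw [hn]
      exact WithBot.coe_lt_coe.mpr (ENat.natCast_lt_top n)
  obtain ⟨c, hc'⟩ := hcnat
  have key : FlatMor.localDim ↥(Set.range iX.base ∩ f.base ⁻¹' {f.base (iX.base w)})
        ⟨iX.base w, ⟨hx, rfl⟩⟩ = FlatMor.fibreDimAt f (iX.base w) ↔
      ringKrullDim (((iX ≫ f).fiber ((iX ≫ f).base w)).presheaf.stalk ((iX ≫ f).asFiber w)) =
        ringKrullDim ((f.fiber (f.base (iX.base w))).presheaf.stalk (f.asFiber (iX.base w))) := by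
    rw [← T2, F1, F2, hcl]
    exact add_right_cancel_of_nat c hc'
  rw [key]

end Groth.Agent.H99.IrrClosedDim
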