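import Mathlib

/-!
# Coordinates on `R[X]/(uX, X^2 - v^2)` (with `uv = 0`)
-/

set_option autoImplicit false
universe u

namespace Groth.Agent.H99.PrePerfA

open Polynomial

variable {R : Type u} [CommRing R] (u v : R)

/-- even coordinate: `f ↦ Σ_{n even} f_n v^n`. -/
noncomputable def e0 : R[X] →ₗ[R] R :=
  Polynomial.lsum fun n => if Even n then LinearMap.mulRight R (v ^ n) else 0

/-- odd coordinate: `f ↦ Σ_{n odd} f_n v^(n-1)`. -/
noncomputable def e1 : R[X] →ₗ[R] R :=
  Polynomial.lsum fun n => if Even n then 0 else LinearMap.mulRight R (v ^ (n - 1))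

theorem e0_monomial (n : ℕ) (a : R) :
    e0 v (monomial n a) = if Even n then a * v ^ n else 0 := by
  unfold e0
  rw [Polynomial.lsum_apply, Polynomial.sum_monomial_index]
  · split_ifs <;> simp
  · split_ifs <;> simp

theorem e1_monomial (n : ℕ) (a : R) :
    e1 v (monomial n a) = if Even n then 0 else a * v ^ (n - 1) := by
  unfold e1
  rw [Polynomial.lsum_apply, Polynomial.sum_monomial_index]
  · split_ifs <;> simp
  · split_ifs <;> simp

/-- the ideal -/
noncomputable abbrev J : Ideal R[X] := Ideal.span {(C u * X : R[X]), X ^ 2 - C (v ^ 2)}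

theorem e_gen1 (huv : u * v = 0) (q : R[X]) :
    e0 v (q * (C u * X)) = 0 ∧ e1 v (q * (C u * X)) ∈ Ideal.span {u} := by
  induction q using Polynomial.induction_on' with
  | add p q hp hq =>
    rw [add_mul, map_add, map_add, hp.1, hq.1, add_zero]
    exact ⟨rfl, Ideal.add_mem _ hp.2 hq.2⟩
  | monomial n a =>
    rw [C_mul_X_eq_monomial, monomial_mul_monomial, e0_monomial, e1_monomial]
    constructor
    · split_ifs with h
      · rw [pow_succ]
        linear_combination a * v ^ n * huv
      · rfl
    · split_ifs with h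
      · exact Ideal.zero_mem _
      · rw [Ideal.mem_span_singleton]
        exact ⟨a * v ^ (n + 1 - 1), by ring⟩

theorem e_gen2 (q : R[X]) :
    e0 v (q * (X ^ 2 - C (v ^ 2))) = 0 ∧ e1 v (q * (X ^ 2 - C (v ^ 2))) = 0 := by
  induction q using Polynomial.induction_on' with
  | add p q hp hq =>
    rw [add_mul, map_add, map_add, hp.1, hq.1, hp.2, hq.2, add_zero]
    exact ⟨rfl, rfl⟩
  | monomial n a =>
    have h1 : monomial n a * (X ^ 2 - C (v ^ 2)) =
        monomial (n + 2) a - monomial n (a * v ^ 2) := by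
      rw [mul_sub, X_pow_eq_monomial, monomial_mul_monomial, ← monomial_zero_left,
        monomial_mul_monomial, mul_one, add_zero]
    rw [h1, map_sub, map_sub, e0_monomial, e0_monomial, e1_monomial, e1_monomial]
    have hpar : Even (n + 2) ↔ Even n := by
      rw [Nat.even_add]
      simp
    constructor
    · by_cases h : Even n
      · rw [if_pos (hpar.mpr h), if_pos h]
        ring
      · rw [if_neg (fun h' => h (hpar.mp h')), if_neg h, sub_zero]
    · by_cases h : Even n
      · rw [if_pos (hpar.mpr h), if_pos h, sub_zero]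
      · rw [if_neg (fun h' => h (hpar.mp h')), if_neg h]
        have hn : 1 ≤ n := by
          rcases Nat.eq_zero_or_pos n with h0 | h0
          · exact absurd (h0 ▸ Even.zero) h
          · exact h0
        obtain ⟨m, rfl⟩ : ∃ m, n = m + 1 := ⟨n - 1, by omega⟩
        have : m + 1 + 2 - 1 = m + 2 := by omega
        rw [this, Nat.add_sub_cancel]
        ring

theorem e_mem (huv : u * v = 0) (g : R[X]) (hg : g ∈ J u v) :
    e0 v g = 0 ∧ e1 v g ∈ Ideal.span {u} := by
  obtain ⟨q₁, q₂, rfl⟩ := Ideal.mem_span_pair.mp hg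
  have h1 := e_gen1 u v huv q₁
  have h2 := e_gen2 v q₂
  rw [map_add, map_add, h1.1, h2.1, h2.2, add_zero, add_zero]
  exact ⟨rfl, h1.2⟩

/-- the quotient algebra `B = R[X]/(uX, X^2 - v^2)` -/
abbrev B : Type u := R[X] ⧸ J u v

/-- the class of `X` -/
noncomputable def α : B u v := Ideal.Quotient.mk (J u v) X

theorem u_mul_α : algebraMap R (B u v) u * α u v = 0 := by
  have : algebraMap R (B u v) u * α u v = Ideal.Quotient.mk (J u v) (C u * X) := by
    rw [map_mul]; rfl
  rw [this, Ideal.Quotient.eq_zero_iff_mem]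
  exact Ideal.subset_span (by simp)

theorem α_sq : α u v ^ 2 = algebraMap R (B u v) (v ^ 2) := by
  have : α u v ^ 2 - algebraMap R (B u v) (v ^ 2) =
      Ideal.Quotient.mk (J u v) (X ^ 2 - C (v ^ 2)) := by
    rw [map_sub, map_pow (Ideal.Quotient.mk (J u v))]; rfl
  rw [← sub_eq_zero, this, Ideal.Quotient.eq_zero_iff_mem]
  exact Ideal.subset_span (by simp)

/-- every element is `A + C α` -/
theorem exists_decomp (b : B u v) :
    ∃ A C' : R, b = algebraMap R (B u v) A + algebraMap R (B u v) C' * α u v := by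
  obtain ⟨f, rfl⟩ := Ideal.Quotient.mk_surjective b
  induction f using Polynomial.induction_on with
  | C a => exact ⟨a, 0, by rw [map_zero, zero_mul, add_zero]; rfl⟩
  | add p q hp hq =>
    obtain ⟨A, C', h⟩ := hp
    obtain ⟨A₂, C₂, h₂⟩ := hq
    refine ⟨A + A₂, C' + C₂, ?_⟩
    rw [map_add, h, h₂, map_add, map_add]
    ring
  | monomial n a h =>
    obtain ⟨A, C', h⟩ := h
    refine ⟨C' * v ^ 2, A, ?_⟩
    have : (Ideal.Quotient.mk (J u v)) (C a * X ^ (n + 1)) =
        (Ideal.Quotient.mk (J u v)) (C a * X ^ n) * α u v := by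
      rw [pow_succ, ← mul_assoc, map_mul]; rfl
    rw [this, h, add_mul, mul_assoc, ← pow_two, α_sq, map_mul]
    ring

variable (huv : u * v = 0)

/-- even coordinate on `B` -/
noncomputable def a0 : B u v →ₗ[R] R :=
  (Submodule.liftQ ((J u v).restrictScalars R) (e0 v)
    (fun g hg => (e_mem u v huv g hg).1)) ∘ₗ
    (Submodule.Quotient.restrictScalarsEquiv R (J u v)).symm.toLinearMap

/-- odd coordinate on `B`, with values in `R/(u)` -/
noncomputable def a1 : B u v →ₗ[R] R ⧸ Ideal.span {u} :=
  (Submodule.liftQ ((J u v).restrictScalars R) ((Submodule.mkQ (Ideal.span {u})) ∘ₗ e1 v)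
    (fun g hg => by
      rw [LinearMap.mem_ker, LinearMap.comp_apply, Submodule.mkQ_apply,
        Submodule.Quotient.mk_eq_zero]
      exact (e_mem u v huv g hg).2)) ∘ₗ
    (Submodule.Quotient.restrictScalarsEquiv R (J u v)).symm.toLinearMap

theorem a0_mk (f : R[X]) : a0 u v huv (Ideal.Quotient.mk (J u v) f) = e0 v f := rfl

theorem a1_mk (f : R[X]) :
    a1 u v huv (Ideal.Quotient.mk (J u v) f) = Ideal.Quotient.mk (Ideal.span {u}) (e1 v f) := rfl

theorem a0_one : a0 u v huv 1 = 1 := by
  have : (1 : B u v) = Ideal.Quotient.mk (J u v) (monomial 0 1) := by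
    rw [monomial_zero_left, map_one, map_one]
  rw [this, a0_mk, e0_monomial]
  simp

theorem a1_one : a1 u v huv 1 = 0 := by
  have : (1 : B u v) = Ideal.Quotient.mk (J u v) (monomial 0 1) := by
    rw [monomial_zero_left, map_one, map_one]
  rw [this, a1_mk, e1_monomial]
  simp

theorem a0_α : a0 u v huv (α u v) = 0 := by
  have : α u v = Ideal.Quotient.mk (J u v) (monomial 1 1) := by
    rw [monomial_one_one_eq_X]; rfl
  rw [this, a0_mk, e0_monomial]
  simp

theorem a1_α : a1 u v huv (α u v) = 1 := by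
  have : α u v = Ideal.Quotient.mk (J u v) (monomial 1 1) := by
    rw [monomial_one_one_eq_X]; rfl
  rw [this, a1_mk, e1_monomial]
  simp

theorem a0_decomp (A C' : R) :
    a0 u v huv (algebraMap R (B u v) A + algebraMap R (B u v) C' * α u v) = A := by
  rw [map_add, Algebra.algebraMap_eq_smul_one, ← Algebra.smul_def, map_smul, map_smul,
    a0_one, a0_α]
  simp

theorem a1_decomp (A C' : R) :
    a1 u v huv (algebraMap R (B u v) A + algebraMap R (B u v) C' * α u v) =
      Ideal.Quotient.mk (Ideal.span {u}) C' := by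
  rw [map_add, Algebra.algebraMap_eq_smul_one, ← Algebra.smul_def, map_smul, map_smul,
    a1_one, a1_α, smul_zero, zero_add]
  rw [Algebra.smul_def, mul_one]
  rfl

end Groth.Agent.H99.PrePerfA
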