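import Mathlib
import Groth.Prelude.Def_W4c1imperftorsorsPerf

/-!
# Elementary API for the Frobenius twists `Twist p R A i`
-/

set_option autoImplicit false
universe u

namespace Groth.Agent.H99.PrePerfB

open TensorProduct W4c1imperftorsors

variable (p : ℕ) [Fact p.Prime] (R : Type u) [CommRing R] [CharP R p]
  (A : Type u) [CommRing A] [Algebra R A] (i : ℕ)

/-- pure tensors -/
def tw (r : R) (a : A) : Twist p R A i := r ⊗ₜ[Src p R i] ((aEquiv p R A i).symm a)

theorem tw_balanced (s r : R) (a : A) :
    tw p R A i (s ^ p ^ i * r) a = tw p R A i r (algebraMap R A s * a) := by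
  have := TensorProduct.smul_tmul (R := Src p R i) (R' := Src p R i) ((srcEquiv p R i).symm s)
    (r : R) ((aEquiv p R A i).symm a)
  exact this

theorem tw_add_left (r r' : R) (a : A) :
    tw p R A i (r + r') a = tw p R A i r a + tw p R A i r' a := TensorProduct.add_tmul _ _ _

theorem tw_add_right (r : R) (a a' : A) :
    tw p R A i r (a + a') = tw p R A i r a + tw p R A i r a' := TensorProduct.tmul_add _ _ _

theorem tw_zero_left (a : A) : tw p R A i 0 a = 0 := TensorProduct.zero_tmul _ _

theorem tw_zero_right (r : R) : tw p R A i r 0 = 0 := TensorProduct.tmul_zero _ _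

theorem algebraMap_tw (r : R) : algebraMap R (Twist p R A i) r = tw p R A i r 1 := by
  rw [Algebra.TensorProduct.algebraMap_apply, Algebra.algebraMap_self, RingHom.id_apply]
  rfl

theorem relFrob_tw [CharP A p] (r : R) (a : A) :
    relFrob p R A i (tw p R A (i + 1) r a) = tw p R A i r (a ^ p) := by
  change relFrobAux p R A i (r ⊗ₜ[Src p R (i + 1)] ((aEquiv p R A (i + 1)).symm a)) = _
  rw [relFrobAux, Algebra.TensorProduct.lift_tmul]
  change algebraMap R (Twist p R A i) r *
    ((1 : R) ⊗ₜ[Src p R i] ((aEquiv p R A i).symm (a ^ p))) = _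
  rw [Algebra.TensorProduct.algebraMap_apply, Algebra.algebraMap_self, RingHom.id_apply,
    Algebra.TensorProduct.tmul_mul_tmul, mul_one, one_mul]
  rfl

theorem tw_induction {P : Twist p R A i → Prop} (h0 : P 0)
    (htw : ∀ r a, P (tw p R A i r a)) (hadd : ∀ x y, P x → P y → P (x + y)) (x : Twist p R A i) :
    P x := by
  induction x using TensorProduct.induction_on with
  | zero => exact h0
  | tmul r a => exact htw r (aEquiv p R A i a)
  | add x y hx hy => exact hadd x y hx hy

theorem mem_prePerf_iff [CharP A p] (t : Π j : ℕ, Twist p R A j) :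
    t ∈ prePerf p R A ↔ ∀ i, relFrob p R A i (t (i + 1)) = t i := by
  simp only [prePerf, Algebra.mem_iInf, AlgHom.mem_equalizer,
    AlgHom.coe_comp, Function.comp_apply, Pi.evalAlgHom_apply]

/-- additive maps out of a twist -/
noncomputable def liftTw {P : Type*} [AddCommGroup P] (f : R →+ A →+ P)
    (hf : ∀ s r a, f (s ^ p ^ i * r) a = f r (algebraMap R A s * a)) : Twist p R A i →+ P :=
  TensorProduct.liftAddHom (R := Src p R i) (M := R) (N := ASrc p R A i)
    (f.compl₂ ((aEquiv p R A i : ASrc p R A i →+* A) : ASrc p R A i →+ A))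
    (fun s r a => hf (srcEquiv p R i s) r (aEquiv p R A i a))

theorem liftTw_tw {P : Type*} [AddCommGroup P] (f : R →+ A →+ P)
    (hf : ∀ s r a, f (s ^ p ^ i * r) a = f r (algebraMap R A s * a)) (r : R) (a : A) :
    liftTw p R A i f hf (tw p R A i r a) = f r a := rfl

end Groth.Agent.H99.PrePerfB
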