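import Groth.Agent.H99.PrePerfA
import Groth.Agent.H99.PrePerfB

/-!
# The preperfection of `R[X]/(uX, X^2 - v^2)` is `R`
-/

set_option autoImplicit false
universe u

namespace Groth.Agent.H99.PrePerfC

open TensorProduct W4c1imperftorsors Polynomial
open Groth.Agent.H99.PrePerfA Groth.Agent.H99.PrePerfB

variable (p : ℕ) [Fact p.Prime] (R : Type u) [CommRing R] [CharP R p]
  (u v : R) (huv : u * v = 0)

/-- Frobenius `R/(u) → R/(u^(p^i))` -/
noncomputable def frobQ (i : ℕ) : R ⧸ Ideal.span {u} →+* R ⧸ Ideal.span {u ^ p ^ i} :=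
  Ideal.Quotient.lift (Ideal.span {u})
    ((Ideal.Quotient.mk (Ideal.span {u ^ p ^ i})).comp (iterateFrobenius R p i))
    (by
      intro a ha
      obtain ⟨d, rfl⟩ := Ideal.mem_span_singleton'.mp ha
      rw [RingHom.comp_apply, iterateFrobenius_def, Ideal.Quotient.eq_zero_iff_mem, mul_pow]
      exact Ideal.mul_mem_left _ _ (Ideal.mem_span_singleton_self _))

theorem frobQ_mk (i : ℕ) (a : R) :
    frobQ p R u i (Ideal.Quotient.mk _ a) = Ideal.Quotient.mk _ (a ^ p ^ i) := by
  unfold frobQ
  rw [Ideal.Quotient.lift_mk, RingHom.comp_apply, iterateFrobenius_def]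

/-- even coordinate on the `i`-th twist -/
noncomputable def ψ (i : ℕ) : Twist p R (B u v) i →+ R :=
  liftTw p R (B u v) i
    ((AddMonoidHom.mul : R →+ R →+ R).compl₂
      (((iterateFrobenius R p i : R →+* R) : R →+ R).comp (a0 u v huv).toAddMonoidHom))
    (by
      intro s r a
      simp only [AddMonoidHom.compl₂_apply, AddMonoidHom.coe_comp, Function.comp_apply,
        AddMonoidHom.mul_apply, LinearMap.toAddMonoidHom_coe, AddMonoidHom.coe_coe,
        iterateFrobenius_def]
      rw [← Algebra.smul_def, map_smul, smul_eq_mul, mul_pow]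
      ring)

theorem ψ_tw (i : ℕ) (r : R) (a : B u v) :
    ψ p R u v huv i (tw p R (B u v) i r a) = r * (a0 u v huv a) ^ p ^ i := by
  unfold ψ
  rw [liftTw_tw]
  simp only [AddMonoidHom.compl₂_apply, AddMonoidHom.coe_comp, Function.comp_apply,
    AddMonoidHom.mul_apply, LinearMap.toAddMonoidHom_coe, AddMonoidHom.coe_coe,
    iterateFrobenius_def]

/-- odd coordinate on the `i`-th twist -/
noncomputable def φ (i : ℕ) : Twist p R (B u v) i →+ R ⧸ Ideal.span {u ^ p ^ i} :=
  liftTw p R (B u v) i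
    (((AddMonoidHom.mul : (R ⧸ Ideal.span {u ^ p ^ i}) →+ _ →+ _).comp
        ((Ideal.Quotient.mk (Ideal.span {u ^ p ^ i}) : R →+* _) : R →+ _)).compl₂
      (((frobQ p R u i : _ →+* _) : _ →+ _).comp (a1 u v huv).toAddMonoidHom))
    (by
      intro s r a
      simp only [AddMonoidHom.compl₂_apply, AddMonoidHom.coe_comp, Function.comp_apply,
        AddMonoidHom.mul_apply, LinearMap.toAddMonoidHom_coe, AddMonoidHom.coe_coe]
      rw [← Algebra.smul_def, map_smul, Algebra.smul_def, Ideal.Quotient.algebraMap_eq, map_mul,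
        map_mul (frobQ p R u i), frobQ_mk]
      ring)

theorem φ_tw (i : ℕ) (r : R) (a : B u v) :
    φ p R u v huv i (tw p R (B u v) i r a) =
      Ideal.Quotient.mk _ r * frobQ p R u i (a1 u v huv a) := by
  unfold φ
  rw [liftTw_tw]
  simp only [AddMonoidHom.compl₂_apply, AddMonoidHom.coe_comp, Function.comp_apply,
    AddMonoidHom.mul_apply, LinearMap.toAddMonoidHom_coe, AddMonoidHom.coe_coe]


omit [Fact p.Prime] [CharP R p] in
theorem α_pow_odd (m : ℕ) :
    α u v ^ (2 * m + 1) = algebraMap R (B u v) (v ^ (2 * m)) * α u v := by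
  rw [pow_succ, pow_mul, α_sq, ← map_pow, ← pow_mul]

omit [CharP R p] in
theorem α_pow_p (hp : p ≠ 2) :
    α u v ^ p = algebraMap R (B u v) (v ^ (p - 1)) * α u v := by
  have hodd : Odd p := (Fact.out : p.Prime).odd_of_ne_two hp
  obtain ⟨m, hm⟩ := hodd
  have : p - 1 = 2 * m := by omega
  rw [this]
  conv_lhs => rw [hm]
  exact α_pow_odd R u v m

/-- every element of the twist is `r ⊗ 1 + c ⊗ α`. -/
theorem exists_tw_decomp (i : ℕ) (x : Twist p R (B u v) i) :
    ∃ r c : R, x = tw p R (B u v) i r 1 + tw p R (B u v) i c (α u v) := by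
  induction x using tw_induction with
  | h0 => exact ⟨0, 0, by rw [tw_zero_left, tw_zero_left, add_zero]⟩
  | htw r a =>
    obtain ⟨A, C', rfl⟩ := exists_decomp u v a
    refine ⟨A ^ p ^ i * r, C' ^ p ^ i * r, ?_⟩
    rw [tw_add_right, tw_balanced, tw_balanced, mul_one]
  | hadd x y hx hy =>
    obtain ⟨r, c, rfl⟩ := hx
    obtain ⟨r', c', rfl⟩ := hy
    refine ⟨r + r', c + c', ?_⟩
    rw [tw_add_left, tw_add_left]
    abel

theorem ψ_decomp (i : ℕ) (r c : R) :
    ψ p R u v huv i (tw p R (B u v) i r 1 + tw p R (B u v) i c (α u v)) = r := by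
  rw [map_add, ψ_tw, ψ_tw, a0_one, a0_α, one_pow, mul_one,
    zero_pow (pow_ne_zero _ (Fact.out : p.Prime).ne_zero), mul_zero, add_zero]

theorem φ_decomp (i : ℕ) (r c : R) :
    φ p R u v huv i (tw p R (B u v) i r 1 + tw p R (B u v) i c (α u v)) =
      Ideal.Quotient.mk _ c := by
  rw [map_add, φ_tw, φ_tw, a1_one, a1_α, map_zero, map_one, mul_zero, mul_one, zero_add]

theorem tw_α_eq_zero (i : ℕ) (c : R) (hc : c ∈ Ideal.span {u ^ p ^ i}) :
    tw p R (B u v) i c (α u v) = 0 := by
  obtain ⟨d, rfl⟩ := Ideal.mem_span_singleton'.mp hc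
  rw [mul_comm, tw_balanced, u_mul_α, tw_zero_right]


include huv in
theorem main (hp : p ≠ 2)
    (hsep : ∀ N : ℕ, 1 ≤ N → ∀ g : R,
      (∀ n : ℕ, g ∈ Ideal.span {v ^ n} ⊔ Ideal.span {u ^ N}) → g ∈ Ideal.span {u ^ N})
    [CharP (B u v) p] :
    Function.Bijective (algebraMap R ↥(prePerf p R (B u v))) := by
  have hcomp : ∀ (r : R) (j : ℕ),
      ((algebraMap R ↥(prePerf p R (B u v)) r : ↥(prePerf p R (B u v))) :
        Π j : ℕ, Twist p R (B u v) j) j = tw p R (B u v) j r 1 := by
    intro r j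
    rw [← algebraMap_tw]
    rfl
  constructor
  · -- injectivity
    rw [injective_iff_map_eq_zero]
    intro r hr
    have h0 := hcomp r 0
    rw [hr] at h0
    have h1 : ψ p R u v huv 0 (tw p R (B u v) 0 r 1) = r := by
      rw [ψ_tw, a0_one, one_pow, mul_one]
    rw [← h0] at h1
    rw [← h1]
    exact map_zero _
  · -- surjectivity
    rintro ⟨x, hx⟩
    rw [mem_prePerf_iff] at hx
    choose r c hrc using fun j => exists_tw_decomp p R u v j (x j)
    -- compatibility in coordinates
    have hstep : ∀ j, r (j + 1) = r j ∧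
        c j - (v ^ (p - 1)) ^ p ^ j * c (j + 1) ∈ Ideal.span {u ^ p ^ j} := by
      intro j
      have h := hx j
      rw [hrc (j + 1), hrc j, map_add, relFrob_tw, relFrob_tw, one_pow, α_pow_p p R u v hp,
        ← tw_balanced] at h
      constructor
      · have := congrArg (ψ p R u v huv j) h
        rwa [ψ_decomp, ψ_decomp] at this
      · have := congrArg (φ p R u v huv j) h
        rw [φ_decomp, φ_decomp] at this
        rw [← Ideal.Quotient.eq_zero_iff_mem, map_sub, this, sub_self]
    have hr : ∀ j, r j = r 0 := by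
      intro j
      induction j with
      | zero => rfl
      | succ j ih => rw [(hstep j).1, ih]
    have hP : ∀ k j, c j ∈ Ideal.span {v ^ k} ⊔ Ideal.span {u ^ p ^ j} := by
      intro k
      induction k with
      | zero =>
        intro j
        rw [pow_zero, Ideal.span_singleton_one, top_sup_eq]
        trivial
      | succ k ih =>
        intro j
        have h1 := (hstep j).2
        have h2 := ih (j + 1)
        obtain ⟨y, hy, z, hz, hyz⟩ := Submodule.mem_sup.mp h2
        obtain ⟨a, rfl⟩ := Ideal.mem_span_singleton'.mp hy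
        obtain ⟨b, rfl⟩ := Ideal.mem_span_singleton'.mp hz
        have hone : 1 ≤ (p - 1) * p ^ j :=
          Nat.one_le_iff_ne_zero.mpr (Nat.mul_ne_zero
            (by have := (Fact.out : p.Prime).two_le; omega)
            (pow_ne_zero _ (Fact.out : p.Prime).ne_zero))
        obtain ⟨e, he⟩ : ∃ e, (p - 1) * p ^ j = e + 1 := ⟨(p - 1) * p ^ j - 1, by omega⟩
        have hdecomp : c j = (c j - (v ^ (p - 1)) ^ p ^ j * c (j + 1)) +
            ((v ^ (p - 1)) ^ p ^ j * (b * u ^ p ^ (j + 1))) +
            (a * v ^ e) * v ^ (k + 1) := by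
          rw [← hyz, ← pow_mul, he]
          ring
        rw [hdecomp]
        refine Ideal.add_mem _ (Ideal.add_mem _ (Ideal.mem_sup_right h1) (Ideal.mem_sup_right ?_))
          (Ideal.mem_sup_left (Ideal.mul_mem_left _ _ (Ideal.mem_span_singleton_self _)))
        rw [pow_succ p j, pow_mul]
        refine Ideal.mul_mem_left _ _ (Ideal.mul_mem_left _ _ ?_)
        rw [Ideal.mem_span_singleton]
        exact dvd_pow_self _ (Fact.out : p.Prime).ne_zero
    have hc : ∀ j, c j ∈ Ideal.span {u ^ p ^ j} := fun j =>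
      hsep (p ^ j) (Nat.one_le_pow _ _ (Fact.out : p.Prime).pos) (c j) (fun n => hP n j)
    refine ⟨r 0, ?_⟩
    apply Subtype.ext
    funext j
    rw [hcomp]
    show _ = x j
    rw [hrc j, tw_α_eq_zero p R u v j (c j) (hc j), add_zero, hr j]

end Groth.Agent.H99.PrePerfC
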