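import Mathlib
import Groth.Agent.H54.ProjDimTheory6

/-!
# The projective dimension theorem via affine cones (helper99; for S7675)

The affine dimension theorem enters as the hypothesis `hAff`.
-/

set_option autoImplicit false
set_option linter.style.haveILetI false
universe u
open AlgebraicGeometry TopologicalSpace

namespace Groth.Agent.H99.ProjDimThm

open Groth.Agent.H54

section top

theorem topologicalKrullDim_mono {T : Type*} [TopologicalSpace T] {S S' : Set T} (h : S ⊆ S') :
    topologicalKrullDim ↥S ≤ topologicalKrullDim ↥S' :=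
  (Topology.IsEmbedding.inclusion h).isInducing.topologicalKrullDim_le

end top

section poly
variable (k : Type u) [Field k] (n : ℕ)

local notation "𝒜" => CohB1.polyGrading n k
local notation "A" => MvPolynomial (Fin (n + 1)) k
local notation "m₊" => HomogeneousIdeal.toIdeal (HomogeneousIdeal.irrelevant (CohB1.polyGrading n k))

/-- A closed subset of dimension `≥ r` contains a point `x` with `dim V₊(x) ≥ r`. -/
theorem exists_point_dim_ge (X : Set (ProjectiveSpectrum 𝒜)) (hX : IsClosed X) (r : ℕ)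
    (hXr : (r : WithBot ℕ∞) ≤ topologicalKrullDim ↥X) :
    ∃ x ∈ X, (r : WithBot ℕ∞) ≤
      topologicalKrullDim ↥(ProjectiveSpectrum.zeroLocus 𝒜 (x.asHomogeneousIdeal : Set A)) := by
  rw [topologicalKrullDim_closed 𝒜 X hX, Order.le_krullDim_iff] at hXr
  obtain ⟨l, hl⟩ := hXr
  refine ⟨l.head.1, l.head.2, ?_⟩
  rw [topologicalKrullDim_closed 𝒜 _ (ProjectiveSpectrum.isClosed_zeroLocus 𝒜 _),
    Order.le_krullDim_iff]
  have hmem : ∀ i, (l i).1 ∈
      ProjectiveSpectrum.zeroLocus 𝒜 (l.head.1.asHomogeneousIdeal : Set A) := by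
    intro i
    have hle : l.head ≤ l i := LTSeries.head_le l i
    intro a ha
    exact hle ha
  exact ⟨{ length := l.length, toFun := fun i => ⟨(l i).1, hmem i⟩, step := fun i => l.step i }, hl⟩

/-- **Projective dimension theorem**, given the affine dimension theorem `hAff` in `𝔸^{n+1}`. -/
theorem projective_dimension_theorem (r s : ℕ)
    (hAff : ∀ (p q P : Ideal A), p.IsPrime → q.IsPrime → P ∈ (p ⊔ q).minimalPrimes →
      ringKrullDim (A ⧸ p) + ringKrullDim (A ⧸ q) ≤
        ringKrullDim (A ⧸ P) + ((n + 1 : ℕ) : WithBot ℕ∞))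
    (X Y : Set (ProjectiveSpectrum 𝒜)) (hX : IsClosed X) (hY : IsClosed Y)
    (hXr : topologicalKrullDim ↥X = r) (hYs : topologicalKrullDim ↥Y = s) (hrs : n ≤ r + s) :
    (X ∩ Y).Nonempty ∧
      ((r + s : ℕ) : WithBot ℕ∞) ≤ topologicalKrullDim ↥(X ∩ Y) + (n : WithBot ℕ∞) := by
  obtain ⟨x, hxX, hxr'⟩ := exists_point_dim_ge k n X hX r hXr.ge
  obtain ⟨y, hyY, hys'⟩ := exists_point_dim_ge k n Y hY s hYs.ge
  set p := x.asHomogeneousIdeal.toIdeal with hp
  set q := y.asHomogeneousIdeal.toIdeal with hq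
  have hxr : (r : WithBot ℕ∞) ≤
      topologicalKrullDim ↥(ProjectiveSpectrum.zeroLocus 𝒜 (p : Set A)) := hxr'
  have hys : (s : WithBot ℕ∞) ≤
      topologicalKrullDim ↥(ProjectiveSpectrum.zeroLocus 𝒜 (q : Set A)) := hys'
  have hpprime : p.IsPrime := x.isPrime
  have hqprime : q.IsPrime := y.isPrime
  have hphom : p.IsHomogeneous 𝒜 := x.asHomogeneousIdeal.isHomogeneous
  have hqhom : q.IsHomogeneous 𝒜 := y.asHomogeneousIdeal.isHomogeneous
  have hprel : ¬ m₊ ≤ p := x.not_irrelevant_le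
  have hqrel : ¬ m₊ ≤ q := y.not_irrelevant_le
  have hple : p ≤ m₊ := le_irrelevant_of_isHomogeneous k n hphom hpprime.ne_top
  have hqle : q ≤ m₊ := le_irrelevant_of_isHomogeneous k n hqhom hqprime.ne_top
  have hmprime : (m₊).IsPrime := irrelevant_isPrime k n
  obtain ⟨P, hPmin, hPle⟩ := Ideal.exists_minimalPrimes_le (sup_le hple hqle)
  have hPprime : P.IsPrime := hPmin.1.1
  have hPhom : P.IsHomogeneous 𝒜 :=
    isHomogeneous_of_mem_minimalPrimes 𝒜 (hphom.sup hqhom) hPmin
  have hdp := ringKrullDim_quotient_eq_topologicalKrullDim_add_one k n p hpprime hphom hprel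
  have hdq := ringKrullDim_quotient_eq_topologicalKrullDim_add_one k n q hqprime hqhom hqrel
  have hA := hAff p q P hpprime hqprime hPmin
  -- naturals
  obtain ⟨a', ha'⟩ := exists_nat_eq (le_trans (by exact_mod_cast Nat.zero_le r) hxr)
    (topologicalKrullDim_zeroLocus_le k n (p : Set A))
  obtain ⟨b', hb'⟩ := exists_nat_eq (le_trans (by exact_mod_cast Nat.zero_le s) hys)
    (topologicalKrullDim_zeroLocus_le k n (q : Set A))
  have hra : r ≤ a' := by
    have : (r : WithBot ℕ∞) ≤ (a' : WithBot ℕ∞) := by rw [← ha']; exact hxr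
    exact_mod_cast this
  have hsb : s ≤ b' := by
    have : (s : WithBot ℕ∞) ≤ (b' : WithBot ℕ∞) := by rw [← hb']; exact hys
    exact_mod_cast this
  rw [hdp, hdq, ha', hb'] at hA
  have hPne : P ≠ m₊ := by
    intro h
    rw [h, ringKrullDim_quotient_irrelevant] at hA
    have : a' + 1 + (b' + 1) ≤ 0 + (n + 1) := by exact_mod_cast hA
    omega
  have hPrel : ¬ m₊ ≤ P := fun h => hPne (le_antisymm hPle h)
  set w := pointOfPrime k n P hPprime hPhom hPne with hw
  have hwP : w.asHomogeneousIdeal.toIdeal = P := pointOfPrime_toIdeal k n P hPprime hPhom hPne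
  have hxw : x ≤ w := by
    intro a ha
    have : a ∈ P := hPmin.1.2 (Ideal.mem_sup_left ha)
    rw [← hwP] at this
    exact this
  have hyw : y ≤ w := by
    intro a ha
    have : a ∈ P := hPmin.1.2 (Ideal.mem_sup_right ha)
    rw [← hwP] at this
    exact this
  have hclX : closure {x} ⊆ X := closure_minimal (Set.singleton_subset_iff.mpr hxX) hX
  have hclY : closure {y} ⊆ Y := closure_minimal (Set.singleton_subset_iff.mpr hyY) hY
  have hwX : w ∈ X := hclX ((ProjectiveSpectrum.le_iff_mem_closure 𝒜 x w).mp hxw)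
  have hwY : w ∈ Y := hclY ((ProjectiveSpectrum.le_iff_mem_closure 𝒜 y w).mp hyw)
  refine ⟨⟨w, hwX, hwY⟩, ?_⟩
  have hdP := ringKrullDim_quotient_eq_topologicalKrullDim_add_one k n P hPprime hPhom hPrel
  have hsub : ProjectiveSpectrum.zeroLocus 𝒜 (P : Set A) ⊆ X ∩ Y := by
    have h1 : closure {w} = ProjectiveSpectrum.zeroLocus 𝒜 (P : Set A) := by
      rw [closure_singleton_eq_zeroLocus, ← hwP]; rfl
    rw [← h1]
    exact closure_minimal (Set.singleton_subset_iff.mpr ⟨hwX, hwY⟩) (hX.inter hY)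
  have hmono := topologicalKrullDim_mono hsub
  have hnonneg : (0 : WithBot ℕ∞) ≤
      topologicalKrullDim ↥(ProjectiveSpectrum.zeroLocus 𝒜 (P : Set A)) := by
    haveI : Nonempty ↥(ProjectiveSpectrum.zeroLocus 𝒜 (P : Set A)) :=
      ⟨⟨w, fun a ha => by rw [← hwP] at ha; exact ha⟩⟩
    rw [topologicalKrullDim_closed 𝒜 _ (ProjectiveSpectrum.isClosed_zeroLocus 𝒜 _)]
    exact Order.krullDim_nonneg
  obtain ⟨c', hc'⟩ := exists_nat_eq hnonneg (topologicalKrullDim_zeroLocus_le k n (P : Set A))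
  rw [hdP, hc'] at hA
  have hnat : a' + 1 + (b' + 1) ≤ c' + 1 + (n + 1) := by exact_mod_cast hA
  have hfin : ((r + s : ℕ) : WithBot ℕ∞) ≤ (c' : WithBot ℕ∞) + (n : WithBot ℕ∞) := by
    have : r + s ≤ c' + n := by omega
    exact_mod_cast this
  refine le_trans hfin ?_
  rw [← hc']
  exact add_le_add_left hmono _

end poly

end Groth.Agent.H99.ProjDimThm
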