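import Mathlib
import Groth.Agent.H99.ProjDimThm
import Groth.Agent.H99.AffDimTransport

/-!
# The projective dimension theorem in `CohB1.ProjSpace n k`, from the affine dimension theorem
(helper99; for S7675)
-/

set_option autoImplicit false
universe u
open AlgebraicGeometry TopologicalSpace CategoryTheory

namespace Groth.Agent.H99.ProjDimFinal

theorem main (k : Type u) [Field k] (n r s : ℕ)
    (H : ∀ (r s : ℕ) (X Y : Set ↥(𝔸(ULift.{u} (Fin (n + 1)); Spec (CommRingCat.of k))))
      (_ : IsClosed X) (_ : IsClosed Y)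
      (_ : ∀ Z ∈ irreducibleComponents X, topologicalKrullDim Z = r)
      (_ : ∀ Z ∈ irreducibleComponents Y, topologicalKrullDim Z = s)
      (Z : Set ↥(X ∩ Y)) (_ : Z ∈ irreducibleComponents ↥(X ∩ Y)),
      ((r + s : ℕ) : WithBot ℕ∞) ≤ topologicalKrullDim Z + ((n + 1 : ℕ) : WithBot ℕ∞))
    (X Y : Set ↥(CohB1.ProjSpace n k)) (hX : IsClosed X) (hY : IsClosed Y)
    (hXr : topologicalKrullDim X = r) (hYs : topologicalKrullDim Y = s) (hrs : n ≤ r + s) :
    (X ∩ Y).Nonempty ∧
      ((r + s : ℕ) : WithBot ℕ∞) ≤ topologicalKrullDim ↥(X ∩ Y) + (n : WithBot ℕ∞) :=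
  Groth.Agent.H99.ProjDimThm.projective_dimension_theorem k n r s
    (fun p q P hp hq hP =>
      Groth.Agent.H99.AffDimTransport.affine_dimension_theorem k (n + 1) H p q P hp hq hP)
    X Y hX hY hXr hYs hrs

end Groth.Agent.H99.ProjDimFinal
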