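import Mathlib
import Groth.Agent.H99.FibDimStrat2
import Groth.Agent.H48.FieldDim2
import Groth.Prelude.Def_RegImm

/-!
# Proper intersection with a regular immersion (helper99; S14481)
-/

set_option autoImplicit false
set_option backward.isDefEq.respectTransparency.types false
set_option linter.style.haveILetI false
set_option linter.unusedSectionVars false
universe u

open AlgebraicGeometry CategoryTheory TopologicalSpace Limits

namespace Groth.Agent.H99.ProperMeet

open Groth.Agent.H99.FieldDim Groth.Agent.H48.CycDim6 Groth.Agent.H48.CycDim7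
  Groth.Agent.H48.DimFunSch

section Imm

variable {W X : Scheme.{u}} (ι : W ⟶ X)

/-- An immersion into a locally Noetherian scheme is quasi-compact. -/
theorem quasiCompact_of_isImmersion [IsLocallyNoetherian X] [IsImmersion ι] : QuasiCompact ι := by
  rw [quasiCompact_iff_forall_isAffineOpen]
  intro U hU
  haveI : IsNoetherianRing Γ(X, U) := IsLocallyNoetherian.component_noetherian ⟨U, hU⟩
  haveI : NoetherianSpace ↥U := noetherianSpace_of_isAffineOpen U hU
  rw [ι.isEmbedding.isCompact_iff]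
  have h1 : ι.base '' ((ι ⁻¹ᵁ U : W.Opens) : Set W) ⊆ (U : Set X) := by
    rintro _ ⟨w, hw, rfl⟩
    exact hw
  have h2 : IsCompact ((Subtype.val : ↥U → X) ''
      ((Subtype.val : ↥U → X) ⁻¹' (ι.base '' ((ι ⁻¹ᵁ U : W.Opens) : Set W)))) :=
    (NoetherianSpace.isCompact _).image continuous_subtype_val
  convert h2 using 1
  ext y
  constructor
  · intro hy
    exact ⟨⟨y, h1 hy⟩, hy, rfl⟩
  · rintro ⟨z, hz, rfl⟩
    exact hz

/-- A section in the kernel vanishes on the image. -/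
theorem not_mem_basicOpen_of_mem_ker (U : X.Opens) (r : Γ(X, U))
    (hr : r ∈ RingHom.ker (ι.app U).hom) (w : W) : ι w ∉ X.basicOpen r := by
  intro h
  have h1 : w ∈ ι ⁻¹ᵁ X.basicOpen r := h
  rw [Scheme.preimage_basicOpen] at h1
  have h2 : (ι.app U).hom r = 0 := hr
  change w ∈ W.basicOpen ((ι.app U).hom r) at h1
  rw [h2, Scheme.basicOpen_zero] at h1
  exact h1

/-- On a chart where the immersion is closed with ideal generated by `rs`, the image is the zero
locus of `rs`. -/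
theorem mem_range_of_forall_not_mem_basicOpen [QuasiCompact ι] (U : X.affineOpens)
    (hcl : IsClosedImmersion (ι ∣_ U.1)) (rs : List Γ(X, U.1))
    (hker : RingHom.ker (ι.app U.1).hom = Ideal.ofList rs)
    (x : X) (hxU : x ∈ U.1) (hx : ∀ r ∈ rs, x ∉ X.basicOpen r) : x ∈ Set.range ι.base := by
  have h1 : x ∈ X.zeroLocus (U := U.1) ((ι.ker.ideal U : Ideal Γ(X, U.1)) : Set Γ(X, U.1)) := by
    rw [Scheme.Hom.ker_apply, hker, Ideal.ofList, Scheme.zeroLocus_span, Scheme.mem_zeroLocus_iff]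
    exact hx
  have h2 : x ∈ (ι.ker.support : Set X) ∩ U.1 := by
    rw [Scheme.IdealSheafData.coe_support_inter]
    exact ⟨h1, hxU⟩
  rw [Scheme.Hom.support_ker] at h2
  have hr : Set.range (ι ∣_ U.1).base = (Subtype.val : ↥U.1 → X) ⁻¹' Set.range ι.base := by
    ext y
    constructor
    · rintro ⟨z, rfl⟩
      exact ⟨z.1, (morphismRestrict_base_coe ι U.1 z).symm⟩
    · rintro ⟨w, hw⟩
      have hwU : w ∈ ι ⁻¹ᵁ U.1 := by
        change ι w ∈ U.1
        rw [hw]; exact y.2
      refine ⟨⟨w, hwU⟩, Subtype.ext ?_⟩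
      rw [morphismRestrict_base_coe]
      exact hw
  have hclosed : IsClosed ((Subtype.val : ↥U.1 → X) ⁻¹' Set.range ι.base) := by
    rw [← hr]
    exact (ι ∣_ U.1).isClosedEmbedding.isClosed_range
  have h3 : x ∈ closure ((U.1 : Set X) ∩ Set.range ι.base) :=
    U.1.isOpen.inter_closure ⟨hxU, h2.1⟩
  have h4 : (⟨x, hxU⟩ : ↥U.1) ∈ closure ((Subtype.val : ↥U.1 → X) ⁻¹' Set.range ι.base) := by
    refine (closure_subtype (X := X) (p := fun y => y ∈ U.1) (x := ⟨x, hxU⟩)
      (s := (Subtype.val : ↥U.1 → X) ⁻¹' Set.range ι.base)).mpr ?_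
    refine closure_mono ?_ h3
    rintro y ⟨hyU, hy⟩
    exact ⟨⟨y, hyU⟩, hy, rfl⟩
  rw [hclosed.closure_eq] at h4
  exact h4

end Imm

section K

theorem fromSpec_mem_basicOpen_iff {X : Scheme.{u}} {U : X.Opens} (hU : IsAffineOpen U)
    (a : Γ(X, U)) (z : ↥(Spec Γ(X, U))) :
    hU.fromSpec z ∈ X.basicOpen a ↔ a ∉ z.asIdeal := by
  have h2 : z ∈ hU.fromSpec ⁻¹' X.zeroLocus (U := U) {a} ↔ a ∈ z.asIdeal := by
    rw [hU.fromSpec_preimage_zeroLocus]
    change (show PrimeSpectrum Γ(X, U) from z) ∈ PrimeSpectrum.zeroLocus _ ↔ _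
    rw [PrimeSpectrum.mem_zeroLocus, Set.singleton_subset_iff]
    rfl
  rw [← not_iff_not, not_not, ← h2, Set.mem_preimage, Scheme.zeroLocus_singleton]
  rfl

variable {k : Type u} [Field k] {C X W : Scheme.{u}} (q : X ⟶ Spec (CommRingCat.of k))
  (π : C ⟶ X) (ι : W ⟶ X) [LocallyOfFiniteType q] [LocallyOfFiniteType π]

/-- **Krull's height theorem**: a maximal point of `closure {ξ} ∩ π⁻¹(W)` has `δ ≥ δ ξ - c`. -/
theorem delta_le_add_of_maximal (κ : RegImm.Kind) (c : ℕ)
    (hι : RegImm.IsRegularImmersionOfCodim κ c ι)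
    (ξ η : C) (hξη : ξ ⤳ η) (hηT : π η ∈ Set.range ι.base)
    (hmax : ∀ η' : C, ξ ⤳ η' → η' ⤳ η → π η' ∈ Set.range ι.base → η' = η) :
    delta (π ≫ q) ξ ≤ delta (π ≫ q) η + c := by
  classical
  obtain ⟨himm, hloc⟩ := hι
  haveI := himm
  haveI : IsLocallyNoetherian X := isLocallyNoetherian q
  haveI : IsLocallyNoetherian C := isLocallyNoetherian (π ≫ q)
  haveI : QuasiCompact ι := quasiCompact_of_isImmersion ι
  have hδ := isDimFun (π ≫ q)
  obtain ⟨w, hw⟩ := hηT
  obtain ⟨U, hwU, hcl, rs, hlen, -, hker⟩ := hloc w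
  have hηU : η ∈ π ⁻¹ᵁ U.1 := by
    change π η ∈ U.1
    rw [← hw]; exact hwU
  obtain ⟨U', hU', hηU', hU'U⟩ :=
    exists_isAffineOpen_mem_and_subset (x := η) (U := π ⁻¹ᵁ U.1) hηU
  have hξU' : ξ ∈ U' := hξη.mem_open U'.2 hηU'
  haveI : IsNoetherianRing Γ(C, U') := IsLocallyNoetherian.component_noetherian ⟨U', hU'⟩
  set pξ : PrimeSpectrum Γ(C, U') := hU'.primeIdealOf ⟨ξ, hξU'⟩ with hpξ
  set pη : PrimeSpectrum Γ(C, U') := hU'.primeIdealOf ⟨η, hηU'⟩ with hpη
  have hfξ : hU'.fromSpec pξ = ξ := hU'.fromSpec_primeIdealOf ⟨ξ, hξU'⟩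
  have hfη : hU'.fromSpec pη = η := hU'.fromSpec_primeIdealOf ⟨η, hηU'⟩
  have hle : pξ ≤ pη := by
    rw [← fromSpec_specializes_iff hU', hfξ, hfη]; exact hξη
  -- membership criterion
  have hmem : ∀ (z : PrimeSpectrum Γ(C, U')) (r : Γ(X, U.1)),
      (π.appLE U.1 U' hU'U).hom r ∈ z.asIdeal ↔ π (hU'.fromSpec z) ∉ X.basicOpen r := by
    intro z r
    have hb : C.basicOpen ((π.appLE U.1 U' hU'U).hom r) = U' ⊓ π ⁻¹ᵁ (X.basicOpen r) :=
      Scheme.basicOpen_appLE π U' U.1 hU'U r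
    have h1 := fromSpec_mem_basicOpen_iff hU' ((π.appLE U.1 U' hU'U).hom r) z
    rw [hb] at h1
    constructor
    · intro hz hπ
      exact h1.mp ⟨fromSpec_mem hU' z, hπ⟩ hz
    · intro hπ
      by_contra hz
      exact hπ (h1.mpr hz).2
  set S : Set Γ(C, U') := (fun r => (π.appLE U.1 U' hU'U).hom r) '' {r | r ∈ rs} with hS
  have hSη : S ⊆ pη.asIdeal := by
    rintro _ ⟨r, hr, rfl⟩
    rw [SetLike.mem_coe, hmem pη r, hfη, ← hw]
    exact not_mem_basicOpen_of_mem_ker ι U.1 r (hker ▸ Ideal.subset_span hr) w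
  obtain ⟨Q, hQmin, hQle⟩ := Ideal.exists_minimalPrimes_le
    (I := pξ.asIdeal ⊔ Ideal.span S) (J := pη.asIdeal) (sup_le hle (Ideal.span_le.mpr hSη))
  haveI hQprime : Q.IsPrime := hQmin.1.1
  let q' : PrimeSpectrum Γ(C, U') := ⟨Q, hQprime⟩
  have hpq : pξ ≤ q' := le_sup_left.trans hQmin.1.2
  have hq'η : q' ≤ pη := hQle
  have h1 : ξ ⤳ hU'.fromSpec q' := by
    rw [← hfξ]; exact (fromSpec_specializes_iff hU' pξ q').mpr hpq
  have h2 : hU'.fromSpec q' ⤳ η := by
    rw [← hfη]; exact (fromSpec_specializes_iff hU' q' pη).mpr hq'η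
  have h3 : π (hU'.fromSpec q') ∈ Set.range ι.base := by
    refine mem_range_of_forall_not_mem_basicOpen ι U hcl rs hker _
      (hU'U (fromSpec_mem hU' q')) fun r hr => ?_
    rw [← hmem q' r]
    exact hQmin.1.2 ((le_sup_right : Ideal.span S ≤ _) (Ideal.subset_span ⟨r, hr, rfl⟩))
  have h4 := hmax _ h1 h2 h3
  have h5 : q' = pη := fromSpec_injective hU' (h4.trans hfη.symm)
  have hmin : pη.asIdeal ∈ (pξ.asIdeal ⊔ Ideal.span S).minimalPrimes := by
    rw [← h5]; exact hQmin
  have hmapmin : pη.asIdeal.map (Ideal.Quotient.mk pξ.asIdeal) ∈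
      (Ideal.span ((Ideal.Quotient.mk pξ.asIdeal) '' S)).minimalPrimes := by
    have h6 := Ideal.minimalPrimes_map_of_surjective (f := Ideal.Quotient.mk pξ.asIdeal)
      Ideal.Quotient.mk_surjective (I := Ideal.span S)
    rw [Ideal.map_span] at h6
    rw [h6]
    refine ⟨pη.asIdeal, ?_, rfl⟩
    rw [Ideal.mk_ker, sup_comm]
    exact hmin
  have hfin0 : {r | r ∈ rs}.Finite := List.finite_toSet rs
  have hfinS : S.Finite := hfin0.image _
  have hfin : ((Ideal.Quotient.mk pξ.asIdeal) '' S).Finite := hfinS.image _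
  have hht := Ideal.height_le_card_of_mem_minimalPrimes_span hfin hmapmin
  have hcard : ((Ideal.Quotient.mk pξ.asIdeal) '' S).ncard ≤ c := by
    refine (Set.ncard_image_le hfinS).trans ((Set.ncard_image_le hfin0).trans ?_)
    have : {r | r ∈ rs} = ((rs.toFinset : Finset Γ(X, U.1)) : Set Γ(X, U.1)) := by
      ext r; simp
    rw [this, Set.ncard_coe_finset, ← hlen]
    exact List.toFinset_card_le rs
  have hkey := height_map_mk_eq hU' _ hδ pξ pη hle
  rw [hfξ, hfη] at hkey
  rw [hkey] at hht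
  have h7 : (delta (π ≫ q) ξ - delta (π ≫ q) η).toNat ≤ c := by
    have h8 : (((delta (π ≫ q) ξ - delta (π ≫ q) η).toNat : ℕ) : ℕ∞) ≤ (c : ℕ∞) :=
      hht.trans (by exact_mod_cast hcard)
    exact_mod_cast h8
  omega

end K

section Main

open Groth.Agent.H48.FieldDim2

variable {k : Type u} [Field k] {C X W : Scheme.{u}} (q : X ⟶ Spec (CommRingCat.of k))
  (π : C ⟶ X) (ι : W ⟶ X) [LocallyOfFiniteType q] [LocallyOfFiniteType π]

/-- Dimension of a closed subset of a locally closed subspace. -/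
theorem dim_closed_in_locallyClosed (S : Set C) (hS : IsLocallyClosed S) (Q : Set ↥S)
    (hQ : IsClosed Q) :
    topologicalKrullDim ↥Q = ⨆ z : ↥((Subtype.val : ↥S → C) '' Q),
      (((delta (π ≫ q) z.1).toNat : ℕ∞) : WithBot ℕ∞) := by
  haveI : JacobsonSpace C := jacobsonSpace (π ≫ q)
  have hg : Topology.IsEmbedding (fun z : ↥Q => (z.1.1 : C)) :=
    Topology.IsEmbedding.subtypeVal.comp Topology.IsEmbedding.subtypeVal
  have hrange : Set.range (fun z : ↥Q => (z.1.1 : C)) = (Subtype.val : ↥S → C) '' Q := by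
    ext y
    constructor
    · rintro ⟨z, rfl⟩
      exact ⟨z.1, z.2, rfl⟩
    · rintro ⟨z, hz, rfl⟩
      exact ⟨⟨z, hz⟩, rfl⟩
  rw [Groth.Agent.H17.Chev.topologicalKrullDim_eq_of_isEmbedding _ hg _ hrange]
  obtain ⟨F, hF, hFQ⟩ := isClosed_induced_iff.mp hQ
  have hlc : IsLocallyClosed ((Subtype.val : ↥S → C) '' Q) := by
    have : (Subtype.val : ↥S → C) '' Q = S ∩ F := by
      rw [← hFQ, Subtype.image_preimage_coe]
    rw [this]
    exact hS.inter hF.isLocallyClosed
  exact topologicalKrullDim_of_isLocallyClosed C (delta (π ≫ q)) (isDimFun (π ≫ q))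
    (delta_eq_zero_of_isClosed (π ≫ q)) _ hlc

include q in
/-- **S14481.** -/
theorem properMeet_iff (κ : RegImm.Kind) (n c : ℕ)
    (hι : RegImm.IsRegularImmersionOfCodim κ c ι)
    (hC : ∀ P ∈ irreducibleComponents (C : Type u), topologicalKrullDim P = n) :
    (∀ P ∈ irreducibleComponents (C : Type u),
        ∀ Q ∈ irreducibleComponents (P ∩ π ⁻¹' Set.range ι : Set C),
        topologicalKrullDim Q + (c : WithBot ℕ∞) = n) ↔
      topologicalKrullDim (π ⁻¹' Set.range ι : Set C) + (c : WithBot ℕ∞) ≤ n := by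
  haveI : JacobsonSpace C := jacobsonSpace (π ≫ q)
  have hδ := isDimFun (π ≫ q)
  have h0 := delta_eq_zero_of_isClosed (π ≫ q)
  have himm : IsImmersion ι := hι.1
  have hT : IsLocallyClosed (π ⁻¹' Set.range ι : Set C) :=
    ι.isLocallyClosed_range.preimage π.continuous
  have hdimT := topologicalKrullDim_of_isLocallyClosed C (delta (π ≫ q)) hδ h0 _ hT
  constructor
  · intro h
    rw [hdimT]
    refine Groth.Agent.H17.Chev.iSup_add_natCast_le _ c _ ?_
    rintro ⟨t, ht⟩
    obtain ⟨P, hP, htP⟩ := exists_mem_irreducibleComponents_subset_of_isIrreducible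
      ({t} : Set C) isIrreducible_singleton
    have htP' : t ∈ P := htP rfl
    have hPc : IsClosed P := isClosed_of_mem_irreducibleComponents P hP
    have hS : IsLocallyClosed (P ∩ π ⁻¹' Set.range ι : Set C) := hPc.isLocallyClosed.inter hT
    obtain ⟨Q, hQ, htQ⟩ := exists_mem_irreducibleComponents_subset_of_isIrreducible
      ({(⟨t, htP', ht⟩ : ↥(P ∩ π ⁻¹' Set.range ι : Set C))} : Set _) isIrreducible_singleton
    have hQc : IsClosed Q := isClosed_of_mem_irreducibleComponents Q hQ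
    have hPQ := h P hP Q hQ
    rw [← hPQ, dim_closed_in_locallyClosed q π _ hS Q hQc]
    refine add_le_add_left ?_ _
    exact le_iSup (fun z : ↥((Subtype.val : ↥(P ∩ π ⁻¹' Set.range ι : Set C) → C) '' Q) =>
      (((delta (π ≫ q) z.1).toNat : ℕ∞) : WithBot ℕ∞)) ⟨t, ⟨t, htP', ht⟩, htQ rfl, rfl⟩
  · intro hle P hP Q hQ
    have hPc : IsClosed P := isClosed_of_mem_irreducibleComponents P hP
    have hS : IsLocallyClosed (P ∩ π ⁻¹' Set.range ι : Set C) := hPc.isLocallyClosed.inter hT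
    haveI : QuasiSober ↥(P ∩ π ⁻¹' Set.range ι : Set C) := quasiSober_of_isLocallyClosed hS
    have hQc : IsClosed Q := isClosed_of_mem_irreducibleComponents Q hQ
    obtain ⟨w, hw⟩ := QuasiSober.sober hQ.1 hQc
    have hdimQ := dim_closed_in_locallyClosed q π _ hS Q hQc
    apply le_antisymm
    · refine le_trans ?_ hle
      refine add_le_add_left ?_ _
      rw [hdimQ, hdimT]
      refine iSup_le ?_
      rintro ⟨z, z', hz'Q, rfl⟩
      exact le_iSup (fun z : ↥(π ⁻¹' Set.range ι : Set C) =>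
        (((delta (π ≫ q) z.1).toNat : ℕ∞) : WithBot ℕ∞)) ⟨z'.1, z'.2.2⟩
    · -- lower bound via Krull's height theorem
      obtain ⟨ξ, hξP, hξgen⟩ := exists_closure_eq_of_mem_irreducibleComponents P hP
      have hdimP := hC P hP
      rw [← hξP, topologicalKrullDim_closure (π ≫ q) ξ] at hdimP
      have hnξ : (delta (π ≫ q) ξ).toNat = n := by exact_mod_cast hdimP
      have hξη : ξ ⤳ w.1 := by
        rw [specializes_iff_mem_closure, hξP]; exact w.2.1
      have hK := delta_le_add_of_maximal q π ι κ c hι ξ w.1 hξη w.2.2 (by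
        intro η' h1 h2 h3
        have hη'P : η' ∈ P := by
          rw [← hξP]; exact specializes_iff_mem_closure.mp h1
        let w' : ↥(P ∩ π ⁻¹' Set.range ι : Set C) := ⟨η', hη'P, h3⟩
        have h4 : w' ⤳ w := (subtype_specializes_iff w' w).mpr h2
        have h5 : Q ⊆ closure {w'} := by
          rw [← hw.def]
          exact closure_minimal (Set.singleton_subset_iff.mpr (specializes_iff_mem_closure.mp h4))
            isClosed_closure
        have h6 : closure {w'} ⊆ Q := hQ.2 isIrreducible_singleton.closure h5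
        have h7 : w ⤳ w' := by
          rw [specializes_iff_mem_closure, hw.def]; exact h6 (subset_closure rfl)
        have h8 : w' = w := (h4.antisymm h7).eq
        exact congrArg Subtype.val h8)
      have h0η := delta_nonneg' (π ≫ q) w.1
      have h9 : n ≤ (delta (π ≫ q) w.1).toNat + c := by omega
      have h10 : (((delta (π ≫ q) w.1).toNat : ℕ∞) : WithBot ℕ∞) ≤ topologicalKrullDim ↥Q := by
        rw [hdimQ]
        exact le_iSup (fun z : ↥((Subtype.val : ↥(P ∩ π ⁻¹' Set.range ι : Set C) → C) '' Q) =>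
          (((delta (π ≫ q) z.1).toNat : ℕ∞) : WithBot ℕ∞)) ⟨w.1, w, hw.mem, rfl⟩
      refine le_trans ?_ (add_le_add_left h10 _)
      exact_mod_cast h9

end Main

end Groth.Agent.H99.ProperMeet
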