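import Mathlib
import Groth.Agent.H99.GenSpecB

/-!
# One-dimensional quotients of local rings essentially of finite type are quasi-finite

* `exists_prime_dimOne` : in a Noetherian local ring, above a prime `q₀` not containing `h` there is
  a prime `q` not containing `h` such that the only primes containing `q` are `q` and the maximal
  ideal.
* `quasiFinite_of_dimOne` : a local domain `D` essentially of finite type over a Noetherian local
  ring `A` (local structure map, residue field integral), with only the primes `⊥` and `m_D`, and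
  such that some element of `m_A` is nonzero in `D`, is quasi-finite over `A`.
-/

set_option autoImplicit false

namespace Groth.Agent.H99.GenSpec

open Ideal IsLocalRing

theorem exists_prime_dimOne {B : Type*} [CommRing B] [IsNoetherianRing B] [IsLocalRing B]
    (q₀ : Ideal B) [hq₀ : q₀.IsPrime] (h : B) (hh : h ∉ q₀) :
    ∃ q : Ideal B, q.IsPrime ∧ q₀ ≤ q ∧ h ∉ q ∧
      ∀ P : Ideal B, P.IsPrime → q ≤ P → P = q ∨ P = maximalIdeal B := by
  classical
  let S : Set (Ideal B) := {P | P.IsPrime ∧ q₀ ≤ P ∧ h ∉ P}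
  obtain ⟨q, hqS, hqmax⟩ : ∃ q : Ideal B, q ∈ S ∧ ∀ I ∈ S, ¬ q < I :=
    set_has_maximal_iff_noetherian.mpr inferInstance S ⟨q₀, hq₀, le_rfl, hh⟩
  obtain ⟨hqprime, hq₀q, hhq⟩ := hqS
  refine ⟨q, hqprime, hq₀q, hhq, ?_⟩
  let D := B ⧸ q
  have hDdom : IsDomain D := Ideal.Quotient.isDomain q
  have hmk : Function.Surjective (Ideal.Quotient.mk q) := Ideal.Quotient.mk_surjective
  have hqm : q ≤ maximalIdeal B := le_maximalIdeal hqprime.ne_top
  let mbar : Ideal D := (maximalIdeal B).map (Ideal.Quotient.mk q)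
  have hmbar : mbar.IsMaximal :=
    Ideal.IsMaximal.map_of_surjective_of_ker_le hmk (by rwa [Ideal.mk_ker])
  have hcomap_mbar : mbar.comap (Ideal.Quotient.mk q) = maximalIdeal B := by
    rw [Ideal.comap_map_of_surjective _ hmk, ← RingHom.ker_eq_comap_bot, Ideal.mk_ker,
      sup_eq_left.mpr hqm]
  have hϖ0 : Ideal.Quotient.mk q h ≠ 0 := by
    intro h0
    exact hhq (Ideal.Quotient.eq_zero_iff_mem.mp h0)
  have H1 : ∀ P : Ideal D, P.IsPrime → P ≤ mbar → P ≠ ⊥ → Ideal.Quotient.mk q h ∈ P := by
    intro P hP _ hP0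
    by_contra hπP
    have hP'prime : (P.comap (Ideal.Quotient.mk q)).IsPrime := Ideal.comap_isPrime _ _
    have hqP' : q ≤ P.comap (Ideal.Quotient.mk q) := by
      intro a ha
      rw [Ideal.mem_comap, Ideal.Quotient.eq_zero_iff_mem.mpr ha]
      exact P.zero_mem
    have hP'S : P.comap (Ideal.Quotient.mk q) ∈ S :=
      ⟨hP'prime, hq₀q.trans hqP', fun h' => hπP h'⟩
    have heq : P.comap (Ideal.Quotient.mk q) = q := by
      by_contra hne
      exact hqmax _ hP'S (lt_of_le_of_ne hqP' (Ne.symm hne))
    apply hP0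
    rw [← Ideal.map_comap_of_surjective _ hmk P, heq, Ideal.map_quotient_self]
  have H2 := prime_le_max_eq mbar (Ideal.Quotient.mk q h) hϖ0 H1
  intro P hP hqP
  have hPbar : (P.map (Ideal.Quotient.mk q)).IsPrime :=
    Ideal.map_isPrime_of_surjective hmk (by rwa [Ideal.mk_ker])
  have hPm : P ≤ maximalIdeal B := le_maximalIdeal hP.ne_top
  have hcomapP : (P.map (Ideal.Quotient.mk q)).comap (Ideal.Quotient.mk q) = P := by
    rw [Ideal.comap_map_of_surjective _ hmk, ← RingHom.ker_eq_comap_bot, Ideal.mk_ker,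
      sup_eq_left.mpr hqP]
  rcases H2 _ hPbar (Ideal.map_mono hPm) with h0 | h1
  · left
    rw [← hcomapP, h0, ← RingHom.ker_eq_comap_bot, Ideal.mk_ker]
  · right
    rw [← hcomapP, h1, hcomap_mbar]

end Groth.Agent.H99.GenSpec

namespace Groth.Agent.H99.GenSpec

open Ideal IsLocalRing

theorem quasiFinite_of_dimOne {A D : Type*} [CommRing A] [IsNoetherianRing A] [IsLocalRing A]
    [CommRing D] [IsDomain D] [IsLocalRing D] [Algebra A D] [IsLocalHom (algebraMap A D)]
    [Algebra.EssFiniteType A D]
    (a : A) (ham : a ∈ maximalIdeal A) (ha0 : algebraMap A D a ≠ 0)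
    (H : ∀ P : Ideal D, P.IsPrime → P = ⊥ ∨ P = maximalIdeal D)
    (hres : ∀ x : D, ∃ p : Polynomial A, p.Monic ∧ Polynomial.aeval x p ∈ maximalIdeal D) :
    Algebra.QuasiFinite A D := by
  classical
  let T : Subalgebra A D := Algebra.EssFiniteType.subalgebra A D
  let M : Submonoid T := Algebra.EssFiniteType.submonoid A D
  have hloc : IsLocalization M D := Algebra.EssFiniteType.isLocalization A D
  have hTnoeth : IsNoetherianRing T := Algebra.FiniteType.isNoetherianRing A T
  have hinj : Function.Injective (algebraMap T D) := Subtype.val_injective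
  let n : Ideal T := (maximalIdeal D).comap (algebraMap T D)
  have hnprime : n.IsPrime := Ideal.comap_isPrime _ _
  have hM : M = n.primeCompl := by
    ext t
    change IsUnit (algebraMap T D t) ↔ ¬ (algebraMap T D t ∈ maximalIdeal D)
    rw [mem_maximalIdeal, mem_nonunits_iff, not_not]
  have hlocn : IsLocalization n.primeCompl D := hM ▸ hloc
  -- `n` is maximal
  have hint : Algebra.IsIntegral A (T ⧸ n) := by
    refine ⟨fun x => ?_⟩
    obtain ⟨t, rfl⟩ := Ideal.Quotient.mk_surjective x
    obtain ⟨p, hp, hpm⟩ := hres (t : D)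
    refine ⟨p, hp, ?_⟩
    rw [← Polynomial.aeval_def]
    have h1 : Polynomial.aeval (Ideal.Quotient.mk n t) p =
        Ideal.Quotient.mk n (Polynomial.aeval t p) :=
      Polynomial.aeval_algHom_apply (Ideal.Quotient.mkₐ A n) t p
    rw [h1, Ideal.Quotient.eq_zero_iff_mem]
    change algebraMap T D (Polynomial.aeval t p) ∈ maximalIdeal D
    have h2 : algebraMap T D (Polynomial.aeval t p) = Polynomial.aeval (t : D) p :=
      Polynomial.aeval_subalgebra_coe p T t
    rw [h2]
    exact hpm
  have hcomapbot : (⊥ : Ideal (T ⧸ n)).comap (algebraMap A (T ⧸ n)) = maximalIdeal A := by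
    ext x
    rw [Ideal.mem_comap, Ideal.mem_bot]
    have h1 : algebraMap A (T ⧸ n) x = Ideal.Quotient.mk n (algebraMap A T x) := rfl
    rw [h1, Ideal.Quotient.eq_zero_iff_mem]
    change algebraMap T D (algebraMap A T x) ∈ maximalIdeal D ↔ _
    rw [← IsScalarTower.algebraMap_apply A T D, mem_maximalIdeal, mem_maximalIdeal,
      mem_nonunits_iff, mem_nonunits_iff, isUnit_map_iff]
  have hTndom : IsDomain (T ⧸ n) := Ideal.Quotient.isDomain n
  have hbotmax : (⊥ : Ideal (T ⧸ n)).IsMaximal := by
    have hnt : Nontrivial (T ⧸ n) := hTndom.toNontrivial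
    have hbp : (⊥ : Ideal (T ⧸ n)).IsPrime := Ideal.isPrime_bot
    apply Ideal.isMaximal_of_isIntegral_of_isMaximal_comap (R := A) (⊥ : Ideal (T ⧸ n))
    rw [hcomapbot]
    infer_instance
  have hnmax : n.IsMaximal := (Ideal.bot_quotient_isMaximal_iff n).mp hbotmax
  -- primes of `T` below `n`
  have HT : ∀ P : Ideal T, P.IsPrime → P ≤ n → P = ⊥ ∨ P = n := by
    intro P hP hPn
    have hdisj : Disjoint (n.primeCompl : Set T) (P : Set T) := by
      rw [Set.disjoint_left]
      intro t ht htP
      exact ht (hPn htP)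
    have hmapprime : (P.map (algebraMap T D)).IsPrime :=
      IsLocalization.isPrime_of_isPrime_disjoint n.primeCompl D P hP hdisj
    have hcm : (P.map (algebraMap T D)).comap (algebraMap T D) = P :=
      IsLocalization.under_map_of_isPrime_disjoint n.primeCompl D hP hdisj
    rcases H _ hmapprime with h0 | h1
    · left
      rw [← hcm, h0, Ideal.comap_bot_of_injective _ hinj]
    · right
      rw [← hcm, h1]
  have ham' : algebraMap A T a ∈ n := by
    change algebraMap T D (algebraMap A T a) ∈ maximalIdeal D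
    rw [← IsScalarTower.algebraMap_apply A T D, mem_maximalIdeal, mem_nonunits_iff, isUnit_map_iff]
    exact ham
  have ha0' : algebraMap A T a ≠ 0 := by
    intro h0
    apply ha0
    rw [IsScalarTower.algebraMap_apply A T D, h0, map_zero]
  have hQF : Algebra.QuasiFiniteAt A n := quasiFiniteAt_of_isolated n a ham' ha0' HT
  -- transfer to `D`
  let e : Localization.AtPrime n ≃ₐ[T] D := IsLocalization.algEquiv n.primeCompl _ _
  exact Algebra.QuasiFinite.of_surjective_algHom (e.restrictScalars A).toAlgHom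
    (e.restrictScalars A).surjective

end Groth.Agent.H99.GenSpec
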