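import Mathlib
import Groth.Agent.H99.QFDimOne

/-!
# Chart-level algebra for "closed subscheme through `x`, quasi-finite at `x`, meeting an open"
-/

set_option autoImplicit false

namespace Groth.Agent.H99.GenSpec

open Ideal IsLocalRing

/-- Let `C` be a Noetherian `R`-algebra, `n' ≤ n` primes of `C` with different contractions to `R`,
`g ∉ n'`, and assume `n` is closed in its fibre. Then there is a prime `q ≤ n` of `C` with `g ∉ q`,
whose contraction differs from that of `n`, together with an open neighbourhood `W` of `n` in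
`Spec C` such that `n` is the only point of `W ∩ V(q)` in the fibre through `n`. -/
theorem exists_prime_isolated {R C : Type*} [CommRing R] [CommRing C] [Algebra R C]
    [IsNoetherianRing C] (n n' : Ideal C) [hn : n.IsPrime] [hn' : n'.IsPrime] (hle : n' ≤ n)
    (hne : n'.comap (algebraMap R C) ≠ n.comap (algebraMap R C)) (g : C) (hg : g ∉ n')
    (hcl : ∀ P : Ideal C, P.IsPrime → n ≤ P →
      P.comap (algebraMap R C) = n.comap (algebraMap R C) → P = n) :
    ∃ q : Ideal C, q.IsPrime ∧ q ≤ n ∧ g ∉ q ∧
      q.comap (algebraMap R C) ≠ n.comap (algebraMap R C) ∧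
      ∃ W : Set (PrimeSpectrum C), IsOpen W ∧ (∀ y : PrimeSpectrum C, y.asIdeal = n → y ∈ W) ∧
        ∀ y ∈ W, q ≤ y.asIdeal →
          y.asIdeal.comap (algebraMap R C) = n.comap (algebraMap R C) → y.asIdeal = n := by
  classical
  -- an element of `n ∩ R` outside `n'`
  obtain ⟨a, han, han'⟩ : ∃ a : R, algebraMap R C a ∈ n ∧ algebraMap R C a ∉ n' := by
    by_contra hcon
    push Not at hcon
    exact hne (le_antisymm (Ideal.comap_mono hle) fun x hx => hcon x hx)
  have hh : g * algebraMap R C a ∉ n' := fun h => (hn'.mem_or_mem h).elim hg han'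
  -- localize at `n`
  let B := Localization.AtPrime n
  have hdisj' : Disjoint (n.primeCompl : Set C) (n' : Set C) := by
    rw [Set.disjoint_left]
    intro t ht htn
    exact ht (hle htn)
  have hq₀prime : (n'.map (algebraMap C B)).IsPrime :=
    IsLocalization.isPrime_of_isPrime_disjoint n.primeCompl B n' hn' hdisj'
  have hq₀comap : (n'.map (algebraMap C B)).comap (algebraMap C B) = n' :=
    IsLocalization.under_map_of_isPrime_disjoint n.primeCompl B hn' hdisj'
  have hhB : algebraMap C B (g * algebraMap R C a) ∉ n'.map (algebraMap C B) := by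
    intro h
    have : g * algebraMap R C a ∈ (n'.map (algebraMap C B)).comap (algebraMap C B) := h
    rw [hq₀comap] at this
    exact hh this
  obtain ⟨qB, hqBprime, -, hhqB, HB⟩ :=
    exists_prime_dimOne (n'.map (algebraMap C B)) (algebraMap C B (g * algebraMap R C a)) hhB
  let q : Ideal C := qB.comap (algebraMap C B)
  have hqprime : q.IsPrime := Ideal.comap_isPrime _ _
  have hqn : q ≤ n := by
    have h1 : qB ≤ maximalIdeal B := le_maximalIdeal hqBprime.ne_top
    have h2 : qB.comap (algebraMap C B) ≤ (maximalIdeal B).under C :=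
      Ideal.comap_mono (f := algebraMap C B) h1
    rwa [IsLocalization.AtPrime.under_maximalIdeal B n] at h2
  have hhq : g * algebraMap R C a ∉ q := fun h => hhqB h
  have hgq : g ∉ q := fun h => hhq (q.mul_mem_right _ h)
  have haq : algebraMap R C a ∉ q := fun h => hhq (q.mul_mem_left _ h)
  have hqne : q.comap (algebraMap R C) ≠ n.comap (algebraMap R C) := by
    intro heq
    have : a ∈ q.comap (algebraMap R C) := by
      rw [heq]
      exact han
    exact haq this
  have hmapq : q.map (algebraMap C B) = qB := IsLocalization.map_under n.primeCompl B qB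
  -- primes between `q` and `n`
  have Hbetween : ∀ P : Ideal C, P.IsPrime → q ≤ P → P ≤ n → P = q ∨ P = n := by
    intro P hP hqP hPn
    have hdisj : Disjoint (n.primeCompl : Set C) (P : Set C) := by
      rw [Set.disjoint_left]
      intro t ht htP
      exact ht (hPn htP)
    have hmapprime : (P.map (algebraMap C B)).IsPrime :=
      IsLocalization.isPrime_of_isPrime_disjoint n.primeCompl B P hP hdisj
    have hcm : (P.map (algebraMap C B)).comap (algebraMap C B) = P :=
      IsLocalization.under_map_of_isPrime_disjoint n.primeCompl B hP hdisj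
    have hle' : qB ≤ P.map (algebraMap C B) := hmapq ▸ Ideal.map_mono hqP
    rcases HB _ hmapprime hle' with h0 | h1
    · left
      rw [← hcm, h0]
    · right
      rw [← hcm, h1]
      exact IsLocalization.AtPrime.under_maximalIdeal B n
  -- the open set
  let J : Ideal C := q ⊔ Ideal.span {algebraMap R C a}
  have hfin : J.minimalPrimes.Finite := Ideal.finite_minimalPrimes_of_isNoetherianRing C J
  have hJn : J ≤ n := sup_le hqn ((Ideal.span_singleton_le_iff_mem _).mpr han)
  have hminle : ∀ Q ∈ J.minimalPrimes, Q ≤ n → Q = n := by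
    intro Q hQ hQn
    have hQprime : Q.IsPrime := hQ.1.1
    have hJQ : J ≤ Q := hQ.1.2
    rcases Hbetween Q hQprime (le_sup_left.trans hJQ) hQn with h | h
    · exfalso
      apply haq
      rw [← h]
      exact hJQ (Ideal.mem_sup_right (Ideal.mem_span_singleton_self _))
    · exact h
  refine ⟨q, hqprime, hqn, hgq, hqne,
    (⋃ Q ∈ {Q ∈ J.minimalPrimes | Q ≠ n}, PrimeSpectrum.zeroLocus (Q : Set C))ᶜ, ?_, ?_, ?_⟩
  · rw [isOpen_compl_iff]
    exact (hfin.subset (fun Q hQ => hQ.1)).isClosed_biUnion
      (fun Q _ => PrimeSpectrum.isClosed_zeroLocus _)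
  · intro y hy
    simp only [Set.mem_compl_iff, Set.mem_iUnion, not_exists]
    rintro Q ⟨hQ, hQne⟩ hQy
    apply hQne
    apply hminle Q hQ
    intro c hc
    rw [← hy]
    exact hQy hc
  · intro y hyW hqy hycomap
    have hay : algebraMap R C a ∈ y.asIdeal := by
      have : a ∈ y.asIdeal.comap (algebraMap R C) := by
        rw [hycomap]
        exact han
      exact this
    have hJy : J ≤ y.asIdeal := sup_le hqy ((Ideal.span_singleton_le_iff_mem _).mpr hay)
    obtain ⟨Q, hQ, hQy⟩ := Ideal.exists_minimalPrimes_le (I := J) (J := y.asIdeal) hJy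
    have hQn : Q = n := by
      by_contra hQne
      apply hyW
      simp only [Set.mem_iUnion]
      exact ⟨Q, ⟨hQ, hQne⟩, hQy⟩
    exact hcl y.asIdeal y.2 (hQn ▸ hQy) hycomap

end Groth.Agent.H99.GenSpec
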