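import Mathlib
import Groth.Agent.H99.QFChartAlg
import Groth.Agent.H24.AffineChart

/-!
# A closed subscheme through `x`, quasi-finite at `x`, meeting a given open
-/

set_option autoImplicit false
universe u

namespace Groth.Agent.H99.GenSpec

open AlgebraicGeometry CategoryTheory

theorem exists_closed_subscheme_quasiFiniteAt {X S : Scheme.{u}} (f : X ⟶ S)
    [LocallyOfFiniteType f] [IsLocallyNoetherian S] (x : X)
    (hcl : IsClosed (Subtype.val ⁻¹' {x} : Set ↑(f ⁻¹' {f x}))) (U : X.Opens)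
    (hx' : ∃ x' : X, x' ∈ U ∧ x' ⤳ x ∧ f x' ≠ f x) :
    ∃ (I : X.IdealSheafData) (z₀ x₀ : ↑I.subscheme), I.subschemeι x₀ = x ∧
      (I.subschemeι ≫ f).QuasiFiniteAt x₀ ∧
      I.subschemeι z₀ ∈ U ∧ I.subschemeι z₀ ⤳ x ∧ f (I.subschemeι z₀) ≠ f x := by
  classical
  obtain ⟨x', hx'U, hx'x, hfx'⟩ := hx'
  obtain ⟨V₀, W, hV₀, hW, hxW, hWV₀⟩ := Groth.Agent.H24.exists_affine_charts f x
  have hx'W : x' ∈ W := hx'x.mem_open W.isOpen hxW
  let φ : Γ(S, V₀) →+* Γ(X, W) := (f.appLE V₀ W hWV₀).hom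
  let _ : Algebra Γ(S, V₀) Γ(X, W) := φ.toAlgebra
  have hRnoeth : IsNoetherianRing Γ(S, V₀) :=
    IsLocallyNoetherian.component_noetherian ⟨V₀, hV₀⟩
  have hFT : Algebra.FiniteType Γ(S, V₀) Γ(X, W) := f.finiteType_appLE hV₀ hW hWV₀
  have hCnoeth : IsNoetherianRing Γ(X, W) := Algebra.FiniteType.isNoetherianRing Γ(S, V₀) _
  let n : ↥(Spec Γ(X, W)) := hW.primeIdealOf ⟨x, hxW⟩
  let n' : ↥(Spec Γ(X, W)) := hW.primeIdealOf ⟨x', hx'W⟩
  have hnx : hW.fromSpec n = x := hW.fromSpec_primeIdealOf ⟨x, hxW⟩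
  have hn'x' : hW.fromSpec n' = x' := hW.fromSpec_primeIdealOf ⟨x', hx'W⟩
  have hemb : Topology.IsOpenEmbedding hW.fromSpec := hW.fromSpec.isOpenEmbedding
  have hspec : ∀ P P' : ↥(Spec Γ(X, W)),
      hW.fromSpec P ⤳ hW.fromSpec P' ↔ P.asIdeal ≤ P'.asIdeal := by
    intro P P'
    exact (hemb.isInducing.specializes_iff).trans
      (PrimeSpectrum.le_iff_specializes (R := Γ(X, W)) P P').symm
  have hfmap : ∀ P : ↥(Spec Γ(X, W)),
      f (hW.fromSpec P) = hV₀.fromSpec (PrimeSpectrum.comap φ P) := by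
    intro P
    exact (congr($(IsAffineOpen.SpecMap_appLE_fromSpec f hV₀ hW hWV₀) P)).symm
  have hfiber : ∀ P P' : ↥(Spec Γ(X, W)), f (hW.fromSpec P) = f (hW.fromSpec P') ↔
      P.asIdeal.comap (algebraMap Γ(S, V₀) Γ(X, W)) =
        P'.asIdeal.comap (algebraMap Γ(S, V₀) Γ(X, W)) := by
    intro P P'
    rw [hfmap, hfmap]
    constructor
    · intro h
      have := hV₀.fromSpec.isOpenEmbedding.injective h
      exact congrArg PrimeSpectrum.asIdeal this
    · intro h
      congr 1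
      exact PrimeSpectrum.ext h
  have hle : n'.asIdeal ≤ n.asIdeal := by
    rw [← hspec, hn'x', hnx]
    exact hx'x
  have hne : n'.asIdeal.comap (algebraMap Γ(S, V₀) Γ(X, W)) ≠
      n.asIdeal.comap (algebraMap Γ(S, V₀) Γ(X, W)) := by
    intro h
    apply hfx'
    rw [← hn'x', ← hnx]
    exact (hfiber n' n).mpr h
  -- a basic open around `x'` inside `U`
  have hpreopen : IsOpen (hW.fromSpec ⁻¹' (U : Set X)) := U.isOpen.preimage hW.fromSpec.continuous
  have hn'pre : n' ∈ hW.fromSpec ⁻¹' (U : Set X) := by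
    change hW.fromSpec n' ∈ U
    rw [hn'x']
    exact hx'U
  obtain ⟨_, ⟨g, rfl⟩, hn'g, hgU⟩ :=
    (PrimeSpectrum.isTopologicalBasis_basic_opens (R := Γ(X, W))).exists_subset_of_mem_open
      hn'pre hpreopen
  have hg : g ∉ n'.asIdeal := hn'g
  -- `x` is closed in its fibre
  have hclC : ∀ P : Ideal Γ(X, W), P.IsPrime → n.asIdeal ≤ P →
      P.comap (algebraMap Γ(S, V₀) Γ(X, W)) = n.asIdeal.comap (algebraMap Γ(S, V₀) Γ(X, W)) →
      P = n.asIdeal := by
    intro P hP hnP hPc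
    let PP : ↥(Spec Γ(X, W)) := (⟨P, hP⟩ : PrimeSpectrum Γ(X, W))
    have h1 : x ⤳ hW.fromSpec PP := by
      rw [← hnx]
      exact (hspec n PP).mpr hnP
    have h2 : f (hW.fromSpec PP) = f x := by
      rw [← hnx]
      exact (hfiber PP n).mpr hPc
    let xF : f ⁻¹' {f x} := ⟨x, rfl⟩
    let yF : f ⁻¹' {f x} := ⟨hW.fromSpec PP, h2⟩
    have h3 : xF ⤳ yF := (subtype_specializes_iff xF yF).mpr h1
    have h4 : yF ∈ closure {xF} := specializes_iff_mem_closure.mp h3
    have h5 : closure {xF} ⊆ (Subtype.val ⁻¹' {x} : Set ↑(f ⁻¹' {f x})) :=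
      closure_minimal (by
        intro w hw
        rw [Set.mem_singleton_iff] at hw
        rw [hw]
        rfl) hcl
    have h6 : hW.fromSpec PP = x := h5 h4
    have h7 : PP = n := hemb.injective (h6.trans hnx.symm)
    exact congrArg PrimeSpectrum.asIdeal h7
  obtain ⟨q, hqprime, hqn, hgq, hqne, W', hW'open, hnW', hW'iso⟩ :=
    exists_prime_isolated (R := Γ(S, V₀)) n.asIdeal n'.asIdeal hle hne g hg hclC
  let qq : ↥(Spec Γ(X, W)) := (⟨q, hqprime⟩ : PrimeSpectrum Γ(X, W))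
  have hzU : hW.fromSpec qq ∈ U := hgU hgq
  have hzx : hW.fromSpec qq ⤳ x := by
    rw [← hnx]
    exact (hspec qq n).mpr hqn
  have hfz : f (hW.fromSpec qq) ≠ f x := by
    rw [← hnx]
    intro h
    exact hqne ((hfiber qq n).mp h)
  -- the reduced closed subscheme on the closure of `z`
  let Z : TopologicalSpace.Closeds X := ⟨closure {hW.fromSpec qq}, isClosed_closure⟩
  let I : X.IdealSheafData := Scheme.IdealSheafData.vanishingIdeal Z
  have hsupp : (I.support : Set X) = closure {hW.fromSpec qq} :=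
    Scheme.IdealSheafData.coe_support_vanishingIdeal Z
  have hrange : Set.range I.subschemeι = closure {hW.fromSpec qq} := by
    rw [I.range_subschemeι, hsupp]
  have hxZ : x ∈ Set.range I.subschemeι := by
    rw [hrange]
    exact specializes_iff_mem_closure.mp hzx
  have hzZ : hW.fromSpec qq ∈ Set.range I.subschemeι := by
    rw [hrange]
    exact subset_closure rfl
  obtain ⟨x₀, hx₀⟩ := hxZ
  obtain ⟨z₀, hz₀⟩ := hzZ
  refine ⟨I, z₀, x₀, hx₀, ?_, by rw [hz₀]; exact hzU, by rw [hz₀]; exact hzx,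
    by rw [hz₀]; exact hfz⟩
  -- quasi-finiteness at `x₀`: `x₀` is isolated in its fibre
  have hLFT : LocallyOfFiniteType (I.subschemeι ≫ f) := inferInstance
  rw [Scheme.Hom.quasiFiniteAt_iff_isOpen_singleton_asFiber,
    ← ((I.subschemeι ≫ f).fiberHomeo ((I.subschemeι ≫ f) x₀)).isOpen_image]
  simp only [Set.image_singleton, Scheme.Hom.asFiber, Homeomorph.apply_symm_apply]
  have hOopen : IsOpen (hW.fromSpec '' W') := hemb.isOpenMap _ hW'open
  have hinj : Function.Injective I.subschemeι := I.subschemeι.isEmbedding.injective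
  have hset : ({⟨x₀, rfl⟩} : Set ↑((I.subschemeι ≫ f) ⁻¹' {(I.subschemeι ≫ f) x₀})) =
      Subtype.val ⁻¹' (I.subschemeι ⁻¹' (hW.fromSpec '' W')) := by
    ext ⟨w, hw⟩
    simp only [Set.mem_singleton_iff, Set.mem_preimage]
    constructor
    · intro h
      have hwx : w = x₀ := congrArg Subtype.val h
      rw [hwx, hx₀]
      exact ⟨n, hnW' n rfl, hnx⟩
    · rintro ⟨P, hPW', hPw0⟩
      have hPw : hW.fromSpec P = I.subschemeι w := hPw0
      apply Subtype.ext
      show w = x₀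
      apply hinj
      rw [hx₀, ← hPw, ← hnx]
      congr 1
      apply PrimeSpectrum.ext
      apply hW'iso P hPW'
      · -- `q ≤ P`
        rw [← hspec qq P, hPw, specializes_iff_mem_closure, ← hrange]
        exact ⟨w, rfl⟩
      · -- same fibre
        rw [← hfiber P n, hPw, hnx, ← hx₀]
        exact hw
  rw [hset]
  exact (hOopen.preimage I.subschemeι.continuous).preimage continuous_subtype_val

end Groth.Agent.H99.GenSpec
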