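import Mathlib
import Groth.Agent.H99.QFCodimOneSch

/-!
# Quasi-finiteness at points of a one-point fibre (helper99; for S18485)
-/

set_option autoImplicit false
set_option backward.isDefEq.respectTransparency.types false
universe u

open CategoryTheory CategoryTheory.Limits AlgebraicGeometry

namespace Groth.Agent.H99.QFCodimOne

/-- If `g : T ⟶ S` is a preimmersion from a one-point scheme and the base change of `f` along `g`
is locally quasi-finite, then `f` is quasi-finite at every point over the image of `g`. -/
theorem quasiFiniteAt_of_pullback_subsingleton {X S T : Scheme.{u}} (f : X ⟶ S)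
    [LocallyOfFiniteType f] (g : T ⟶ S) [IsPreimmersion g] [Subsingleton T]
    [LocallyQuasiFinite (pullback.snd f g)] (x : X) (hx : f x ∈ Set.range g) :
    f.QuasiFiniteAt x := by
  rw [Scheme.Hom.quasiFiniteAt_iff_isOpen_singleton_asFiber,
    ← (f.fiberHomeo (f x)).isOpen_image]
  simp only [Set.image_singleton, Scheme.Hom.asFiber, Homeomorph.apply_symm_apply]
  obtain ⟨t, ht⟩ := hx
  obtain ⟨x', hx'1, hx'2⟩ := Scheme.Pullback.exists_preimage_pullback (f := f) (g := g) x t ht.symm
  have hdisc : _root_.IsDiscrete ((pullback.snd f g) ⁻¹' {t}) :=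
    (pullback.snd f g).isDiscrete_preimage_singleton t
  have huniv : (pullback.snd f g) ⁻¹' {t} = Set.univ := by
    ext z
    simp only [Set.mem_preimage, Set.mem_singleton_iff, Set.mem_univ, iff_true]
    exact Subsingleton.elim _ _
  rw [huniv, isDiscrete_univ_iff] at hdisc
  have hopen : IsOpen ({x'} : Set ↥(pullback f g)) := isOpen_discrete _
  obtain ⟨W, hW, hWx'⟩ := (pullback.fst f g).isEmbedding.isInducing.isOpen_iff.mp hopen
  have hrange := Scheme.Pullback.range_fst f g
  have : ({⟨x, rfl⟩} : Set ↑(f ⁻¹' {f x})) = Subtype.val ⁻¹' W := by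
    ext ⟨z, hz⟩
    simp only [Set.mem_singleton_iff, Subtype.mk.injEq, Set.mem_preimage]
    constructor
    · rintro rfl
      have : x' ∈ (pullback.fst f g) ⁻¹' W := by rw [hWx']; rfl
      rw [← hx'1]
      exact this
    · intro hzW
      have hzr : z ∈ Set.range (pullback.fst f g) := by
        rw [hrange]
        have hz' : f z = f x := hz
        exact ⟨t, by rw [ht, hz']⟩
      obtain ⟨z', rfl⟩ := hzr
      have : z' ∈ (pullback.fst f g) ⁻¹' W := hzW
      rw [hWx'] at this
      rw [Set.mem_singleton_iff.mp this, hx'1]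
  rw [this]
  exact hW.preimage continuous_subtype_val

end Groth.Agent.H99.QFCodimOne
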