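import Mathlib
import Groth.Prelude.Def_W4c6intromoduliQuartic

/-!
# Split binary quartics with a double zero and no triple zero
-/

set_option autoImplicit false
universe u

namespace Groth.Agent.H99.QuarticA

open MvPolynomial W4c6intromoduli

variable {k : Type u} [Field k]

/-- the linear form `b X₀ - a X₁` attached to the point `(a, b)` -/
noncomputable def ell (a b : k) : MvPolynomial (Fin 2) k := C b * X 0 - C a * X 1

theorem binForm_eq (la mu : Fin 4 → k) :
    binForm la mu = ∏ i : Fin 4, ell (la i) (mu i) := rfl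

theorem ell_smul (s a b : k) : ell (s * a) (s * b) = C s * ell a b := by
  unfold ell
  rw [map_mul, map_mul]
  ring

theorem subst_X0 (M : Matrix (Fin 2) (Fin 2) k) :
    subst M (X 0) = C (M 0 0) * X 0 + C (M 0 1) * X 1 := by
  unfold subst
  rw [aeval_X, Fin.sum_univ_two]

theorem subst_X1 (M : Matrix (Fin 2) (Fin 2) k) :
    subst M (X 1) = C (M 1 0) * X 0 + C (M 1 1) * X 1 := by
  unfold subst
  rw [aeval_X, Fin.sum_univ_two]

theorem eval_subst (M : Matrix (Fin 2) (Fin 2) k) (v : Fin 2 → k) (g : MvPolynomial (Fin 2) k) :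
    eval v (subst M g) = eval (M.mulVec v) g := by
  induction g using MvPolynomial.induction_on with
  | C a => simp [subst]
  | add p q hp hq => rw [map_add, map_add, map_add, hp, hq]
  | mul_X p i hp =>
    rw [map_mul, map_mul, map_mul, hp]
    congr 1
    unfold subst
    rw [aeval_X, map_sum, eval_X]
    simp [Matrix.mulVec, dotProduct]

/-- proportional nonzero points differ by a nonzero scalar -/
theorem prop_scalar (a b a' b' : k) (h : a ≠ 0 ∨ b ≠ 0) (h' : a' ≠ 0 ∨ b' ≠ 0)
    (hp : a * b' = a' * b) : ∃ s : k, s ≠ 0 ∧ a' = s * a ∧ b' = s * b := by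
  rcases h with ha | hb
  · refine ⟨a' / a, ?_, ?_, ?_⟩
    · intro hs
      rw [div_eq_zero_iff] at hs
      rcases hs with hs | hs
      · rcases h' with h1 | h1
        · exact h1 hs
        · rw [hs, zero_mul] at hp
          rcases mul_eq_zero.mp hp with h2 | h2
          · exact ha h2
          · exact h1 h2
      · exact ha hs
    · field_simp
    · field_simp
      linear_combination hp
  · refine ⟨b' / b, ?_, ?_, ?_⟩
    · intro hs
      rw [div_eq_zero_iff] at hs
      rcases hs with hs | hs
      · rcases h' with h1 | h1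
        · rw [hs, mul_zero] at hp
          rcases mul_eq_zero.mp hp.symm with h2 | h2
          · exact h1 h2
          · exact hb h2
        · exact h1 hs
      · exact hb hs
    · field_simp
      linear_combination -hp
    · field_simp

theorem binForm_perm (la mu : Fin 4 → k) (i j l m : Fin 4) (hij : i ≠ j) (hil : i ≠ l)
    (him : i ≠ m) (hjl : j ≠ l) (hjm : j ≠ m) (hlm : l ≠ m) :
    binForm la mu = ell (la i) (mu i) * ell (la j) (mu j) * ell (la l) (mu l) *
      ell (la m) (mu m) := by
  rw [binForm_eq]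
  have hinj : Function.Injective ![i, j, l, m] := by
    intro x y hxy
    fin_cases x <;> fin_cases y <;> simp_all
  have hbij : Function.Bijective ![i, j, l, m] := hinj.bijective_of_finite
  rw [← Fintype.prod_bijective ![i, j, l, m] hbij
    (fun t => ell (la (![i, j, l, m] t)) (mu (![i, j, l, m] t)))
    (fun t => ell (la t) (mu t)) (fun _ => rfl)]
  rw [Fin.prod_univ_four]
  rfl

/-- two double zeros -/
theorem case_two (la mu : Fin 4 → k) (i j l m : Fin 4) (hij : i ≠ j) (hil : i ≠ l)
    (him : i ≠ m) (hjl : j ≠ l) (hjm : j ≠ m) (hlm : l ≠ m) (s s' : k) (hs : s ≠ 0)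
    (hs' : s' ≠ 0) (h1 : la j = s * la i) (h2 : mu j = s * mu i) (h3 : la m = s' * la l)
    (h4 : mu m = s' * mu l) (hD : la i * mu l - la l * mu i ≠ 0) :
    ∃ (M : Matrix (Fin 2) (Fin 2) k) (c : k), IsUnit M.det ∧ c ≠ 0 ∧
      binForm la mu = C c * subst M (X 0 ^ 2 * X 1 ^ 2) := by
  refine ⟨!![mu i, -la i; mu l, -la l], s * s', ?_, mul_ne_zero hs hs', ?_⟩
  · rw [Matrix.det_fin_two_of, isUnit_iff_ne_zero]
    intro h
    apply hD
    linear_combination h
  · have hsub : ∀ M : Matrix (Fin 2) (Fin 2) k, subst M (X 0 ^ 2 * X 1 ^ 2) =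
        (C (M 0 0) * X 0 + C (M 0 1) * X 1) ^ 2 * (C (M 1 0) * X 0 + C (M 1 1) * X 1) ^ 2 := by
      intro M
      rw [map_mul, map_pow, map_pow, subst_X0, subst_X1]
    rw [binForm_perm la mu i j l m hij hil him hjl hjm hlm, h1, h2, h3, h4, ell_smul, ell_smul,
      hsub, map_mul]
    simp only [Matrix.of_apply, Matrix.cons_val', Matrix.cons_val_zero, Matrix.cons_val_one,
      Matrix.cons_val_fin_one]
    unfold ell
    simp only [map_neg]
    ring

/-- one double zero and two simple zeros -/
theorem case_one (la mu : Fin 4 → k) (i j l m : Fin 4) (hij : i ≠ j) (hil : i ≠ l)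
    (him : i ≠ m) (hjl : j ≠ l) (hjm : j ≠ m) (hlm : l ≠ m) (s : k) (hs : s ≠ 0)
    (h1 : la j = s * la i) (h2 : mu j = s * mu i)
    (hDil : mu l * la i - la l * mu i ≠ 0) (hDim : mu i * la m - la i * mu m ≠ 0)
    (hDlm : mu l * la m - la l * mu m ≠ 0) :
    ∃ (M : Matrix (Fin 2) (Fin 2) k) (c : k), IsUnit M.det ∧ c ≠ 0 ∧
      binForm la mu = C c * subst M (X 0 ^ 2 * X 1 * (X 0 - X 1)) := by
  set D := mu l * la m - la l * mu m with hD
  set a := (mu i * la m - la i * mu m) / D with ha
  set b := (mu l * la i - la l * mu i) / D with hb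
  have ha0 : a ≠ 0 := div_ne_zero hDim hDlm
  have hb0 : b ≠ 0 := div_ne_zero hDil hDlm
  have e1 : mu i - a * mu l = b * mu m := by
    rw [ha, hb]
    field_simp
    rw [hD]
    ring
  have e2 : la i - a * la l = b * la m := by
    rw [ha, hb]
    field_simp
    rw [hD]
    ring
  refine ⟨!![mu i, -la i; a * mu l, -(a * la l)], s / (a * b), ?_,
    div_ne_zero hs (mul_ne_zero ha0 hb0), ?_⟩
  · rw [Matrix.det_fin_two_of, isUnit_iff_ne_zero]
    intro h
    apply hDil
    have : a * (mu l * la i - la l * mu i) = 0 := by linear_combination h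
    rcases mul_eq_zero.mp this with h' | h'
    · exact absurd h' ha0
    · exact h'
  · have hc : s / (a * b) * a * b = s := by field_simp
    have hL : ell (la i) (mu i) - C a * ell (la l) (mu l) = C b * ell (la m) (mu m) := by
      unfold ell
      have e1' : (C (mu i) : MvPolynomial (Fin 2) k) = C a * C (mu l) + C b * C (mu m) := by
        rw [← map_mul, ← map_mul, ← map_add]
        congr 1
        linear_combination e1
      have e2' : (C (la i) : MvPolynomial (Fin 2) k) = C a * C (la l) + C b * C (la m) := by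
        rw [← map_mul, ← map_mul, ← map_add]
        congr 1
        linear_combination e2
      rw [e1', e2']
      ring
    have hsub : ∀ M : Matrix (Fin 2) (Fin 2) k, subst M (X 0 ^ 2 * X 1 * (X 0 - X 1)) =
        (C (M 0 0) * X 0 + C (M 0 1) * X 1) ^ 2 * (C (M 1 0) * X 0 + C (M 1 1) * X 1) *
        ((C (M 0 0) * X 0 + C (M 0 1) * X 1) - (C (M 1 0) * X 0 + C (M 1 1) * X 1)) := by
      intro M
      rw [map_mul, map_mul, map_pow, map_sub, subst_X0, subst_X1]
    rw [binForm_perm la mu i j l m hij hil him hjl hjm hlm, h1, h2, ell_smul, hsub]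
    simp only [Matrix.of_apply, Matrix.cons_val', Matrix.cons_val_zero, Matrix.cons_val_one,
      Matrix.cons_val_fin_one]
    have hX0 : (C (mu i) * X 0 + C (-la i) * X 1 : MvPolynomial (Fin 2) k) = ell (la i) (mu i) := by
      unfold ell
      rw [map_neg]
      ring
    have hX1 : (C (a * mu l) * X 0 + C (-(a * la l)) * X 1 : MvPolynomial (Fin 2) k) =
        C a * ell (la l) (mu l) := by
      unfold ell
      rw [map_neg, map_mul, map_mul]
      ring
    rw [hX0, hX1, hL]
    conv_lhs => rw [← hc]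
    simp only [map_mul]
    ring

theorem not_both (f : MvPolynomial (Fin 2) k) (M₁ M₂ : Matrix (Fin 2) (Fin 2) k) (c₁ c₂ : k)
    (h1 : IsUnit M₁.det) (h2 : IsUnit M₂.det) (hc2 : c₂ ≠ 0)
    (e1 : f = C c₁ * subst M₁ (X 0 ^ 2 * X 1 * (X 0 - X 1)))
    (e2 : f = C c₂ * subst M₂ (X 0 ^ 2 * X 1 ^ 2)) : False := by
  set N := M₂ * M₁⁻¹ with hN
  have hNM : N * M₁ = M₂ := by
    rw [hN, Matrix.mul_assoc, Matrix.nonsing_inv_mul M₁ h1, Matrix.mul_one]
  have hdetN : N.det ≠ 0 := by
    intro h0
    have := congrArg Matrix.det hNM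
    rw [Matrix.det_mul, h0, zero_mul] at this
    exact h2.ne_zero this.symm
  have key : ∀ e : Fin 2 → k, e 0 ^ 2 * e 1 * (e 0 - e 1) = 0 →
      (N.mulVec e) 0 = 0 ∨ (N.mulVec e) 1 = 0 := by
    intro e he
    have hw1 : eval (M₁⁻¹.mulVec e) f = 0 := by
      rw [e1, map_mul, eval_subst, Matrix.mulVec_mulVec, Matrix.mul_nonsing_inv M₁ h1,
        Matrix.one_mulVec]
      simp only [map_mul, map_pow, map_sub, eval_X, eval_C]
      rw [he, mul_zero]
    rw [e2, map_mul, eval_subst, Matrix.mulVec_mulVec, ← hN] at hw1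
    simp only [map_mul, map_pow, eval_X, eval_C] at hw1
    rcases mul_eq_zero.mp hw1 with h | h
    · exact absurd h hc2
    · rcases mul_eq_zero.mp h with h | h
      · exact Or.inl (pow_eq_zero_iff (by norm_num) |>.mp h)
      · exact Or.inr (pow_eq_zero_iff (by norm_num) |>.mp h)
  have k1 := key ![0, 1] (by simp)
  have k2 := key ![1, 0] (by simp)
  have k3 := key ![1, 1] (by simp)
  simp only [Matrix.mulVec, dotProduct, Fin.sum_univ_two, Matrix.cons_val_zero,
    Matrix.cons_val_one, mul_zero, mul_one, zero_add, add_zero] at k1 k2 k3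
  apply hdetN
  rw [Matrix.det_fin_two]
  rcases k1 with a | a <;> rcases k2 with b | b <;> rcases k3 with c | c
  · rw [a, b]; ring
  · rw [a, b]; ring
  · have : N 0 0 = 0 := by rw [a, add_zero] at c; exact c
    rw [a, this]; ring
  · have : N 1 1 = 0 := by rw [b, zero_add] at c; exact c
    rw [b, this]; ring
  · have : N 0 1 = 0 := by rw [b, zero_add] at c; exact c
    rw [b, this]; ring
  · have : N 1 0 = 0 := by rw [a, add_zero] at c; exact c
    rw [a, this]; ring
  · rw [a, b]; ring
  · rw [a, b]; ring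

end Groth.Agent.H99.QuarticA
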