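import Mathlib

set_option autoImplicit false

universe u v w

open CategoryTheory TopologicalSpace Opposite Limits

namespace Groth.Agent.H99.QuasiHomeoSheaf

variable {X₀ X : TopCat.{u}} (f : X₀ ⟶ X)

section Forward

variable {f}
variable (hf : Function.Bijective (fun U : Opens X => (Opens.map f).obj U))

include hf in
lemma le_of_map_le {U V : Opens X} (h : (Opens.map f).obj U ≤ (Opens.map f).obj V) : U ≤ V := by
  have h1 : (Opens.map f).obj (U ⊓ V) = (Opens.map f).obj U := by
    apply le_antisymm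
    · exact (Opens.map f).monotone inf_le_left
    · intro x hx
      exact ⟨hx, h hx⟩
  have h2 : U ⊓ V = U := hf.1 h1
  exact h2 ▸ inf_le_right

include hf in
lemma isEquivalence_map : (Opens.map f).IsEquivalence where
  faithful := ⟨fun _ => Subsingleton.elim _ _⟩
  full := ⟨fun g => ⟨homOfLE (le_of_map_le hf g.le), Subsingleton.elim _ _⟩⟩
  essSurj := ⟨fun W => by
    obtain ⟨U, hU⟩ := hf.2 W
    exact ⟨U, ⟨eqToIso hU⟩⟩⟩

include hf in
lemma isCocontinuous_map :
    (Opens.map f).IsCocontinuous (Opens.grothendieckTopology X) (Opens.grothendieckTopology X₀) where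
  cover_lift := by
    intro U S hS
    rw [Opens.mem_grothendieckTopology] at hS ⊢
    set U' : Opens X := sSup {V | ∃ h : V ≤ U, S ((Opens.map f).map (homOfLE h))} with hU'
    have h1 : (Opens.map f).obj U ≤ (Opens.map f).obj U' := by
      intro x₀ hx₀
      obtain ⟨W, g, hg, hxW⟩ := hS x₀ hx₀
      obtain ⟨V, rfl⟩ := hf.2 W
      have hVU : V ≤ U := le_of_map_le hf g.le
      have hVU' : V ≤ U' := le_sSup ⟨hVU, by
        rw [Subsingleton.elim ((Opens.map f).map (homOfLE hVU)) g]; exact hg⟩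
      exact (Opens.map f).monotone hVU' hxW
    have h2 : U ≤ U' := le_of_map_le hf h1
    intro x hx
    have hx' : x ∈ U' := h2 hx
    rw [hU', Opens.mem_sSup] at hx'
    obtain ⟨V, ⟨hVU, hV⟩, hxV⟩ := hx'
    exact ⟨V, homOfLE hVU, hV, hxV⟩

include hf in
lemma pushforward_isEquivalence (A : Type v) [Category.{w} A] :
    (TopCat.Sheaf.pushforward A f).IsEquivalence := by
  have := isEquivalence_map hf
  let e : Opens X ≌ Opens X₀ := (Opens.map f).asEquivalence
  have : e.functor.IsCocontinuous (Opens.grothendieckTopology X)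
      (Opens.grothendieckTopology X₀) := isCocontinuous_map hf
  have : e.inverse.IsCocontinuous (Opens.grothendieckTopology X₀)
      (Opens.grothendieckTopology X) :=
    (e.symm.toAdjunction.isCocontinuous_iff_coverPreserving _ _).mpr
      (coverPreserving_opens_map f)
  have : e.inverse.IsDenseSubsite (Opens.grothendieckTopology X₀)
      (Opens.grothendieckTopology X) :=
    e.isDenseSubsite_inverse_of_isCocontinuous _ _
  let E := e.sheafCongr (Opens.grothendieckTopology X) (Opens.grothendieckTopology X₀) A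
  have : TopCat.Sheaf.pushforward A f = E.inverse := rfl
  rw [this]
  exact E.isEquivalence_inverse

end Forward

section Backward

open TopCat

lemma isIso_map_of_iso {C : Type*} [Category C] {D : Type*} [Category D] {P P' : C ⥤ D}
    (e : P' ≅ P) {U V : C} (i : U ⟶ V) (h : IsIso (P'.map i)) : IsIso (P.map i) := by
  have : P.map i = e.inv.app U ≫ P'.map i ≫ e.hom.app V := by
    rw [e.hom.naturality]; simp
  rw [this]; infer_instance

section Inj

variable {A : Type v} [Category.{u} A] [HasTerminal A]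

lemma endo_eq_of_essSurj [(TopCat.Sheaf.pushforward A f).EssSurj]
    {U' U : Opens X} (hle : U' ≤ U) (h : (Opens.map f).obj U ≤ (Opens.map f).obj U')
    {x : X} (hxU : x ∈ U) (hxU' : x ∉ U') (M : A) (a b : M ⟶ M) : a = b := by
  classical
  let F : X.Sheaf A := skyscraperSheaf x M
  let G : X₀.Sheaf A := (TopCat.Sheaf.pushforward A f).objPreimage F
  let e : (TopCat.Sheaf.pushforward A f).obj G ≅ F :=
    (TopCat.Sheaf.pushforward A f).objObjPreimageIso F
  let e' := (TopCat.Sheaf.forget A X).mapIso e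
  have iso0 : IsIso ((Opens.map f).map (homOfLE hle)) :=
    ⟨⟨homOfLE h, Subsingleton.elim _ _, Subsingleton.elim _ _⟩⟩
  have iso1 : IsIso (((TopCat.Sheaf.pushforward A f).obj G).1.map (homOfLE hle).op) := by
    change IsIso (G.1.map ((Opens.map f).map (homOfLE hle)).op)
    infer_instance
  have iso2 : IsIso (F.1.map (homOfLE hle).op) := isIso_map_of_iso e' _ iso1
  have t' : IsTerminal (F.1.obj (op U')) := (if_neg hxU').symm.ndrec terminalIsTerminal
  have t : IsTerminal (F.1.obj (op U)) := IsTerminal.ofIso t' (asIso (F.1.map (homOfLE hle).op)).symm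
  have tM : IsTerminal M := IsTerminal.ofIso t (eqToIso (if_pos hxU))
  exact tM.hom_ext a b

end Inj

section Surj

variable {A : Type v} [Category.{u} A] {FA : A → A → Type*} {CA : A → Type u}
  [∀ X Y, FunLike (FA X Y) (CA X) (CA Y)] [ConcreteCategory.{u} A FA] [HasColimits A]
  [HasTerminal A] [PreservesFilteredColimits (CategoryTheory.forget A)]

set_option backward.defeqAttrib.useBackward true in
set_option backward.isDefEq.respectTransparency false in
open StalkSkyscraperPresheafAdjunctionAuxs in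
lemma exists_open_of_full [(TopCat.Sheaf.pushforward A f).Full] (G : X₀.Sheaf A)
    (W : Opens X₀) (x₀ : X₀) (hx₀ : x₀ ∈ W) (V : Opens X) (hV : f x₀ ∈ V)
    (hWV : W ≤ (Opens.map f).obj V)
    (s t : ToType (G.presheaf.obj (op ((Opens.map f).obj V))))
    (hst : G.presheaf.map (homOfLE hWV).op s = G.presheaf.map (homOfLE hWV).op t) :
    ∃ (U : Opens X) (hUV : U ≤ V), f x₀ ∈ U ∧
      G.presheaf.map ((Opens.map f).map (homOfLE hUV)).op s =
        G.presheaf.map ((Opens.map f).map (homOfLE hUV)).op t := by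
  classical
  let F : X.Presheaf A := (TopCat.Presheaf.pushforward A f).obj G.presheaf
  let x : X := f x₀
  let T : A := F.stalk x
  let d₀ : ∀ V : Opens X₀, Decidable (x₀ ∈ V) := fun _ => Classical.dec _
  let d : ∀ U : Opens X, Decidable (x ∈ U) := fun U => d₀ ((Opens.map f).obj U)
  let φ : F ⟶ skyscraperPresheaf x T := toSkyscraperPresheaf x (𝟙 T)
  let φ' : (TopCat.Sheaf.pushforward A f).obj G ⟶
      (TopCat.Sheaf.pushforward A f).obj (skyscraperSheaf x₀ T) := ⟨φ⟩
  obtain ⟨ψ₁, hψ₁⟩ := (TopCat.Sheaf.pushforward A f).map_surjective φ'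
  have key : ∀ (U : Opens X) (hU : x ∈ U),
      F.germ U x hU = G.presheaf.germ ((Opens.map f).obj U) x₀
        (show x₀ ∈ (Opens.map f).obj U from hU) ≫ fromStalk x₀ ψ₁.hom := by
    intro U hU
    refine Eq.symm ((germ_fromStalk x₀ ψ₁.hom ((Opens.map f).obj U) hU).trans ?_)
    have h1 : ψ₁.hom.app (op ((Opens.map f).obj U)) = φ.app (op U) := by
      have := congrArg (fun m => m.hom.app (op U)) hψ₁
      exact this
    rw [h1]
    simp only [φ, toSkyscraperPresheaf_app]
    split_ifs
    simp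
    exact Category.comp_id _
  have e1 : G.presheaf.germ ((Opens.map f).obj V) x₀ hV s =
      G.presheaf.germ ((Opens.map f).obj V) x₀ hV t :=
    G.presheaf.germ_ext W hx₀ (homOfLE hWV) (homOfLE hWV) hst
  have e2 : F.germ V x hV s = F.germ V x hV t := by
    rw [key V hV, ConcreteCategory.comp_apply, ConcreteCategory.comp_apply]
    exact congrArg (fromStalk x₀ ψ₁.hom) e1
  obtain ⟨U, hxU, iU, iV, h⟩ := F.germ_eq x hV hV s t e2
  refine ⟨U, iU.le, hxU, ?_⟩
  exact h

end Surj

section Assembly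

variable {f}

lemma bijective_of
    (hinj : ∀ {U' U : Opens X}, U' ≤ U → (Opens.map f).obj U ≤ (Opens.map f).obj U' → U ≤ U')
    (hsurj : ∀ (W : Opens X₀) (x₀ : X₀), x₀ ∈ W →
      ∃ U : Opens X, f x₀ ∈ U ∧ (Opens.map f).obj U ≤ W) :
    Function.Bijective (fun U : Opens X => (Opens.map f).obj U) := by
  have key : ∀ U U' : Opens X, (Opens.map f).obj U = (Opens.map f).obj U' → U ≤ U' := by
    intro U U' h
    have h1 : (Opens.map f).obj U ≤ (Opens.map f).obj (U ⊓ U') := by
      intro z hz
      exact ⟨hz, (h ▸ hz : z ∈ (Opens.map f).obj U')⟩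
    exact (hinj inf_le_left h1).trans inf_le_right
  refine ⟨fun U U' h => le_antisymm (key U U' h) (key U' U h.symm), fun W => ?_⟩
  refine ⟨sSup {U | (Opens.map f).obj U ≤ W}, le_antisymm ?_ ?_⟩
  · intro z hz
    have hz' : f z ∈ sSup {U | (Opens.map f).obj U ≤ W} := hz
    rw [Opens.mem_sSup] at hz'
    obtain ⟨U, hU, hzU⟩ := hz'
    exact hU hzU
  · intro z hz
    obtain ⟨U, hzU, hU⟩ := hsurj W z hz
    have : U ≤ sSup {U | (Opens.map f).obj U ≤ W} := le_sSup hU
    exact this hzU

/-- The family of subgroups of `ℤ`: trivial over `W`, everything outside. -/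
def T (W : Opens X₀) (z : X₀) : AddSubgroup ℤ where
  carrier := {n | z ∈ W → n = 0}
  zero_mem' := fun _ => rfl
  add_mem' := by
    intro a b ha hb h
    simp [ha h, hb h]
  neg_mem' := by
    intro a ha h
    simp [ha h]

/-- The `Type`-valued test sheaf. -/
noncomputable def GT (W : Opens X₀) : X₀.Sheaf (Type u) :=
  TopCat.sheafToTypes X₀ (fun z => ↥(T W z))

open Classical in
/-- The section which is `1` outside `W`. -/
noncomputable def sOne (W : Opens X₀) (V : Opens X₀) : ∀ z : V, ↥(T W z) :=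
  fun z => ⟨if (z : X₀) ∈ W then 0 else 1, fun h => by simp [h]⟩

lemma sOne_val_of_mem (W V : Opens X₀) (z : V) (h : (z : X₀) ∈ W) : (sOne W V z).1 = 0 := by
  simp [sOne, h]

lemma sOne_val_of_not_mem (W V : Opens X₀) (z : V) (h : (z : X₀) ∉ W) : (sOne W V z).1 = 1 := by
  simp [sOne, h]

lemma hsurj_type [(TopCat.Sheaf.pushforward (Type u) f).Full] (W : Opens X₀) (x₀ : X₀)
    (hx₀ : x₀ ∈ W) : ∃ U : Opens X, f x₀ ∈ U ∧ (Opens.map f).obj U ≤ W := by
  have hst : (GT W).presheaf.map (homOfLE (le_top : W ≤ (Opens.map f).obj ⊤)).op (sOne W _) =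
      (GT W).presheaf.map (homOfLE (le_top : W ≤ (Opens.map f).obj ⊤)).op (fun _ => 0) := by
    funext z
    apply Subtype.ext
    exact sOne_val_of_mem W _ _ z.2
  obtain ⟨U, hUV, hxU, h⟩ := exists_open_of_full f (GT W) W x₀ hx₀ ⊤ trivial le_top
    (sOne W _) (fun _ => 0) hst
  refine ⟨U, hxU, ?_⟩
  intro z hz
  by_contra hzW
  have h1 : sOne W ((Opens.map f).obj ⊤) ⟨z, trivial⟩ = 0 := congrFun h ⟨z, hz⟩
  have h2 := congrArg Subtype.val h1
  rw [sOne_val_of_not_mem W _ _ hzW] at h2
  exact one_ne_zero h2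

/-- The underlying presheaf of the `AddCommGrpCat`-valued test sheaf. -/
noncomputable def GApre (W : Opens X₀) : X₀.Presheaf AddCommGrpCat.{u} where
  obj V := AddCommGrpCat.of (∀ z : V.unop, ↥(T W z))
  map {_ V} i := AddCommGrpCat.ofHom
    { toFun := fun g (z : V.unop) => g (i.unop z)
      map_zero' := rfl
      map_add' := fun _ _ => rfl }
  map_id _ := rfl
  map_comp _ _ := rfl

lemma GApre_isSheaf (W : Opens X₀) : (GApre W).IsSheaf := by
  rw [TopCat.Presheaf.isSheaf_iff_isSheaf_comp (CategoryTheory.forget AddCommGrpCat.{u})]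
  exact TopCat.Presheaf.toTypes_isSheaf X₀ (fun z => ↥(T W z))

/-- The `AddCommGrpCat`-valued test sheaf. -/
noncomputable def GA (W : Opens X₀) : X₀.Sheaf AddCommGrpCat.{u} := ⟨GApre W, GApre_isSheaf W⟩

lemma hsurj_ab [(TopCat.Sheaf.pushforward AddCommGrpCat.{u} f).Full] (W : Opens X₀) (x₀ : X₀)
    (hx₀ : x₀ ∈ W) : ∃ U : Opens X, f x₀ ∈ U ∧ (Opens.map f).obj U ≤ W := by
  have hst : (GA W).presheaf.map (homOfLE (le_top : W ≤ (Opens.map f).obj ⊤)).op (sOne W _) =
      (GA W).presheaf.map (homOfLE (le_top : W ≤ (Opens.map f).obj ⊤)).op (fun _ => 0) := by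
    funext z
    apply Subtype.ext
    exact sOne_val_of_mem W _ _ z.2
  obtain ⟨U, hUV, hxU, h⟩ := exists_open_of_full f (GA W) W x₀ hx₀ ⊤ trivial le_top
    (sOne W _) (fun _ => 0) hst
  refine ⟨U, hxU, ?_⟩
  intro z hz
  by_contra hzW
  have h1 : sOne W ((Opens.map f).obj ⊤) ⟨z, trivial⟩ = 0 := congrFun h ⟨z, hz⟩
  have h2 := congrArg Subtype.val h1
  rw [sOne_val_of_not_mem W _ _ hzW] at h2
  exact one_ne_zero h2

lemma hinj_type [(TopCat.Sheaf.pushforward (Type u) f).EssSurj] {U' U : Opens X} (hle : U' ≤ U)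
    (h : (Opens.map f).obj U ≤ (Opens.map f).obj U') : U ≤ U' := by
  intro x hxU
  by_contra hxU'
  have h1 := endo_eq_of_essSurj f hle h hxU hxU' (ULift.{u} Bool) (𝟙 _)
    (TypeCat.ofHom fun _ => ⟨true⟩)
  have h2 := congrArg (fun m => (ConcreteCategory.hom m) (⟨false⟩ : ULift.{u} Bool)) h1
  simp at h2

lemma hinj_ab [(TopCat.Sheaf.pushforward AddCommGrpCat.{u} f).EssSurj] {U' U : Opens X}
    (hle : U' ≤ U) (h : (Opens.map f).obj U ≤ (Opens.map f).obj U') : U ≤ U' := by
  intro x hxU
  by_contra hxU'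
  have h1 := endo_eq_of_essSurj f hle h hxU hxU' (AddCommGrpCat.of (ULift.{u} ℤ)) (𝟙 _) 0
  have h2 := congrArg (fun m => (ConcreteCategory.hom m) (⟨1⟩ : ULift.{u} ℤ)) h1
  simp at h2
  have h3 := congrArg ULift.down h2
  simp at h3

theorem tfae (f : X₀ ⟶ X) :
    [Function.Bijective (fun U : Opens X => (Opens.map f).obj U),
      (TopCat.Sheaf.pullback (Type u) f).IsEquivalence,
      (TopCat.Sheaf.pullback AddCommGrpCat.{u} f).IsEquivalence].TFAE := by
  tfae_have 1 → 2 := fun hf => by
    have := pushforward_isEquivalence hf (Type u)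
    exact (TopCat.Sheaf.pullbackPushforwardAdjunction (Type u)
      f).isEquivalence_left_of_isEquivalence_right
  tfae_have 1 → 3 := fun hf => by
    have := pushforward_isEquivalence hf AddCommGrpCat.{u}
    exact (TopCat.Sheaf.pullbackPushforwardAdjunction AddCommGrpCat.{u}
      f).isEquivalence_left_of_isEquivalence_right
  tfae_have 2 → 1 := fun h => by
    have := (TopCat.Sheaf.pullbackPushforwardAdjunction (Type u)
      f).isEquivalence_right_of_isEquivalence_left
    exact bijective_of (fun hle h => hinj_type hle h) hsurj_type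
  tfae_have 3 → 1 := fun h => by
    have := (TopCat.Sheaf.pullbackPushforwardAdjunction AddCommGrpCat.{u}
      f).isEquivalence_right_of_isEquivalence_left
    exact bijective_of (fun hle h => hinj_ab hle h) hsurj_ab
  tfae_finish

end Assembly

end Backward

end Groth.Agent.H99.QuasiHomeoSheaf
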