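import Mathlib

/-!
# Trisecant lines of a rational quintic via binary forms (helper99)
-/

open MvPolynomial

namespace Groth.Agent.H99.QuinticA

variable {K : Type*} [Field K]

/-- A pencil of bilinear forms on a nonzero finite-dimensional space over an algebraically closed
field has a degenerate member. -/
lemma exists_degenerate_pencil [IsAlgClosed K] {E : Type*} [AddCommGroup E] [Module K E]
    [FiniteDimensional K E] [Nontrivial E] (b₁ b₂ : E →ₗ[K] Module.Dual K E) :
    ∃ μ₁ μ₂ : K, (μ₁ ≠ 0 ∨ μ₂ ≠ 0) ∧ ∃ q : E, q ≠ 0 ∧ μ₁ • b₁ q + μ₂ • b₂ q = 0 := by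
  by_cases h1 : Function.Injective b₁
  · have hfin : Module.finrank K E = Module.finrank K (Module.Dual K E) :=
      (Subspace.dual_finrank_eq).symm
    let e : E ≃ₗ[K] Module.Dual K E := LinearEquiv.ofInjectiveOfFinrankEq b₁ h1 hfin
    have he : ∀ x, e x = b₁ x := fun x => rfl
    let f : Module.End K E := - (e.symm.toLinearMap ∘ₗ b₂)
    obtain ⟨t, ht⟩ := Module.End.exists_eigenvalue f
    obtain ⟨q, hq⟩ := ht.exists_hasEigenvector
    refine ⟨t, 1, Or.inr one_ne_zero, q, hq.2, ?_⟩
    have h2 : f q = t • q := hq.apply_eq_smul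
    have h3 : e.symm (b₂ q) = - (t • q) := by
      have h4 : f q = - e.symm (b₂ q) := rfl
      rw [h4] at h2; rw [← h2]; simp
    have h4 : b₂ q = - (t • b₁ q) := by
      have h5 := congrArg e h3
      rw [LinearEquiv.apply_symm_apply, map_neg, map_smul, he] at h5
      exact h5
    rw [h4]; simp
  · rw [← LinearMap.ker_eq_bot, Submodule.eq_bot_iff] at h1
    push Not at h1
    obtain ⟨q, hq, hq0⟩ := h1
    exact ⟨1, 0, Or.inl one_ne_zero, q, hq0, by simp [LinearMap.mem_ker.mp hq]⟩

/-- The exponent vector `(i, n - i)`. -/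
noncomputable def dvec (n i : ℕ) : Fin 2 →₀ ℕ := Finsupp.single 0 i + Finsupp.single 1 (n - i)

@[simp] lemma dvec_zero (n i : ℕ) : dvec n i 0 = i := by simp [dvec]
@[simp] lemma dvec_one (n i : ℕ) : dvec n i 1 = n - i := by simp [dvec]

lemma dvec_injective (n : ℕ) : Function.Injective (dvec n) := by
  intro i j h
  have := DFunLike.congr_fun h 0
  simpa using this

lemma eq_dvec_of_degree {n : ℕ} {d : Fin 2 →₀ ℕ} (hd : d.degree = n) : d = dvec n (d 0) := by
  have h1 : d 0 + d 1 = n := by
    rw [← hd, Finsupp.degree_eq_sum, Fin.sum_univ_two]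
  ext i
  fin_cases i
  · simp
  · simp; omega

lemma degree_dvec {n i : ℕ} (hi : i ≤ n) : (dvec n i).degree = n := by
  rw [Finsupp.degree_eq_sum, Fin.sum_univ_two]; simp; omega

/-- Normal form of a binary form. -/
lemma homog_eq_sum {n : ℕ} {F : MvPolynomial (Fin 2) K} (hF : F.IsHomogeneous n) :
    F = ∑ i ∈ Finset.range (n + 1), monomial (dvec n i) (coeff (dvec n i) F) := by
  classical
  conv_lhs => rw [F.as_sum]
  have h1 : F.support ⊆ (Finset.range (n + 1)).image (dvec n) := by
    intro d hd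
    have hd' : d.degree = n := by
      have := hF (mem_support_iff.mp hd)
      rwa [Finsupp.degree_eq_weight_one] 
    rw [Finset.mem_image]
    refine ⟨d 0, ?_, (eq_dvec_of_degree hd').symm⟩
    have h1 : d 0 + d 1 = n := by
      rw [← hd', Finsupp.degree_eq_sum, Fin.sum_univ_two]
    simp; omega
  rw [Finset.sum_subset h1, Finset.sum_image (fun i _ j _ h => dvec_injective n h)]
  intro d _ hd
  rw [notMem_support_iff.mp hd, monomial_zero]


variable (K) in
/-- binary forms of degree `n` -/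
abbrev P (n : ℕ) : Submodule K (MvPolynomial (Fin 2) K) := homogeneousSubmodule (Fin 2) K n

instance (n : ℕ) : Module.Finite K (P K n) :=
  Module.Finite.iff_fg.mpr (homogeneousSubmodule_fg (Fin 2) K n)

lemma finrank_P_le (n : ℕ) : Module.finrank K (P K n) ≤ n + 1 := by
  classical
  have h : P K n ≤ Submodule.span K
      (((Finset.range (n + 1)).image (fun i => monomial (dvec n i) (1 : K)) : Finset _) :
        Set (MvPolynomial (Fin 2) K)) := by
    intro F hF
    rw [homog_eq_sum hF]
    apply Submodule.sum_mem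
    intro i hi
    have h1 : monomial (dvec n i) (coeff (dvec n i) F) =
        (coeff (dvec n i) F) • monomial (dvec n i) (1 : K) := by
      rw [smul_monomial, smul_eq_mul, mul_one]
    rw [h1]
    apply Submodule.smul_mem
    apply Submodule.subset_span
    simp only [Finset.coe_image, Set.mem_image, Finset.mem_coe]
    exact ⟨i, hi, rfl⟩
  calc Module.finrank K (P K n) ≤ Module.finrank K (Submodule.span K
      (((Finset.range (n + 1)).image (fun i => monomial (dvec n i) (1 : K)) : Finset _) :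
        Set (MvPolynomial (Fin 2) K))) := Submodule.finrank_mono h
  _ ≤ ((Finset.range (n + 1)).image (fun i => monomial (dvec n i) (1 : K))).card :=
      finrank_span_finset_le_card _
  _ ≤ (Finset.range (n + 1)).card := Finset.card_image_le
  _ = n + 1 := Finset.card_range _

lemma le_finrank_P (n : ℕ) : n + 1 ≤ Module.finrank K (P K n) := by
  have hmem : ∀ i : Fin (n + 1), monomial (dvec n i) (1 : K) ∈ P K n := fun i =>
    isHomogeneous_monomial _ (degree_dvec (Nat.lt_succ_iff.mp i.2))
  have hli : LinearIndependent K (fun i : Fin (n + 1) =>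
      (⟨monomial (dvec n i) (1 : K), hmem i⟩ : P K n)) := by
    apply LinearIndependent.of_comp (P K n).subtype
    have h1 := (basisMonomials (Fin 2) K).linearIndependent.comp
      (fun i : Fin (n + 1) => dvec n i) (fun i j h => Fin.ext (dvec_injective n h))
    rw [coe_basisMonomials] at h1
    exact h1
  have := hli.fintype_card_le_finrank
  simpa using this


/-- The dehomogenized polynomial `F(T, 1)`, built from the coefficients. -/
noncomputable def dehom (n : ℕ) (F : MvPolynomial (Fin 2) K) : Polynomial K :=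
  ∑ i ∈ Finset.range (n + 1), Polynomial.C (coeff (dvec n i) F) * Polynomial.X ^ i

lemma eval_dehom {n : ℕ} {F : MvPolynomial (Fin 2) K} (hF : F.IsHomogeneous n) (c : K) :
    (dehom n F).eval c = MvPolynomial.eval ![c, 1] F := by
  conv_rhs => rw [homog_eq_sum hF]
  simp only [dehom, Polynomial.eval_finsetSum, map_sum, eval_monomial, Polynomial.eval_mul,
    Polynomial.eval_C, Polynomial.eval_pow, Polynomial.eval_X]
  apply Finset.sum_congr rfl
  intro i _
  rw [Finsupp.prod_fintype _ _ (by simp), Fin.prod_univ_two]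
  simp

lemma dehom_eq_zero {n : ℕ} {F : MvPolynomial (Fin 2) K} (hF : F.IsHomogeneous n)
    (h : dehom n F = 0) : F = 0 := by
  rw [homog_eq_sum hF]
  apply Finset.sum_eq_zero
  intro i hi
  have h1 : (dehom n F).coeff i = coeff (dvec n i) F := by
    simp only [dehom, Polynomial.finsetSum_coeff, Polynomial.coeff_C_mul, Polynomial.coeff_X_pow]
    rw [Finset.sum_eq_single i]
    · simp
    · intro j _ hj; simp [Ne.symm hj]
    · intro h'; exact absurd hi h'
  rw [h, Polynomial.coeff_zero] at h1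
  rw [← h1, monomial_zero]

lemma finite_zeros {n : ℕ} {F : MvPolynomial (Fin 2) K} (hF : F.IsHomogeneous n) (h0 : F ≠ 0) :
    {c : K | MvPolynomial.eval ![c, 1] F = 0}.Finite := by
  classical
  have hp : dehom n F ≠ 0 := fun h => h0 (dehom_eq_zero hF h)
  refine Set.Finite.subset (Polynomial.roots (dehom n F)).toFinset.finite_toSet ?_
  intro c hc
  simp only [Finset.mem_coe, Multiset.mem_toFinset, Polynomial.mem_roots hp, Polynomial.IsRoot]
  rw [eval_dehom hF]; exact hc

theorem main [IsAlgClosed K] (V : Submodule K (MvPolynomial (Fin 2) K)) (hV : V ≤ P K 5)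
    (hdim : Module.finrank K V = 4) (F : Finset (MvPolynomial (Fin 2) K)) :
    ∃ g ∈ P K 3, g ≠ 0 ∧
      2 ≤ Module.finrank K ↥(V ⊓ (P K 2).map (LinearMap.mulLeft K g)) ∧
      ∀ g' ∈ F, ∀ c : K, g ≠ c • g' := by
  classical
  have : Module.Finite K V := Module.finite_of_finrank_pos (by omega)
  -- Step A: two functionals cutting out `V` inside the quintics
  obtain ⟨Ψ, hΨ⟩ : ∃ Ψ : MvPolynomial (Fin 2) K →ₗ[K] (Fin 2 → K),
      ∀ x ∈ P K 5, Ψ x = 0 → x ∈ V := by
    let V' : Submodule K (P K 5) := V.comap (P K 5).subtype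
    have hV' : Module.finrank K V' = 4 := by
      rw [← hdim]; exact (Submodule.comapSubtypeEquivOfLe hV).finrank_eq
    have hQ : Module.finrank K ((P K 5) ⧸ V') ≤ Module.finrank K (Fin 2 → K) := by
      have h5 := V'.finrank_quotient_add_finrank
      have h6 := finrank_P_le (K := K) 5
      rw [Module.finrank_fin_fun]; omega
    obtain ⟨ι, hι⟩ := finrank_le_iff_exists_linearMap.mp hQ
    let proj5 : MvPolynomial (Fin 2) K →ₗ[K] P K 5 :=
      (homogeneousComponent 5).codRestrict (P K 5) (fun x => homogeneousComponent_mem 5 x)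
    refine ⟨ι ∘ₗ V'.mkQ ∘ₗ proj5, ?_⟩
    intro x hx h
    have h1 : V'.mkQ (proj5 x) = 0 := hι (by simpa using h)
    have h2 : proj5 x ∈ V' := (Submodule.Quotient.mk_eq_zero V').mp h1
    have h3 : (proj5 x : MvPolynomial (Fin 2) K) = x := by
      show homogeneousComponent 5 x = x
      exact (homogeneousComponent_of_mem hx).trans (if_pos rfl)
    have h4 : (proj5 x : MvPolynomial (Fin 2) K) ∈ V := h2
    rwa [h3] at h4
  -- choice of the linear form
  have hfin : (⋃ g' ∈ (F : Set (MvPolynomial (Fin 2) K)),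
      {c : K | g'.IsHomogeneous 3 ∧ g' ≠ 0 ∧ MvPolynomial.eval ![c, 1] g' = 0}).Finite := by
    refine Set.Finite.biUnion F.finite_toSet (fun g' _ => ?_)
    by_cases h : g'.IsHomogeneous 3 ∧ g' ≠ 0
    · exact (finite_zeros h.1 h.2).subset (fun c hc => hc.2.2)
    · exact Set.finite_empty.subset (fun c hc => (h ⟨hc.1, hc.2.1⟩).elim)
  obtain ⟨c, hc⟩ := hfin.infinite_compl.nonempty
  obtain ⟨ℓ, hℓdef⟩ : ∃ ℓ : MvPolynomial (Fin 2) K, ℓ = X 0 - C c * X 1 := ⟨_, rfl⟩
  have hℓ1 : ℓ ∈ P K 1 := by
    rw [hℓdef]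
    exact (isHomogeneous_X K 0).sub (isHomogeneous_C_mul_X c 1)
  have hℓeval : MvPolynomial.eval ![c, 1] ℓ = 0 := by rw [hℓdef]; simp
  have hℓ0 : ℓ ≠ 0 := by
    intro h
    have h1 : MvPolynomial.eval ![1, 0] ℓ = 0 := by rw [h]; simp
    rw [hℓdef] at h1
    simp at h1
  -- Step B: the pencil
  let ψ : Fin 2 → (MvPolynomial (Fin 2) K →ₗ[K] K) := fun i => LinearMap.proj i ∘ₗ Ψ
  let b : Fin 2 → (P K 2 →ₗ[K] Module.Dual K (P K 2)) := fun i =>
    ((LinearMap.mul K (MvPolynomial (Fin 2) K)).compr₂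
      (ψ i ∘ₗ LinearMap.mulLeft K ℓ)).domRestrict₁₂ (P K 2) (P K 2)
  have hb : ∀ i (q e : P K 2), b i q e = Ψ (ℓ * ((q : MvPolynomial (Fin 2) K) * e)) i := by
    intro i q e; rfl
  have : Nontrivial (P K 2) := by
    apply Module.nontrivial_of_finrank_pos (R := K)
    have := le_finrank_P (K := K) 2; omega
  obtain ⟨μ₁, μ₂, hμ, q, hq0, hq⟩ := exists_degenerate_pencil (b 0) (b 1)
  have key : ∀ e : P K 2, μ₁ * Ψ (ℓ * ((q : MvPolynomial (Fin 2) K) * e)) 0 +
      μ₂ * Ψ (ℓ * ((q : MvPolynomial (Fin 2) K) * e)) 1 = 0 := by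
    intro e
    have h1 := LinearMap.congr_fun hq e
    simpa [hb] using h1
  obtain ⟨g, hgdef⟩ : ∃ g : MvPolynomial (Fin 2) K, g = ℓ * q := ⟨_, rfl⟩
  have hg3 : g ∈ P K 3 := by
    rw [hgdef]
    have : IsHomogeneous (ℓ * (q : MvPolynomial (Fin 2) K)) (1 + 2) := IsHomogeneous.mul hℓ1 q.2
    exact this
  have hq0' : (q : MvPolynomial (Fin 2) K) ≠ 0 := fun h => hq0 (Subtype.ext h)
  have hg0 : g ≠ 0 := by rw [hgdef]; exact mul_ne_zero hℓ0 hq0'
  have hg5 : ∀ e : P K 2, g * e ∈ P K 5 := by
    intro e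
    have : IsHomogeneous (g * (e : MvPolynomial (Fin 2) K)) (3 + 2) := IsHomogeneous.mul hg3 e.2
    exact this
  have key' : ∀ e : P K 2, μ₁ * Ψ (g * e) 0 + μ₂ * Ψ (g * e) 1 = 0 := by
    intro e; rw [hgdef, mul_assoc]; exact key e
  refine ⟨g, hg3, hg0, ?_, ?_⟩
  · -- Step D
    obtain ⟨j, hj⟩ : ∃ j : Fin 2, ∀ e : P K 2, Ψ (g * e) j = 0 → Ψ (g * e) = 0 := by
      rcases hμ with h | h
      · refine ⟨1, fun e he => ?_⟩
        have h1 := key' e
        rw [he, mul_zero, add_zero] at h1
        have h2 : Ψ (g * e) 0 = 0 := (mul_eq_zero.mp h1).resolve_left h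
        funext i; fin_cases i
        · exact h2
        · exact he
      · refine ⟨0, fun e he => ?_⟩
        have h1 := key' e
        rw [he, mul_zero, zero_add] at h1
        have h2 : Ψ (g * e) 1 = 0 := (mul_eq_zero.mp h1).resolve_left h
        funext i; fin_cases i
        · exact he
        · exact h2
    let lam : P K 2 →ₗ[K] K := (LinearMap.proj j ∘ₗ Ψ ∘ₗ LinearMap.mulLeft K g) ∘ₗ (P K 2).subtype
    have hlam : ∀ e : P K 2, lam e = Ψ (g * e) j := fun e => rfl
    have hker : 2 ≤ Module.finrank K (LinearMap.ker lam) := by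
      have h1 := LinearMap.finrank_range_add_finrank_ker lam
      have h2 : Module.finrank K (LinearMap.range lam) ≤ 1 := by
        have := Submodule.finrank_le (LinearMap.range lam)
        rwa [Module.finrank_self] at this
      have h3 := le_finrank_P (K := K) 2
      omega
    let mg : P K 2 →ₗ[K] MvPolynomial (Fin 2) K := LinearMap.mulLeft K g ∘ₗ (P K 2).subtype
    have hmg : ∀ e : P K 2, mg e = g * e := fun e => rfl
    have hinj : Function.Injective mg := by
      intro e e' h
      rw [hmg, hmg] at h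
      exact Subtype.ext (mul_left_cancel₀ hg0 h)
    have hle : (LinearMap.ker lam).map mg ≤ V ⊓ (P K 2).map (LinearMap.mulLeft K g) := by
      rintro x ⟨e, he, rfl⟩
      refine ⟨?_, ?_⟩
      · rw [hmg]
        apply hΨ _ (hg5 e)
        apply hj
        rw [← hlam]; exact LinearMap.mem_ker.mp he
      · exact ⟨e, e.2, rfl⟩
    calc 2 ≤ Module.finrank K (LinearMap.ker lam) := hker
    _ = Module.finrank K ((LinearMap.ker lam).map mg) :=
        (Submodule.equivMapOfInjective mg hinj _).finrank_eq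
    _ ≤ _ := Submodule.finrank_mono hle
  · -- Step E
    intro g' hg' c' h
    have hc'0 : c' ≠ 0 := by
      rintro rfl; rw [zero_smul] at h; exact hg0 h
    have hg'eq : g' = c'⁻¹ • g := by rw [h, smul_smul, inv_mul_cancel₀ hc'0, one_smul]
    have hg'3 : g'.IsHomogeneous 3 := by
      rw [hg'eq]; exact (P K 3).smul_mem _ hg3
    have hg'0 : g' ≠ 0 := by
      rintro rfl; rw [smul_zero] at h; exact hg0 h
    have hev : MvPolynomial.eval ![c, 1] g' = 0 := by
      rw [hg'eq, smul_eval, hgdef, map_mul, hℓeval, zero_mul, mul_zero]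
    apply hc
    simp only [Set.mem_iUnion, Set.mem_ofPred_eq]
    exact ⟨g', hg', hg'3, hg'0, hev⟩

end Groth.Agent.H99.QuinticA
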