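import Mathlib
import Groth.Agent.H99.ProperMeet

/-!
# Components of the pullback of an irreducible finite-type `k`-scheme along a regular immersion
(helper99; for S6473)
-/

set_option autoImplicit false
set_option backward.isDefEq.respectTransparency.types false
set_option linter.style.haveILetI false
set_option linter.unusedSectionVars false
universe u

open AlgebraicGeometry CategoryTheory TopologicalSpace Limits

namespace Groth.Agent.H99.RegImmPull

open Groth.Agent.H99.FieldDim Groth.Agent.H48.CycDim6 Groth.Agent.H48.CycDim7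
open Groth.Agent.H48.FieldDim2

variable {k : Type u} [Field k] {X Y Z : Scheme.{u}} (gY : Y ⟶ Spec (CommRingCat.of k))
  [LocallyOfFiniteType gY] (f : X ⟶ Y) (ι : Z ⟶ Y) [LocallyOfFiniteType ι] [IrreducibleSpace Z]

include gY in
/-- If `f : X ⟶ Y` is a regular immersion of codimension `c` and `Z ⟶ Y` is locally of finite type
with `Z` irreducible, then every irreducible component `T` of `X ×_Y Z` has
`dim Z ≤ dim T + c`. -/
theorem le_dim_component_pullback (κ : RegImm.Kind) (c : ℕ)
    (hreg : RegImm.IsRegularImmersionOfCodim κ c f)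
    (T : Set ↥(pullback f ι)) (hT : T ∈ irreducibleComponents ↥(pullback f ι)) :
    topologicalKrullDim Z ≤ topologicalKrullDim ↥T + (c : WithBot ℕ∞) := by
  haveI : IsImmersion f := hreg.1
  haveI : JacobsonSpace Z := jacobsonSpace (ι ≫ gY)
  have hδ := isDimFun (ι ≫ gY)
  have h0 := delta_eq_zero_of_isClosed (ι ≫ gY)
  haveI : IsImmersion (pullback.snd f ι) := inferInstance
  have hTc : IsClosed T := isClosed_of_mem_irreducibleComponents T hT
  obtain ⟨t, ht⟩ := QuasiSober.sober hT.1 hTc
  have hemb : Topology.IsEmbedding (pullback.snd f ι) := (pullback.snd f ι).isEmbedding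
  have hηT : ι (pullback.snd f ι t) ∈ Set.range f := by
    refine ⟨pullback.fst f ι t, ?_⟩
    rw [← Scheme.Hom.comp_apply, pullback.condition, Scheme.Hom.comp_apply]
  have hK := Groth.Agent.H99.ProperMeet.delta_le_add_of_maximal gY ι f κ c hreg (genericPoint Z)
    (pullback.snd f ι t) (genericPoint_specializes _) hηT (by
      intro η' _ h2 h3
      have h4 : η' ∈ Set.range (pullback.snd f ι) := by
        rw [Scheme.Pullback.range_snd]; exact h3
      obtain ⟨t', rfl⟩ := h4
      have h5 : t' ⤳ t := hemb.isInducing.specializes_iff.mp h2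
      have h6 : T ⊆ closure {t'} := by
        rw [← ht.def]
        exact closure_minimal (Set.singleton_subset_iff.mpr (specializes_iff_mem_closure.mp h5))
          isClosed_closure
      have h7 : closure {t'} ⊆ T := hT.2 isIrreducible_singleton.closure h6
      have h8 : t ⤳ t' := by
        rw [specializes_iff_mem_closure, ht.def]; exact h7 (subset_closure rfl)
      rw [(h5.antisymm h8).eq])
  have hLC : IsLocallyClosed ((pullback.snd f ι) '' T) :=
    hTc.isLocallyClosed.image hemb.isInducing (pullback.snd f ι).isLocallyClosed_range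
  have hdimT : topologicalKrullDim ↥T = topologicalKrullDim ↥((pullback.snd f ι) '' T) := by
    refine Groth.Agent.H17.Chev.topologicalKrullDim_eq_of_isEmbedding
      (fun x : ↥T => pullback.snd f ι x.1) (hemb.comp Topology.IsEmbedding.subtypeVal) _ ?_
    ext z
    constructor
    · rintro ⟨x, rfl⟩; exact ⟨x.1, x.2, rfl⟩
    · rintro ⟨x, hx, rfl⟩; exact ⟨⟨x, hx⟩, rfl⟩
  have h10 : (((delta (ι ≫ gY) (pullback.snd f ι t)).toNat : ℕ∞) : WithBot ℕ∞)
      ≤ topologicalKrullDim ↥T := by
    rw [hdimT, topologicalKrullDim_of_isLocallyClosed Z (delta (ι ≫ gY)) hδ h0 _ hLC]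
    exact le_iSup (fun z : ↥((pullback.snd f ι) '' T) =>
      (((delta (ι ≫ gY) z.1).toNat : ℕ∞) : WithBot ℕ∞)) ⟨_, t, ht.mem, rfl⟩
  rw [topologicalKrullDim_of_irreducible (ι ≫ gY)]
  refine le_trans ?_ (add_le_add_left h10 _)
  have h0η := delta_nonneg' (ι ≫ gY) (pullback.snd f ι t)
  have h0ξ := delta_nonneg' (ι ≫ gY) (genericPoint Z)
  have h9 : (delta (ι ≫ gY) (genericPoint Z)).toNat ≤
      (delta (ι ≫ gY) (pullback.snd f ι t)).toNat + c := by omega
  exact_mod_cast h9

end Groth.Agent.H99.RegImmPull
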