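import Mathlib
import Groth.Agent.H99.AssEmbBridge

/-!
# Serre's condition `(S_k)` for equidimensional fibre modules, topological form (helper99)

`SkE k e f F x`: for every `j < e` and `d ≤ j` with `j + 1 ≤ d + k`, no maximal point of dimension
`d` of `{ξ | prof*_ξ (F_{f ξ}) ≤ j}` specializes to `x`.  When all the associated points of `F_{f x}`
through `x` have dimension `e`, this says that `F_{f x}` satisfies `(S_k)` at `x`.
-/

set_option autoImplicit false
set_option backward.isDefEq.respectTransparency.types false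
set_option linter.style.haveILetI false
set_option linter.unusedSectionVars false
universe u

open AlgebraicGeometry CategoryTheory CategoryTheory.Limits TopologicalSpace Topology IsLocalRing

namespace Groth.Agent.H99.SkETop

open Groth.Agent.H99.ModPair Groth.Agent.H99.FibModProp Groth.Agent.H99.FibrePropGenM
  Groth.Agent.H99.ProfTop Groth.Agent.H99.ProfCons Groth.Agent.H99.ProfField
  Groth.Agent.H99.ProfMain Groth.Agent.H99.RkTop Groth.Agent.H99.CompDims
  Groth.Agent.H99.FibEqui Groth.Agent.H99.AssTop Groth.Agent.H99.FibrePropDVRM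
  Groth.Agent.H99.AssInv Groth.Agent.H99.DVRDimFun Groth.Agent.H99.ProfOpen
  Groth.Agent.H99.AssDVR Groth.Agent.H17.Chev

/-- every point of `Z` specializing to `x` in the fibre has a generization in `Z` which is maximal
in `Z` and in the fibre. -/
theorem exists_ndPr_of_mem {X S : Scheme.{u}} (f : X ⟶ S) [LocallyOfFiniteType f] (Z : Set X)
    (ξ x : X) (hξZ : ξ ∈ Z) (hξx : ξ ⤳ x) (hf : f ξ = f x) :
    ∃ d : ℕ, fdim f ξ ≤ d ∧ NdPr (d : WithBot ℕ∞) f Z x := by
  obtain ⟨D, hD⟩ := exists_nat_eq_fibreDimAt f ξ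
  let T : Set ℕ := {m | ∃ w ∈ Z, w ⤳ ξ ∧ f w = f ξ ∧ fdim f w = m}
  obtain ⟨m₁, hm₁⟩ := exists_nat_eq_fdim f ξ
  have hT : T.Nonempty := ⟨m₁, ξ, hξZ, specializes_rfl, rfl, hm₁⟩
  have hbdd : BddAbove T := by
    refine ⟨D, ?_⟩
    rintro m ⟨w, -, hwξ, -, hm⟩
    have := fdim_le_of_fibreDimAt_le f D ξ w hD.le hwξ
    rw [hm] at this
    exact_mod_cast this
  obtain ⟨w₀, hw₀Z, hw₀ξ, hfw₀, hm₀⟩ := Nat.sSup_mem hT hbdd
  refine ⟨sSup T, ?_, w₀, hw₀Z, hw₀ξ.trans hξx, hfw₀.trans hf, ?_, hm₀⟩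
  · rw [hm₁]
    have : m₁ ≤ sSup T := le_csSup hbdd ⟨ξ, hξZ, specializes_rfl, rfl, hm₁⟩
    exact_mod_cast this
  · intro w hwZ hww₀ hfw
    obtain ⟨m, hm⟩ := exists_nat_eq_fdim f w
    have hmT : m ∈ T := ⟨w, hwZ, hww₀.trans hw₀ξ, hfw.trans hfw₀, hm⟩
    have hle : m ≤ sSup T := le_csSup hbdd hmT
    refine specializes_of_fdim_le f hww₀ hfw ?_
    rw [hm, hm₀]
    exact_mod_cast hle

/-- the topological form of `(S_k)` for fibre modules all of whose associated points have dimension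
`e`. -/
def SkE (k e : ℕ) : ∀ ⦃X S : Scheme.{u}⦄, (X ⟶ S) → X.Modules → X → Prop := fun _ _ f F x =>
  ∀ j : ℕ, j < e → ∀ d : ℕ, d ≤ j → j + 1 ≤ d + k → ¬ NdPr (d : WithBot ℕ∞) f (ZP j f F) x

theorem isFibInvM_skE (k e : ℕ) : IsFibInvM (SkE.{u} k e) where
  iso := by
    intro X S f F G i x
    unfold SkE
    refine forall_congr' fun j => imp_congr Iff.rfl (forall_congr' fun d => imp_congr Iff.rfl
      (imp_congr Iff.rfl (not_congr ?_)))
    rw [zP_iso j f F G i]
  baseChange := by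
    intro X S X' S' f f' g' g hc hft F hF x'
    haveI := hft
    unfold SkE
    refine forall_congr' fun j => imp_congr Iff.rfl (forall_congr' fun d => imp_congr Iff.rfl
      (imp_congr Iff.rfl (not_congr ?_)))
    rw [zP_baseChange j f f' g' g hc hft F hF]
    exact ndPr_baseChange f f' g' g hc _ _ x'
  openImm := by
    intro U X S i f hi hft F hF u
    haveI := hft
    haveI := hi
    unfold SkE
    refine forall_congr' fun j => imp_congr Iff.rfl (forall_congr' fun d => imp_congr Iff.rfl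
      (imp_congr Iff.rfl (not_congr ?_)))
    rw [zP_openImm j i f hi hft F hF]
    exact ndPr_openImm i f _ _ u

theorem isLCM_skE (k e : ℕ) : IsLCM (SkE.{u} k e) := by
  intro X S f hf F hq hF
  haveI := hf
  haveI := hq
  have hT : ∀ j d : ℕ, IsLocallyConstructible {x : X | NdPr (d : WithBot ℕ∞) f (ZP j f F) x} :=
    fun j d => isLocallyConstructible_ndPr _ f _
      (Groth.Agent.H17.isLocallyConstructible_compl (isLocallyConstructible_profGE f F hF (j + 1)))
  have heq : {x : X | SkE k e f F x} =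
      (⋃ p ∈ {p : ℕ × ℕ | p.1 < e ∧ p.2 ≤ p.1 ∧ p.1 + 1 ≤ p.2 + k},
        {x : X | NdPr (p.2 : WithBot ℕ∞) f (ZP p.1 f F) x})ᶜ := by
    ext x
    simp only [Set.mem_ofPred_eq, Set.mem_compl_iff, Set.mem_iUnion, exists_prop, Prod.exists,
      not_exists, not_and]
    unfold SkE
    constructor
    · intro h j d hjd hnd
      exact h j hjd.1 d hjd.2.1 hjd.2.2 hnd
    · intro h j hj d hd hjk hnd
      exact h j d ⟨hj, hd, hjk⟩ hnd
  rw [heq]
  refine Groth.Agent.H17.isLocallyConstructible_compl (IsLocallyConstructible.biUnion ?_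
    (fun p _ => hT p.1 p.2))
  refine ((Set.finite_Iic e).prod (Set.finite_Iic e)).subset ?_
  rintro ⟨j, d⟩ ⟨h1, h2, -⟩
  exact ⟨(h1.le : j ≤ e), (h2.trans h1.le : d ≤ e)⟩

/-- **generization over discrete valuation rings.** -/
theorem genOverDVR_skE (k e : ℕ) : GenOverDVR (SkE.{u} k e) := by
  intro V _ _ _ Y g hft G hG hfl z z' hz'z hzcl hz
  haveI := hft
  have hzm : (g z).asIdeal = maximalIdeal V := by rw [hzcl]; rfl
  intro j hj d hd hjk hnd
  obtain ⟨ξ', hξ'Z, hξ'z', hgξ', -, hdξ'⟩ := hnd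
  -- it suffices to find a point of `ZP j` of dimension `≥ d` in the closed fibre above `z`
  suffices h : ∃ ξ : Y, ξ ∈ ZP j g G ∧ ξ ⤳ z ∧ g ξ = g z ∧ fdim g ξ = d by
    obtain ⟨ξ, hξZ, hξz, hgξ, hdξ⟩ := h
    obtain ⟨d', hdd', hnd'⟩ := exists_ndPr_of_mem g (ZP j g G) ξ z hξZ hξz hgξ
    rw [hdξ] at hdd'
    have hdd'' : d ≤ d' := by exact_mod_cast hdd'
    obtain ⟨w, hwZ, hw1, hw2, hw3, hdw⟩ := hnd'
    have h1 := (mem_zP_iff g G hG j w d' hdw).mp hwZ
    have h2 : (d' : ℕ∞) ≤ j := le_trans le_add_self h1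
    have h3 : d' ≤ j := by exact_mod_cast h2
    exact hz j hj d' h3 (by omega) ⟨w, hwZ, hw1, hw2, hw3, hdw⟩
  rcases asIdeal_eq_bot_or V (g ξ') with hb | hm
  · obtain ⟨ξ, h1, h2, h3, h4⟩ := exists_special_point g ξ' z (hξ'z'.trans hz'z) hb hzm
    have hgξ : g ξ = IsLocalRing.closedPoint V := by
      apply PrimeSpectrum.ext
      rw [h3]
      rfl
    refine ⟨ξ, ?_, h2, by rw [hgξ, hzcl], ?_⟩
    · intro hP
      exact hξ'Z (genOverDVR_profGE (j + 1) V g inferInstance G hG hfl ξ ξ' h1 hgξ hP)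
    · have d1 : deltaT g ξ' = 1 + (tr g ξ' : ℤ) := by rw [deltaT_eq, deltaV_of_bot V _ hb]
      have d2 : deltaT g ξ = (tr g ξ : ℤ) := by rw [deltaT_eq, deltaV_of_max V _ h3, zero_add]
      have htr : tr g ξ = tr g ξ' := by omega
      rw [fdim_eq_tr, htr, ← fdim_eq_tr, hdξ']
  · refine ⟨ξ', hξ'Z, hξ'z'.trans hz'z, ?_, hdξ'⟩
    apply PrimeSpectrum.ext
    rw [hm, hzm]

end Groth.Agent.H99.SkETop
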