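import Mathlib
import Groth.Agent.H99.DimFunMod
import Groth.Agent.H99.EquidimAlg
import Groth.Agent.H29.SkAt
import Groth.Agent.H58.DualSch.SkTransfer

/-!
# `(S_k)` and equidimensionality of the stalks of a coherent module, in terms of generizations
(helper99)

`Y` locally Noetherian, `G` coherent.
* `hasSk_stalk_iff_mod`: `G_y` satisfies `(S_k)` iff `min k (dim G_ξ) ≤ depth G_ξ` for all `ξ ⤳ y`;
* `isEquidimModule_stalk_iff`: with a dimension function `δ`, `G_y` is equidimensional iff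
  `δ ζ - δ y = dim G_y` for all maximal points `ζ ⤳ y` of the support.
-/

set_option autoImplicit false
set_option backward.isDefEq.respectTransparency.types false
set_option linter.style.haveILetI false
set_option linter.unusedSectionVars false
universe u

open AlgebraicGeometry CategoryTheory TopologicalSpace Topology

namespace Groth.Agent.H99.SkStalkMod

open Groth.Agent.H48.DimFunSch Groth.Agent.H48.DimFun Groth.Agent.H29.SuppDimLoc
  Groth.Agent.H99.DimFunMod Groth.Agent.H99.EquidimAlg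

variable {Y : Scheme.{u}} [IsLocallyNoetherian Y] (G : Y.Modules) (hG : Coh.IsCoh G)

theorem primeIdealOf_fromSpec {U : Y.Opens} (hU : IsAffineOpen U) (a : PrimeSpectrum Γ(Y, U))
    (ha : hU.fromSpec a ∈ U) : hU.primeIdealOf ⟨hU.fromSpec a, ha⟩ = a := by
  apply fromSpec_injective hU
  exact hU.fromSpec_primeIdealOf ⟨hU.fromSpec a, ha⟩

include hG in
/-- the `(S_k)` condition at the prime of a point of an affine open, in terms of the stalk. -/
theorem skCond_iff_stalk (k : ℕ) {U : Y.Opens} (hU : IsAffineOpen U) {ξ : Y} (hξ : ξ ∈ U) :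
    Groth.Agent.H29.SkAt.SkCond k Γ(Y, U) Γ(G, U) (hU.primeIdealOf ⟨ξ, hξ⟩).asIdeal ↔
      min (k : WithBot ℕ∞) (Module.supportDim (Y.presheaf.stalk ξ) (G.presheaf.stalk ξ)) ≤
        ((LocCoh.depth (Y.presheaf.stalk ξ) (G.presheaf.stalk ξ) : ℕ∞) : WithBot ℕ∞) := by
  haveI : G.IsQuasicoherent := hG.1
  haveI : IsNoetherianRing Γ(Y, U) := IsLocallyNoetherian.component_noetherian ⟨U, hU⟩
  haveI : IsNoetherianRing (Localization.AtPrime (hU.primeIdealOf ⟨ξ, hξ⟩).asIdeal) :=
    IsLocalization.isNoetherianRing (hU.primeIdealOf ⟨ξ, hξ⟩).asIdeal.primeCompl _ inferInstance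
  haveI := Groth.Agent.H13.finite_stalk_of_isCoh G hG ξ
  obtain ⟨σ, ψ, hψ⟩ := Groth.Agent.H58.RectDepth.exists_semilinear_sections G hU hξ
  unfold Groth.Agent.H29.SkAt.SkCond
  rw [Groth.Agent.H29.LocTrans.supportDim_eq_of_semilinear σ ψ hψ,
    Groth.Agent.H29.LocTrans.depth_eq_of_semilinear σ ψ hψ]

include hG in
/-- **`(S_k)` for the stalk of a coherent module in terms of the generizations.** -/
theorem hasSk_stalk_iff_mod (k : ℕ) (y : Y) :
    LocCoh.HasSk k (Y.presheaf.stalk y) (G.presheaf.stalk y) ↔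
      ∀ ξ : Y, ξ ⤳ y →
        min (k : WithBot ℕ∞) (Module.supportDim (Y.presheaf.stalk ξ) (G.presheaf.stalk ξ)) ≤
          ((LocCoh.depth (Y.presheaf.stalk ξ) (G.presheaf.stalk ξ) : ℕ∞) : WithBot ℕ∞) := by
  haveI : G.IsQuasicoherent := hG.1
  haveI : SheafOfModules.IsFiniteType (R := Y.ringCatSheaf) G := hG.2
  obtain ⟨U, hU, hyU, -⟩ := exists_isAffineOpen_mem_and_subset (x := y) (U := ⊤) trivial
  haveI : IsNoetherianRing Γ(Y, U) := IsLocallyNoetherian.component_noetherian ⟨U, hU⟩
  haveI : Module.Finite Γ(Y, U) Γ(G, U) := Groth.Agent.H44.finite_sections_of_isFiniteType G hU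
  set b := hU.primeIdealOf ⟨y, hyU⟩ with hb
  have hfb : hU.fromSpec b = y := hU.fromSpec_primeIdealOf ⟨y, hyU⟩
  haveI : IsNoetherianRing (Localization.AtPrime b.asIdeal) :=
    IsLocalization.isNoetherianRing b.asIdeal.primeCompl _ inferInstance
  haveI : Module.Finite (Localization.AtPrime b.asIdeal)
      (LocalizedModule b.asIdeal.primeCompl Γ(G, U)) :=
    Module.Finite.of_isLocalizedModule b.asIdeal.primeCompl
      (LocalizedModule.mkLinearMap b.asIdeal.primeCompl Γ(G, U))
  haveI := Groth.Agent.H13.finite_stalk_of_isCoh G hG y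
  haveI : IsNoetherianRing (Y.presheaf.stalk y) := inferInstance
  obtain ⟨σ, ψ, hψ⟩ := Groth.Agent.H58.RectDepth.exists_semilinear_sections G hU hyU
  have hψ' : ∀ (r : Y.presheaf.stalk y) (x : G.presheaf.stalk y),
      ψ.symm (r • x) = σ.symm r • ψ.symm x := by
    intro r x
    apply ψ.injective
    rw [hψ, AddEquiv.apply_symm_apply, RingEquiv.apply_symm_apply, AddEquiv.apply_symm_apply]
  have h1 : LocCoh.HasSk k (Y.presheaf.stalk y) (G.presheaf.stalk y) ↔
      EGA4.HasSkAt k Γ(Y, U) Γ(G, U) b.asIdeal :=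
    ⟨fun h => Groth.Agent.H58.DualSch.hasSk_of_semilinear k σ.symm ψ.symm hψ' h,
      fun h => Groth.Agent.H58.DualSch.hasSk_of_semilinear k σ ψ hψ h⟩
  rw [h1, Groth.Agent.H29.SkAt.hasSkAt_iff]
  constructor
  · intro h ξ hξ
    have hξU : ξ ∈ U := hξ.mem_open U.2 hyU
    rw [← skCond_iff_stalk G hG k hU hξU]
    refine h _ ?_
    have hfa : hU.fromSpec (hU.primeIdealOf ⟨ξ, hξU⟩) = ξ := hU.fromSpec_primeIdealOf ⟨ξ, hξU⟩
    show hU.primeIdealOf ⟨ξ, hξU⟩ ≤ b
    rw [← fromSpec_specializes_iff hU, hfa, hfb]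
    exact hξ
  · intro h Q hQ hQb
    let a : PrimeSpectrum Γ(Y, U) := ⟨Q, hQ⟩
    have haU : hU.fromSpec a ∈ U := fromSpec_mem hU a
    have hsp : hU.fromSpec a ⤳ y := by
      rw [← hfb]
      exact (fromSpec_specializes_iff hU a b).mpr hQb
    have h2 := (skCond_iff_stalk G hG k hU haU).mpr (h _ hsp)
    have h3 : (hU.primeIdealOf ⟨hU.fromSpec a, haU⟩).asIdeal = Q := by
      rw [primeIdealOf_fromSpec hU a haU]
    exact (Groth.Agent.H29.SkAt.skCond_congr k _ _ h3).mp h2

variable (δ : Y → ℤ) (hδ : Cyc.IsDimFun Y δ)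

include hG hδ in
/-- **equidimensionality of the stalk of a coherent module in terms of the maximal points of the
support.** -/
theorem isEquidimModule_stalk_iff (y : Y) :
    EGA4.IsEquidimModule (Y.presheaf.stalk y) (G.presheaf.stalk y) ↔
      ∀ ζ : Y, ζ ⤳ y → Nontrivial (G.presheaf.stalk ζ) →
        (∀ w : Y, w ⤳ ζ → Nontrivial (G.presheaf.stalk w) → w = ζ) →
          (((δ ζ - δ y).toNat : ℕ∞) : WithBot ℕ∞) =
            Module.supportDim (Y.presheaf.stalk y) (G.presheaf.stalk y) := by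
  haveI : G.IsQuasicoherent := hG.1
  haveI : SheafOfModules.IsFiniteType (R := Y.ringCatSheaf) G := hG.2
  obtain ⟨U, hU, hyU, -⟩ := exists_isAffineOpen_mem_and_subset (x := y) (U := ⊤) trivial
  haveI : IsNoetherianRing Γ(Y, U) := IsLocallyNoetherian.component_noetherian ⟨U, hU⟩
  haveI : Module.Finite Γ(Y, U) Γ(G, U) := Groth.Agent.H44.finite_sections_of_isFiniteType G hU
  set b := hU.primeIdealOf ⟨y, hyU⟩ with hb
  have hfb : hU.fromSpec b = y := hU.fromSpec_primeIdealOf ⟨y, hyU⟩
  haveI : Module.Finite (Localization.AtPrime b.asIdeal)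
      (LocalizedModule b.asIdeal.primeCompl Γ(G, U)) :=
    Module.Finite.of_isLocalizedModule b.asIdeal.primeCompl
      (LocalizedModule.mkLinearMap b.asIdeal.primeCompl Γ(G, U))
  obtain ⟨σ, ψ, hψ⟩ := Groth.Agent.H58.RectDepth.exists_semilinear_sections G hU hyU
  have hψ' : ∀ (r : Y.presheaf.stalk y) (x : G.presheaf.stalk y),
      ψ.symm (r • x) = σ.symm r • ψ.symm x := by
    intro r x
    apply ψ.injective
    rw [hψ, AddEquiv.apply_symm_apply, RingEquiv.apply_symm_apply, AddEquiv.apply_symm_apply]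
  have h1 : EGA4.IsEquidimModule (Y.presheaf.stalk y) (G.presheaf.stalk y) ↔
      EGA4.IsEquidimModule (Localization.AtPrime b.asIdeal)
        (LocalizedModule b.asIdeal.primeCompl Γ(G, U)) :=
    ⟨fun h => isEquidimModule_of_semilinear σ.symm ψ.symm hψ' h,
      fun h => isEquidimModule_of_semilinear σ ψ hψ h⟩
  rw [h1, isEquidimModule_iff_support,
    ← Groth.Agent.H29.LocTrans.supportDim_eq_of_semilinear σ ψ hψ]
  let o := IsLocalization.AtPrime.primeSpectrumOrderIso (Localization.AtPrime b.asIdeal) b.asIdeal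
  have ho : ∀ Q : PrimeSpectrum (Localization.AtPrime b.asIdeal),
      (o Q).1 = Q.comap (algebraMap Γ(Y, U) (Localization.AtPrime b.asIdeal)) := fun Q => rfl
  have hsupp : ∀ Q : PrimeSpectrum (Localization.AtPrime b.asIdeal),
      Q ∈ Module.support (Localization.AtPrime b.asIdeal)
        (LocalizedModule b.asIdeal.primeCompl Γ(G, U)) ↔
      (o Q).1 ∈ Module.support Γ(Y, U) Γ(G, U) := fun Q => by
    rw [ho]
    exact Groth.Agent.H24.mem_support_localizedModule_iff b.asIdeal Q
  have hdim : ∀ Q : PrimeSpectrum (Localization.AtPrime b.asIdeal),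
      ringKrullDim (Localization.AtPrime b.asIdeal ⧸ Q.asIdeal) =
        (((δ (hU.fromSpec (o Q).1) - δ y).toNat : ℕ∞) : WithBot ℕ∞) := by
    intro Q
    rw [ringKrullDim_quotient_localization b.asIdeal Q.asIdeal]
    have hle : (o Q).1 ≤ b := (o Q).2
    have := height_map_mk_eq hU δ hδ (o Q).1 b hle
    rw [hfb] at this
    rw [← this]
    rfl
  constructor
  · intro h ζ hζy hζ hmax
    have hζU : ζ ∈ U := hζy.mem_open U.2 hyU
    set a := hU.primeIdealOf ⟨ζ, hζU⟩ with ha
    have hfa : hU.fromSpec a = ζ := hU.fromSpec_primeIdealOf ⟨ζ, hζU⟩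
    have hab : a ≤ b := by
      rw [← fromSpec_specializes_iff hU, hfa, hfb]; exact hζy
    set Q := o.symm ⟨a, hab⟩ with hQ
    have hoQ : (o Q).1 = a := by rw [hQ, o.apply_symm_apply]
    have hQs : Q ∈ Module.support (Localization.AtPrime b.asIdeal)
        (LocalizedModule b.asIdeal.primeCompl Γ(G, U)) := by
      rw [hsupp, hoQ]
      exact (nontrivial_stalk_iff G hG hU hζU).mp hζ
    have hQmin : ∀ Q' ∈ Module.support (Localization.AtPrime b.asIdeal)
        (LocalizedModule b.asIdeal.primeCompl Γ(G, U)), Q' ≤ Q → Q' = Q := by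
      intro Q' hQ' hle
      have h2 : (o Q').1 ≤ a := by
        rw [← hoQ]
        exact o.monotone hle
      have hw : hU.fromSpec (o Q').1 ⤳ ζ := by
        rw [← hfa]
        exact (fromSpec_specializes_iff hU _ a).mpr h2
      have hwU : hU.fromSpec (o Q').1 ∈ U := fromSpec_mem hU _
      have hwn : Nontrivial (G.presheaf.stalk (hU.fromSpec (o Q').1)) := by
        rw [nontrivial_stalk_iff G hG hU hwU, primeIdealOf_fromSpec hU _ hwU]
        exact (hsupp Q').mp hQ'
      have h3 := hmax _ hw hwn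
      have h4 : (o Q').1 = a := by
        apply fromSpec_injective hU
        rw [h3, hfa]
      apply o.injective
      apply Subtype.ext
      rw [h4, hoQ]
    have h5 := h Q hQs hQmin
    rw [hdim Q, hoQ, hfa] at h5
    exact h5
  · intro h Q hQs hQmin
    rw [hdim Q]
    have hle : (o Q).1 ≤ b := (o Q).2
    have hζy : hU.fromSpec (o Q).1 ⤳ y := by
      rw [← hfb]
      exact (fromSpec_specializes_iff hU _ b).mpr hle
    have hζU : hU.fromSpec (o Q).1 ∈ U := fromSpec_mem hU _
    have hζn : Nontrivial (G.presheaf.stalk (hU.fromSpec (o Q).1)) := by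
      rw [nontrivial_stalk_iff G hG hU hζU, primeIdealOf_fromSpec hU _ hζU]
      exact (hsupp Q).mp hQs
    refine h _ hζy hζn ?_
    intro w hw hwn
    have hwU : w ∈ U := hw.mem_open U.2 hζU
    set c := hU.primeIdealOf ⟨w, hwU⟩ with hc
    have hfc : hU.fromSpec c = w := hU.fromSpec_primeIdealOf ⟨w, hwU⟩
    have hca : c ≤ (o Q).1 := by
      rw [← fromSpec_specializes_iff hU, hfc]; exact hw
    have hcb : c ≤ b := hca.trans hle
    set Q' := o.symm ⟨c, hcb⟩ with hQ'
    have hoQ' : (o Q').1 = c := by rw [hQ', o.apply_symm_apply]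
    have hQ's : Q' ∈ Module.support (Localization.AtPrime b.asIdeal)
        (LocalizedModule b.asIdeal.primeCompl Γ(G, U)) := by
      rw [hsupp, hoQ']
      exact (nontrivial_stalk_iff G hG hU hwU).mp hwn
    have hQ'Q : Q' ≤ Q := by
      rw [← o.le_iff_le]
      show (o Q').1 ≤ (o Q).1
      rw [hoQ']
      exact hca
    have h6 := hQmin Q' hQ's hQ'Q
    rw [← hfc, ← hoQ', h6]

end Groth.Agent.H99.SkStalkMod
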