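import Mathlib
import Groth.Agent.H99.SkETop
import Groth.Agent.H99.SkStalkMod
import Groth.Agent.H99.SuppComp

/-!
# `(S_k)` and equidimensionality over a field: the topological form (helper99)

For `p : Y ⟶ Spec K` locally of finite type over a field, `G` coherent, `k ≥ 1`:
the stalk `G_y` is equidimensional and `(S_k)` iff for some `e`, all associated points of `G`
through `y` have dimension `e` (`PrΦ {e}`) and `SkE k e` holds at `y`.
-/

set_option autoImplicit false
set_option backward.isDefEq.respectTransparency.types false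
set_option linter.style.haveILetI false
set_option linter.unusedSectionVars false
universe u

open AlgebraicGeometry CategoryTheory CategoryTheory.Limits TopologicalSpace Topology IsLocalRing

namespace Groth.Agent.H99.SkEField

open Groth.Agent.H99.ModPair Groth.Agent.H99.FibModProp Groth.Agent.H99.FibrePropGenM
  Groth.Agent.H99.ProfTop Groth.Agent.H99.ProfCons Groth.Agent.H99.ProfField
  Groth.Agent.H99.ProfMain Groth.Agent.H99.RkTop Groth.Agent.H99.CompDims
  Groth.Agent.H99.FibEqui Groth.Agent.H99.AssTop Groth.Agent.H99.FibrePropDVRM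
  Groth.Agent.H99.AssInv Groth.Agent.H99.SkETop Groth.Agent.H99.FieldDim
  Groth.Agent.H99.RkField Groth.Agent.H99.DimFunMod Groth.Agent.H99.SkStalkMod

variable {K : Type u} [Field K] {Y : Scheme.{u}} (p : Y ⟶ Spec (CommRingCat.of K))
  [LocallyOfFiniteType p] (G : Y.Modules) (hG : Coh.IsCoh G)

/-- the depth of the stalk. -/
noncomputable abbrev dep (ξ : Y) : ℕ∞ :=
  LocCoh.depth (Y.presheaf.stalk ξ) (G.presheaf.stalk ξ)

/-- the dimension of the stalk. -/
noncomputable abbrev dm (ξ : Y) : WithBot ℕ∞ :=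
  Module.supportDim (Y.presheaf.stalk ξ) (G.presheaf.stalk ξ)

/-- the dimension of the closure of the point. -/
noncomputable abbrev dl (ξ : Y) : ℕ := (delta p ξ).toNat

theorem fdim_field (ξ : Y) : fdim p ξ = ((dl p ξ : ℕ) : WithBot ℕ∞) := fdim_eq p ξ

include hG in
theorem fibDepth_field (ξ : Y) : fibDepth p G ξ = dep G ξ := by
  have key : ∀ n : ℕ, (n : ℕ∞) ≤ fibDepth p G ξ + (dl p ξ : ℕ) ↔
      (n : ℕ∞) ≤ dep G ξ + (dl p ξ : ℕ) := by
    intro n
    rw [← profGE_iff' p G hG n ξ (dl p ξ) (fdim_field p ξ), profGE_field_iff p G hG n ξ,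
      topologicalKrullDim_closure p ξ, ← WithBot.coe_add]
    exact WithBot.coe_le_coe (a := (n : ℕ∞))
  have h1 : fibDepth p G ξ + (dl p ξ : ℕ) = dep G ξ + (dl p ξ : ℕ) := by
    apply le_antisymm
    · rw [← ENat.forall_natCast_le_iff_le]
      intro a ha
      exact (key a).mp ha
    · rw [← ENat.forall_natCast_le_iff_le]
      intro a ha
      exact (key a).mpr ha
  rw [add_comm _ ((dl p ξ : ℕ) : ℕ∞), add_comm _ ((dl p ξ : ℕ) : ℕ∞)] at h1
  exact ENat.add_right_injective_of_ne_top (ENat.natCast_ne_top _) h1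

include hG in
theorem mem_zP_field_iff (j : ℕ) (ξ : Y) :
    ξ ∈ ZP j p G ↔ dep G ξ + (dl p ξ : ℕ) ≤ (j : ℕ∞) := by
  rw [mem_zP_iff p G hG j ξ (dl p ξ) (fdim_field p ξ), fibDepth_field p G hG ξ]

include hG in
theorem assDim_field_iff (j : ℕ) (y : Y) :
    AssDim j p G y ↔ ∃ ξ : Y, ξ ⤳ y ∧ dl p ξ = j ∧ dep G ξ = 0 := by
  rw [assDim_iff p G hG j y]
  constructor
  · rintro ⟨ξ, h1, -, h3, h4⟩
    refine ⟨ξ, h1, ?_, by rw [← fibDepth_field p G hG ξ]; exact h4⟩
    rw [fdim_field] at h3
    exact_mod_cast h3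
  · rintro ⟨ξ, h1, h3, h4⟩
    refine ⟨ξ, h1, Subsingleton.elim _ _, ?_, by rw [fibDepth_field p G hG ξ]; exact h4⟩
    rw [fdim_field, h3]

theorem delta_le_of_specializes {w ξ : Y} (h : w ⤳ ξ) : delta p ξ ≤ delta p w := by
  by_cases hne : w = ξ
  · rw [hne]
  · exact ((isDimFun p) w ξ h hne).1.le

theorem eq_of_delta_le {w ξ : Y} (h : w ⤳ ξ) (hle : delta p w ≤ delta p ξ) : w = ξ := by
  by_contra hne
  have := ((isDimFun p) w ξ h hne).1
  omega

include hG in
/-- a maximal point of the support realizing the dimension of the stalk. -/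
theorem exists_max_support (ξ : Y) (hξ : Nontrivial (G.presheaf.stalk ξ)) :
    ∃ w : Y, w ⤳ ξ ∧ Nontrivial (G.presheaf.stalk w) ∧
      (∀ w' : Y, w' ⤳ w → Nontrivial (G.presheaf.stalk w') → w' = w) ∧
      dm G ξ = (((delta p w - delta p ξ).toNat : ℕ∞) : WithBot ℕ∞) := by
  haveI : IsLocallyNoetherian Y := isLocallyNoetherian p
  obtain ⟨w, hw1, hw2, hw3⟩ := exists_supportDim_stalk_le (delta p) (isDimFun p) G hG ξ hξ
  have hw4 := le_supportDim_stalk (delta p) (isDimFun p) G hG w ξ hw1 hw2
  have heq : dm G ξ = (((delta p w - delta p ξ).toNat : ℕ∞) : WithBot ℕ∞) := le_antisymm hw3 hw4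
  refine ⟨w, hw1, hw2, ?_, heq⟩
  intro w' hw' hw'n
  have h5 := le_supportDim_stalk (delta p) (isDimFun p) G hG w' ξ (hw'.trans hw1) hw'n
  rw [show Module.supportDim (Y.presheaf.stalk ξ) (G.presheaf.stalk ξ) = dm G ξ from rfl, heq] at h5
  have h6 : (delta p w' - delta p ξ).toNat ≤ (delta p w - delta p ξ).toNat := by exact_mod_cast h5
  have h7 := delta_le_of_specializes p hw'
  have h8 := delta_le_of_specializes p hw1
  exact eq_of_delta_le p hw' (by omega)

include p hG in
theorem dep_eq_zero_of_max (ζ : Y) (hζ : Nontrivial (G.presheaf.stalk ζ))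
    (hmax : ∀ w : Y, w ⤳ ζ → Nontrivial (G.presheaf.stalk w) → w = ζ) : dep G ζ = 0 := by
  haveI : IsLocallyNoetherian Y := isLocallyNoetherian p
  haveI := Groth.Agent.H13.finite_stalk_of_isCoh G hG ζ
  obtain ⟨w, hw1, hw2, -, hw4⟩ := exists_max_support p G hG ζ hζ
  rw [hmax w hw1 hw2, sub_self] at hw4
  have h1 := Groth.Agent.H29.CML.depth_le_supportDim (A := Y.presheaf.stalk ζ) (G.presheaf.stalk ζ)
  rw [show Module.supportDim (Y.presheaf.stalk ζ) (G.presheaf.stalk ζ) = dm G ζ from rfl, hw4] at h1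
  have h2 : dep G ζ ≤ ((0 : ℕ) : ℕ∞) := by exact_mod_cast h1
  simpa using h2

include p hG in
theorem nontrivial_of_specializes {ξ y : Y} (h : ξ ⤳ y) (hξ : Nontrivial (G.presheaf.stalk ξ)) :
    Nontrivial (G.presheaf.stalk y) := by
  haveI : IsLocallyNoetherian Y := isLocallyNoetherian p
  have h1 := le_supportDim_stalk (delta p) (isDimFun p) G hG ξ y h hξ
  rw [← Module.supportDim_ne_bot_iff_nontrivial (Y.presheaf.stalk y)]
  intro hbot
  rw [hbot] at h1
  simp at h1

include p hG in
theorem nontrivial_of_dep_ne_top (ξ : Y) (h : dep G ξ ≠ ⊤) : Nontrivial (G.presheaf.stalk ξ) := by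
  haveI : IsLocallyNoetherian Y := isLocallyNoetherian p
  by_contra hcon
  rw [not_nontrivial_iff_subsingleton] at hcon
  exact h (Groth.Agent.H29.CML.depth_eq_top_of_subsingleton (A := Y.presheaf.stalk ξ)
    (G.presheaf.stalk ξ))

theorem min_cast_le_iff (k a b : ℕ) :
    min (k : WithBot ℕ∞) (((a : ℕ) : ℕ∞) : WithBot ℕ∞) ≤ (((b : ℕ) : ℕ∞) : WithBot ℕ∞) ↔
      min k a ≤ b := by
  rw [min_le_iff, min_le_iff]
  constructor
  · rintro (h | h)
    · left; exact_mod_cast h
    · right; exact_mod_cast h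
  · rintro (h | h)
    · left; exact_mod_cast h
    · right; exact_mod_cast h

include hG in
/-- **the bridge over a field.** -/
theorem bridge_field (k : ℕ) (hk : 1 ≤ k) (y : Y) :
    (EGA4.IsEquidimModule (Y.presheaf.stalk y) (G.presheaf.stalk y) ∧
      LocCoh.HasSk k (Y.presheaf.stalk y) (G.presheaf.stalk y)) ↔
    ∃ e : ℕ, PrΦ {e} p G y ∧ SkE k e p G y := by
  haveI : IsLocallyNoetherian Y := isLocallyNoetherian p
  rw [isEquidimModule_stalk_iff G hG (delta p) (isDimFun p) y, hasSk_stalk_iff_mod G hG k y]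
  constructor
  · rintro ⟨hE, hS⟩
    rcases subsingleton_or_nontrivial (G.presheaf.stalk y) with hs | hn
    · refine ⟨0, ?_, ?_⟩
      · intro j _ hA
        obtain ⟨ξ, hξy, -, h0⟩ := (assDim_field_iff p G hG j y).mp hA
        have := nontrivial_of_specializes p G hG hξy
          (nontrivial_of_dep_ne_top p G hG ξ (by rw [h0]; simp))
        exact not_subsingleton _ hs
      · intro j hj
        omega
    · obtain ⟨d₀, hd₀⟩ := Groth.Agent.H29.CML.exists_nat_supportDim_eq
        (A := Y.presheaf.stalk y) (G.presheaf.stalk y)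
      have hA : ∀ ζ : Y, ζ ⤳ y → Nontrivial (G.presheaf.stalk ζ) →
          (∀ w : Y, w ⤳ ζ → Nontrivial (G.presheaf.stalk w) → w = ζ) →
          dl p ζ = d₀ + dl p y := by
        intro ζ h1 h2 h3
        have h := hE ζ h1 h2 h3
        rw [hd₀] at h
        have h4 : (delta p ζ - delta p y).toNat = d₀ := by exact_mod_cast h
        have h5 := delta_le_of_specializes p h1
        have h6 := delta_nonneg' p y
        show (delta p ζ).toNat = d₀ + (delta p y).toNat
        omega
      refine ⟨d₀ + dl p y, ?_, ?_⟩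
      · intro j hj hAj
        obtain ⟨ξ, hξy, hdl, h0⟩ := (assDim_field_iff p G hG j y).mp hAj
        have hξn : Nontrivial (G.presheaf.stalk ξ) :=
          nontrivial_of_dep_ne_top p G hG ξ (by rw [h0]; simp)
        have hSξ := hS ξ hξy
        obtain ⟨w, hw1, hw2, hw3, hw4⟩ := exists_max_support p G hG ξ hξn
        rw [show Module.supportDim (Y.presheaf.stalk ξ) (G.presheaf.stalk ξ) = dm G ξ from rfl, hw4,
          show LocCoh.depth (Y.presheaf.stalk ξ) (G.presheaf.stalk ξ) = dep G ξ from rfl, h0,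
          show ((0 : ℕ∞) : WithBot ℕ∞) = (((0 : ℕ) : ℕ∞) : WithBot ℕ∞) from rfl,
          min_cast_le_iff] at hSξ
        have h7 : (delta p w - delta p ξ).toNat = 0 := by
          rcases min_le_iff.mp hSξ with h | h
          · omega
          · omega
        have h8 := delta_le_of_specializes p hw1
        have hwξ : w = ξ := eq_of_delta_le p hw1 (by omega)
        rw [hwξ] at hw3
        have h9 := hA ξ hξy hξn hw3
        exact hj (by rw [Finset.mem_singleton]; omega)
      · intro j hj d hd hjk hnd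
        obtain ⟨ξ, hξZ, hξy, -, -, hdξ⟩ := hnd
        have hz := (mem_zP_field_iff p G hG j ξ).mp hξZ
        have hdl : dl p ξ = d := by
          rw [fdim_field] at hdξ
          exact_mod_cast hdξ
        have hfin : dep G ξ ≠ ⊤ := by
          intro h
          rw [h, top_add] at hz
          simp at hz
        have hξn := nontrivial_of_dep_ne_top p G hG ξ hfin
        obtain ⟨e', he'⟩ := ENat.ne_top_iff_exists.mp hfin
        rw [← he', hdl] at hz
        have hz' : e' + d ≤ j := by exact_mod_cast hz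
        obtain ⟨w, hw1, hw2, hw3, hw4⟩ := exists_max_support p G hG ξ hξn
        have hwA := hA w (hw1.trans hξy) hw2 hw3
        have hSξ := hS ξ hξy
        rw [show Module.supportDim (Y.presheaf.stalk ξ) (G.presheaf.stalk ξ) = dm G ξ from rfl, hw4,
          show LocCoh.depth (Y.presheaf.stalk ξ) (G.presheaf.stalk ξ) = dep G ξ from rfl, ← he',
          min_cast_le_iff] at hSξ
        have h5 := delta_le_of_specializes p hw1
        have h6 := delta_nonneg' p ξ
        have h7 : (delta p w).toNat = d₀ + (delta p y).toNat := hwA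
        have h8 : (delta p ξ).toNat = d := hdl
        have hj' : j < d₀ + (delta p y).toNat := hj
        rcases min_le_iff.mp hSξ with h | h
        · omega
        · omega
  · rintro ⟨e, hP, hSk⟩
    have hB : ∀ ζ : Y, ζ ⤳ y → Nontrivial (G.presheaf.stalk ζ) →
        (∀ w : Y, w ⤳ ζ → Nontrivial (G.presheaf.stalk w) → w = ζ) → dl p ζ = e := by
      intro ζ h1 h2 h3
      have h0 := dep_eq_zero_of_max p G hG ζ h2 h3
      have hA : AssDim (dl p ζ) p G y := (assDim_field_iff p G hG _ y).mpr ⟨ζ, h1, rfl, h0⟩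
      by_contra hne
      exact hP (dl p ζ) (by simpa using hne) hA
    have hdm : ∀ ξ : Y, ξ ⤳ y → Nontrivial (G.presheaf.stalk ξ) →
        dm G ξ = (((e - dl p ξ : ℕ) : ℕ∞) : WithBot ℕ∞) ∧ dl p ξ ≤ e := by
      intro ξ h1 h2
      obtain ⟨w, hw1, hw2, hw3, hw4⟩ := exists_max_support p G hG ξ h2
      have h4 : (delta p w).toNat = e := hB w (hw1.trans h1) hw2 hw3
      have h5 := delta_le_of_specializes p hw1
      have h6 := delta_nonneg' p ξ
      have h7 : (delta p w - delta p ξ).toNat = e - (delta p ξ).toNat := by omega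
      refine ⟨by rw [hw4, h7], ?_⟩
      show (delta p ξ).toNat ≤ e
      omega
    refine ⟨?_, ?_⟩
    · intro ζ h1 h2 h3
      have hyn := nontrivial_of_specializes p G hG h1 h2
      obtain ⟨hdy, -⟩ := hdm y specializes_rfl hyn
      rw [show Module.supportDim (Y.presheaf.stalk y) (G.presheaf.stalk y) = dm G y from rfl, hdy]
      have h4 : (delta p ζ).toNat = e := hB ζ h1 h2 h3
      have h5 := delta_le_of_specializes p h1
      have h6 := delta_nonneg' p y
      have h7 : (delta p ζ - delta p y).toNat = e - (delta p y).toNat := by omega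
      rw [h7]
    · intro ξ hξy
      rcases subsingleton_or_nontrivial (G.presheaf.stalk ξ) with hs | hn
      · rw [Groth.Agent.H29.CML.depth_eq_top_of_subsingleton]
        exact le_trans (min_le_left _ _) (WithBot.coe_le_coe.mpr le_top)
      · haveI := Groth.Agent.H13.finite_stalk_of_isCoh G hG ξ
        obtain ⟨hdξ, hle⟩ := hdm ξ hξy hn
        obtain ⟨e', he'⟩ := Groth.Agent.H29.CML.exists_nat_depth_eq
          (A := Y.presheaf.stalk ξ) (G.presheaf.stalk ξ)
        rw [show Module.supportDim (Y.presheaf.stalk ξ) (G.presheaf.stalk ξ) = dm G ξ from rfl,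
          hdξ, he', min_cast_le_iff]
        by_contra hcon
        rw [min_le_iff, not_or, not_le, not_le] at hcon
        obtain ⟨hc1, hc2⟩ := hcon
        have hξZ : ξ ∈ ZP (e' + dl p ξ) p G := by
          rw [mem_zP_field_iff p G hG]
          rw [show dep G ξ = LocCoh.depth (Y.presheaf.stalk ξ) (G.presheaf.stalk ξ) from rfl, he']
          push_cast
          exact le_rfl
        obtain ⟨d', hdd', hnd'⟩ := exists_ndPr_of_mem p (ZP (e' + dl p ξ) p G) ξ y hξZ hξy
          (Subsingleton.elim _ _)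
        rw [fdim_field] at hdd'
        have hdd'' : dl p ξ ≤ d' := by exact_mod_cast hdd'
        obtain ⟨w, hwZ, hw1, hw2, hw3, hdw⟩ := hnd'
        have h1 := (mem_zP_field_iff p G hG _ w).mp hwZ
        have hdlw : dl p w = d' := by
          rw [fdim_field] at hdw
          exact_mod_cast hdw
        rw [hdlw] at h1
        have h2 : (d' : ℕ∞) ≤ ((e' + dl p ξ : ℕ) : ℕ∞) := le_trans le_add_self h1
        have h3 : d' ≤ e' + dl p ξ := by exact_mod_cast h2
        exact hSk (e' + dl p ξ) (by omega) d' h3 (by omega) ⟨w, hwZ, hw1, hw2, hw3, hdw⟩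

end Groth.Agent.H99.SkEField
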