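import Mathlib
import Groth.Agent.H99.SkEField

/-!
# Openness of the locus where the fibre module is equidimensional and `(S_k)` (helper99)
-/

set_option autoImplicit false
set_option backward.isDefEq.respectTransparency.types false
set_option linter.style.haveILetI false
set_option linter.unusedSectionVars false
universe u

open AlgebraicGeometry CategoryTheory CategoryTheory.Limits TopologicalSpace Topology IsLocalRing

namespace Groth.Agent.H99.SkEMain

open Groth.Agent.H99.ModPair Groth.Agent.H99.FibModProp Groth.Agent.H99.FibrePropGenM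
  Groth.Agent.H99.ProfTop Groth.Agent.H99.ProfCons Groth.Agent.H99.ProfField
  Groth.Agent.H99.ProfMain Groth.Agent.H99.RkTop Groth.Agent.H99.CompDims
  Groth.Agent.H99.FibEqui Groth.Agent.H99.AssTop Groth.Agent.H99.FibrePropDVRM
  Groth.Agent.H99.AssInv Groth.Agent.H99.SkETop Groth.Agent.H99.SkEField

variable {X S : Scheme.{u}} (f : X ⟶ S) [LocallyOfFiniteType f] (F : X.Modules)
  (hF : Coh.IsCoh F)

include hF in
/-- **the bridge**: equidimensional and `(S_k)` fibre stalk, topological form. -/
theorem equidim_and_hasSk_iff (k : ℕ) (hk : 1 ≤ k) (x : X) :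
    (EGA4.IsEquidimModule ((f.fiber (f x)).presheaf.stalk (f.asFiber x))
        (((Scheme.Modules.pullback (f.fiberι (f x))).obj F).presheaf.stalk (f.asFiber x)) ∧
      LocCoh.HasSk k ((f.fiber (f x)).presheaf.stalk (f.asFiber x))
        (((Scheme.Modules.pullback (f.fiberι (f x))).obj F).presheaf.stalk (f.asFiber x))) ↔
      ∃ e : ℕ, PrΦ {e} f F x ∧ SkE k e f F x := by
  let κ := IsLocalRing.ResidueField (S.presheaf.stalk (f x))
  let q : f.fiber (f x) ⟶ Spec (CommRingCat.of κ) := f.fiberToSpecResidueField (f x)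
  haveI : LocallyOfFiniteType q :=
    inferInstanceAs (LocallyOfFiniteType (pullback.snd f (S.fromSpecResidueField (f x))))
  have sq1 : IsPullback (f.fiberι (f x)) q f (S.fromSpecResidueField (f x)) :=
    IsPullback.of_hasPullback _ _
  have hG : Coh.IsCoh ((Scheme.Modules.pullback (f.fiberι (f x))).obj F) :=
    isCoh_pullback _ F hF
  rw [bridge_field q _ hG k hk (f.asFiber x)]
  refine exists_congr fun e => and_congr ?_ ?_
  · have h1 := (isFibInvM_prΦ {e}).baseChange f q (f.fiberι (f x)) (S.fromSpecResidueField (f x))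
      sq1 inferInstance F hF (f.asFiber x)
    rw [Scheme.Hom.fiberι_asFiber] at h1
    exact h1
  · have h1 := (isFibInvM_skE k e).baseChange f q (f.fiberι (f x)) (S.fromSpecResidueField (f x))
      sq1 inferInstance F hF (f.asFiber x)
    rw [Scheme.Hom.fiberι_asFiber] at h1
    exact h1

/-- **EGA IV 12.1.1 (vii)**: the locus where the fibre module is equidimensional and `(S_k)`,
`k ≥ 1`, is open for a flat module of finite presentation. -/
theorem isOpen_equidim_and_hasSk {X S : Scheme.{u}} (f : X ⟶ S) [LocallyOfFinitePresentation f]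
    (F : X.Modules) [Coh.IsQCoh F] (hF : CohB1.IsFP F) (hfl : FlatMod.IsFlatOver f F) (k : ℕ)
    (hk : 1 ≤ k) :
    IsOpen {x : X | EGA4.IsEquidimModule ((f.fiber (f x)).presheaf.stalk (f.asFiber x))
        (((Scheme.Modules.pullback (f.fiberι (f x))).obj F).presheaf.stalk (f.asFiber x)) ∧
      LocCoh.HasSk k ((f.fiber (f x)).presheaf.stalk (f.asFiber x))
        (((Scheme.Modules.pullback (f.fiberι (f x))).obj F).presheaf.stalk (f.asFiber x))} := by
  have hFc : Coh.IsCoh F := isCoh_of_isFP F hF
  have hset : {x : X | EGA4.IsEquidimModule ((f.fiber (f x)).presheaf.stalk (f.asFiber x))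
        (((Scheme.Modules.pullback (f.fiberι (f x))).obj F).presheaf.stalk (f.asFiber x)) ∧
      LocCoh.HasSk k ((f.fiber (f x)).presheaf.stalk (f.asFiber x))
        (((Scheme.Modules.pullback (f.fiberι (f x))).obj F).presheaf.stalk (f.asFiber x))} =
      ⋃ e : ℕ, ({x : X | PrΦ {e} f F x} ∩ {x : X | SkE k e f F x}) := by
    ext x
    simp only [Set.mem_ofPred_eq, Set.mem_iUnion, Set.mem_inter_iff]
    exact equidim_and_hasSk_iff f F hFc k hk x
  rw [hset]
  refine isOpen_iUnion fun e => IsOpen.inter ?_ ?_
  · exact isOpen_of_genOverDVR (isFibInvM_prΦ {e}) (isLCM_prΦ {e})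
      (Groth.Agent.H99.AssDVR.genOverDVR_prΦ {e}) f F hF hfl
  · exact isOpen_of_genOverDVR (isFibInvM_skE k e) (isLCM_skE k e) (genOverDVR_skE k e) f F hF hfl

end Groth.Agent.H99.SkEMain
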