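import Mathlib
import Groth.Agent.H99.SuppComp
import Groth.Agent.H99.CompDimsSupp
import Groth.Agent.H17.Chev.OpenDim
import Groth.Agent.H17.Chev.CompDim
import Groth.Agent.S4965

/-!
# Local constancy of the dimension of the support of the fibres of a flat module, proper case
(helper99; EGA IV 12.2.1 (ii), for S4969)
-/

set_option autoImplicit false
set_option backward.isDefEq.respectTransparency.types false
set_option linter.style.haveILetI false
set_option linter.unusedSectionVars false
universe u

open AlgebraicGeometry CategoryTheory CategoryTheory.Limits TopologicalSpace Topology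

namespace Groth.Agent.H99.SuppDimConst

open Groth.Agent.H99.FibEquiGen Groth.Agent.H99.CompDims Groth.Agent.H99.RkTop

variable {X S : Scheme.{u}}

/-- the support of the fibre module, as a space, is the trace of the support on the fibre. -/
theorem dim_support_fibre_eq (f : X ⟶ S) (F : X.Modules) [Coh.IsQCoh F] (hF : CohB1.IsFP F)
    (s : S) :
    topologicalKrullDim ↥{z : ↥(f.fiber s) |
        Nontrivial (((Scheme.Modules.pullback (f.fiberι s)).obj F).presheaf.stalk z)} =
      topologicalKrullDim ↥(CohB1.support F ∩ f ⁻¹' {s}) := by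
  haveI : SheafOfModules.IsFinitePresentation (R := X.ringCatSheaf) F := hF
  haveI : SheafOfModules.IsFiniteType (R := X.ringCatSheaf) F := inferInstance
  have hsupp := Groth.Agent.S4357.result (f.fiberι s) F (inferInstance : CohB1.IsFT F)
  refine Groth.Agent.H17.Chev.topologicalKrullDim_eq_of_isEmbedding
    (fun t : ↥{z : ↥(f.fiber s) |
        Nontrivial (((Scheme.Modules.pullback (f.fiberι s)).obj F).presheaf.stalk z)} =>
      f.fiberι s t.1)
    ((f.fiberι s).isEmbedding.comp IsEmbedding.subtypeVal) _ ?_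
  ext x
  simp only [Set.mem_range, Subtype.exists, Set.mem_inter_iff, Set.mem_preimage,
    Set.mem_singleton_iff, exists_prop, Set.mem_ofPred_eq]
  constructor
  · rintro ⟨t, ht, rfl⟩
    have ht' : t ∈ CohB1.support ((Scheme.Modules.pullback (f.fiberι s)).obj F) :=
      not_subsingleton_iff_nontrivial.mpr ht
    rw [hsupp] at ht'
    exact ⟨ht', Groth.Agent.H48.CycFib.map_fiberι f s t⟩
  · rintro ⟨hx1, hx2⟩
    obtain ⟨t, rfl⟩ := Groth.Agent.H99.FibEqui.mem_range_fiberι f s x hx2
    refine ⟨t, ?_, rfl⟩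
    have ht' : t ∈ CohB1.support ((Scheme.Modules.pullback (f.fiberι s)).obj F) := by
      rw [hsupp]
      exact hx1
    exact not_subsingleton_iff_nontrivial.mp ht'

/-- the trace of the range of a closed immersion on a fibre is the fibre of the composite. -/
theorem dim_trace_eq_dim_fiber {W : Scheme.{u}} (f : X ⟶ S) (ι : W ⟶ X) [IsClosedImmersion ι]
    (Z : Set X) (hr : Set.range ι = Z) (s : S) :
    topologicalKrullDim ↥((ι ≫ f).fiber s) = topologicalKrullDim ↥(Z ∩ f ⁻¹' {s}) := by
  rw [Groth.Agent.H17.Chev.dim_fiber_eq (ι ≫ f) s]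
  refine Groth.Agent.H17.Chev.topologicalKrullDim_eq_of_isEmbedding
    (fun t : ↥((ι ≫ f).base ⁻¹' {s}) => ι t.1)
    (ι.isEmbedding.comp IsEmbedding.subtypeVal) _ ?_
  ext x
  simp only [Set.mem_range, Subtype.exists, Set.mem_inter_iff, Set.mem_preimage,
    Set.mem_singleton_iff, exists_prop]
  constructor
  · rintro ⟨w, hw, rfl⟩
    refine ⟨hr ▸ ⟨w, rfl⟩, ?_⟩
    simpa using hw
  · rintro ⟨hx1, hx2⟩
    rw [← hr] at hx1
    obtain ⟨w, rfl⟩ := hx1
    exact ⟨w, by simpa using hx2, rfl⟩

/-- the dimensions of the irreducible components of the support of a fibre module are natural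
numbers, bounded over quasi-compact opens. -/
theorem exists_nat_eq_dim_component (f : X ⟶ S) [LocallyOfFiniteType f] (F : X.Modules)
    [Coh.IsQCoh F] (hF : CohB1.IsFP F) (s : S)
    (Z : Set ↥{z : ↥(f.fiber s) |
        Nontrivial (((Scheme.Modules.pullback (f.fiberι s)).obj F).presheaf.stalk z)})
    (hZ : Z ∈ irreducibleComponents ↥{z : ↥(f.fiber s) |
        Nontrivial (((Scheme.Modules.pullback (f.fiberι s)).obj F).presheaf.stalk z)}) :
    ∃ (m : ℕ) (ξ : X), f ξ = s ∧ fdim f ξ = m ∧ topologicalKrullDim ↥Z = m := by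
  have hcl := Groth.Agent.H99.CompDimsSupp.isClosed_support F hF
  have hset : {z : ↥(f.fiber s) |
        Nontrivial (((Scheme.Modules.pullback (f.fiberι s)).obj F).presheaf.stalk z)} =
      CohB1.support ((Scheme.Modules.pullback (f.fiberι s)).obj F) := by
    ext z
    exact not_subsingleton_iff_nontrivial.symm
  have h1 : topologicalKrullDim ↥Z ∈ (fun Z : Set ↥{z : ↥(f.fiber s) |
        Nontrivial (((Scheme.Modules.pullback (f.fiberι s)).obj F).presheaf.stalk z)} =>
      topologicalKrullDim ↥Z) '' irreducibleComponents ↥{z : ↥(f.fiber s) |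
        Nontrivial (((Scheme.Modules.pullback (f.fiberι s)).obj F).presheaf.stalk z)} :=
    ⟨Z, hZ, rfl⟩
  rw [Groth.Agent.H99.CompDimsSupp.image_dim_irreducibleComponents_homeomorph
      (Homeomorph.setCongr hset),
    Groth.Agent.H99.CompDimsSupp.image_dim_support_fibre f F hF s,
    Groth.Agent.H99.CompDimsMain.mem_image_dim_iff f (CohB1.support F) s
      (hcl.preimage continuous_subtype_val).isLocallyClosed] at h1
  obtain ⟨x, hx, ξ, -, -, hfξ, -, hd⟩ := h1
  obtain ⟨m, hm⟩ := exists_nat_eq_fdim f ξ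
  exact ⟨m, ξ, hfξ.trans hx, hm, by rw [← hd, hm]⟩

/-- **EGA IV 12.2.1 (ii)**: for a proper morphism of finite presentation and a flat module of
finite presentation, the dimension of the support of the fibre module is locally constant. -/
theorem isLocallyConstant_dim_support {X Y : Scheme.{u}} (f : X ⟶ Y) [IsProper f]
    [LocallyOfFinitePresentation f] (F : X.Modules) (hF : CohB1.IsFP F)
    (hflat : FlatMod.IsFlatOver f F) :
    IsLocallyConstant (fun y : Y => topologicalKrullDim ↥{z : ↥(f.fiber y) |
      Nontrivial (((Scheme.Modules.pullback (f.fiberι y)).obj F).presheaf.stalk z)}) := by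
  have hQ : SheafOfModules.IsFinitePresentation (R := X.ringCatSheaf) F := hF
  haveI : Coh.IsQCoh F :=
    SheafOfModules.instIsQuasicoherentOfIsFinitePresentation.{u, u, u} (R := X.ringCatSheaf) F
  have hcl := Groth.Agent.H99.CompDimsSupp.isClosed_support F hF
  obtain ⟨W, ι, hι, hr⟩ := exists_closedImmersion_range (CohB1.support F) hcl
  haveI := hι
  haveI : IsProper (ι ≫ f) := inferInstance
  have hgcl : IsClosedMap (ι ≫ f).base := (ι ≫ f).isClosedMap
  have hD : ∀ y : Y, topologicalKrullDim ↥{z : ↥(f.fiber y) |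
      Nontrivial (((Scheme.Modules.pullback (f.fiberι y)).obj F).presheaf.stalk z)} =
      topologicalKrullDim ↥((ι ≫ f).fiber y) := fun y => by
    rw [dim_support_fibre_eq f F hF y, dim_trace_eq_dim_fiber f ι _ hr y]
  rw [IsLocallyConstant.iff_eventually_eq]
  intro y0
  have hU : IsOpen {y : Y | topologicalKrullDim ↥{z : ↥(f.fiber y) |
      Nontrivial (((Scheme.Modules.pullback (f.fiberι y)).obj F).presheaf.stalk z)} ≤
      topologicalKrullDim ↥{z : ↥(f.fiber y0) |
      Nontrivial (((Scheme.Modules.pullback (f.fiberι y0)).obj F).presheaf.stalk z)}} := by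
    simp_rw [hD]
    exact Groth.Agent.H17.Chev.isOpen_setOf_dim_fiber_le (ι ≫ f) hgcl _
  by_cases hne : Nonempty ↥{z : ↥(f.fiber y0) |
      Nontrivial (((Scheme.Modules.pullback (f.fiberι y0)).obj F).presheaf.stalk z)}
  · -- a bound for the dimensions of the components
    obtain ⟨_, ⟨V, hV, rfl⟩, hyV, -⟩ := Y.isBasis_affineOpens.exists_subset_of_mem_open
      (Set.mem_univ y0) isOpen_univ
    obtain ⟨N, hN⟩ := Groth.Agent.H99.CompDimsMain.exists_fdim_le f V
      (IsAffineOpen.isCompact hV)
    let A : Set ℕ := {m | ∃ Z ∈ irreducibleComponents ↥{z : ↥(f.fiber y0) |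
        Nontrivial (((Scheme.Modules.pullback (f.fiberι y0)).obj F).presheaf.stalk z)},
      topologicalKrullDim ↥Z = (m : WithBot ℕ∞)}
    have hAb : BddAbove A := by
      refine ⟨N, ?_⟩
      rintro m ⟨Z, hZ, hm⟩
      obtain ⟨m', ξ, hfξ, hm', hd⟩ := exists_nat_eq_dim_component f F hF y0 Z hZ
      have h1 : fdim f ξ ≤ N := hN ξ (by rw [hfξ]; exact hyV)
      rw [hm'] at h1
      have h2 : (m : WithBot ℕ∞) = m' := by rw [← hm, hd]
      have h3 : m = m' := by exact_mod_cast h2
      rw [h3]
      exact_mod_cast h1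
    have hAne : A.Nonempty := by
      obtain ⟨t⟩ := hne
      obtain ⟨Z, hZ, -⟩ := exists_mem_irreducibleComponents_subset_of_isIrreducible
        ({t} : Set _) isIrreducible_singleton
      obtain ⟨m, ξ, -, -, hd⟩ := exists_nat_eq_dim_component f F hF y0 Z hZ
      exact ⟨m, Z, hZ, hd⟩
    obtain ⟨Z, hZ, hn⟩ := Nat.sSup_mem hAne hAb
    set n := sSup A with hndef
    have hle : topologicalKrullDim ↥{z : ↥(f.fiber y0) |
        Nontrivial (((Scheme.Modules.pullback (f.fiberι y0)).obj F).presheaf.stalk z)} ≤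
        (n : WithBot ℕ∞) := by
      refine Groth.Agent.H17.Chev.topologicalKrullDim_le_of_forall_irreducibleComponents _ ?_
      intro Z' hZ'
      obtain ⟨m, ξ, -, -, hd⟩ := exists_nat_eq_dim_component f F hF y0 Z' hZ'
      rw [hd]
      have : m ≤ n := le_csSup hAb ⟨Z', hZ', hd⟩
      exact_mod_cast this
    have hDn : topologicalKrullDim ↥{z : ↥(f.fiber y0) |
        Nontrivial (((Scheme.Modules.pullback (f.fiberι y0)).obj F).presheaf.stalk z)} =
        (n : WithBot ℕ∞) := by
      refine le_antisymm hle ?_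
      rw [← hn]
      exact topologicalKrullDim_subspace_le _ Z
    have hL := Groth.Agent.S4965.result f F hF hflat {n}
    have hy0L : y0 ∈ {y : Y | ∀ n_1 ∈ ({n} : Finset ℕ),
        ∃ Z ∈ irreducibleComponents ↥{z : ↥(f.fiber y) |
          Nontrivial (((Scheme.Modules.pullback (f.fiberι y)).obj F).presheaf.stalk z)},
        topologicalKrullDim ↥Z = (n_1 : WithBot ℕ∞)} := by
      intro k hk
      rw [Finset.mem_singleton] at hk
      subst hk
      exact ⟨Z, hZ, hn⟩
    have hy0U : y0 ∈ {y : Y | topologicalKrullDim ↥{z : ↥(f.fiber y) |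
      Nontrivial (((Scheme.Modules.pullback (f.fiberι y)).obj F).presheaf.stalk z)} ≤
      topologicalKrullDim ↥{z : ↥(f.fiber y0) |
      Nontrivial (((Scheme.Modules.pullback (f.fiberι y0)).obj F).presheaf.stalk z)}} := by
      rw [Set.mem_ofPred_eq]
    filter_upwards [hU.mem_nhds hy0U, hL.mem_nhds hy0L] with y h1 h2
    obtain ⟨Z', hZ', hd'⟩ := h2 n (Finset.mem_singleton_self n)
    refine le_antisymm h1 ?_
    rw [hDn, ← hd']
    exact topologicalKrullDim_subspace_le _ Z'
  · have h0 : topologicalKrullDim ↥{z : ↥(f.fiber y0) |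
        Nontrivial (((Scheme.Modules.pullback (f.fiberι y0)).obj F).presheaf.stalk z)} = ⊥ := by
      haveI : IsEmpty ↥{z : ↥(f.fiber y0) |
        Nontrivial (((Scheme.Modules.pullback (f.fiberι y0)).obj F).presheaf.stalk z)} :=
        not_nonempty_iff.mp hne
      haveI : IsEmpty (IrreducibleCloseds ↥{z : ↥(f.fiber y0) |
        Nontrivial (((Scheme.Modules.pullback (f.fiberι y0)).obj F).presheaf.stalk z)}) :=
        ⟨fun Z => by
          obtain ⟨x, -⟩ := Z.isIrreducible.nonempty
          exact isEmptyElim x⟩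
      exact Order.krullDim_eq_bot
    have hy0U : y0 ∈ {y : Y | topologicalKrullDim ↥{z : ↥(f.fiber y) |
      Nontrivial (((Scheme.Modules.pullback (f.fiberι y)).obj F).presheaf.stalk z)} ≤
      topologicalKrullDim ↥{z : ↥(f.fiber y0) |
      Nontrivial (((Scheme.Modules.pullback (f.fiberι y0)).obj F).presheaf.stalk z)}} := by
      rw [Set.mem_ofPred_eq]
    filter_upwards [hU.mem_nhds hy0U] with y h1
    rw [h0, le_bot_iff] at h1
    rw [h1, h0]

end Groth.Agent.H99.SuppDimConst
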