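import Mathlib

/-!
# Helper library for S19895 (Verlinde vanishing, genus zero, two points)
-/

set_option autoImplicit false

namespace Groth.Agent.H99.Verlinde

open Finset

noncomputable section

variable (r k : ℕ)

/-- `z w j = exp(2πi w_j/(r+k))` -/
def zz (w : Fin r → ℕ) (j : Fin r) : ℂ :=
  Complex.exp (2 * Real.pi * Complex.I * (w j : ℂ) / ((r : ℂ) + k))

/-- the numerator determinant -/
def DD (μ : Fin r → ℕ) (w : Fin r → ℕ) : ℂ :=
  (Matrix.of fun i j : Fin r => zz r k w j ^ (μ i + (r - 1 - (i : ℕ)))).det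

/-- the Vandermonde-type denominator -/
def Delta (w : Fin r → ℕ) : ℂ :=
  (Matrix.of fun i j : Fin r => zz r k w j ^ (r - 1 - (i : ℕ))).det

/-- the twisting character -/
def theta (t : ℕ) (w : Fin r → ℕ) : ℂ :=
  Complex.exp (-(2 * Real.pi * Complex.I * (t : ℂ) * ((∑ j, w j : ℕ) : ℂ) / ((r : ℂ) * ((r : ℂ) + k))))

/-- the simplified summand -/
def FF (lam lam' : Fin r → ℕ) (w : Fin r → ℕ) : ℂ :=
  theta r k (∑ i, lam i + ∑ i, lam' i) w * (∏ j, (zz r k w j)⁻¹) ^ (r - 1) *
    DD r k lam w * DD r k lam' w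

/-- the sign of the reversal permutation, as a complex number -/
def eps : ℂ := ((Equiv.Perm.sign (Fin.revPerm : Equiv.Perm (Fin r)) : ℤ) : ℂ)

theorem eps_mul_self : eps r * eps r = 1 := by
  unfold eps
  rcases Int.units_eq_one_or (Equiv.Perm.sign (Fin.revPerm : Equiv.Perm (Fin r))) with h | h <;>
    simp [h]

theorem Delta_eq (w : Fin r → ℕ) :
    Delta r k w = eps r * (Matrix.vandermonde (zz r k w)).det := by
  have : (Matrix.of fun i j : Fin r => zz r k w j ^ (r - 1 - (i : ℕ))) =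
      ((Matrix.vandermonde (zz r k w)).transpose).submatrix (Fin.revPerm : Equiv.Perm (Fin r)) id := by
    ext i j
    simp only [Matrix.of_apply, Matrix.submatrix_apply, Matrix.transpose_apply,
      Matrix.vandermonde_apply, id_eq, Fin.revPerm_apply, Fin.val_rev]
    congr 1
    omega
  unfold Delta eps
  rw [this, Matrix.det_permute, Matrix.det_transpose]


theorem zz_eq (w : Fin r → ℕ) (j : Fin r) :
    zz r k w j = Complex.exp (((2 * Real.pi * (w j : ℝ) / ((r : ℝ) + k) : ℝ) : ℂ) * Complex.I) := by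
  unfold zz
  congr 1
  push_cast
  ring

theorem normSq_zz_sub (w : Fin r → ℕ) (i j : Fin r) :
    Complex.normSq (zz r k w j - zz r k w i) =
      ((2 : ℝ) * Real.sin (Real.pi * ((w i : ℝ) - (w j : ℝ)) / ((r : ℝ) + k))) ^ 2 := by
  rw [zz_eq, zz_eq, Complex.exp_mul_I, Complex.exp_mul_I]
  set a : ℝ := 2 * Real.pi * (w j : ℝ) / ((r : ℝ) + k) with ha
  set b : ℝ := 2 * Real.pi * (w i : ℝ) / ((r : ℝ) + k) with hb
  have h1 : Complex.cos (a : ℂ) + Complex.sin (a : ℂ) * Complex.I -
      (Complex.cos (b : ℂ) + Complex.sin (b : ℂ) * Complex.I) =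
      ((Real.cos a - Real.cos b : ℝ) : ℂ) + ((Real.sin a - Real.sin b : ℝ) : ℂ) * Complex.I := by
    push_cast
    ring
  rw [h1, Complex.normSq_add_mul_I]
  have h2 : Real.pi * ((w i : ℝ) - (w j : ℝ)) / ((r : ℝ) + k) = (b - a) / 2 := by
    rw [ha, hb]; ring
  rw [h2, mul_pow, Real.sin_sq_eq_half_sub]
  have h3 : 2 * ((b - a) / 2) = b - a := by ring
  rw [h3, Real.cos_sub]
  nlinarith [Real.cos_sq_add_sin_sq a, Real.cos_sq_add_sin_sq b]

/-- the trigonometric weight -/
def PP (w : Fin r → ℕ) : ℝ :=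
  ∏ p ∈ (Finset.univ : Finset (Fin r × Fin r)).filter (fun p => p.1 < p.2),
    ((2 : ℝ) * Real.sin (Real.pi * ((w p.1 : ℝ) - (w p.2 : ℝ)) / ((r : ℝ) + k))) ^ 2

theorem normSq_eps : Complex.normSq (eps r) = 1 := by
  unfold eps
  rcases Int.units_eq_one_or (Equiv.Perm.sign (Fin.revPerm : Equiv.Perm (Fin r))) with h | h <;>
    simp [h]

theorem PP_eq (w : Fin r → ℕ) :
    ((PP r k w : ℝ) : ℂ) = Delta r k w * (starRingEnd ℂ) (Delta r k w) := by
  rw [Complex.mul_conj, Delta_eq, map_mul, normSq_eps, one_mul, Matrix.det_vandermonde]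
  congr 1
  rw [map_prod]
  simp_rw [map_prod, normSq_zz_sub]
  unfold PP
  rw [Finset.prod_sigma' (Finset.univ : Finset (Fin r)) (fun i => Finset.Ioi i)
    (fun i j => ((2 : ℝ) * Real.sin (Real.pi * ((w i : ℝ) - (w j : ℝ)) / ((r : ℝ) + k))) ^ 2)]
  refine Finset.prod_bij' (fun p _ => ⟨p.1, p.2⟩) (fun q _ => (q.1, q.2)) ?_ ?_ ?_ ?_ ?_
  · intro p hp
    simp only [Finset.mem_filter, Finset.mem_univ, true_and] at hp
    simp [hp]
  · intro q hq
    simp only [Finset.mem_sigma, Finset.mem_univ, Finset.mem_Ioi, true_and] at hq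
    simp [hq]
  · intro p _; rfl
  · intro q _; rfl
  · intro p _; rfl

theorem conj_zz (w : Fin r → ℕ) (j : Fin r) :
    (starRingEnd ℂ) (zz r k w j) = (zz r k w j)⁻¹ := by
  rw [zz_eq, ← Complex.exp_conj, ← Complex.exp_neg]
  congr 1
  rw [map_mul, Complex.conj_ofReal, Complex.conj_I]
  ring

theorem conj_Delta (hr : 1 ≤ r) (w : Fin r → ℕ) :
    (starRingEnd ℂ) (Delta r k w) =
      (∏ j, (zz r k w j)⁻¹) ^ (r - 1) * (Matrix.vandermonde (zz r k w)).det := by
  unfold Delta
  rw [RingHom.map_det]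
  have : (starRingEnd ℂ).mapMatrix (Matrix.of fun i j : Fin r => zz r k w j ^ (r - 1 - (i : ℕ))) =
      Matrix.of fun i j : Fin r => ((zz r k w j)⁻¹) ^ (r - 1) *
        (Matrix.vandermonde (zz r k w)).transpose i j := by
    ext i j
    simp only [RingHom.mapMatrix_apply, Matrix.map_apply, Matrix.of_apply, map_pow, conj_zz,
      Matrix.transpose_apply, Matrix.vandermonde_apply]
    have hz : zz r k w j ≠ 0 := by unfold zz; exact Complex.exp_ne_zero _
    have hi : (i : ℕ) ≤ r - 1 := by have := i.2; omega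
    have : r - 1 = (r - 1 - (i : ℕ)) + (i : ℕ) := by omega
    conv_rhs => rw [this, pow_add, mul_assoc, ← mul_pow, inv_mul_cancel₀ hz, one_pow, mul_one]
  rw [this, Matrix.det_mul_row, Matrix.det_transpose, Finset.prod_pow]

/-- the full summand equals `eps * FF`, provided the nodes `z_j` are distinct -/
theorem summand_eq (hr : 1 ≤ r) (lam lam' : Fin r → ℕ) (w : Fin r → ℕ)
    (hinj : Function.Injective (zz r k w)) :
    theta r k (∑ i, lam i + ∑ i, lam' i) w * (DD r k lam w / Delta r k w) *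
      (DD r k lam' w / Delta r k w) * ((PP r k w : ℝ) : ℂ) = eps r * FF r k lam lam' w := by
  have hV : (Matrix.vandermonde (zz r k w)).det ≠ 0 := Matrix.det_vandermonde_ne_zero_iff.mpr hinj
  have heps : eps r ≠ 0 := by
    intro h
    have := eps_mul_self r
    rw [h, mul_zero] at this
    exact zero_ne_one this
  rw [PP_eq, conj_Delta r k hr, Delta_eq]
  unfold FF
  have he2 := eps_mul_self r
  generalize theta r k (∑ i, lam i + ∑ i, lam' i) w = A
  generalize (∏ j, (zz r k w j)⁻¹) ^ (r - 1) = B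
  generalize DD r k lam w = D
  generalize DD r k lam' w = D'
  generalize (Matrix.vandermonde (zz r k w)).det = V at hV ⊢
  generalize eps r = e at heps he2 ⊢
  field_simp
  linear_combination (-(A * D * D' * B)) * he2

end

end Groth.Agent.H99.Verlinde
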