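import Groth.Agent.H99.VerlindeA

/-!
# Helper library for S19895, part B: symmetries of the simplified summand `FF`
-/

set_option autoImplicit false

namespace Groth.Agent.H99.Verlinde

open Finset

noncomputable section

variable (r k : ℕ)

theorem zz_ne_zero (w : Fin r → ℕ) (j : Fin r) : zz r k w j ≠ 0 := by
  unfold zz; exact Complex.exp_ne_zero _

theorem N_ne_zero (hr : 1 ≤ r) : ((r : ℂ) + k) ≠ 0 := by
  have : ((r + k : ℕ) : ℂ) ≠ 0 := by
    rw [Nat.cast_ne_zero]; omega
  simpa using this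

/-- distinct residues give distinct nodes -/
theorem zz_injective (hr : 1 ≤ r) (w : Fin r → ℕ) (hlt : ∀ j, w j < r + k)
    (hw : Function.Injective w) : Function.Injective (zz r k w) := by
  intro i j hij
  apply hw
  unfold zz at hij
  rw [Complex.exp_eq_exp_iff_exists_int] at hij
  obtain ⟨n, hn⟩ := hij
  have hN := N_ne_zero r k hr
  have hpi : (2 * (Real.pi : ℂ) * Complex.I) ≠ 0 := Complex.two_pi_I_ne_zero
  have h1 : (w i : ℂ) = (w j : ℂ) + n * ((r : ℂ) + k) := by
    field_simp at hn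
    linear_combination hn
  have h3 : (w i : ℤ) = (w j : ℤ) + n * ((r : ℤ) + k) := by
    have : (((w i : ℤ)) : ℂ) = (((w j : ℤ) + n * ((r : ℤ) + k) : ℤ) : ℂ) := by
      push_cast; exact h1
    exact_mod_cast this
  have hi := hlt i
  have hj := hlt j
  have hn0 : n = 0 := by
    by_contra hne
    rcases lt_or_gt_of_ne hne with h | h
    · have : n ≤ -1 := by omega
      have : n * ((r : ℤ) + k) ≤ -1 * ((r : ℤ) + k) :=
        mul_le_mul_of_nonneg_right this (by positivity)
      omega
    · have : 1 ≤ n := by omega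
      have : 1 * ((r : ℤ) + k) ≤ n * ((r : ℤ) + k) :=
        mul_le_mul_of_nonneg_right this (by positivity)
      omega
  rw [hn0, zero_mul, add_zero] at h3
  exact_mod_cast h3

/-- B1: symmetry under permutations of the variables -/
theorem FF_comp_perm (lam lam' : Fin r → ℕ) (w : Fin r → ℕ) (π : Equiv.Perm (Fin r)) :
    FF r k lam lam' (w ∘ π) = FF r k lam lam' w := by
  have hD : ∀ μ : Fin r → ℕ, DD r k μ (w ∘ π) = (Equiv.Perm.sign π : ℤ) * DD r k μ w := by
    intro μ
    unfold DD
    have : (Matrix.of fun i j : Fin r => zz r k (w ∘ π) j ^ (μ i + (r - 1 - (i : ℕ)))) =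
        (Matrix.of fun i j : Fin r => zz r k w j ^ (μ i + (r - 1 - (i : ℕ)))).submatrix id π := by
      ext i j
      rfl
    rw [this, Matrix.det_permute']
  have hth : ∀ t, theta r k t (w ∘ π) = theta r k t w := by
    intro t
    unfold theta
    have : ∑ j, (w ∘ π) j = ∑ j, w j := Equiv.sum_comp π w
    rw [this]
  have hprod : ∏ j, (zz r k (w ∘ π) j)⁻¹ = ∏ j, (zz r k w j)⁻¹ :=
    Equiv.prod_comp π (fun j => (zz r k w j)⁻¹)
  unfold FF
  rw [hD, hD, hth, hprod]
  have hs : ((Equiv.Perm.sign π : ℤ) : ℂ) * ((Equiv.Perm.sign π : ℤ) : ℂ) = 1 := by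
    rcases Int.units_eq_one_or (Equiv.Perm.sign π) with h | h <;> simp [h]
  linear_combination (theta r k (∑ i, lam i + ∑ i, lam' i) w * (∏ j, (zz r k w j)⁻¹) ^ (r - 1) *
    DD r k lam w * DD r k lam' w) * hs

/-- B3: vanishing when two nodes coincide -/
theorem FF_eq_zero_of_zz_eq (lam lam' : Fin r → ℕ) (w : Fin r → ℕ) (i j : Fin r) (hij : i ≠ j)
    (hz : zz r k w i = zz r k w j) : FF r k lam lam' w = 0 := by
  have : DD r k lam w = 0 := by
    unfold DD
    apply Matrix.det_zero_of_column_eq hij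
    intro l
    simp only [Matrix.of_apply, hz]
  unfold FF
  rw [this, mul_zero, zero_mul]

theorem FF_eq_zero_of_eq (lam lam' : Fin r → ℕ) (w : Fin r → ℕ) (i j : Fin r) (hij : i ≠ j)
    (hw : w i = w j) : FF r k lam lam' w = 0 := by
  apply FF_eq_zero_of_zz_eq r k lam lam' w i j hij
  unfold zz
  rw [hw]


theorem sum_staircase : (∑ i : Fin r, (r - 1 - (i : ℕ))) * 2 = r * (r - 1) := by
  rw [Fin.sum_univ_eq_sum_range (fun i => r - 1 - i) r, Finset.sum_range_reflect (fun i => i) r,
    Finset.sum_range_id_mul_two]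

theorem sum_exponents (lam lam' : Fin r → ℕ) :
    (∑ i : Fin r, (lam i + (r - 1 - (i : ℕ)))) + (∑ i : Fin r, (lam' i + (r - 1 - (i : ℕ)))) =
      (∑ i, lam i + ∑ i, lam' i) + r * (r - 1) := by
  have := sum_staircase r
  rw [Finset.sum_add_distrib, Finset.sum_add_distrib]
  omega

/-- B4: adding `N = r + k` to one variable multiplies `FF` by `exp(-2πi t/r)` -/
theorem FF_add_N (hr : 1 ≤ r) (lam lam' : Fin r → ℕ) (w w' : Fin r → ℕ) (j : Fin r)
    (hj : w' j = w j + (r + k)) (hne : ∀ i, i ≠ j → w' i = w i) :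
    FF r k lam lam' w' =
      Complex.exp (-(2 * Real.pi * Complex.I * ((∑ i, lam i + ∑ i, lam' i : ℕ) : ℂ) / (r : ℂ))) *
        FF r k lam lam' w := by
  have hN := N_ne_zero r k hr
  have hr0 : (r : ℂ) ≠ 0 := by
    rw [Nat.cast_ne_zero]; omega
  have hzz : zz r k w' = zz r k w := by
    funext i
    by_cases hi : i = j
    · subst hi
      unfold zz
      rw [hj]
      have : 2 * (Real.pi : ℂ) * Complex.I * ((w i + (r + k) : ℕ) : ℂ) / ((r : ℂ) + k) =
          2 * (Real.pi : ℂ) * Complex.I * (w i : ℂ) / ((r : ℂ) + k) + 2 * Real.pi * Complex.I := by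
        push_cast
        field_simp
      rw [this, Complex.exp_add, Complex.exp_two_pi_mul_I, mul_one]
    · unfold zz
      rw [hne i hi]
  have hsum : ∑ i, w' i = ∑ i, w i + (r + k) := by
    have : ∀ i, w' i = w i + if i = j then (r + k) else 0 := by
      intro i
      by_cases hi : i = j
      · subst hi; simp [hj]
      · simp [hi, hne i hi]
    simp_rw [this, Finset.sum_add_distrib, Finset.sum_ite_eq', Finset.mem_univ, if_true]
  have hD : ∀ μ : Fin r → ℕ, DD r k μ w' = DD r k μ w := by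
    intro μ; unfold DD; rw [hzz]
  have hth : ∀ t : ℕ, theta r k t w' =
      Complex.exp (-(2 * Real.pi * Complex.I * (t : ℂ) / (r : ℂ))) * theta r k t w := by
    intro t
    unfold theta
    rw [hsum, ← Complex.exp_add]
    congr 1
    push_cast
    field_simp
    ring
  unfold FF
  rw [hD, hD, hth, hzz]
  ring

/-- B2: invariance under adding a constant to all variables -/
theorem FF_add_const (hr : 1 ≤ r) (lam lam' : Fin r → ℕ) (w : Fin r → ℕ) (c : ℕ) :
    FF r k lam lam' (fun j => w j + c) = FF r k lam lam' w := by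
  have hN := N_ne_zero r k hr
  have hr0 : (r : ℂ) ≠ 0 := by
    rw [Nat.cast_ne_zero]; omega
  set y : ℂ := Complex.exp (2 * Real.pi * Complex.I * (c : ℂ) / ((r : ℂ) + k)) with hy
  have hy0 : y ≠ 0 := Complex.exp_ne_zero _
  have hzz : ∀ j, zz r k (fun j => w j + c) j = zz r k w j * y := by
    intro j
    unfold zz
    rw [hy, ← Complex.exp_add]
    congr 1
    push_cast
    ring
  have hD : ∀ μ : Fin r → ℕ, DD r k μ (fun j => w j + c) =
      y ^ (∑ i : Fin r, (μ i + (r - 1 - (i : ℕ)))) * DD r k μ w := by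
    intro μ
    unfold DD
    have : (Matrix.of fun i j : Fin r => zz r k (fun j => w j + c) j ^ (μ i + (r - 1 - (i : ℕ)))) =
        Matrix.of fun i j : Fin r => y ^ (μ i + (r - 1 - (i : ℕ))) *
          (Matrix.of fun i j : Fin r => zz r k w j ^ (μ i + (r - 1 - (i : ℕ)))) i j := by
      ext i j
      simp only [Matrix.of_apply, hzz, mul_pow]
      ring
    rw [this, Matrix.det_mul_column, Finset.prod_pow_eq_pow_sum]
  have hth : ∀ t : ℕ, theta r k t (fun j => w j + c) = (y⁻¹) ^ t * theta r k t w := by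
    intro t
    unfold theta
    have hs : ∑ j, (w j + c) = ∑ j, w j + r * c := by
      rw [Finset.sum_add_distrib, Finset.sum_const, Finset.card_univ, Fintype.card_fin, smul_eq_mul]
    rw [hs, hy, ← Complex.exp_neg, ← Complex.exp_nat_mul, ← Complex.exp_add]
    congr 1
    push_cast
    field_simp
    ring
  have hprod : ∏ j, (zz r k (fun j => w j + c) j)⁻¹ = (∏ j, (zz r k w j)⁻¹) * (y⁻¹) ^ r := by
    simp_rw [hzz, mul_inv, Finset.prod_mul_distrib, Finset.prod_const, Finset.card_univ,
      Fintype.card_fin]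
  have hkey : (y⁻¹) ^ (∑ i, lam i + ∑ i, lam' i) * ((y⁻¹) ^ r) ^ (r - 1) *
      (y ^ (∑ i : Fin r, (lam i + (r - 1 - (i : ℕ)))) *
        y ^ (∑ i : Fin r, (lam' i + (r - 1 - (i : ℕ))))) = 1 := by
    rw [← pow_add, sum_exponents, ← pow_mul, ← pow_add, ← mul_pow, inv_mul_cancel₀ hy0, one_pow]
  unfold FF
  rw [hD, hD, hth, hprod, mul_pow]
  linear_combination (theta r k (∑ i, lam i + ∑ i, lam' i) w * (∏ j, (zz r k w j)⁻¹) ^ (r - 1) *
    DD r k lam w * DD r k lam' w) * hkey

end

end Groth.Agent.H99.Verlinde
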