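import Groth.Agent.H99.VerlindeB

/-!
# Helper library for S19895, part C: the rotation argument (case `r ∤ t`)
-/

set_option autoImplicit false

namespace Groth.Agent.H99.Verlinde

open Finset

noncomputable section

variable (r k : ℕ)

/-- underlying natural numbers of a tuple -/
def ww (v : Fin r → Fin (r + k)) : Fin r → ℕ := fun j => (v j : ℕ)

/-- the index set of the Verlinde sum -/
def AA : Finset (Fin r → Fin (r + k)) :=
  Finset.univ.filter (fun v => StrictAnti v ∧ ∀ i : Fin r, (i : ℕ) = r - 1 → (v i : ℕ) = 0)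

theorem mem_AA (v : Fin r → Fin (r + k)) :
    v ∈ AA r k ↔ StrictAnti v ∧ ∀ i : Fin r, (i : ℕ) = r - 1 → (v i : ℕ) = 0 := by
  simp [AA]

/-- predecessor index (truncated) -/
def prv (i : Fin r) : Fin r := ⟨(i : ℕ) - 1, by have := i.2; omega⟩

/-- the rotated tuple before subtracting -/
def WW (v : Fin r → Fin (r + k)) (i : Fin r) : ℕ :=
  if (i : ℕ) = 0 then r + k else (v (prv r i) : ℕ)

/-- the second smallest entry -/
def mm (hr : 2 ≤ r) (v : Fin r → Fin (r + k)) : ℕ := (v ⟨r - 2, by omega⟩ : ℕ)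

/-- the rotation -/
def psi (hr : 2 ≤ r) (v : Fin r → Fin (r + k)) : Fin r → Fin (r + k) :=
  fun i => ⟨(WW r k v i - mm r k hr v) % (r + k), Nat.mod_lt _ (by omega)⟩

variable {r k}

theorem lt_of_mem_AA {v : Fin r → Fin (r + k)} (hv : v ∈ AA r k) {i j : Fin r} (hij : (i : ℕ) < j) :
    (v j : ℕ) < v i := by
  rw [mem_AA] at hv
  have : i < j := hij
  exact hv.1 this

theorem le_of_mem_AA {v : Fin r → Fin (r + k)} (hv : v ∈ AA r k) {i j : Fin r} (hij : (i : ℕ) ≤ j) :
    (v j : ℕ) ≤ v i := by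
  rcases Nat.lt_or_eq_of_le hij with h | h
  · exact (lt_of_mem_AA hv h).le
  · have : i = j := Fin.ext h
    rw [this]

theorem mm_pos (hr : 2 ≤ r) {v : Fin r → Fin (r + k)} (hv : v ∈ AA r k) : 0 < mm r k hr v := by
  unfold mm
  have h := lt_of_mem_AA hv (i := ⟨r - 2, by omega⟩) (j := ⟨r - 1, by omega⟩) (by simp; omega)
  omega

theorem mm_le_WW (hr : 2 ≤ r) {v : Fin r → Fin (r + k)} (hv : v ∈ AA r k) (i : Fin r) :
    mm r k hr v ≤ WW r k v i := by
  unfold WW mm
  split_ifs with h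
  · exact (v _).2.le
  · apply le_of_mem_AA hv
    simp only [prv]
    have := i.2
    omega

theorem WW_sub_lt (hr : 2 ≤ r) {v : Fin r → Fin (r + k)} (hv : v ∈ AA r k) (i : Fin r) :
    WW r k v i - mm r k hr v < r + k := by
  have hpos := mm_pos hr hv
  unfold WW
  split_ifs with h
  · omega
  · have := (v (prv r i)).2
    omega

theorem psi_add_mm (hr : 2 ≤ r) {v : Fin r → Fin (r + k)} (hv : v ∈ AA r k) (i : Fin r) :
    (psi r k hr v i : ℕ) + mm r k hr v = WW r k v i := by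
  unfold psi
  simp only
  rw [Nat.mod_eq_of_lt (WW_sub_lt hr hv i)]
  exact Nat.sub_add_cancel (mm_le_WW hr hv i)

theorem WW_strictAnti (hr : 2 ≤ r) {v : Fin r → Fin (r + k)} (hv : v ∈ AA r k) {i j : Fin r}
    (hij : (i : ℕ) < j) : WW r k v j < WW r k v i := by
  unfold WW
  have hj0 : (j : ℕ) ≠ 0 := by omega
  rw [if_neg hj0]
  split_ifs with h
  · exact (v _).2
  · apply lt_of_mem_AA hv
    simp only [prv]
    omega

theorem psi_mem_AA (hr : 2 ≤ r) {v : Fin r → Fin (r + k)} (hv : v ∈ AA r k) :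
    psi r k hr v ∈ AA r k := by
  rw [mem_AA]
  constructor
  · intro i j hij
    have h1 := psi_add_mm hr hv i
    have h2 := psi_add_mm hr hv j
    have h3 := WW_strictAnti hr hv (i := i) (j := j) hij
    change (psi r k hr v j : ℕ) < (psi r k hr v i : ℕ)
    omega
  · intro i hi
    have h1 := psi_add_mm hr hv i
    have : WW r k v i = mm r k hr v := by
      unfold WW mm
      have hi0 : (i : ℕ) ≠ 0 := by omega
      rw [if_neg hi0]
      congr 2
      simp only [prv]
      apply Fin.ext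
      simp only
      omega
    omega

theorem psi_injOn (hr : 2 ≤ r) : Set.InjOn (psi r k hr) (AA r k : Set (Fin r → Fin (r + k))) := by
  intro v hv v' hv' h
  have hv0 : v ∈ AA r k := hv
  have hv0' : v' ∈ AA r k := hv'
  have hval : ∀ i, WW r k v i - mm r k hr v = WW r k v' i - mm r k hr v' := by
    intro i
    have h1 := psi_add_mm hr hv0 i
    have h2 := psi_add_mm hr hv0' i
    have h3 : (psi r k hr v i : ℕ) = (psi r k hr v' i : ℕ) := by rw [h]
    omega
  have hm : mm r k hr v = mm r k hr v' := by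
    have h0 := hval ⟨0, by omega⟩
    have hl := mm_le_WW hr hv0 ⟨0, by omega⟩
    have hl' := mm_le_WW hr hv0' ⟨0, by omega⟩
    have hW : WW r k v ⟨0, by omega⟩ = r + k := by simp [WW]
    have hW' : WW r k v' ⟨0, by omega⟩ = r + k := by simp [WW]
    have hp := mm_pos hr hv0
    have hp' := mm_pos hr hv0'
    omega
  funext j
  apply Fin.ext
  by_cases hj : (j : ℕ) = r - 1
  · rw [mem_AA] at hv0 hv0'
    rw [hv0.2 j hj, hv0'.2 j hj]
  · have hjr := j.2
    have h1 := hval ⟨(j : ℕ) + 1, by omega⟩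
    have hl := mm_le_WW hr hv0 ⟨(j : ℕ) + 1, by omega⟩
    have hl' := mm_le_WW hr hv0' ⟨(j : ℕ) + 1, by omega⟩
    have hW : WW r k v ⟨(j : ℕ) + 1, by omega⟩ = (v j : ℕ) := by
      simp [WW, prv]
    have hW' : WW r k v' ⟨(j : ℕ) + 1, by omega⟩ = (v' j : ℕ) := by
      simp [WW, prv]
    omega

theorem sum_comp_psi (hr : 2 ≤ r) (G : (Fin r → Fin (r + k)) → ℂ) :
    ∑ v ∈ AA r k, G (psi r k hr v) = ∑ v ∈ AA r k, G v := by
  have himg : (AA r k).image (psi r k hr) = AA r k := by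
    apply Finset.eq_of_subset_of_card_le
    · intro x hx
      obtain ⟨v, hv, rfl⟩ := Finset.mem_image.mp hx
      exact psi_mem_AA hr hv
    · rw [Finset.card_image_of_injOn (psi_injOn hr)]
  conv_rhs => rw [← himg]
  rw [Finset.sum_image (psi_injOn hr)]


/-- the rotated tuple is a permutation of the tuple with `N` added to the last entry -/
theorem FF_WW (hr : 2 ≤ r) (lam lam' : Fin r → ℕ) {v : Fin r → Fin (r + k)} (hv : v ∈ AA r k) :
    FF r k lam lam' (WW r k v) =
      Complex.exp (-(2 * Real.pi * Complex.I * ((∑ i, lam i + ∑ i, lam' i : ℕ) : ℂ) / (r : ℂ))) *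
        FF r k lam lam' (ww r k v) := by
  obtain ⟨n, rfl⟩ : ∃ n, r = n + 1 := ⟨r - 1, by omega⟩
  -- the tuple with `N` added to the last entry
  let X : Fin (n + 1) → ℕ := fun i => if i = Fin.last n then (v i : ℕ) + (n + 1 + k) else (v i : ℕ)
  have hX : X = WW (n + 1) k v ∘ (finRotate (n + 1)) := by
    funext i
    simp only [X, Function.comp_apply, WW, finRotate_apply]
    by_cases hi : i = Fin.last n
    · subst hi
      rw [mem_AA] at hv
      have h0 := hv.2 (Fin.last n) (by simp)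
      simp [h0]
    · have hval : ((i + 1 : Fin (n + 1)) : ℕ) = (i : ℕ) + 1 := by
        rw [Fin.val_add_one, if_neg hi]
      rw [if_neg hi, if_neg (by rw [hval]; omega)]
      congr 2
      apply Fin.ext
      simp only [prv, hval]
      omega
  have h1 : FF (n + 1) k lam lam' X = FF (n + 1) k lam lam' (WW (n + 1) k v) := by
    rw [hX, FF_comp_perm]
  rw [← h1]
  apply FF_add_N (n + 1) k (by omega) lam lam' (ww (n + 1) k v) X (Fin.last n)
  · simp [X, ww]
  · intro i hi
    simp [X, ww, hi]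

theorem FF_psi (hr : 2 ≤ r) (lam lam' : Fin r → ℕ) {v : Fin r → Fin (r + k)} (hv : v ∈ AA r k) :
    FF r k lam lam' (ww r k (psi r k hr v)) =
      Complex.exp (-(2 * Real.pi * Complex.I * ((∑ i, lam i + ∑ i, lam' i : ℕ) : ℂ) / (r : ℂ))) *
        FF r k lam lam' (ww r k v) := by
  rw [← FF_WW hr lam lam' hv, ← FF_add_const r k (by omega) lam lam' (ww r k (psi r k hr v))
    (mm r k hr v)]
  congr 1
  funext j
  exact psi_add_mm hr hv j

/-- Case C: if `r ∤ t` the sum vanishes. -/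
theorem sum_AA_eq_zero_of_not_dvd (hr : 2 ≤ r) (lam lam' : Fin r → ℕ)
    (hnd : ¬ r ∣ (∑ i, lam i + ∑ i, lam' i)) :
    ∑ v ∈ AA r k, FF r k lam lam' (ww r k v) = 0 := by
  set θ₀ : ℂ :=
    Complex.exp (-(2 * Real.pi * Complex.I * ((∑ i, lam i + ∑ i, lam' i : ℕ) : ℂ) / (r : ℂ))) with hθ
  have hθ1 : θ₀ ≠ 1 := by
    intro h
    rw [hθ, Complex.exp_eq_one_iff] at h
    obtain ⟨n, hn⟩ := h
    apply hnd
    have hr0 : (r : ℂ) ≠ 0 := by
      rw [Nat.cast_ne_zero]; omega
    have hpi : (2 * (Real.pi : ℂ) * Complex.I) ≠ 0 := Complex.two_pi_I_ne_zero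
    have h1 : ((∑ i, lam i + ∑ i, lam' i : ℕ) : ℂ) = -(n : ℂ) * (r : ℂ) := by
      field_simp at hn
      linear_combination -hn
    have h3 : ((∑ i, lam i + ∑ i, lam' i : ℕ) : ℤ) = -n * (r : ℤ) := by
      have : ((((∑ i, lam i + ∑ i, lam' i : ℕ) : ℤ)) : ℂ) = ((-n * (r : ℤ) : ℤ) : ℂ) := by
        push_cast; push_cast at h1; exact h1
      exact_mod_cast this
    have : (r : ℤ) ∣ ((∑ i, lam i + ∑ i, lam' i : ℕ) : ℤ) := ⟨-n, by rw [h3]; ring⟩
    exact_mod_cast this
  have hS : ∑ v ∈ AA r k, FF r k lam lam' (ww r k v) =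
      θ₀ * ∑ v ∈ AA r k, FF r k lam lam' (ww r k v) := by
    conv_lhs => rw [← sum_comp_psi hr (fun v => FF r k lam lam' (ww r k v))]
    rw [Finset.mul_sum]
    exact Finset.sum_congr rfl fun v hv => FF_psi hr lam lam' hv
  have h2 : (1 - θ₀) * ∑ v ∈ AA r k, FF r k lam lam' (ww r k v) = 0 := by
    rw [sub_mul, one_mul, ← hS, sub_self]
  rcases mul_eq_zero.mp h2 with h | h
  · exact absurd (sub_eq_zero.mp h).symm hθ1
  · exact h

end

end Groth.Agent.H99.Verlinde
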