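import Groth.Agent.H99.VerlindeC

/-!
# Helper library for S19895, part D: the Fourier argument (case `r ∣ t`)
-/

set_option autoImplicit false

namespace Groth.Agent.H99.Verlinde

open Finset

/-- the combinatorial heart: a congruence solution forces the reversal pairing -/
theorem comb_key (r N : ℕ) (α β : Fin r → ℕ) (hα : StrictAnti α) (hβ : StrictAnti β)
    (hαN : ∀ i, α i < N) (hβN : ∀ i, β i < N) (σ τ : Equiv.Perm (Fin r)) (c : ℕ)
    (hsum : ∑ i, α i + ∑ i, β i = r * c)
    (hdvd : ∀ j, (N : ℤ) ∣ (α (σ j) : ℤ) + β (τ j) - c) :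
    ∀ i, α i + β (Fin.rev i) = c := by
  intro i₀
  have hN : 0 < N := lt_of_le_of_lt (Nat.zero_le _) (hαN i₀)
  have hNz : (0 : ℤ) < N := by exact_mod_cast hN
  choose q hq using hdvd
  -- the sum of the quotients vanishes
  have hqsum : ∑ j, q j = 0 := by
    have h1 : (N : ℤ) * ∑ j, q j = 0 := by
      rw [Finset.mul_sum]
      simp_rw [← hq]
      rw [Finset.sum_sub_distrib, Finset.sum_add_distrib]
      have h2 : ∑ j, (α (σ j) : ℤ) = ∑ j, (α j : ℤ) := Equiv.sum_comp σ (fun j => (α j : ℤ))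
      have h3 : ∑ j, (β (τ j) : ℤ) = ∑ j, (β j : ℤ) := Equiv.sum_comp τ (fun j => (β j : ℤ))
      rw [h2, h3]
      simp only [Finset.sum_const, Finset.card_univ, Fintype.card_fin, nsmul_eq_mul]
      have h4 : ((∑ i, α i + ∑ i, β i : ℕ) : ℤ) = ((r * c : ℕ) : ℤ) := by rw [hsum]
      push_cast at h4
      linarith
    rcases mul_eq_zero.mp h1 with h | h
    · omega
    · exact h
  -- the quotients differ by at most one
  have hdiff : ∀ i j, q i - q j ≤ 1 := by
    intro i j
    have h1 : (N : ℤ) * (q i - q j) < (N : ℤ) * 2 := by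
      rw [mul_sub, ← hq, ← hq]
      have := hαN (σ i)
      have := hβN (τ i)
      omega
    have := lt_of_mul_lt_mul_left h1 hNz.le
    omega
  have hq0 : ∀ j, q j = 0 := by
    intro j
    by_contra hne
    rcases lt_or_gt_of_ne hne with h | h
    · -- q j < 0: all are ≤ 0
      have hall : ∀ i ∈ (Finset.univ : Finset (Fin r)), q i ≤ 0 := by
        intro i _
        have := hdiff i j
        omega
      have h1 : ∑ i, q i ≤ q j := by
        rw [← Finset.add_sum_erase _ q (Finset.mem_univ j)]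
        have : ∑ x ∈ (Finset.univ : Finset (Fin r)).erase j, q x ≤ 0 :=
          Finset.sum_nonpos fun i _ => hall i (Finset.mem_univ i)
        omega
      omega
    · have hall : ∀ i ∈ (Finset.univ : Finset (Fin r)), 0 ≤ q i := by
        intro i _
        have := hdiff j i
        omega
      have h1 : q j ≤ ∑ i, q i := Finset.single_le_sum hall (Finset.mem_univ j)
      omega
  have heq : ∀ j, α (σ j) + β (τ j) = c := by
    intro j
    have := hq j
    rw [hq0 j, mul_zero] at this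
    omega
  -- the induced pairing
  have hπ : ∀ i, α i + β (τ (σ.symm i)) = c := by
    intro i
    have := heq (σ.symm i)
    rwa [Equiv.apply_symm_apply] at this
  have hanti : StrictAnti (fun i => τ (σ.symm i)) := by
    intro i i' hii'
    have h1 := hα hii'
    have h2 := hπ i
    have h3 := hπ i'
    have h4 : β (τ (σ.symm i)) < β (τ (σ.symm i')) := by omega
    exact (StrictAnti.lt_iff_gt hβ).mp h4
  have hmono : StrictMono (fun i => Fin.rev (τ (σ.symm i))) := by
    intro i i' hii'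
    exact Fin.rev_lt_rev.mpr (hanti hii')
  have hid : ∀ i, Fin.rev (τ (σ.symm i)) = i := by
    intro i
    exact le_antisymm hmono.apply_le hmono.le_apply
  have : τ (σ.symm i₀) = Fin.rev i₀ := by
    have h5 := congrArg Fin.rev (hid i₀)
    rwa [Fin.rev_rev] at h5
  rw [← this]
  exact hπ i₀

/-- for an injective tuple, exactly one permutation sorts it into strictly decreasing order -/
theorem strictAnti_comp_iff {n N : ℕ} (u : Fin n → Fin N) (hu : Function.Injective u)
    (π : Equiv.Perm (Fin n)) :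
    StrictAnti (u ∘ π) ↔ π = Tuple.sort (OrderDual.toDual ∘ u) := by
  constructor
  · intro h
    have hm : Monotone ((OrderDual.toDual ∘ u) ∘ π) := by
      have : Antitone (u ∘ π) := h.antitone
      exact monotone_toDual_comp_iff.mpr this
    have h2 := Tuple.comp_sort_eq_comp_iff_monotone.mpr hm
    apply Equiv.ext
    intro i
    have h3 := congrFun h2 i
    simp only [Function.comp_apply] at h3
    exact hu (OrderDual.toDual.injective h3)
  · rintro rfl
    have hm : Monotone ((OrderDual.toDual ∘ u) ∘ Tuple.sort (OrderDual.toDual ∘ u)) :=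
      Tuple.monotone_sort _
    have ha : Antitone (u ∘ Tuple.sort (OrderDual.toDual ∘ u)) :=
      monotone_toDual_comp_iff.mp hm
    exact ha.strictAnti_of_injective (hu.comp (Equiv.injective _))

/-- symmetrisation: a symmetric function vanishing on non-injective tuples sums to `n!` times its
sum over strictly decreasing tuples -/
theorem sym_sum {n N : ℕ} (h : (Fin n → Fin N) → ℂ)
    (hsymm : ∀ u (π : Equiv.Perm (Fin n)), h (u ∘ π) = h u)
    (hvan : ∀ u, ¬ Function.Injective u → h u = 0) :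
    ∑ u, h u = (n.factorial : ℂ) *
      ∑ u ∈ Finset.univ.filter (fun u : Fin n → Fin N => StrictAnti u), h u := by
  classical
  have key : ∀ u, h u = ∑ π : Equiv.Perm (Fin n), if StrictAnti (u ∘ π) then h u else 0 := by
    intro u
    by_cases hu : Function.Injective u
    · simp_rw [strictAnti_comp_iff u hu]
      rw [Finset.sum_ite_eq' Finset.univ (Tuple.sort (OrderDual.toDual ∘ u)) (fun _ => h u)]
      simp
    · simp [hvan u hu]
  calc ∑ u, h u = ∑ u, ∑ π : Equiv.Perm (Fin n), if StrictAnti (u ∘ π) then h u else 0 :=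
        Finset.sum_congr rfl fun u _ => key u
    _ = ∑ π : Equiv.Perm (Fin n), ∑ u : Fin n → Fin N, if StrictAnti (u ∘ π) then h u else 0 :=
        Finset.sum_comm
    _ = ∑ π : Equiv.Perm (Fin n), ∑ u : Fin n → Fin N, if StrictAnti u then h u else 0 := by
        refine Finset.sum_congr rfl fun π _ => ?_
        let e : (Fin n → Fin N) ≃ (Fin n → Fin N) :=
          { toFun := fun u => u ∘ π
            invFun := fun u => u ∘ π.symm
            left_inv := by intro u; ext i; simp
            right_inv := by intro u; ext i; simp }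
        have := Equiv.sum_comp e (fun u => if StrictAnti u then h u else 0)
        rw [← this]
        refine Finset.sum_congr rfl fun u _ => ?_
        change (if StrictAnti (u ∘ π) then h u else 0) = if StrictAnti (u ∘ π) then h (u ∘ π) else 0
        rw [hsymm]
    _ = (n.factorial : ℂ) *
          ∑ u ∈ Finset.univ.filter (fun u : Fin n → Fin N => StrictAnti u), h u := by
        rw [Finset.sum_const, Finset.card_univ, Fintype.card_perm, Fintype.card_fin,
          Finset.sum_filter, nsmul_eq_mul]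

/-- D1: the sum over `AA` vanishes as soon as all "slice sums" vanish -/
theorem sum_AA_of_slices (r k : ℕ) (hr : 1 ≤ r) (lam lam' : Fin r → ℕ)
    (hslice : ∀ i₀ : Fin r,
      ∑ v ∈ Finset.univ.filter (fun v : Fin r → Fin (r + k) => (v i₀ : ℕ) = 0),
        FF r k lam lam' (ww r k v) = 0) :
    ∑ v ∈ AA r k, FF r k lam lam' (ww r k v) = 0 := by
  classical
  set Fv : (Fin r → Fin (r + k)) → ℂ := fun v => FF r k lam lam' (ww r k v) with hFv
  set h : (Fin r → Fin (r + k)) → ℂ := fun v => if ∃ i, (v i : ℕ) = 0 then Fv v else 0 with hh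
  have hFsymm : ∀ u (π : Equiv.Perm (Fin r)), Fv (u ∘ π) = Fv u := by
    intro u π
    exact FF_comp_perm r k lam lam' (ww r k u) π
  have hFvan : ∀ u : Fin r → Fin (r + k), ¬ Function.Injective u → Fv u = 0 := by
    intro u hu
    rw [Function.Injective] at hu
    push Not at hu
    obtain ⟨i, j, hij, hne⟩ := hu
    apply FF_eq_zero_of_eq r k lam lam' (ww r k u) i j hne
    simp only [ww, hij]
  have hsymm : ∀ u (π : Equiv.Perm (Fin r)), h (u ∘ π) = h u := by
    intro u π
    simp only [hh, hFsymm]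
    have : (∃ i, ((u ∘ π) i : ℕ) = 0) ↔ ∃ i, (u i : ℕ) = 0 := by
      constructor
      · rintro ⟨i, hi⟩; exact ⟨π i, hi⟩
      · rintro ⟨i, hi⟩; exact ⟨π.symm i, by simpa using hi⟩
    rw [if_congr this rfl rfl]
  have hvan : ∀ u, ¬ Function.Injective u → h u = 0 := by
    intro u hu
    simp only [hh, hFvan u hu, ite_self]
  have hsym := sym_sum h hsymm hvan
  -- the sum over `AA` in terms of `h`
  have hA : ∑ v ∈ AA r k, Fv v =
      ∑ u ∈ Finset.univ.filter (fun u : Fin r → Fin (r + k) => StrictAnti u), h u := by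
    unfold AA
    rw [← Finset.filter_filter, Finset.sum_filter]
    refine Finset.sum_congr rfl fun u hu => ?_
    have hsa : StrictAnti u := (Finset.mem_filter.mp hu).2
    have : (∀ i : Fin r, (i : ℕ) = r - 1 → (u i : ℕ) = 0) ↔ ∃ i, (u i : ℕ) = 0 := by
      constructor
      · intro hall
        exact ⟨⟨r - 1, by omega⟩, hall _ rfl⟩
      · rintro ⟨i₁, hi₁⟩ i hi
        have hle : i₁ ≤ i := by
          apply Fin.mk_le_of_le_val
          have := i₁.2
          omega
        have := hsa.antitone hle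
        have h2 : (u i : ℕ) ≤ (u i₁ : ℕ) := this
        omega
    simp only [hh]
    rw [if_congr this rfl rfl]
  -- the total sum of `h` via slices
  have hall : ∑ u, h u = ∑ u : Fin r → Fin (r + k), ∑ i : Fin r,
      if (u i : ℕ) = 0 then Fv u else 0 := by
    refine Finset.sum_congr rfl fun u _ => ?_
    by_cases hF : Fv u = 0
    · simp [hh, hF]
    · have hinj : Function.Injective u := by
        by_contra hni
        exact hF (hFvan u hni)
      simp only [hh]
      by_cases hex : ∃ i, (u i : ℕ) = 0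
      · obtain ⟨i₁, hi₁⟩ := hex
        rw [if_pos ⟨i₁, hi₁⟩, Finset.sum_eq_single i₁]
        · rw [if_pos hi₁]
        · intro j _ hj
          rw [if_neg]
          intro hj0
          apply hj
          apply hinj
          apply Fin.ext
          rw [hj0, hi₁]
        · intro hni; exact absurd (Finset.mem_univ _) hni
      · rw [if_neg hex]
        push Not at hex
        symm
        apply Finset.sum_eq_zero
        intro i _
        rw [if_neg (hex i)]
  have hzero : ∑ u, h u = 0 := by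
    rw [hall, Finset.sum_comm]
    apply Finset.sum_eq_zero
    intro i _
    rw [← Finset.sum_filter]
    exact hslice i
  rw [hzero] at hsym
  have hfact : (r.factorial : ℂ) ≠ 0 := by
    exact_mod_cast Nat.factorial_ne_zero r
  change ∑ v ∈ AA r k, Fv v = 0
  rw [hA]
  rcases mul_eq_zero.mp hsym.symm with h0 | h0
  · exact absurd h0 hfact
  · exact h0

/-- D2b: a slice sum of a product of powers vanishes when some free factor is a nontrivial root
of unity -/
theorem slice_sum_eq_zero (r N : ℕ) (ξ : Fin r → ℂ) (i₀ j₁ : Fin r) (hj : j₁ ≠ i₀)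
    (hξ1 : ξ j₁ ≠ 1) (hξN : ξ j₁ ^ N = 1) :
    ∑ v ∈ Finset.univ.filter (fun v : Fin r → Fin N => (v i₀ : ℕ) = 0),
      ∏ j, ξ j ^ (v j : ℕ) = 0 := by
  classical
  by_cases hN : N = 0
  · subst hN
    apply Finset.sum_eq_zero
    intro v _
    exact (v i₀).elim0
  have hNpos : 0 < N := Nat.pos_of_ne_zero hN
  let t : Fin r → Finset (Fin N) := fun j => if j = i₀ then {⟨0, hNpos⟩} else Finset.univ
  have hfilter : Finset.univ.filter (fun v : Fin r → Fin N => (v i₀ : ℕ) = 0) =
      Fintype.piFinset t := by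
    ext v
    simp only [Finset.mem_filter, Finset.mem_univ, true_and, Fintype.mem_piFinset, t]
    constructor
    · intro h0 j
      by_cases hji : j = i₀
      · subst hji
        rw [if_pos rfl, Finset.mem_singleton]
        exact Fin.ext h0
      · rw [if_neg hji]; exact Finset.mem_univ _
    · intro hall
      have := hall i₀
      rw [if_pos rfl, Finset.mem_singleton] at this
      rw [this]
  rw [hfilter, ← Finset.prod_univ_sum t (fun j a => ξ j ^ (a : ℕ))]
  apply Finset.prod_eq_zero (Finset.mem_univ j₁)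
  simp only [t, if_neg hj]
  rw [Fin.sum_univ_eq_sum_range (fun a => ξ j₁ ^ a) N]
  have hgeom := geom_sum_mul (ξ j₁) N
  rw [hξN, sub_self] at hgeom
  rcases mul_eq_zero.mp hgeom with h | h
  · exact h
  · exact absurd (sub_eq_zero.mp h) hξ1

noncomputable section

/-- the basic root of unity -/
def zeta (r k : ℕ) : ℂ := Complex.exp (2 * Real.pi * Complex.I / ((r : ℂ) + k))

theorem zeta_ne_zero (r k : ℕ) : zeta r k ≠ 0 := Complex.exp_ne_zero _

theorem zeta_isPrimitiveRoot (r k : ℕ) (hr : 1 ≤ r) : IsPrimitiveRoot (zeta r k) (r + k) := by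
  have := Complex.isPrimitiveRoot_exp (r + k) (by omega)
  unfold zeta
  convert this using 3
  push_cast
  rfl

theorem zeta_pow_N (r k : ℕ) (hr : 1 ≤ r) : zeta r k ^ (r + k) = 1 :=
  (zeta_isPrimitiveRoot r k hr).pow_eq_one

theorem zz_eq_zeta_pow (r k : ℕ) (w : Fin r → ℕ) (j : Fin r) :
    zz r k w j = zeta r k ^ (w j) := by
  unfold zz zeta
  rw [← Complex.exp_nat_mul]
  congr 1
  ring

end

noncomputable section

/-- the exponents `μ_i + r - 1 - i` -/
def aexp (r : ℕ) (μ : Fin r → ℕ) (i : Fin r) : ℕ := μ i + (r - 1 - (i : ℕ))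

/-- the base of the `j`-th geometric progression in the `(σ, τ)` term -/
def xi (r k : ℕ) (lam lam' : Fin r → ℕ) (t' : ℕ) (σ τ : Equiv.Perm (Fin r)) (j : Fin r) : ℂ :=
  (zeta r k)⁻¹ ^ t' * (zeta r k)⁻¹ ^ (r - 1) * zeta r k ^ (aexp r lam (σ j)) *
    zeta r k ^ (aexp r lam' (τ j))

theorem DD_expand (r k : ℕ) (μ : Fin r → ℕ) (w : Fin r → ℕ) :
    DD r k μ w = ∑ σ : Equiv.Perm (Fin r), ((Equiv.Perm.sign σ : ℤ) : ℂ) *
      ∏ j, (zeta r k ^ (aexp r μ (σ j))) ^ (w j) := by
  unfold DD
  rw [Matrix.det_apply']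
  refine Finset.sum_congr rfl fun σ _ => ?_
  congr 1
  refine Finset.prod_congr rfl fun j _ => ?_
  simp only [Matrix.of_apply, zz_eq_zeta_pow, aexp]
  rw [← pow_mul, ← pow_mul, mul_comm]

theorem theta_expand (r k : ℕ) (hr : 1 ≤ r) (t' : ℕ) (w : Fin r → ℕ) :
    theta r k (r * t') w = ∏ j, ((zeta r k)⁻¹ ^ t') ^ (w j) := by
  have hN := N_ne_zero r k hr
  have hr0 : (r : ℂ) ≠ 0 := by
    rw [Nat.cast_ne_zero]; omega
  simp_rw [← pow_mul]
  rw [Finset.prod_pow_eq_pow_sum, ← Finset.mul_sum]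
  unfold theta zeta
  rw [← Complex.exp_neg, ← Complex.exp_nat_mul]
  congr 1
  push_cast
  field_simp

theorem prod_inv_expand (r k : ℕ) (w : Fin r → ℕ) :
    (∏ j, (zz r k w j)⁻¹) ^ (r - 1) = ∏ j, ((zeta r k)⁻¹ ^ (r - 1)) ^ (w j) := by
  rw [← Finset.prod_pow]
  refine Finset.prod_congr rfl fun j _ => ?_
  rw [zz_eq_zeta_pow, ← inv_pow, ← pow_mul, ← pow_mul, mul_comm]

/-- D2a: the Fourier expansion of the summand when `t = r t'` -/
theorem FF_expand (r k : ℕ) (hr : 1 ≤ r) (lam lam' : Fin r → ℕ) (t' : ℕ)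
    (ht : ∑ i, lam i + ∑ i, lam' i = r * t') (w : Fin r → ℕ) :
    FF r k lam lam' w = ∑ σ : Equiv.Perm (Fin r), ∑ τ : Equiv.Perm (Fin r),
      (((Equiv.Perm.sign σ : ℤ) : ℂ) * ((Equiv.Perm.sign τ : ℤ) : ℂ)) *
        ∏ j, (xi r k lam lam' t' σ τ j) ^ (w j) := by
  unfold FF
  rw [ht, theta_expand r k hr, prod_inv_expand, DD_expand, DD_expand, mul_assoc _ (∑ σ, _) (∑ τ, _),
    Finset.sum_mul_sum, Finset.mul_sum]
  refine Finset.sum_congr rfl fun σ _ => ?_
  rw [Finset.mul_sum]
  refine Finset.sum_congr rfl fun τ _ => ?_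
  have : ∏ j, (xi r k lam lam' t' σ τ j) ^ (w j) =
      (∏ j, ((zeta r k)⁻¹ ^ t') ^ (w j)) * (∏ j, ((zeta r k)⁻¹ ^ (r - 1)) ^ (w j)) *
        (∏ j, (zeta r k ^ (aexp r lam (σ j))) ^ (w j)) *
        (∏ j, (zeta r k ^ (aexp r lam' (τ j))) ^ (w j)) := by
    rw [← Finset.prod_mul_distrib, ← Finset.prod_mul_distrib, ← Finset.prod_mul_distrib]
    refine Finset.prod_congr rfl fun j _ => ?_
    unfold xi
    rw [mul_pow, mul_pow, mul_pow]
  rw [this]
  ring

end

noncomputable section

theorem xi_pow_N (r k : ℕ) (hr : 1 ≤ r) (lam lam' : Fin r → ℕ) (t' : ℕ)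
    (σ τ : Equiv.Perm (Fin r)) (j : Fin r) : xi r k lam lam' t' σ τ j ^ (r + k) = 1 := by
  have hz := zeta_pow_N r k hr
  have h1 : ∀ a : ℕ, (zeta r k ^ a) ^ (r + k) = 1 := by
    intro a
    rw [← pow_mul, mul_comm, pow_mul, hz, one_pow]
  have h2 : ∀ a : ℕ, ((zeta r k)⁻¹ ^ a) ^ (r + k) = 1 := by
    intro a
    rw [inv_pow, inv_pow, h1, inv_one]
  unfold xi
  rw [mul_pow, mul_pow, mul_pow, h1, h1, h2, h2]
  ring

theorem aexp_strictAnti (r : ℕ) (μ : Fin r → ℕ) (hμ : Antitone μ) : StrictAnti (aexp r μ) := by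
  intro i j hij
  have h1 : μ j ≤ μ i := hμ hij.le
  have h2 : (i : ℕ) < j := hij
  have := j.2
  unfold aexp
  omega

theorem aexp_lt (r k : ℕ) (μ : Fin r → ℕ) (hμk : ∀ i, μ i ≤ k) (i : Fin r) :
    aexp r μ i < r + k := by
  have := hμk i
  have := i.2
  unfold aexp
  omega

/-- D2c: in every `(σ, τ)` term some free factor is a nontrivial root of unity -/
theorem exists_xi_ne_one (r k : ℕ) (hr : 1 ≤ r) (lam lam' : Fin r → ℕ)
    (hlam : Antitone lam) (hlamk : ∀ i, lam i ≤ k)
    (hlam' : Antitone lam') (hlam'k : ∀ i, lam' i ≤ k)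
    (hne : ¬ ∃ a : ℤ, ∀ i, (lam i : ℤ) - ((k - lam' (Fin.rev i) : ℕ) : ℤ) = a)
    (t' : ℕ) (ht : ∑ i, lam i + ∑ i, lam' i = r * t')
    (σ τ : Equiv.Perm (Fin r)) (i₀ : Fin r) :
    ∃ j₁, j₁ ≠ i₀ ∧ xi r k lam lam' t' σ τ j₁ ≠ 1 := by
  by_contra hcon
  push Not at hcon
  have hz := zeta_ne_zero r k
  have hS : ∑ i, aexp r lam i + ∑ i, aexp r lam' i = t' * r + (r - 1) * r := by
    have := sum_exponents r lam lam'
    unfold aexp
    rw [this, ht]
    ring
  have hprod : ∏ j, xi r k lam lam' t' σ τ j = 1 := by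
    unfold xi
    rw [Finset.prod_mul_distrib, Finset.prod_mul_distrib, Finset.prod_mul_distrib,
      Finset.prod_const, Finset.prod_const, Finset.card_univ, Fintype.card_fin,
      Finset.prod_pow_eq_pow_sum, Finset.prod_pow_eq_pow_sum,
      Equiv.sum_comp σ (aexp r lam), Equiv.sum_comp τ (aexp r lam'), ← pow_mul, ← pow_mul,
      ← pow_add, mul_assoc, ← pow_add, hS, ← mul_pow, inv_mul_cancel₀ hz, one_pow]
  have hxi0 : xi r k lam lam' t' σ τ i₀ = 1 := by
    rw [← hprod]
    symm
    apply Finset.prod_eq_single i₀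
    · intro j _ hj
      exact hcon j hj
    · intro h; exact absurd (Finset.mem_univ _) h
  have hall : ∀ j, xi r k lam lam' t' σ τ j = 1 := by
    intro j
    by_cases hj : j = i₀
    · rw [hj]; exact hxi0
    · exact hcon j hj
  have hdvd : ∀ j, ((r + k : ℕ) : ℤ) ∣
      (aexp r lam (σ j) : ℤ) + (aexp r lam' (τ j) : ℤ) - ((t' + (r - 1) : ℕ) : ℤ) := by
    intro j
    have h1 : zeta r k ^ (aexp r lam (σ j) + aexp r lam' (τ j)) = zeta r k ^ (t' + (r - 1)) := by
      have h := hall j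
      unfold xi at h
      calc zeta r k ^ (aexp r lam (σ j) + aexp r lam' (τ j))
          = zeta r k ^ t' * zeta r k ^ (r - 1) * ((zeta r k)⁻¹ ^ t' * (zeta r k)⁻¹ ^ (r - 1) *
              zeta r k ^ (aexp r lam (σ j)) * zeta r k ^ (aexp r lam' (τ j))) := by
            rw [inv_pow, inv_pow, pow_add]
            field_simp
        _ = zeta r k ^ (t' + (r - 1)) := by rw [h, mul_one, pow_add]
    rw [← (zeta_isPrimitiveRoot r k hr).zpow_eq_one_iff_dvd]
    have : ((aexp r lam (σ j) : ℤ) + (aexp r lam' (τ j) : ℤ) - ((t' + (r - 1) : ℕ) : ℤ)) =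
        ((aexp r lam (σ j) + aexp r lam' (τ j) : ℕ) : ℤ) - ((t' + (r - 1) : ℕ) : ℤ) := by
      push_cast; ring
    rw [this, zpow_sub₀ hz, zpow_natCast, zpow_natCast, h1, div_self (pow_ne_zero _ hz)]
  have hkey := comb_key r (r + k) (aexp r lam) (aexp r lam') (aexp_strictAnti r lam hlam)
    (aexp_strictAnti r lam' hlam') (aexp_lt r k lam hlamk) (aexp_lt r k lam' hlam'k) σ τ
    (t' + (r - 1)) (by rw [hS]; ring) hdvd
  apply hne
  refine ⟨(t' : ℤ) - k, fun i => ?_⟩
  have h := hkey i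
  unfold aexp at h
  rw [Fin.val_rev] at h
  have h1 := hlam'k (Fin.rev i)
  have h2 := i.2
  rw [Nat.cast_sub h1]
  have h3 : lam i + lam' (Fin.rev i) = t' := by omega
  have h4 : ((lam i + lam' (Fin.rev i) : ℕ) : ℤ) = (t' : ℤ) := by rw [h3]
  push_cast at h4
  linarith

/-- D2: all slice sums vanish when `r ∣ t` -/
theorem slice_eq_zero (r k : ℕ) (hr : 1 ≤ r) (lam lam' : Fin r → ℕ)
    (hlam : Antitone lam) (hlamk : ∀ i, lam i ≤ k)
    (hlam' : Antitone lam') (hlam'k : ∀ i, lam' i ≤ k)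
    (hne : ¬ ∃ a : ℤ, ∀ i, (lam i : ℤ) - ((k - lam' (Fin.rev i) : ℕ) : ℤ) = a)
    (t' : ℕ) (ht : ∑ i, lam i + ∑ i, lam' i = r * t') (i₀ : Fin r) :
    ∑ v ∈ Finset.univ.filter (fun v : Fin r → Fin (r + k) => (v i₀ : ℕ) = 0),
      FF r k lam lam' (ww r k v) = 0 := by
  simp_rw [FF_expand r k hr lam lam' t' ht]
  rw [Finset.sum_comm]
  apply Finset.sum_eq_zero
  intro σ _
  rw [Finset.sum_comm]
  apply Finset.sum_eq_zero
  intro τ _
  rw [← Finset.mul_sum]
  obtain ⟨j₁, hj₁, hξ⟩ := exists_xi_ne_one r k hr lam lam' hlam hlamk hlam' hlam'k hne t' ht σ τ i₀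
  have := slice_sum_eq_zero r (r + k) (xi r k lam lam' t' σ τ) i₀ j₁ hj₁ hξ
    (xi_pow_N r k hr lam lam' t' σ τ j₁)
  unfold ww
  rw [this, mul_zero]

/-- Case D: if `r ∣ t` the sum vanishes. -/
theorem sum_AA_eq_zero_of_dvd (r k : ℕ) (hr : 1 ≤ r) (lam lam' : Fin r → ℕ)
    (hlam : Antitone lam) (hlamk : ∀ i, lam i ≤ k)
    (hlam' : Antitone lam') (hlam'k : ∀ i, lam' i ≤ k)
    (hne : ¬ ∃ a : ℤ, ∀ i, (lam i : ℤ) - ((k - lam' (Fin.rev i) : ℕ) : ℤ) = a)
    (hd : r ∣ (∑ i, lam i + ∑ i, lam' i)) :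
    ∑ v ∈ AA r k, FF r k lam lam' (ww r k v) = 0 := by
  obtain ⟨t', ht⟩ := hd
  exact sum_AA_of_slices r k hr lam lam'
    (slice_eq_zero r k hr lam lam' hlam hlamk hlam' hlam'k hne t' ht)

end

end Groth.Agent.H99.Verlinde
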