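import Groth.Agent.H99.VerlindeD

/-!
# Helper library for Verlinde rows, part E: exact evaluation (the case "number equals 1")
-/

set_option autoImplicit false

namespace Groth.Agent.H99.Verlinde

open Finset

/-- equality version of `sum_AA_of_slices` -/
theorem factorial_mul_sum_AA (r k : ℕ) (hr : 1 ≤ r) (lam lam' : Fin r → ℕ) :
    (r.factorial : ℂ) * ∑ v ∈ AA r k, FF r k lam lam' (ww r k v) =
      ∑ i₀ : Fin r, ∑ v ∈ Finset.univ.filter (fun v : Fin r → Fin (r + k) => (v i₀ : ℕ) = 0),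
        FF r k lam lam' (ww r k v) := by
  classical
  set Fv : (Fin r → Fin (r + k)) → ℂ := fun v => FF r k lam lam' (ww r k v) with hFv
  set h : (Fin r → Fin (r + k)) → ℂ := fun v => if ∃ i, (v i : ℕ) = 0 then Fv v else 0 with hh
  have hFsymm : ∀ u (π : Equiv.Perm (Fin r)), Fv (u ∘ π) = Fv u := by
    intro u π
    exact FF_comp_perm r k lam lam' (ww r k u) π
  have hFvan : ∀ u : Fin r → Fin (r + k), ¬ Function.Injective u → Fv u = 0 := by
    intro u hu
    rw [Function.Injective] at hu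
    push Not at hu
    obtain ⟨i, j, hij, hne⟩ := hu
    apply FF_eq_zero_of_eq r k lam lam' (ww r k u) i j hne
    simp only [ww, hij]
  have hsymm : ∀ u (π : Equiv.Perm (Fin r)), h (u ∘ π) = h u := by
    intro u π
    simp only [hh, hFsymm]
    have : (∃ i, ((u ∘ π) i : ℕ) = 0) ↔ ∃ i, (u i : ℕ) = 0 := by
      constructor
      · rintro ⟨i, hi⟩; exact ⟨π i, hi⟩
      · rintro ⟨i, hi⟩; exact ⟨π.symm i, by simpa using hi⟩
    rw [if_congr this rfl rfl]
  have hvan : ∀ u, ¬ Function.Injective u → h u = 0 := by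
    intro u hu
    simp only [hh, hFvan u hu, ite_self]
  have hsym := sym_sum h hsymm hvan
  have hA : ∑ v ∈ AA r k, Fv v =
      ∑ u ∈ Finset.univ.filter (fun u : Fin r → Fin (r + k) => StrictAnti u), h u := by
    unfold AA
    rw [← Finset.filter_filter, Finset.sum_filter]
    refine Finset.sum_congr rfl fun u hu => ?_
    have hsa : StrictAnti u := (Finset.mem_filter.mp hu).2
    have : (∀ i : Fin r, (i : ℕ) = r - 1 → (u i : ℕ) = 0) ↔ ∃ i, (u i : ℕ) = 0 := by
      constructor
      · intro hall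
        exact ⟨⟨r - 1, by omega⟩, hall _ rfl⟩
      · rintro ⟨i₁, hi₁⟩ i hi
        have hle : i₁ ≤ i := by
          apply Fin.mk_le_of_le_val
          have := i₁.2
          omega
        have := hsa.antitone hle
        have h2 : (u i : ℕ) ≤ (u i₁ : ℕ) := this
        omega
    simp only [hh]
    rw [if_congr this rfl rfl]
  have hall : ∑ u, h u = ∑ u : Fin r → Fin (r + k), ∑ i : Fin r,
      if (u i : ℕ) = 0 then Fv u else 0 := by
    refine Finset.sum_congr rfl fun u _ => ?_
    by_cases hF : Fv u = 0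
    · simp [hh, hF]
    · have hinj : Function.Injective u := by
        by_contra hni
        exact hF (hFvan u hni)
      simp only [hh]
      by_cases hex : ∃ i, (u i : ℕ) = 0
      · obtain ⟨i₁, hi₁⟩ := hex
        rw [if_pos ⟨i₁, hi₁⟩, Finset.sum_eq_single i₁]
        · rw [if_pos hi₁]
        · intro j _ hj
          rw [if_neg]
          intro hj0
          apply hj
          apply hinj
          apply Fin.ext
          rw [hj0, hi₁]
        · intro hni; exact absurd (Finset.mem_univ _) hni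
      · rw [if_neg hex]
        push Not at hex
        symm
        apply Finset.sum_eq_zero
        intro i _
        rw [if_neg (hex i)]
  change (r.factorial : ℂ) * ∑ v ∈ AA r k, Fv v = _
  rw [hA, ← hsym, hall, Finset.sum_comm]
  refine Finset.sum_congr rfl fun i _ => ?_
  rw [← Finset.sum_filter]

/-- variant of `comb_key` that identifies the pairing permutation -/
theorem comb_key' (r N : ℕ) (α β : Fin r → ℕ) (hα : StrictAnti α) (hβ : StrictAnti β)
    (hαN : ∀ i, α i < N) (hβN : ∀ i, β i < N) (σ τ : Equiv.Perm (Fin r)) (c : ℕ)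
    (hsum : ∑ i, α i + ∑ i, β i = r * c)
    (hdvd : ∀ j, (N : ℤ) ∣ (α (σ j) : ℤ) + β (τ j) - c) :
    ∀ j, τ j = Fin.rev (σ j) := by
  intro j₀
  have hN : 0 < N := lt_of_le_of_lt (Nat.zero_le _) (hαN j₀)
  have hNz : (0 : ℤ) < N := by exact_mod_cast hN
  choose q hq using hdvd
  have hqsum : ∑ j, q j = 0 := by
    have h1 : (N : ℤ) * ∑ j, q j = 0 := by
      rw [Finset.mul_sum]
      simp_rw [← hq]
      rw [Finset.sum_sub_distrib, Finset.sum_add_distrib]
      have h2 : ∑ j, (α (σ j) : ℤ) = ∑ j, (α j : ℤ) := Equiv.sum_comp σ (fun j => (α j : ℤ))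
      have h3 : ∑ j, (β (τ j) : ℤ) = ∑ j, (β j : ℤ) := Equiv.sum_comp τ (fun j => (β j : ℤ))
      rw [h2, h3]
      simp only [Finset.sum_const, Finset.card_univ, Fintype.card_fin, nsmul_eq_mul]
      have h4 : ((∑ i, α i + ∑ i, β i : ℕ) : ℤ) = ((r * c : ℕ) : ℤ) := by rw [hsum]
      push_cast at h4
      linarith
    rcases mul_eq_zero.mp h1 with h | h
    · omega
    · exact h
  have hdiff : ∀ i j, q i - q j ≤ 1 := by
    intro i j
    have h1 : (N : ℤ) * (q i - q j) < (N : ℤ) * 2 := by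
      rw [mul_sub, ← hq, ← hq]
      have := hαN (σ i)
      have := hβN (τ i)
      omega
    have := lt_of_mul_lt_mul_left h1 hNz.le
    omega
  have hq0 : ∀ j, q j = 0 := by
    intro j
    by_contra hne
    rcases lt_or_gt_of_ne hne with h | h
    · have hall : ∀ i ∈ (Finset.univ : Finset (Fin r)), q i ≤ 0 := by
        intro i _
        have := hdiff i j
        omega
      have h1 : ∑ i, q i ≤ q j := by
        rw [← Finset.add_sum_erase _ q (Finset.mem_univ j)]
        have : ∑ x ∈ (Finset.univ : Finset (Fin r)).erase j, q x ≤ 0 :=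
          Finset.sum_nonpos fun i _ => hall i (Finset.mem_univ i)
        omega
      omega
    · have hall : ∀ i ∈ (Finset.univ : Finset (Fin r)), 0 ≤ q i := by
        intro i _
        have := hdiff j i
        omega
      have h1 : q j ≤ ∑ i, q i := Finset.single_le_sum hall (Finset.mem_univ j)
      omega
  have heq : ∀ j, α (σ j) + β (τ j) = c := by
    intro j
    have := hq j
    rw [hq0 j, mul_zero] at this
    omega
  have hπ : ∀ i, α i + β (τ (σ.symm i)) = c := by
    intro i
    have := heq (σ.symm i)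
    rwa [Equiv.apply_symm_apply] at this
  have hanti : StrictAnti (fun i => τ (σ.symm i)) := by
    intro i i' hii'
    have h1 := hα hii'
    have h2 := hπ i
    have h3 := hπ i'
    have h4 : β (τ (σ.symm i)) < β (τ (σ.symm i')) := by omega
    exact (StrictAnti.lt_iff_gt hβ).mp h4
  have hmono : StrictMono (fun i => Fin.rev (τ (σ.symm i))) := by
    intro i i' hii'
    exact Fin.rev_lt_rev.mpr (hanti hii')
  have hid : ∀ i, Fin.rev (τ (σ.symm i)) = i := by
    intro i
    exact le_antisymm hmono.apply_le hmono.le_apply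
  have h5 := congrArg Fin.rev (hid (σ j₀))
  rw [Fin.rev_rev, Equiv.symm_apply_apply] at h5
  exact h5

/-- the slice sum when all bases are `1`: a count -/
theorem slice_sum_eq_card (r N : ℕ) (hNpos : 0 < N) (ξ : Fin r → ℂ) (i₀ : Fin r)
    (hξ : ∀ j, ξ j = 1) :
    ∑ v ∈ Finset.univ.filter (fun v : Fin r → Fin N => (v i₀ : ℕ) = 0),
      ∏ j, ξ j ^ (v j : ℕ) = (N : ℂ) ^ (r - 1) := by
  classical
  let t : Fin r → Finset (Fin N) := fun j => if j = i₀ then {⟨0, hNpos⟩} else Finset.univ
  have hfilter : Finset.univ.filter (fun v : Fin r → Fin N => (v i₀ : ℕ) = 0) =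
      Fintype.piFinset t := by
    ext v
    simp only [Finset.mem_filter, Finset.mem_univ, true_and, Fintype.mem_piFinset, t]
    constructor
    · intro h0 j
      by_cases hji : j = i₀
      · subst hji
        rw [if_pos rfl, Finset.mem_singleton]
        exact Fin.ext h0
      · rw [if_neg hji]; exact Finset.mem_univ _
    · intro hall
      have := hall i₀
      rw [if_pos rfl, Finset.mem_singleton] at this
      rw [this]
  rw [hfilter, ← Finset.prod_univ_sum t (fun j a => ξ j ^ (a : ℕ))]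
  simp_rw [hξ, one_pow, Finset.sum_const, nsmul_eq_mul, mul_one]
  have hcard : ∀ j, ((t j).card : ℂ) = if j = i₀ then 1 else (N : ℂ) := by
    intro j
    by_cases hji : j = i₀
    · simp [t, hji]
    · simp [t, hji]
  simp_rw [hcard]
  rw [Finset.prod_ite, Finset.prod_const_one, one_mul, Finset.prod_const]
  congr 1
  rw [Finset.filter_ne' Finset.univ i₀, Finset.card_erase_of_mem (Finset.mem_univ _),
    Finset.card_univ, Fintype.card_fin]

noncomputable section

theorem xi_all_one_of_offdiag (r k : ℕ) (lam lam' : Fin r → ℕ) (t' : ℕ)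
    (ht : ∑ i, lam i + ∑ i, lam' i = r * t') (σ τ : Equiv.Perm (Fin r)) (i₀ : Fin r)
    (hcon : ∀ j, j ≠ i₀ → xi r k lam lam' t' σ τ j = 1) :
    ∀ j, xi r k lam lam' t' σ τ j = 1 := by
  have hz := zeta_ne_zero r k
  have hS : ∑ i, aexp r lam i + ∑ i, aexp r lam' i = t' * r + (r - 1) * r := by
    have := sum_exponents r lam lam'
    unfold aexp
    rw [this, ht]
    ring
  have hprod : ∏ j, xi r k lam lam' t' σ τ j = 1 := by
    unfold xi
    rw [Finset.prod_mul_distrib, Finset.prod_mul_distrib, Finset.prod_mul_distrib,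
      Finset.prod_const, Finset.prod_const, Finset.card_univ, Fintype.card_fin,
      Finset.prod_pow_eq_pow_sum, Finset.prod_pow_eq_pow_sum,
      Equiv.sum_comp σ (aexp r lam), Equiv.sum_comp τ (aexp r lam'), ← pow_mul, ← pow_mul,
      ← pow_add, mul_assoc, ← pow_add, hS, ← mul_pow, inv_mul_cancel₀ hz, one_pow]
  have hxi0 : xi r k lam lam' t' σ τ i₀ = 1 := by
    rw [← hprod]
    symm
    apply Finset.prod_eq_single i₀
    · intro j _ hj
      exact hcon j hj
    · intro h; exact absurd (Finset.mem_univ _) h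
  intro j
  by_cases hj : j = i₀
  · rw [hj]; exact hxi0
  · exact hcon j hj

theorem rev_of_xi_eq_one (r k : ℕ) (hr : 1 ≤ r) (lam lam' : Fin r → ℕ)
    (hlam : Antitone lam) (hlamk : ∀ i, lam i ≤ k)
    (hlam' : Antitone lam') (hlam'k : ∀ i, lam' i ≤ k)
    (t' : ℕ) (ht : ∑ i, lam i + ∑ i, lam' i = r * t')
    (σ τ : Equiv.Perm (Fin r)) (hall : ∀ j, xi r k lam lam' t' σ τ j = 1) :
    ∀ j, τ j = Fin.rev (σ j) := by
  have hz := zeta_ne_zero r k
  have hS : ∑ i, aexp r lam i + ∑ i, aexp r lam' i = t' * r + (r - 1) * r := by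
    have := sum_exponents r lam lam'
    unfold aexp
    rw [this, ht]
    ring
  have hdvd : ∀ j, ((r + k : ℕ) : ℤ) ∣
      (aexp r lam (σ j) : ℤ) + (aexp r lam' (τ j) : ℤ) - ((t' + (r - 1) : ℕ) : ℤ) := by
    intro j
    have h1 : zeta r k ^ (aexp r lam (σ j) + aexp r lam' (τ j)) = zeta r k ^ (t' + (r - 1)) := by
      have h := hall j
      unfold xi at h
      calc zeta r k ^ (aexp r lam (σ j) + aexp r lam' (τ j))
          = zeta r k ^ t' * zeta r k ^ (r - 1) * ((zeta r k)⁻¹ ^ t' * (zeta r k)⁻¹ ^ (r - 1) *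
              zeta r k ^ (aexp r lam (σ j)) * zeta r k ^ (aexp r lam' (τ j))) := by
            rw [inv_pow, inv_pow, pow_add]
            field_simp
        _ = zeta r k ^ (t' + (r - 1)) := by rw [h, mul_one, pow_add]
    rw [← (zeta_isPrimitiveRoot r k hr).zpow_eq_one_iff_dvd]
    have : ((aexp r lam (σ j) : ℤ) + (aexp r lam' (τ j) : ℤ) - ((t' + (r - 1) : ℕ) : ℤ)) =
        ((aexp r lam (σ j) + aexp r lam' (τ j) : ℕ) : ℤ) - ((t' + (r - 1) : ℕ) : ℤ) := by
      push_cast; ring
    rw [this, zpow_sub₀ hz, zpow_natCast, zpow_natCast, h1, div_self (pow_ne_zero _ hz)]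
  exact comb_key' r (r + k) (aexp r lam) (aexp r lam') (aexp_strictAnti r lam hlam)
    (aexp_strictAnti r lam' hlam') (aexp_lt r k lam hlamk) (aexp_lt r k lam' hlam'k) σ τ
    (t' + (r - 1)) (by rw [hS]; ring) hdvd

theorem xi_eq_one_of_rev (r k : ℕ) (lam lam' : Fin r → ℕ) (t' : ℕ)
    (hpair : ∀ i, lam i + lam' (Fin.rev i) = t')
    (σ τ : Equiv.Perm (Fin r)) (j : Fin r) (hτ : τ j = Fin.rev (σ j)) :
    xi r k lam lam' t' σ τ j = 1 := by
  have hz := zeta_ne_zero r k
  unfold xi
  rw [hτ, mul_assoc, ← pow_add, ← pow_add, inv_pow]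
  have : aexp r lam (σ j) + aexp r lam' (Fin.rev (σ j)) = t' + (r - 1) := by
    have h1 := hpair (σ j)
    have h2 := (σ j).2
    unfold aexp
    rw [Fin.val_rev]
    omega
  rw [this, inv_mul_cancel₀ (pow_ne_zero _ hz)]

/-- exact evaluation of a slice in the dual-pair case -/
theorem slice_eq_of_pair (r k : ℕ) (hr : 1 ≤ r) (lam lam' : Fin r → ℕ)
    (hlam : Antitone lam) (hlamk : ∀ i, lam i ≤ k)
    (hlam' : Antitone lam') (hlam'k : ∀ i, lam' i ≤ k)
    (t' : ℕ) (ht : ∑ i, lam i + ∑ i, lam' i = r * t')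
    (hpair : ∀ i, lam i + lam' (Fin.rev i) = t') (i₀ : Fin r) :
    ∑ v ∈ Finset.univ.filter (fun v : Fin r → Fin (r + k) => (v i₀ : ℕ) = 0),
      FF r k lam lam' (ww r k v) = (r.factorial : ℂ) * (eps r * ((r : ℂ) + k) ^ (r - 1)) := by
  classical
  simp_rw [FF_expand r k hr lam lam' t' ht]
  rw [Finset.sum_comm]
  have hσ : ∀ σ : Equiv.Perm (Fin r),
      ∑ v ∈ Finset.univ.filter (fun v : Fin r → Fin (r + k) => (v i₀ : ℕ) = 0),
        ∑ τ : Equiv.Perm (Fin r), (((Equiv.Perm.sign σ : ℤ) : ℂ) * ((Equiv.Perm.sign τ : ℤ) : ℂ)) *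
          ∏ j, (xi r k lam lam' t' σ τ j) ^ (ww r k v j) = eps r * ((r : ℂ) + k) ^ (r - 1) := by
    intro σ
    rw [Finset.sum_comm]
    rw [Finset.sum_eq_single (σ.trans Fin.revPerm)]
    · rw [← Finset.mul_sum]
      have h1 : ∀ j, xi r k lam lam' t' σ (σ.trans Fin.revPerm) j = 1 := by
        intro j
        apply xi_eq_one_of_rev r k lam lam' t' hpair
        simp
      have h2 := slice_sum_eq_card r (r + k) (by omega) (xi r k lam lam' t' σ (σ.trans Fin.revPerm))
        i₀ h1
      unfold ww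
      rw [h2, Equiv.Perm.sign_trans]
      have hs : ((Equiv.Perm.sign σ : ℤ) : ℂ) * ((Equiv.Perm.sign σ : ℤ) : ℂ) = 1 := by
        rcases Int.units_eq_one_or (Equiv.Perm.sign σ) with h | h <;> simp [h]
      unfold eps
      push_cast
      linear_combination (((Equiv.Perm.sign (Fin.revPerm : Equiv.Perm (Fin r)) : ℤ) : ℂ) *
        ((r : ℂ) + k) ^ (r - 1)) * hs
    · intro τ _ hτ
      rw [← Finset.mul_sum]
      have : ∃ j₁, j₁ ≠ i₀ ∧ xi r k lam lam' t' σ τ j₁ ≠ 1 := by
        by_contra hcon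
        push Not at hcon
        have hall := xi_all_one_of_offdiag r k lam lam' t' ht σ τ i₀ hcon
        have hrev := rev_of_xi_eq_one r k hr lam lam' hlam hlamk hlam' hlam'k t' ht σ τ hall
        apply hτ
        apply Equiv.ext
        intro j
        rw [hrev j]
        simp
      obtain ⟨j₁, hj₁, hξ⟩ := this
      have := slice_sum_eq_zero r (r + k) (xi r k lam lam' t' σ τ) i₀ j₁ hj₁ hξ
        (xi_pow_N r k hr lam lam' t' σ τ j₁)
      unfold ww
      rw [this, mul_zero]
    · intro h; exact absurd (Finset.mem_univ _) h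
  rw [Finset.sum_congr rfl fun σ _ => hσ σ, Finset.sum_const, Finset.card_univ, Fintype.card_perm,
    Fintype.card_fin, nsmul_eq_mul]

/-- exact evaluation of the sum over `AA` in the dual-pair case -/
theorem sum_AA_eq_of_pair (r k : ℕ) (hr : 1 ≤ r) (lam lam' : Fin r → ℕ)
    (hlam : Antitone lam) (hlamk : ∀ i, lam i ≤ k)
    (hlam' : Antitone lam') (hlam'k : ∀ i, lam' i ≤ k)
    (t' : ℕ) (hpair : ∀ i, lam i + lam' (Fin.rev i) = t') :
    ∑ v ∈ AA r k, FF r k lam lam' (ww r k v) = eps r * ((r : ℂ) * ((r : ℂ) + k) ^ (r - 1)) := by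
  have ht : ∑ i, lam i + ∑ i, lam' i = r * t' := by
    have h1 : ∑ i, lam' (Fin.rev i) = ∑ i, lam' i := Equiv.sum_comp Fin.revPerm lam'
    rw [← h1, ← Finset.sum_add_distrib]
    simp_rw [hpair]
    simp
  have h := factorial_mul_sum_AA r k hr lam lam'
  simp_rw [slice_eq_of_pair r k hr lam lam' hlam hlamk hlam' hlam'k t' ht hpair] at h
  rw [Finset.sum_const, Finset.card_univ, Fintype.card_fin, nsmul_eq_mul] at h
  have hfact : (r.factorial : ℂ) ≠ 0 := by exact_mod_cast Nat.factorial_ne_zero r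
  have : (r.factorial : ℂ) * ∑ v ∈ AA r k, FF r k lam lam' (ww r k v) =
      (r.factorial : ℂ) * (eps r * ((r : ℂ) * ((r : ℂ) + k) ^ (r - 1))) := by
    rw [h]; ring
  exact mul_left_cancel₀ hfact this

end

end Groth.Agent.H99.Verlinde
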