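import Groth.Agent.H99.VerlindeE

/-!
# Helper library for Verlinde rows, part F: the dual orthogonality (sum over weights)
-/

set_option autoImplicit false

namespace Groth.Agent.H99.Verlinde

open Finset

/-- strictly decreasing natural-number tuples drop by at least the index gap -/
theorem strictAnti_gap {r : ℕ} (a : Fin r → ℕ) (ha : StrictAnti a) :
    ∀ (d : ℕ) (i j : Fin r), (j : ℕ) = (i : ℕ) + d → a j + d ≤ a i := by
  intro d
  induction d with
  | zero =>
    intro i j hij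
    have : i = j := Fin.ext (by omega)
    rw [this]
    omega
  | succ d ih =>
    intro i j hij
    have hj := j.2
    let j' : Fin r := ⟨(j : ℕ) - 1, by omega⟩
    have h1 : a j < a j' := ha (by
      change (j' : ℕ) < (j : ℕ)
      simp only [j']
      omega)
    have h2 := ih i j' (by simp only [j']; omega)
    omega

noncomputable section

/-- the generalized Vandermonde determinant `det (z_j ^ a_i)` -/
def EE (r : ℕ) (z : Fin r → ℂ) (a : Fin r → ℕ) : ℂ :=
  (Matrix.of fun i j : Fin r => z j ^ (a i)).det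

theorem EE_comp_perm (r : ℕ) (z : Fin r → ℂ) (a : Fin r → ℕ) (π : Equiv.Perm (Fin r)) :
    EE r z (a ∘ π) = ((Equiv.Perm.sign π : ℤ) : ℂ) * EE r z a := by
  unfold EE
  have : (Matrix.of fun i j : Fin r => z j ^ ((a ∘ π) i)) =
      (Matrix.of fun i j : Fin r => z j ^ (a i)).submatrix π id := by
    ext i j; rfl
  rw [this, Matrix.det_permute]

theorem EE_eq_zero_of_eq (r : ℕ) (z : Fin r → ℂ) (a : Fin r → ℕ) (i j : Fin r) (hij : i ≠ j)
    (h : a i = a j) : EE r z a = 0 := by
  unfold EE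
  apply Matrix.det_zero_of_row_eq hij
  funext l
  simp only [Matrix.of_apply, h]

theorem EE_expand (r : ℕ) (z : Fin r → ℂ) (a : Fin r → ℕ) :
    EE r z a = ∑ σ : Equiv.Perm (Fin r), ((Equiv.Perm.sign σ : ℤ) : ℂ) * ∏ i, (z (σ i)) ^ (a i) := by
  unfold EE
  rw [← Matrix.det_transpose, Matrix.det_apply']
  rfl

theorem conj_EE_expand (r : ℕ) (z : Fin r → ℂ) (hz : ∀ j, (starRingEnd ℂ) (z j) = (z j)⁻¹)
    (a : Fin r → ℕ) :
    (starRingEnd ℂ) (EE r z a) =
      ∑ τ : Equiv.Perm (Fin r), ((Equiv.Perm.sign τ : ℤ) : ℂ) * ∏ i, ((z (τ i))⁻¹) ^ (a i) := by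
  rw [EE_expand, map_sum]
  refine Finset.sum_congr rfl fun τ _ => ?_
  rw [map_mul, map_prod]
  congr 1
  · simp
  · refine Finset.prod_congr rfl fun i _ => ?_
    rw [map_pow, hz]

/-- the Gram-type matrix `C j j' = ∑_{a < M} (z_j / z_j')^a` -/
def CC (r M : ℕ) (z : Fin r → ℂ) : Matrix (Fin r) (Fin r) ℂ :=
  Matrix.of fun j j' => ∑ a ∈ Finset.range M, (z j * (z j')⁻¹) ^ a

/-- (3): the full sum of `|E(a)|²` is `r! det C` -/
theorem sum_EE_mul_conj (r M : ℕ) (z : Fin r → ℂ) (hz : ∀ j, (starRingEnd ℂ) (z j) = (z j)⁻¹) :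
    ∑ a : Fin r → Fin M, EE r z (fun i => (a i : ℕ)) *
        (starRingEnd ℂ) (EE r z (fun i => (a i : ℕ))) =
      (r.factorial : ℂ) * (CC r M z).det := by
  simp_rw [conj_EE_expand r z hz, EE_expand, Finset.sum_mul_sum]
  rw [Finset.sum_comm]
  have hσ : ∀ σ : Equiv.Perm (Fin r),
      ∑ a : Fin r → Fin M, ∑ τ : Equiv.Perm (Fin r),
        (((Equiv.Perm.sign σ : ℤ) : ℂ) * ∏ i, (z (σ i)) ^ ((a i : ℕ))) *
          (((Equiv.Perm.sign τ : ℤ) : ℂ) * ∏ i, ((z (τ i))⁻¹) ^ ((a i : ℕ))) = (CC r M z).det := by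
    intro σ
    rw [Finset.sum_comm]
    have hτ : ∀ τ : Equiv.Perm (Fin r),
        ∑ a : Fin r → Fin M,
          (((Equiv.Perm.sign σ : ℤ) : ℂ) * ∏ i, (z (σ i)) ^ ((a i : ℕ))) *
            (((Equiv.Perm.sign τ : ℤ) : ℂ) * ∏ i, ((z (τ i))⁻¹) ^ ((a i : ℕ))) =
          ((Equiv.Perm.sign σ : ℤ) : ℂ) * (((Equiv.Perm.sign τ : ℤ) : ℂ) *
            ∏ i, CC r M z (σ i) (τ i)) := by
      intro τ
      have h1 : ∀ a : Fin r → Fin M,
          (((Equiv.Perm.sign σ : ℤ) : ℂ) * ∏ i, (z (σ i)) ^ ((a i : ℕ))) *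
            (((Equiv.Perm.sign τ : ℤ) : ℂ) * ∏ i, ((z (τ i))⁻¹) ^ ((a i : ℕ))) =
          (((Equiv.Perm.sign σ : ℤ) : ℂ) * ((Equiv.Perm.sign τ : ℤ) : ℂ)) *
            ∏ i, (z (σ i) * (z (τ i))⁻¹) ^ ((a i : ℕ)) := by
        intro a
        simp_rw [mul_pow]
        rw [Finset.prod_mul_distrib]
        ring
      simp_rw [h1]
      rw [← Finset.mul_sum, mul_assoc]
      congr 2
      have h2 := Finset.prod_univ_sum (fun _ : Fin r => (Finset.univ : Finset (Fin M)))
        (fun i (a : Fin M) => (z (σ i) * (z (τ i))⁻¹) ^ (a : ℕ))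
      rw [Fintype.piFinset_univ] at h2
      rw [← h2]
      refine Finset.prod_congr rfl fun i _ => ?_
      unfold CC
      rw [Matrix.of_apply, Fin.sum_univ_eq_sum_range (fun a => (z (σ i) * (z (τ i))⁻¹) ^ a) M]
    simp_rw [hτ]
    rw [← Finset.mul_sum]
    have h3 : ∑ τ : Equiv.Perm (Fin r), ((Equiv.Perm.sign τ : ℤ) : ℂ) * ∏ i, CC r M z (σ i) (τ i) =
        ((CC r M z).submatrix σ id).det := by
      rw [← Matrix.det_transpose, Matrix.det_apply']
      rfl
    rw [h3, Matrix.det_permute, ← mul_assoc]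
    have hs : ((Equiv.Perm.sign σ : ℤ) : ℂ) * ((Equiv.Perm.sign σ : ℤ) : ℂ) = 1 := by
      rcases Int.units_eq_one_or (Equiv.Perm.sign σ) with h | h <;> simp [h]
    rw [hs, one_mul]
  rw [Finset.sum_congr rfl fun σ _ => hσ σ, Finset.sum_const, Finset.card_univ, Fintype.card_perm,
    Fintype.card_fin, nsmul_eq_mul]

/-- (4): the determinant of the Gram-type matrix -/
theorem det_CC (r k : ℕ) (hr : 1 ≤ r) (z : Fin r → ℂ) (hzN : ∀ j, z j ^ (r + k) = 1)
    (hinj : Function.Injective z) :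
    (CC r (r + k - 1) z).det = (k : ℂ) * ((r : ℂ) + k) ^ (r - 1) := by
  have hNne : ((r : ℂ) + k) ≠ 0 := N_ne_zero r k hr
  have hz0 : ∀ j, z j ≠ 0 := by
    intro j h0
    have := hzN j
    rw [h0, zero_pow (by omega)] at this
    exact zero_ne_one this
  have hentry : ∀ j j', CC r (r + k - 1) z j j' =
      if j = j' then ((r : ℂ) + k - 1) else -((z j)⁻¹ * z j') := by
    intro j j'
    unfold CC
    rw [Matrix.of_apply]
    by_cases hjj : j = j'
    · subst hjj
      rw [if_pos rfl, mul_inv_cancel₀ (hz0 j)]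
      simp only [one_pow, Finset.sum_const, Finset.card_range, nsmul_eq_mul, mul_one]
      rw [Nat.cast_sub (by omega)]
      push_cast
      ring
    · rw [if_neg hjj]
      set ρ : ℂ := z j * (z j')⁻¹ with hρ
      have hρ1 : ρ ≠ 1 := by
        intro h
        apply hjj
        apply hinj
        have : z j = ρ * z j' := by
          rw [hρ, mul_assoc, inv_mul_cancel₀ (hz0 j'), mul_one]
        rw [this, h, one_mul]
      have hρN : ρ ^ (r + k) = 1 := by
        rw [hρ, mul_pow, inv_pow, hzN, hzN, inv_one, mul_one]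
      have hgeom := geom_sum_mul ρ (r + k)
      rw [hρN, sub_self] at hgeom
      have hsum0 : ∑ a ∈ Finset.range (r + k), ρ ^ a = 0 := by
        rcases mul_eq_zero.mp hgeom with h | h
        · exact h
        · exact absurd (sub_eq_zero.mp h) hρ1
      have hsplit : r + k = (r + k - 1) + 1 := by omega
      rw [hsplit, Finset.sum_range_succ] at hsum0
      have hρinv : ρ ^ (r + k - 1) = (z j)⁻¹ * z j' := by
        have h1 : ρ ^ (r + k - 1) * ρ = 1 := by
          rw [← pow_succ, ← hsplit, hρN]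
        have hρ0 : ρ ≠ 0 := by
          rw [hρ]; exact mul_ne_zero (hz0 j) (inv_ne_zero (hz0 j'))
        have h2 : ρ ^ (r + k - 1) = ρ⁻¹ := eq_inv_of_mul_eq_one_left h1
        rw [h2, hρ, mul_inv, inv_inv, mul_comm]
      rw [← hρinv]
      linear_combination hsum0
  have hC : CC r (r + k - 1) z = ((r : ℂ) + k) •
      (1 + Matrix.replicateCol Unit (fun j => -((z j)⁻¹ / ((r : ℂ) + k))) *
        Matrix.replicateRow Unit z) := by
    ext j j'
    rw [hentry]
    simp only [Matrix.smul_apply, Matrix.add_apply, Matrix.mul_apply, Matrix.replicateCol_apply,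
      Matrix.replicateRow_apply, Finset.univ_unique, Finset.sum_singleton, smul_eq_mul,
      Matrix.one_apply]
    by_cases hjj : j = j'
    · subst hjj
      rw [if_pos rfl, if_pos rfl]
      have := hz0 j
      field_simp
      ring
    · rw [if_neg hjj, if_neg hjj]
      have := hz0 j
      field_simp
      ring
  rw [hC, Matrix.det_smul, Matrix.det_one_add_replicateCol_mul_replicateRow, Fintype.card_fin]
  have hdot : z ⬝ᵥ (fun j => -((z j)⁻¹ / ((r : ℂ) + k))) = -((r : ℂ) / ((r : ℂ) + k)) := by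
    simp only [dotProduct]
    have : ∀ j, z j * -((z j)⁻¹ / ((r : ℂ) + k)) = -(1 / ((r : ℂ) + k)) := by
      intro j
      have := hz0 j
      field_simp
    simp_rw [this]
    rw [Finset.sum_const, Finset.card_univ, Fintype.card_fin, nsmul_eq_mul]
    ring
  rw [hdot]
  have hpow : ((r : ℂ) + k) ^ r = ((r : ℂ) + k) ^ (r - 1) * ((r : ℂ) + k) := by
    rw [← pow_succ]
    congr 1
    omega
  rw [hpow]
  field_simp
  ring

/-- weights to strictly decreasing exponents -/
def toA (r k : ℕ) (μ : Fin r → Fin k) : Fin r → Fin (r + k - 1) :=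
  fun j => ⟨(μ j : ℕ) + (r - 1 - (j : ℕ)), by have := (μ j).2; have := j.2; omega⟩

/-- strictly decreasing exponents back to weights (total version) -/
def toMu (r k : ℕ) (hk : 0 < k) (a : Fin r → Fin (r + k - 1)) : Fin r → Fin k :=
  fun j => ⟨((a j : ℕ) - (r - 1 - (j : ℕ))) % k, Nat.mod_lt _ hk⟩

theorem toA_strictAnti (r k : ℕ) (μ : Fin r → Fin k) (hμ : Antitone μ) : StrictAnti (toA r k μ) := by
  intro i j hij
  have h1 : (μ j : ℕ) ≤ (μ i : ℕ) := hμ hij.le
  have h2 : (i : ℕ) < j := hij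
  have := j.2
  change (toA r k μ j : ℕ) < (toA r k μ i : ℕ)
  simp only [toA]
  omega

theorem bounds_of_strictAnti (r k : ℕ) (a : Fin r → Fin (r + k - 1)) (ha : StrictAnti a)
    (j : Fin r) : (r - 1 - (j : ℕ)) ≤ (a j : ℕ) ∧ (a j : ℕ) - (r - 1 - (j : ℕ)) < k := by
  have hj := j.2
  have ha' : StrictAnti (fun i => (a i : ℕ)) := fun i i' h => ha h
  have h1 := strictAnti_gap (fun i => (a i : ℕ)) ha' (r - 1 - (j : ℕ)) j ⟨r - 1, by omega⟩
    (by simp only; omega)
  have h2 := strictAnti_gap (fun i => (a i : ℕ)) ha' (j : ℕ) ⟨0, by omega⟩ j (by simp)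
  have h3 := (a ⟨0, by omega⟩).2
  constructor
  · omega
  · omega

theorem toMu_val (r k : ℕ) (hk : 0 < k) (a : Fin r → Fin (r + k - 1)) (ha : StrictAnti a)
    (j : Fin r) : (toMu r k hk a j : ℕ) = (a j : ℕ) - (r - 1 - (j : ℕ)) := by
  simp only [toMu]
  exact Nat.mod_eq_of_lt (bounds_of_strictAnti r k a ha j).2

theorem toMu_antitone (r k : ℕ) (hk : 0 < k) (a : Fin r → Fin (r + k - 1)) (ha : StrictAnti a) :
    Antitone (toMu r k hk a) := by
  intro i j hij
  change (toMu r k hk a j : ℕ) ≤ (toMu r k hk a i : ℕ)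
  rw [toMu_val r k hk a ha, toMu_val r k hk a ha]
  have ha' : StrictAnti (fun i => (a i : ℕ)) := fun i i' h => ha h
  have hij' : (i : ℕ) ≤ j := hij
  have h1 := strictAnti_gap (fun i => (a i : ℕ)) ha' ((j : ℕ) - (i : ℕ)) i j (by omega)
  have h2 := (bounds_of_strictAnti r k a ha j).1
  have h3 := (bounds_of_strictAnti r k a ha i).1
  have := j.2
  omega

/-- (1): reindexing antitone weights by strictly decreasing exponents -/
theorem sum_antitone_eq_sum_strictAnti (r k : ℕ) (hk : 0 < k) (f : (Fin r → ℕ) → ℂ) :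
    ∑ μ ∈ (Finset.univ : Finset (Fin r → Fin k)).filter (fun μ => Antitone μ),
      f (aexp r (fun i => (μ i : ℕ))) =
    ∑ a ∈ (Finset.univ : Finset (Fin r → Fin (r + k - 1))).filter (fun a => StrictAnti a),
      f (fun i => (a i : ℕ)) := by
  refine Finset.sum_bij' (fun μ _ => toA r k μ) (fun a _ => toMu r k hk a) ?_ ?_ ?_ ?_ ?_
  · intro μ hμ
    simp only [Finset.mem_filter, Finset.mem_univ, true_and] at hμ ⊢
    exact toA_strictAnti r k μ hμ
  · intro a ha
    simp only [Finset.mem_filter, Finset.mem_univ, true_and] at ha ⊢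
    exact toMu_antitone r k hk a ha
  · intro μ hμ
    funext j
    apply Fin.ext
    simp only [toMu, toA]
    rw [Nat.add_sub_cancel]
    exact Nat.mod_eq_of_lt (μ j).2
  · intro a ha
    simp only [Finset.mem_filter, Finset.mem_univ, true_and] at ha
    funext j
    apply Fin.ext
    simp only [toA]
    rw [toMu_val r k hk a ha]
    have := (bounds_of_strictAnti r k a ha j).1
    omega
  · intro μ hμ
    rfl

/-- (1)+(2)+(3)+(4): the sum of `|E|²` over antitone weights -/
theorem sum_antitone_EE (r k : ℕ) (hr : 1 ≤ r) (hk : 0 < k) (z : Fin r → ℂ)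
    (hzc : ∀ j, (starRingEnd ℂ) (z j) = (z j)⁻¹) (hzN : ∀ j, z j ^ (r + k) = 1)
    (hinj : Function.Injective z) :
    ∑ μ ∈ (Finset.univ : Finset (Fin r → Fin k)).filter (fun μ => Antitone μ),
      EE r z (aexp r (fun i => (μ i : ℕ))) *
        (starRingEnd ℂ) (EE r z (aexp r (fun i => (μ i : ℕ)))) =
      (k : ℂ) * ((r : ℂ) + k) ^ (r - 1) := by
  rw [sum_antitone_eq_sum_strictAnti r k hk (fun a => EE r z a * (starRingEnd ℂ) (EE r z a))]
  set h : (Fin r → Fin (r + k - 1)) → ℂ := fun a =>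
    EE r z (fun i => (a i : ℕ)) * (starRingEnd ℂ) (EE r z (fun i => (a i : ℕ))) with hh
  have hsymm : ∀ a (π : Equiv.Perm (Fin r)), h (a ∘ π) = h a := by
    intro a π
    simp only [hh]
    have : (fun i => (((a ∘ π) i : Fin (r + k - 1)) : ℕ)) = (fun i => (a i : ℕ)) ∘ π := rfl
    rw [this, EE_comp_perm, map_mul]
    have hs : ((Equiv.Perm.sign π : ℤ) : ℂ) * (starRingEnd ℂ) ((Equiv.Perm.sign π : ℤ) : ℂ) = 1 := by
      rcases Int.units_eq_one_or (Equiv.Perm.sign π) with h | h <;> simp [h]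
    linear_combination (EE r z (fun i => (a i : ℕ)) *
      (starRingEnd ℂ) (EE r z (fun i => (a i : ℕ)))) * hs
  have hvan : ∀ a, ¬ Function.Injective a → h a = 0 := by
    intro a ha
    rw [Function.Injective] at ha
    push Not at ha
    obtain ⟨i, j, hij, hne⟩ := ha
    simp only [hh]
    rw [EE_eq_zero_of_eq r z (fun i => (a i : ℕ)) i j hne (by simp only [hij]), zero_mul]
  have hsym := sym_sum h hsymm hvan
  have hfull := sum_EE_mul_conj r (r + k - 1) z hzc
  rw [det_CC r k hr z hzN hinj] at hfull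
  have hfact : (r.factorial : ℂ) ≠ 0 := by exact_mod_cast Nat.factorial_ne_zero r
  have : (r.factorial : ℂ) * ∑ a ∈ (Finset.univ : Finset (Fin r → Fin (r + k - 1))).filter
      (fun a => StrictAnti a), h a = (r.factorial : ℂ) * ((k : ℂ) * ((r : ℂ) + k) ^ (r - 1)) := by
    rw [← hsym, ← hfull]
  exact mul_left_cancel₀ hfact this

theorem zz_pow_N (r k : ℕ) (hr : 1 ≤ r) (w : Fin r → ℕ) (j : Fin r) :
    zz r k w j ^ (r + k) = 1 := by
  rw [zz_eq_zeta_pow, ← pow_mul, mul_comm, pow_mul, zeta_pow_N r k hr, one_pow]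

/-- (5): the determinant of the dual weight is the conjugate, up to explicit factors -/
theorem EE_dual (r k : ℕ) (hr : 1 ≤ r) (z : Fin r → ℂ)
    (hzc : ∀ j, (starRingEnd ℂ) (z j) = (z j)⁻¹) (hzN : ∀ j, z j ^ (r + k) = 1)
    (μ : Fin r → Fin k) :
    EE r z (aexp r (fun i => k - (μ (Fin.rev i) : ℕ))) =
      eps r * (∏ j, (z j)⁻¹) * (starRingEnd ℂ) (EE r z (aexp r (fun i => (μ i : ℕ)))) := by
  have hz0 : ∀ j, z j ≠ 0 := by
    intro j h0
    have := hzN j
    rw [h0, zero_pow (by omega)] at this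
    exact zero_ne_one this
  unfold EE
  rw [RingHom.map_det]
  have hmat : (Matrix.of fun i j : Fin r => z j ^ (aexp r (fun i => k - (μ (Fin.rev i) : ℕ)) i)) =
      Matrix.of fun i j : Fin r => (z j)⁻¹ *
        (((starRingEnd ℂ).mapMatrix
          (Matrix.of fun i j : Fin r => z j ^ (aexp r (fun i => (μ i : ℕ)) i))).submatrix
            (Fin.revPerm : Equiv.Perm (Fin r)) id) i j := by
    ext i j
    simp only [Matrix.of_apply, Matrix.submatrix_apply, RingHom.mapMatrix_apply, Matrix.map_apply,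
      id_eq, Fin.revPerm_apply, map_pow, hzc]
    have hμ := (μ (Fin.rev i)).2
    have hi := i.2
    have hsum : aexp r (fun i => k - (μ (Fin.rev i) : ℕ)) i + 1 +
        aexp r (fun i => (μ i : ℕ)) (Fin.rev i) = r + k := by
      simp only [aexp, Fin.val_rev]
      omega
    have h1 : z j ^ (aexp r (fun i => k - (μ (Fin.rev i) : ℕ)) i) * z j *
        z j ^ (aexp r (fun i => (μ i : ℕ)) (Fin.rev i)) = 1 := by
      rw [← pow_succ, ← pow_add, hsum, hzN]
    have h2 := hz0 j
    rw [inv_pow]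
    field_simp
    linear_combination h1
  rw [hmat, Matrix.det_mul_row, Matrix.det_permute]
  unfold eps
  ring

/-- the dual orthogonality relation in terms of `DD` and `Delta` -/
theorem sum_antitone_DD (r k : ℕ) (hr : 1 ≤ r) (hk : 0 < k) (v : Fin r → ℕ)
    (hv : StrictAnti v) (hvlt : ∀ i, v i < r + k) :
    ∑ μ ∈ (Finset.univ : Finset (Fin r → Fin k)).filter (fun μ => Antitone μ),
      (DD r k (fun i => (μ i : ℕ)) v / Delta r k v) *
        (DD r k (fun i => k - (μ (Fin.rev i) : ℕ)) v / Delta r k v) =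
      Complex.exp (2 * Real.pi * Complex.I * (k : ℂ) * ((∑ j, v j : ℕ) : ℂ) / ((r : ℂ) + k)) *
        ((k : ℂ) * ((r : ℂ) + k) ^ (r - 1)) / ((PP r k v : ℝ) : ℂ) := by
  have hinj : Function.Injective (zz r k v) := zz_injective r k hr v hvlt hv.injective
  have hzc := conj_zz r k v
  have hzN := zz_pow_N r k hr v
  have hNne := N_ne_zero r k hr
  have hV : (Matrix.vandermonde (zz r k v)).det ≠ 0 := Matrix.det_vandermonde_ne_zero_iff.mpr hinj
  have heps : eps r ≠ 0 := by
    intro h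
    have := eps_mul_self r
    rw [h, mul_zero] at this
    exact zero_ne_one this
  have hDD : ∀ μ : Fin r → ℕ, DD r k μ v = EE r (zz r k v) (aexp r μ) := fun μ => rfl
  have hterm : ∀ μ : Fin r → Fin k,
      (DD r k (fun i => (μ i : ℕ)) v / Delta r k v) *
        (DD r k (fun i => k - (μ (Fin.rev i) : ℕ)) v / Delta r k v) =
      (eps r * (∏ j, (zz r k v j)⁻¹) / (Delta r k v * Delta r k v)) *
        (EE r (zz r k v) (aexp r (fun i => (μ i : ℕ))) *
          (starRingEnd ℂ) (EE r (zz r k v) (aexp r (fun i => (μ i : ℕ))))) := by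
    intro μ
    rw [hDD, hDD, EE_dual r k hr (zz r k v) hzc hzN μ]
    ring
  simp_rw [hterm]
  rw [← Finset.mul_sum, sum_antitone_EE r k hr hk (zz r k v) hzc hzN hinj, PP_eq,
    conj_Delta r k hr, Delta_eq]
  -- the character identity
  have hchar : (∏ j, (zz r k v j)⁻¹) * (∏ j, (zz r k v j)⁻¹) ^ (r - 1) =
      Complex.exp (2 * Real.pi * Complex.I * (k : ℂ) * ((∑ j, v j : ℕ) : ℂ) / ((r : ℂ) + k)) := by
    rw [← pow_succ']
    have hr1 : r - 1 + 1 = r := by omega
    rw [hr1]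
    have h1 : ∏ j, (zz r k v j)⁻¹ =
        Complex.exp (-(2 * Real.pi * Complex.I * ((∑ j, v j : ℕ) : ℂ) / ((r : ℂ) + k))) := by
      unfold zz
      simp_rw [← Complex.exp_neg]
      rw [← Complex.exp_sum]
      congr 1
      push_cast
      rw [Finset.mul_sum, Finset.sum_div, Finset.sum_neg_distrib]
    rw [h1, ← Complex.exp_nat_mul]
    have h2 : (r : ℂ) * -(2 * Real.pi * Complex.I * ((∑ j, v j : ℕ) : ℂ) / ((r : ℂ) + k)) =
        2 * Real.pi * Complex.I * (k : ℂ) * ((∑ j, v j : ℕ) : ℂ) / ((r : ℂ) + k) +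
          (((∑ j, v j : ℕ) : ℤ) : ℂ) * (-(2 * Real.pi * Complex.I)) := by
      push_cast
      field_simp
      ring
    rw [h2, Complex.exp_add, Complex.exp_int_mul, Complex.exp_neg, Complex.exp_two_pi_mul_I,
      inv_one, one_zpow, mul_one]
  have he2 := eps_mul_self r
  rw [← hchar]
  generalize (∏ j, (zz r k v j)⁻¹) = Y at *
  generalize (Matrix.vandermonde (zz r k v)).det = V at *
  generalize eps r = e at *
  by_cases hY0 : Y = 0
  · subst hY0
    simp
  · have hYp : Y ^ (r - 1) ≠ 0 := pow_ne_zero _ hY0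
    field_simp

end

end Groth.Agent.H99.Verlinde
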