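import Groth.Agent.H99.VerlindeF

/-!
# Helper library for Verlinde rows, part G: orthogonality of characters in the weight variable,
reduced to the point-variable case by the duality `(weights) ↔ (points)`.
-/

set_option autoImplicit false

namespace Groth.Agent.H99.Verlinde

open Finset

/-- the weight attached to a strictly decreasing tuple -/
def lamOf (r : ℕ) (v : Fin r → ℕ) : Fin r → ℕ := fun i => v i - (r - 1 - (i : ℕ))

/-- the dual weight -/
def dualW (r k : ℕ) (μ : Fin r → ℕ) : Fin r → ℕ := fun i => k - μ (Fin.rev i)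

theorem ge_of_strictAnti {r : ℕ} (v : Fin r → ℕ) (hv : StrictAnti v) (i : Fin r) :
    r - 1 - (i : ℕ) ≤ v i := by
  have hi := i.2
  have := strictAnti_gap v hv (r - 1 - (i : ℕ)) i ⟨r - 1, by omega⟩ (by simp only; omega)
  omega

theorem le_of_strictAnti {r N : ℕ} (v : Fin r → ℕ) (hv : StrictAnti v) (hlt : ∀ i, v i < N)
    (i : Fin r) : v i + (i : ℕ) + 1 ≤ N := by
  have hi := i.2
  have := strictAnti_gap v hv (i : ℕ) ⟨0, by omega⟩ i (by simp)
  have := hlt ⟨0, by omega⟩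
  omega

theorem aexp_lamOf {r : ℕ} (v : Fin r → ℕ) (hv : StrictAnti v) : aexp r (lamOf r v) = v := by
  funext i
  have := ge_of_strictAnti v hv i
  simp only [aexp, lamOf]
  omega

theorem lamOf_antitone {r : ℕ} (v : Fin r → ℕ) (hv : StrictAnti v) : Antitone (lamOf r v) := by
  intro i j hij
  have hij' : (i : ℕ) ≤ j := hij
  have h1 := strictAnti_gap v hv ((j : ℕ) - (i : ℕ)) i j (by omega)
  have h2 := ge_of_strictAnti v hv j
  have h3 := ge_of_strictAnti v hv i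
  have := j.2
  simp only [lamOf]
  omega

theorem lamOf_le {r k : ℕ} (v : Fin r → ℕ) (hv : StrictAnti v) (hlt : ∀ i, v i < r + k)
    (i : Fin r) : lamOf r v i ≤ k := by
  have := le_of_strictAnti v hv hlt i
  have := i.2
  simp only [lamOf]
  omega

theorem dualW_antitone {r k : ℕ} (μ : Fin r → ℕ) (hμ : Antitone μ) : Antitone (dualW r k μ) := by
  intro i j hij
  have : Fin.rev j ≤ Fin.rev i := Fin.rev_le_rev.mpr hij
  have := hμ this
  simp only [dualW]
  omega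

theorem dualW_le {r k : ℕ} (μ : Fin r → ℕ) (i : Fin r) : dualW r k μ i ≤ k := by
  simp only [dualW]
  omega

noncomputable section

theorem DD_eq_EE (r k : ℕ) (μ w : Fin r → ℕ) : DD r k μ w = EE r (zz r k w) (aexp r μ) := rfl

/-- transposition: weights and points can be exchanged -/
theorem DD_transpose (r k : ℕ) (μ v : Fin r → ℕ) (hv : StrictAnti v) :
    DD r k μ v = DD r k (lamOf r v) (aexp r μ) := by
  rw [DD_eq_EE, DD_eq_EE, aexp_lamOf v hv]
  unfold EE
  rw [← Matrix.det_transpose]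
  congr 1
  ext i j
  simp only [Matrix.transpose_apply, Matrix.of_apply, zz_eq_zeta_pow, ← pow_mul]
  rw [mul_comm]

/-- generalized `EE_dual` for natural-number weights bounded by `k` -/
theorem EE_dual' (r k : ℕ) (hr : 1 ≤ r) (z : Fin r → ℂ)
    (hzc : ∀ j, (starRingEnd ℂ) (z j) = (z j)⁻¹) (hzN : ∀ j, z j ^ (r + k) = 1)
    (μ : Fin r → ℕ) (hμ : ∀ i, μ i ≤ k) :
    EE r z (aexp r (dualW r k μ)) =
      eps r * (∏ j, (z j)⁻¹) * (starRingEnd ℂ) (EE r z (aexp r μ)) := by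
  have hz0 : ∀ j, z j ≠ 0 := by
    intro j h0
    have := hzN j
    rw [h0, zero_pow (by omega)] at this
    exact zero_ne_one this
  unfold EE
  rw [RingHom.map_det]
  have hmat : (Matrix.of fun i j : Fin r => z j ^ (aexp r (dualW r k μ) i)) =
      Matrix.of fun i j : Fin r => (z j)⁻¹ *
        (((starRingEnd ℂ).mapMatrix
          (Matrix.of fun i j : Fin r => z j ^ (aexp r μ i))).submatrix
            (Fin.revPerm : Equiv.Perm (Fin r)) id) i j := by
    ext i j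
    simp only [Matrix.of_apply, Matrix.submatrix_apply, RingHom.mapMatrix_apply, Matrix.map_apply,
      id_eq, Fin.revPerm_apply, map_pow, hzc]
    have hμi := hμ (Fin.rev i)
    have hi := i.2
    have hsum : aexp r (dualW r k μ) i + 1 + aexp r μ (Fin.rev i) = r + k := by
      simp only [aexp, dualW, Fin.val_rev]
      omega
    have h1 : z j ^ (aexp r (dualW r k μ) i) * z j * z j ^ (aexp r μ (Fin.rev i)) = 1 := by
      rw [← pow_succ, ← pow_add, hsum, hzN]
    have h2 := hz0 j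
    rw [inv_pow]
    field_simp
    linear_combination h1
  rw [hmat, Matrix.det_mul_row, Matrix.det_permute]
  unfold eps
  ring

/-- the dual factor, transported to the point variable -/
theorem DD_dual_transport (r k : ℕ) (hr : 1 ≤ r) (μ v' : Fin r → ℕ) (hμ : ∀ i, μ i ≤ k)
    (hv' : StrictAnti v') (hv'lt : ∀ i, v' i < r + k) :
    DD r k (dualW r k μ) v' =
      (∏ j, (zz r k v' j)⁻¹) * (∏ j, zz r k (aexp r μ) j) *
        DD r k (dualW r k (lamOf r v')) (aexp r μ) := by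
  have h1 := EE_dual' r k hr (zz r k v') (conj_zz r k v') (zz_pow_N r k hr v') μ hμ
  have h2 := EE_dual' r k hr (zz r k (aexp r μ)) (conj_zz r k (aexp r μ))
    (zz_pow_N r k hr (aexp r μ)) (lamOf r v') (lamOf_le v' hv' hv'lt)
  rw [DD_eq_EE, h1, ← DD_eq_EE, DD_transpose r k μ v' hv', DD_eq_EE, DD_eq_EE, h2]
  have hprod : (∏ j, zz r k (aexp r μ) j) * (∏ j, (zz r k (aexp r μ) j)⁻¹) = 1 := by
    rw [← Finset.prod_mul_distrib]
    apply Finset.prod_eq_one
    intro j _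
    exact mul_inv_cancel₀ (zz_ne_zero r k _ j)
  generalize (starRingEnd ℂ) (EE r (zz r k (aexp r μ)) (aexp r (lamOf r v'))) = Q
  linear_combination (-(eps r * (∏ j, (zz r k v' j)⁻¹) * Q)) * hprod

/-- G7: the bookkeeping identity between the twisting characters -/
theorem exp_identity (r k : ℕ) (hr : 1 ≤ r) (M Ms t V V' A R₂ : ℕ) (h1 : A = M + R₂)
    (h2 : M + Ms = r * k) (h3 : t + V' = V + r * k) :
    Complex.exp (-(2 * Real.pi * Complex.I * (M : ℂ) * (V : ℂ) / ((r : ℂ) * ((r : ℂ) + k)))) *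
      Complex.exp (-(2 * Real.pi * Complex.I * (Ms : ℂ) * (V' : ℂ) / ((r : ℂ) * ((r : ℂ) + k)))) *
      Complex.exp (2 * Real.pi * Complex.I * (A : ℂ) / ((r : ℂ) + k)) =
    Complex.exp (-(2 * Real.pi * Complex.I * (((r * k + R₂ : ℕ) : ℂ) * (V' : ℂ) - (R₂ : ℂ) * (V : ℂ)) /
        ((r : ℂ) * ((r : ℂ) + k)))) *
      (Complex.exp (-(2 * Real.pi * Complex.I * (t : ℂ) * (A : ℂ) / ((r : ℂ) * ((r : ℂ) + k)))) *
        Complex.exp (-(((r - 1 : ℕ) : ℂ) * (2 * Real.pi * Complex.I * (A : ℂ) / ((r : ℂ) + k))))) := by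
  have hNne := N_ne_zero r k hr
  have hr0 : (r : ℂ) ≠ 0 := by
    rw [Nat.cast_ne_zero]; omega
  have hM : (M : ℂ) = (A : ℂ) - (R₂ : ℂ) := by
    rw [h1]; push_cast; ring
  have hMs : (Ms : ℂ) = (r : ℂ) * k - ((A : ℂ) - (R₂ : ℂ)) := by
    have : ((M + Ms : ℕ) : ℂ) = ((r * k : ℕ) : ℂ) := by rw [h2]
    push_cast at this
    rw [← hM]
    linear_combination this
  have ht : (t : ℂ) = (V : ℂ) + (r : ℂ) * k - (V' : ℂ) := by
    have : ((t + V' : ℕ) : ℂ) = ((V + r * k : ℕ) : ℂ) := by rw [h3]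
    push_cast at this
    linear_combination this
  have hr1 : ((r - 1 : ℕ) : ℂ) = (r : ℂ) - 1 := by
    rw [Nat.cast_sub hr]; simp
  rw [← Complex.exp_add, ← Complex.exp_add, ← Complex.exp_add, ← Complex.exp_add]
  have hexp : -(2 * Real.pi * Complex.I * (M : ℂ) * (V : ℂ) / ((r : ℂ) * ((r : ℂ) + k))) +
      -(2 * Real.pi * Complex.I * (Ms : ℂ) * (V' : ℂ) / ((r : ℂ) * ((r : ℂ) + k))) +
      2 * Real.pi * Complex.I * (A : ℂ) / ((r : ℂ) + k) =
      (-(2 * Real.pi * Complex.I * (((r * k + R₂ : ℕ) : ℂ) * (V' : ℂ) - (R₂ : ℂ) * (V : ℂ)) /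
        ((r : ℂ) * ((r : ℂ) + k))) +
      (-(2 * Real.pi * Complex.I * (t : ℂ) * (A : ℂ) / ((r : ℂ) * ((r : ℂ) + k))) +
        -(((r - 1 : ℕ) : ℂ) * (2 * Real.pi * Complex.I * (A : ℂ) / ((r : ℂ) + k))))) +
      (A : ℂ) * (2 * Real.pi * Complex.I) := by
    rw [hM, hMs, ht, hr1]
    push_cast
    field_simp
    ring
  rw [hexp, Complex.exp_add, Complex.exp_nat_mul_two_pi_mul_I, mul_one]

theorem prod_zz_eq_exp (r k : ℕ) (a : Fin r → ℕ) :
    ∏ j, zz r k a j =
      Complex.exp (2 * Real.pi * Complex.I * ((∑ j, a j : ℕ) : ℂ) / ((r : ℂ) + k)) := by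
  unfold zz
  rw [← Complex.exp_sum]
  congr 1
  push_cast
  rw [Finset.mul_sum, Finset.sum_div]

theorem prod_zz_inv_pow_eq_exp (r k : ℕ) (a : Fin r → ℕ) (n : ℕ) :
    (∏ j, (zz r k a j)⁻¹) ^ n =
      Complex.exp (-((n : ℂ) *
        (2 * Real.pi * Complex.I * ((∑ j, a j : ℕ) : ℂ) / ((r : ℂ) + k)))) := by
  rw [Finset.prod_inv_distrib, prod_zz_eq_exp, ← Complex.exp_neg, ← Complex.exp_nat_mul]
  congr 1
  ring

theorem sum_aexp (r : ℕ) (μ : Fin r → ℕ) :
    ∑ i, aexp r μ i = ∑ i, μ i + ∑ i : Fin r, (r - 1 - (i : ℕ)) := by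
  unfold aexp
  rw [Finset.sum_add_distrib]

theorem sum_dualW (r k : ℕ) (μ : Fin r → ℕ) (hμ : ∀ i, μ i ≤ k) :
    ∑ i, μ i + ∑ i, dualW r k μ i = r * k := by
  have h1 : ∑ i, dualW r k μ i = ∑ i, (k - μ i) :=
    Equiv.sum_comp Fin.revPerm (fun i => k - μ i)
  rw [h1, ← Finset.sum_add_distrib]
  have h2 : ∀ i : Fin r, μ i + (k - μ i) = k := by
    intro i
    have := hμ i
    omega
  simp_rw [h2]
  simp

/-- the constant relating the two normalisations -/
def Kc (r k : ℕ) (v v' : Fin r → ℕ) : ℂ :=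
  Complex.exp (-(2 * Real.pi * Complex.I *
      (((r * k + ∑ i : Fin r, (r - 1 - (i : ℕ)) : ℕ) : ℂ) * ((∑ j, v' j : ℕ) : ℂ) -
        ((∑ i : Fin r, (r - 1 - (i : ℕ)) : ℕ) : ℂ) * ((∑ j, v j : ℕ) : ℂ)) /
      ((r : ℂ) * ((r : ℂ) + k)))) *
    (∏ j, (zz r k v' j)⁻¹) / (Delta r k v * Delta r k v')

/-- the summand of the weight-variable sum is a constant multiple of `FF` at the dual data -/
theorem term_eq (r k : ℕ) (hr : 1 ≤ r) (μ v v' : Fin r → ℕ) (hμ : ∀ i, μ i ≤ k)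
    (hv : StrictAnti v) (hvlt : ∀ i, v i < r + k)
    (hv' : StrictAnti v') (hv'lt : ∀ i, v' i < r + k) :
    Complex.exp (-(2 * Real.pi * Complex.I * ((∑ i, μ i : ℕ) : ℂ) * ((∑ j, v j : ℕ) : ℂ) /
        ((r : ℂ) * ((r : ℂ) + k)))) *
      Complex.exp (-(2 * Real.pi * Complex.I * ((∑ i, dualW r k μ i : ℕ) : ℂ) *
        ((∑ j, v' j : ℕ) : ℂ) / ((r : ℂ) * ((r : ℂ) + k)))) *
      (DD r k μ v / Delta r k v) * (DD r k (dualW r k μ) v' / Delta r k v') =
    Kc r k v v' * FF r k (lamOf r v) (dualW r k (lamOf r v')) (aexp r μ) := by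
  rw [DD_transpose r k μ v hv, DD_dual_transport r k hr μ v' hμ hv' hv'lt]
  unfold FF theta Kc
  rw [prod_zz_inv_pow_eq_exp]
  have hA1 := sum_aexp r μ
  have hA2 := sum_dualW r k μ hμ
  have hA3 : (∑ i, lamOf r v i + ∑ i, dualW r k (lamOf r v') i) + ∑ j, v' j =
      ∑ j, v j + r * k := by
    have e1 := sum_aexp r (lamOf r v)
    rw [aexp_lamOf v hv] at e1
    have e2 := sum_aexp r (lamOf r v')
    rw [aexp_lamOf v' hv'] at e2
    have e3 := sum_dualW r k (lamOf r v') (lamOf_le v' hv' hv'lt)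
    omega
  have hid := exp_identity r k hr (∑ i, μ i) (∑ i, dualW r k μ i)
    (∑ i, lamOf r v i + ∑ i, dualW r k (lamOf r v') i) (∑ j, v j) (∑ j, v' j)
    (∑ i, aexp r μ i) (∑ i : Fin r, (r - 1 - (i : ℕ))) hA1 hA2 hA3
  rw [← prod_zz_eq_exp] at hid
  generalize Complex.exp (-(2 * Real.pi * Complex.I * ((∑ i, μ i : ℕ) : ℂ) * ((∑ j, v j : ℕ) : ℂ) /
        ((r : ℂ) * ((r : ℂ) + k)))) = E1 at hid ⊢
  generalize Complex.exp (-(2 * Real.pi * Complex.I * ((∑ i, dualW r k μ i : ℕ) : ℂ) *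
        ((∑ j, v' j : ℕ) : ℂ) / ((r : ℂ) * ((r : ℂ) + k)))) = E2 at hid ⊢
  generalize Complex.exp (-(2 * Real.pi * Complex.I *
      (((r * k + ∑ i : Fin r, (r - 1 - (i : ℕ)) : ℕ) : ℂ) * ((∑ j, v' j : ℕ) : ℂ) -
        ((∑ i : Fin r, (r - 1 - (i : ℕ)) : ℕ) : ℂ) * ((∑ j, v j : ℕ) : ℂ)) /
      ((r : ℂ) * ((r : ℂ) + k)))) = E3 at hid ⊢
  generalize Complex.exp (-(2 * Real.pi * Complex.I *
      ((∑ i, lamOf r v i + ∑ i, dualW r k (lamOf r v') i : ℕ) : ℂ) *
        ((∑ i, aexp r μ i : ℕ) : ℂ) / ((r : ℂ) * ((r : ℂ) + k)))) = E4 at hid ⊢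
  generalize Complex.exp (-(((r - 1 : ℕ) : ℂ) * (2 * Real.pi * Complex.I *
      ((∑ i, aexp r μ i : ℕ) : ℂ) / ((r : ℂ) + k)))) = E5 at hid ⊢
  generalize (∏ j, zz r k (aexp r μ) j) = Z at hid ⊢
  generalize DD r k (lamOf r v) (aexp r μ) = D1
  generalize DD r k (dualW r k (lamOf r v')) (aexp r μ) = D2
  generalize (∏ j, (zz r k v' j)⁻¹) = Y
  generalize Delta r k v = Δ1
  generalize Delta r k v' = Δ2
  have : E1 * E2 * (D1 / Δ1) * (Y * Z * D2 / Δ2) = (E1 * E2 * Z) * (D1 * D2 * Y / (Δ1 * Δ2)) := by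
    by_cases h1 : Δ1 = 0
    · subst h1; simp
    by_cases h2 : Δ2 = 0
    · subst h2; simp
    field_simp
  rw [this, hid]
  by_cases h1 : Δ1 = 0
  · subst h1; simp
  by_cases h2 : Δ2 = 0
  · subst h2; simp
  field_simp

/-- weights (bounded by `k`, last one zero) to points of `AA` -/
def toA' (r k : ℕ) (μ : Fin r → Fin (k + 1)) : Fin r → Fin (r + k) :=
  fun j => ⟨(μ j : ℕ) + (r - 1 - (j : ℕ)), by have := (μ j).2; have := j.2; omega⟩

/-- points of `AA` back to weights (total version) -/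
def toMu' (r k : ℕ) (a : Fin r → Fin (r + k)) : Fin r → Fin (k + 1) :=
  fun j => ⟨((a j : ℕ) - (r - 1 - (j : ℕ))) % (k + 1), Nat.mod_lt _ (by omega)⟩

theorem toMu'_val (r k : ℕ) (a : Fin r → Fin (r + k)) (ha : StrictAnti a) (j : Fin r) :
    (toMu' r k a j : ℕ) = (a j : ℕ) - (r - 1 - (j : ℕ)) := by
  simp only [toMu']
  apply Nat.mod_eq_of_lt
  have ha' : StrictAnti (fun i => (a i : ℕ)) := fun i i' h => ha h
  have := le_of_strictAnti (fun i => (a i : ℕ)) ha' (fun i => (a i).2) j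
  have := j.2
  omega

/-- G8: reindexing the weight sum by `AA` -/
theorem sum_weights_eq_sum_AA (r k : ℕ) (hr : 1 ≤ r) (f : (Fin r → ℕ) → ℂ) :
    ∑ μ ∈ (Finset.univ : Finset (Fin r → Fin (k + 1))).filter
        (fun μ : Fin r → Fin (k + 1) => Antitone μ ∧ ∀ i : Fin r, (i : ℕ) = r - 1 → (μ i : ℕ) = 0),
      f (fun i => (μ i : ℕ)) =
    ∑ a ∈ AA r k, f (fun i => (toMu' r k a i : ℕ)) := by
  refine Finset.sum_bij' (fun μ _ => toA' r k μ) (fun a _ => toMu' r k a) ?_ ?_ ?_ ?_ ?_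
  · intro μ hμ
    simp only [Finset.mem_filter, Finset.mem_univ, true_and] at hμ
    rw [mem_AA]
    constructor
    · intro i j hij
      have h1 : (μ j : ℕ) ≤ (μ i : ℕ) := hμ.1 hij.le
      have h2 : (i : ℕ) < j := hij
      have := j.2
      change (toA' r k μ j : ℕ) < (toA' r k μ i : ℕ)
      simp only [toA']
      omega
    · intro i hi
      have := hμ.2 i hi
      simp only [toA']
      omega
  · intro a ha
    rw [mem_AA] at ha
    simp only [Finset.mem_filter, Finset.mem_univ, true_and]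
    have ha' : StrictAnti (fun i => (a i : ℕ)) := fun i i' h => ha.1 h
    constructor
    · intro i j hij
      change (toMu' r k a j : ℕ) ≤ (toMu' r k a i : ℕ)
      rw [toMu'_val r k a ha.1, toMu'_val r k a ha.1]
      have hij' : (i : ℕ) ≤ j := hij
      have h1 := strictAnti_gap (fun i => (a i : ℕ)) ha' ((j : ℕ) - (i : ℕ)) i j (by omega)
      have h2 := ge_of_strictAnti (fun i => (a i : ℕ)) ha' j
      have h3 := ge_of_strictAnti (fun i => (a i : ℕ)) ha' i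
      have := j.2
      omega
    · intro i hi
      rw [toMu'_val r k a ha.1, ha.2 i hi]
      omega
  · intro μ hμ
    funext j
    apply Fin.ext
    simp only [toMu', toA']
    rw [Nat.add_sub_cancel]
    exact Nat.mod_eq_of_lt (μ j).2
  · intro a ha
    rw [mem_AA] at ha
    have ha' : StrictAnti (fun i => (a i : ℕ)) := fun i i' h => ha.1 h
    funext j
    apply Fin.ext
    simp only [toA']
    rw [toMu'_val r k a ha.1]
    have := ge_of_strictAnti (fun i => (a i : ℕ)) ha' j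
    omega
  · intro μ hμ
    congr 1
    funext j
    simp only [toMu', toA']
    rw [Nat.add_sub_cancel]
    exact (Nat.mod_eq_of_lt (μ j).2).symm

theorem aexp_toMu' (r k : ℕ) (a : Fin r → Fin (r + k)) (ha : a ∈ AA r k) :
    aexp r (fun i => (toMu' r k a i : ℕ)) = ww r k a := by
  rw [mem_AA] at ha
  have ha' : StrictAnti (fun i => (a i : ℕ)) := fun i i' h => ha.1 h
  funext j
  simp only [aexp, ww]
  rw [toMu'_val r k a ha.1]
  have := ge_of_strictAnti (fun i => (a i : ℕ)) ha' j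
  omega

/-- G9: orthogonality of distinct characters, weight-variable form -/
theorem sum_weights_eq_zero (r k : ℕ) (hr : 1 ≤ r) (v v' : Fin r → ℕ)
    (hv : StrictAnti v) (hvlt : ∀ i, v i < r + k) (hv' : StrictAnti v') (hv'lt : ∀ i, v' i < r + k)
    (hne : ¬ ∃ a : ℤ, ∀ i, (v i : ℤ) - (v' i : ℤ) = a) :
    ∑ μ ∈ (Finset.univ : Finset (Fin r → Fin (k + 1))).filter
        (fun μ : Fin r → Fin (k + 1) => Antitone μ ∧ ∀ i : Fin r, (i : ℕ) = r - 1 → (μ i : ℕ) = 0),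
      Complex.exp (-(2 * Real.pi * Complex.I * ((∑ i, (μ i : ℕ) : ℕ) : ℂ) * ((∑ j, v j : ℕ) : ℂ) /
          ((r : ℂ) * ((r : ℂ) + k)))) *
      Complex.exp (-(2 * Real.pi * Complex.I * ((∑ i, (k - (μ (Fin.rev i) : ℕ)) : ℕ) : ℂ) *
          ((∑ j, v' j : ℕ) : ℂ) / ((r : ℂ) * ((r : ℂ) + k)))) *
      (DD r k (fun i => (μ i : ℕ)) v / Delta r k v) *
        (DD r k (fun i => k - (μ (Fin.rev i) : ℕ)) v' / Delta r k v') = 0 := by
  -- the case r = 1 is excluded by `hne`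
  have hr2 : 2 ≤ r := by
    by_contra hlt
    have hr1 : r = 1 := by omega
    subst hr1
    apply hne
    refine ⟨(v 0 : ℤ) - (v' 0 : ℤ), fun i => ?_⟩
    have : i = 0 := Subsingleton.elim _ _
    rw [this]
  have hterm : ∀ μ : Fin r → Fin (k + 1),
      Complex.exp (-(2 * Real.pi * Complex.I * ((∑ i, (μ i : ℕ) : ℕ) : ℂ) * ((∑ j, v j : ℕ) : ℂ) /
          ((r : ℂ) * ((r : ℂ) + k)))) *
      Complex.exp (-(2 * Real.pi * Complex.I * ((∑ i, (k - (μ (Fin.rev i) : ℕ)) : ℕ) : ℂ) *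
          ((∑ j, v' j : ℕ) : ℂ) / ((r : ℂ) * ((r : ℂ) + k)))) *
      (DD r k (fun i => (μ i : ℕ)) v / Delta r k v) *
        (DD r k (fun i => k - (μ (Fin.rev i) : ℕ)) v' / Delta r k v') =
      Kc r k v v' * FF r k (lamOf r v) (dualW r k (lamOf r v')) (aexp r (fun i => (μ i : ℕ))) := by
    intro μ
    exact term_eq r k hr (fun i => (μ i : ℕ)) v v' (fun i => Nat.lt_succ_iff.mp (μ i).2) hv hvlt
      hv' hv'lt
  simp_rw [hterm]
  rw [sum_weights_eq_sum_AA r k hr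
    (fun m => Kc r k v v' * FF r k (lamOf r v) (dualW r k (lamOf r v')) (aexp r m)),
    ← Finset.mul_sum]
  have hAA : ∑ a ∈ AA r k, FF r k (lamOf r v) (dualW r k (lamOf r v'))
      (aexp r (fun i => (toMu' r k a i : ℕ))) =
      ∑ a ∈ AA r k, FF r k (lamOf r v) (dualW r k (lamOf r v')) (ww r k a) :=
    Finset.sum_congr rfl fun a ha => by rw [aexp_toMu' r k a ha]
  rw [hAA]
  -- the non-equivalence hypothesis in the dual form
  have hne' : ¬ ∃ a : ℤ, ∀ i, (lamOf r v i : ℤ) -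
      ((k - dualW r k (lamOf r v') (Fin.rev i) : ℕ) : ℤ) = a := by
    rintro ⟨c, hc⟩
    apply hne
    refine ⟨c, fun i => ?_⟩
    have h := hc i
    have h1 := ge_of_strictAnti v hv i
    have h2 := ge_of_strictAnti v' hv' i
    have h3 := lamOf_le v' hv' hv'lt i
    simp only [dualW, Fin.rev_rev, lamOf] at h h3
    have h4 : k - (k - (v' i - (r - 1 - (i : ℕ)))) = v' i - (r - 1 - (i : ℕ)) := by omega
    rw [h4] at h
    omega
  have hzero : ∑ a ∈ AA r k, FF r k (lamOf r v) (dualW r k (lamOf r v')) (ww r k a) = 0 := by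
    by_cases hd : r ∣ (∑ i, lamOf r v i + ∑ i, dualW r k (lamOf r v') i)
    · exact sum_AA_eq_zero_of_dvd r k hr (lamOf r v) (dualW r k (lamOf r v'))
        (lamOf_antitone v hv) (lamOf_le v hv hvlt) (dualW_antitone _ (lamOf_antitone v' hv'))
        (dualW_le _) hne' hd
    · exact sum_AA_eq_zero_of_not_dvd hr2 (lamOf r v) (dualW r k (lamOf r v')) hd
  rw [hzero, mul_zero]

end

end Groth.Agent.H99.Verlinde
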