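import Mathlib

/-!
# Order-`p` automorphisms of `k[[X]]` in characteristic `p` (helper99)

Elementary theory of `D = σ - 1` on `k⟦X⟧`: order of `σ x - x`, `D ^ p = 0`, and the
Artin–Schreier-like uniformizer criterion.
-/

open PowerSeries

namespace Groth.Agent.H99.WildA

variable {k : Type*} [Field k]

lemma le_order_iff_dvd (n : ℕ) (x : k⟦X⟧) : (n : ℕ∞) ≤ x.order ↔ (X : k⟦X⟧) ^ n ∣ x := by
  rw [X_pow_dvd_iff]
  constructor
  · intro h i hi
    exact coeff_of_lt_order i (lt_of_lt_of_le (by exact_mod_cast hi) h)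
  · intro h; exact nat_le_order x n h

lemma exists_order_eq {x : k⟦X⟧} (hx : x ≠ 0) : ∃ n : ℕ, x.order = n :=
  ⟨x.order.toNat, (coe_toNat_order hx).symm⟩

lemma ne_zero_of_order_eq {x : k⟦X⟧} {n : ℕ} (hx : x.order = n) : x ≠ 0 := by
  intro h; rw [h, order_zero] at hx; exact ENat.top_ne_natCast n hx

lemma exists_eq_X_pow_mul {x : k⟦X⟧} {n : ℕ} (hx : x.order = n) :
    ∃ y : k⟦X⟧, IsUnit y ∧ x = X ^ n * y := by
  have hx0 : x ≠ 0 := ne_zero_of_order_eq hx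
  refine ⟨divXPowOrder x, ?_, ?_⟩
  · rw [isUnit_iff_constantCoeff, isUnit_iff_ne_zero, Ne, constantCoeff_divXPowOrder_eq_zero_iff]
    exact hx0
  · have := X_pow_order_mul_divXPowOrder (f := x)
    rw [hx] at this; simpa using this.symm

lemma dvd_of_order_le {a b : k⟦X⟧} (ha : a ≠ 0) (h : a.order ≤ b.order) : a ∣ b := by
  obtain ⟨n, hn⟩ := exists_order_eq ha
  obtain ⟨y, hy, rfl⟩ := exists_eq_X_pow_mul hn
  have h1 : (X : k⟦X⟧) ^ n ∣ b := (le_order_iff_dvd n b).mp (hn ▸ h)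
  exact (hy.mul_right_dvd).mpr h1

lemma constantCoeff_algEquiv (τ : k⟦X⟧ ≃ₐ[k] k⟦X⟧) (x : k⟦X⟧) :
    constantCoeff (τ x) = constantCoeff x := by
  have h1 : ¬ IsUnit (x - C (constantCoeff x)) := by
    rw [isUnit_iff_constantCoeff]; simp
  have h2 : ¬ IsUnit (τ (x - C (constantCoeff x))) := fun h => h1 (by simpa using h.map τ.symm)
  have h3 : τ (C (constantCoeff x)) = C (constantCoeff x) := by
    rw [C_eq_algebraMap]; exact τ.commutes _
  rw [map_sub, h3, isUnit_iff_constantCoeff] at h2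
  simpa [sub_eq_zero] using h2

lemma exists_unit_mul (τ : k⟦X⟧ ≃ₐ[k] k⟦X⟧) : ∃ v : k⟦X⟧, IsUnit v ∧ τ X = X * v := by
  have h1 : (X : k⟦X⟧) ∣ τ X := by rw [X_dvd_iff, constantCoeff_algEquiv]; simp
  obtain ⟨v, hv⟩ := h1
  have h2 : (X : k⟦X⟧) ∣ τ.symm X := by rw [X_dvd_iff, constantCoeff_algEquiv]; simp
  obtain ⟨w, hw⟩ := h2
  refine ⟨v, ?_, hv⟩
  have h3 : (X : k⟦X⟧) * 1 = X * (v * τ w) := by
    calc (X : k⟦X⟧) * 1 = τ (τ.symm X) := by simp
    _ = τ (X * w) := by rw [hw]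
    _ = X * v * τ w := by rw [map_mul, hv]
    _ = _ := by ring
  have h4 := mul_left_cancel₀ X_ne_zero h3
  exact IsUnit.of_mul_eq_one _ h4.symm

lemma X_sq_dvd (p : ℕ) [Fact p.Prime] [CharP k p] (σ : k⟦X⟧ ≃ₐ[k] k⟦X⟧) (hσp : σ ^ p = 1) :
    (X : k⟦X⟧) ^ 2 ∣ σ X - X := by
  obtain ⟨v, hv, hσX⟩ := exists_unit_mul σ
  have key : ∀ j : ℕ, ∃ w : k⟦X⟧, (σ ^ j) X = X * w ∧
      constantCoeff w = (constantCoeff v) ^ j := by
    intro j
    induction j with
    | zero => exact ⟨1, by simp, by simp⟩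
    | succ j ih =>
      obtain ⟨w, hw, hc⟩ := ih
      refine ⟨v * σ w, ?_, ?_⟩
      · rw [pow_succ', AlgEquiv.mul_apply, hw, map_mul, hσX]; ring
      · rw [map_mul, constantCoeff_algEquiv, hc, pow_succ']
  obtain ⟨w, hw, hc⟩ := key p
  rw [hσp, AlgEquiv.one_apply] at hw
  have hw1 : w = 1 := (mul_left_cancel₀ X_ne_zero (by rw [← hw, mul_one])).symm
  rw [hw1] at hc
  have hc' : (constantCoeff v - 1) ^ p = 0 := by
    rw [sub_pow_char, ← hc]; simp
  have hc1 : constantCoeff v = 1 := sub_eq_zero.mp (pow_eq_zero_iff (Fact.out : p.Prime).ne_zero |>.mp hc')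
  have h5 : (X : k⟦X⟧) ∣ v - 1 := by rw [X_dvd_iff]; simp [hc1]
  obtain ⟨r, hr⟩ := h5
  refine ⟨r, ?_⟩
  rw [hσX]
  calc X * v - X = X * (v - 1) := by ring
  _ = _ := by rw [hr]; ring

lemma dvd_D (σ : k⟦X⟧ ≃ₐ[k] k⟦X⟧) (N : ℕ) (he : (X : k⟦X⟧) ^ N ∣ σ X - X) :
    ∀ j ≤ N, ∀ x : k⟦X⟧, (X : k⟦X⟧) ^ j ∣ σ x - x := by
  intro j
  induction j with
  | zero => intro _ x; simp
  | succ j ih =>
    intro hj x
    obtain ⟨y, c, rfl⟩ : ∃ (y : k⟦X⟧) (c : k), x = X * y + C c :=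
      ⟨_, _, eq_X_mul_shift_add_const x⟩
    have hC : σ (C c) = C c := by rw [C_eq_algebraMap]; exact σ.commutes _
    have h1 : σ (X * y + C c) - (X * y + C c) = (σ X - X) * σ y + X * (σ y - y) := by
      rw [map_add, map_mul, hC]; ring
    rw [h1]
    apply dvd_add
    · exact Dvd.dvd.mul_right ((pow_dvd_pow X hj).trans he) _
    · rw [pow_succ']; exact mul_dvd_mul_left X (ih (by omega) y)

lemma pow_one_add (g : k⟦X⟧) (n : ℕ) :
    ∃ h : k⟦X⟧, (1 + g) ^ n = 1 + n * g + g ^ 2 * h := by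
  induction n with
  | zero => exact ⟨0, by simp⟩
  | succ n ih =>
    obtain ⟨h, hh⟩ := ih
    refine ⟨n + h + g * h, ?_⟩
    rw [pow_succ, hh]; push_cast; ring


lemma order_D (p : ℕ) [Fact p.Prime] [CharP k p] (σ : k⟦X⟧ ≃ₐ[k] k⟦X⟧) (m : ℕ) (hm1 : 1 ≤ m)
    (hm : (σ X - X).order = ((m + 1 : ℕ) : ℕ∞)) (x : k⟦X⟧) (n : ℕ) (hx : x.order = n)
    (hpn : ¬ p ∣ n) :
    (σ x - x).order = ((n + m : ℕ) : ℕ∞) := by
  have hXe : (X : k⟦X⟧) ∣ σ X - X := by
    rw [X_dvd_iff, map_sub, constantCoeff_algEquiv]; simp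
  obtain ⟨g, hg⟩ := hXe
  have hg0 : g ≠ 0 := by
    rintro rfl
    rw [hg, mul_zero, order_zero] at hm
    exact ENat.top_ne_natCast _ hm
  have hgord : g.order = m := by
    obtain ⟨a, ha⟩ := exists_order_eq hg0
    have h1 := hm
    rw [hg, order_mul, order_X, ha] at h1
    have h2 : 1 + a = m + 1 := by exact_mod_cast h1
    rw [ha]; congr 1; omega
  obtain ⟨y, hy, rfl⟩ := exists_eq_X_pow_mul hx
  obtain ⟨h, hh⟩ := pow_one_add g n
  have hσX : σ X = X * (1 + g) := by rw [mul_add, mul_one, ← hg]; ring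
  have hA : (X : k⟦X⟧) ^ (m + 1) ∣ σ y - y :=
    dvd_D σ (m + 1) ((le_order_iff_dvd _ _).mp hm.ge) (m + 1) le_rfl y
  obtain ⟨r, hr⟩ := hA
  have hg2 : (X : k⟦X⟧) ^ (m + 1) ∣ g ^ 2 := by
    have h1 : (X : k⟦X⟧) ^ m ∣ g := (le_order_iff_dvd _ _).mp hgord.ge
    have h2 : (X : k⟦X⟧) ^ (m + 1) ∣ X ^ (m + m) := pow_dvd_pow X (by omega)
    rw [pow_add X m m] at h2
    rw [sq]
    exact h2.trans (mul_dvd_mul h1 h1)
  obtain ⟨r2, hr2⟩ := hg2
  have key : σ (X ^ n * y) - X ^ n * y =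
      X ^ n * ((n : k⟦X⟧) * g * σ y + X ^ (m + 1) * (r2 * h * σ y + r)) := by
    rw [map_mul, map_pow, hσX, mul_pow, hh]
    linear_combination (X ^ n * h * σ y) * hr2 + X ^ n * hr
  rw [key, order_mul, order_X_pow]
  have h1 : ((n : k⟦X⟧) * g * σ y).order = m := by
    have hn0 : (n : k) ≠ 0 := by rwa [Ne, CharP.cast_eq_zero_iff k p]
    have hu : IsUnit ((n : k⟦X⟧)) := by
      have h' : IsUnit (C (n : k) : k⟦X⟧) := (isUnit_iff_ne_zero.mpr hn0).map C
      simpa using h'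
    rw [order_mul, order_mul, hgord, order_zero_of_unit (hy.map σ), order_zero_of_unit hu,
      zero_add, add_zero]
  have h2 : ((m + 1 : ℕ) : ℕ∞) ≤ (X ^ (m + 1) * (r2 * h * σ y + r)).order :=
    (le_order_iff_dvd _ _).mpr (dvd_mul_right _ _)
  have h3 : ((n : k⟦X⟧) * g * σ y + X ^ (m + 1) * (r2 * h * σ y + r)).order = (m : ℕ∞) := by
    rw [order_add_of_order_ne, h1]
    · exact min_eq_left (le_trans (by exact_mod_cast Nat.le_succ m) h2)
    · rw [h1]; intro h'; rw [← h'] at h2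
      exact absurd h2 (by exact_mod_cast Nat.not_succ_le_self m)
  rw [h3]; push_cast; rfl

/-- The operator `σ - 1`. -/
noncomputable def D (σ : k⟦X⟧ ≃ₐ[k] k⟦X⟧) : Module.End k k⟦X⟧ := σ.toLinearMap - 1

lemma D_apply (σ : k⟦X⟧ ≃ₐ[k] k⟦X⟧) (x : k⟦X⟧) : D σ x = σ x - x := by simp [D]

lemma D_pow_succ_apply (σ : k⟦X⟧ ≃ₐ[k] k⟦X⟧) (i : ℕ) (x : k⟦X⟧) :
    (D σ ^ (i + 1)) x = σ ((D σ ^ i) x) - (D σ ^ i) x := by
  rw [pow_succ', Module.End.mul_apply, D_apply]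

lemma D_pow_char (p : ℕ) [Fact p.Prime] [CharP k p] (σ : k⟦X⟧ ≃ₐ[k] k⟦X⟧) (hσp : σ ^ p = 1) :
    D σ ^ p = 0 := by
  have : CharP (Module.End k k⟦X⟧) p :=
    charP_of_injective_algebraMap (algebraMap k (Module.End k k⟦X⟧)).injective p
  have h1 : ∀ j : ℕ, σ.toLinearMap ^ j = (σ ^ j).toLinearMap := by
    intro j
    induction j with
    | zero => apply LinearMap.ext; intro x; simp
    | succ j ih =>
      rw [pow_succ', ih]; apply LinearMap.ext; intro x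
      simp [pow_succ']
  rw [D, sub_pow_char_of_commute p (Commute.one_right _), h1, hσp, one_pow]
  apply LinearMap.ext; intro x; simp

lemma order_chain (p : ℕ) [Fact p.Prime] [CharP k p] (σ : k⟦X⟧ ≃ₐ[k] k⟦X⟧) (m : ℕ)
    (hm1 : 1 ≤ m) (hm : (σ X - X).order = ((m + 1 : ℕ) : ℕ∞)) (hpm : p ∣ m + 1)
    (θ : k⟦X⟧) (n : ℕ) (hθ : θ.order = n) (hn : p ∣ n + 1) :
    ∀ i, i ≤ p - 1 → ((D σ ^ i) θ).order = ((n + i * m : ℕ) : ℕ∞) := by
  intro i
  induction i with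
  | zero => intro _; simpa using hθ
  | succ i ih =>
    intro hi
    have h1 := ih (by omega)
    rw [D_pow_succ_apply]
    have hnd : ¬ p ∣ n + i * m := by
      intro hd
      have h2 : p ∣ (n + i * m) + (i + 1) := by
        have : (n + i * m) + (i + 1) = (n + 1) + i * (m + 1) := by ring
        rw [this]; exact dvd_add hn (Dvd.dvd.mul_left hpm i)
      have h3 : p ∣ i + 1 := (Nat.dvd_add_right hd).mp h2
      have h4 := Nat.le_of_dvd (by omega) h3
      have h5 := (Fact.out : p.Prime).two_le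
      omega
    rw [order_D p σ m hm1 hm _ _ h1 hnd]
    congr 1; ring

theorem main (p : ℕ) [Fact p.Prime] [CharP k p]
    (σ : k⟦X⟧ ≃ₐ[k] k⟦X⟧) (hσp : σ ^ p = 1)
    (m : ℕ) (hm : (σ X - X).order = ((m + 1 : ℕ) : ℕ∞)) :
    p ∣ m + 1 ↔
      ∃ s a : k⟦X⟧, s.order = 1 ∧ σ a = a ∧ σ s = s + a := by
  have hm1 : 1 ≤ m := by
    have h1 := (le_order_iff_dvd 2 _).mpr (X_sq_dvd p σ hσp)
    rw [hm] at h1
    have h2 : 2 ≤ m + 1 := by exact_mod_cast h1
    omega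
  have hp2 := (Fact.out : p.Prime).two_le
  constructor
  · intro hpm
    obtain ⟨T, hT⟩ : ∃ T, T = (D σ ^ (p - 1)) (X ^ (p - 1)) := ⟨_, rfl⟩
    obtain ⟨z, hz⟩ : ∃ z, z = (D σ ^ (p - 2)) (X ^ (p + m)) := ⟨_, rfl⟩
    have hTord : T.order = ((p - 1 + (p - 1) * m : ℕ) : ℕ∞) := by
      rw [hT]
      exact order_chain p σ m hm1 hm hpm _ (p - 1) (order_X_pow _)
        (by rw [Nat.sub_add_cancel (by omega)]) (p - 1) le_rfl
    have hzord : z.order = ((p + m + (p - 2) * m : ℕ) : ℕ∞) := by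
      rw [hz]
      exact order_chain p σ m hm1 hm hpm _ (p + m) (order_X_pow _)
        (by rw [add_assoc]; exact dvd_add (dvd_refl p) hpm) (p - 2) (by omega)
    have harith : p + m + (p - 2) * m = (p - 1 + (p - 1) * m) + 1 := by
      obtain ⟨P, rfl⟩ : ∃ P, p = P + 2 := ⟨p - 2, by omega⟩
      have e1 : P + 2 - 2 = P := by omega
      have e2 : P + 2 - 1 = P + 1 := by omega
      rw [e1, e2]; ring
    have hT0 : T ≠ 0 := ne_zero_of_order_eq hTord
    have hz0 : z ≠ 0 := ne_zero_of_order_eq hzord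
    have hDT : σ T = T := by
      have h1 := D_pow_succ_apply σ (p - 1) (X ^ (p - 1))
      rw [Nat.sub_add_cancel (by omega), D_pow_char p σ hσp, ← hT] at h1
      simp only [LinearMap.zero_apply] at h1
      exact sub_eq_zero.mp h1.symm
    have hDz : σ (σ z - z) = σ z - z := by
      have h1 := D_pow_succ_apply σ (p - 2) (X ^ (p + m))
      have h2 := D_pow_succ_apply σ (p - 2 + 1) (X ^ (p + m))
      rw [show p - 2 + 1 + 1 = p by omega, D_pow_char p σ hσp, h1, ← hz] at h2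
      simp only [LinearMap.zero_apply] at h2
      exact sub_eq_zero.mp h2.symm
    have hdvd : T ∣ z := by
      apply dvd_of_order_le hT0
      rw [hTord, hzord, harith]
      exact_mod_cast Nat.le_succ _
    obtain ⟨s, hs⟩ := hdvd
    have hs0 : s ≠ 0 := by rintro rfl; exact hz0 (by rw [hs, mul_zero])
    refine ⟨s, σ s - s, ?_, ?_, by ring⟩
    · obtain ⟨b, hb⟩ := exists_order_eq hs0
      have h1 := congrArg order hs
      rw [order_mul, hTord, hzord, harith, hb] at h1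
      have h2 : (p - 1 + (p - 1) * m) + 1 = (p - 1 + (p - 1) * m) + b := by exact_mod_cast h1
      rw [hb]
      have : b = 1 := by omega
      rw [this]; rfl
    · apply mul_left_cancel₀ hT0
      have h1 : T * (σ s - s) = σ z - z := by rw [hs, map_mul, hDT]; ring
      calc T * σ (σ s - s) = σ (T * (σ s - s)) := by rw [map_mul, hDT]
      _ = σ (σ z - z) := by rw [h1]
      _ = σ z - z := hDz
      _ = T * (σ s - s) := h1.symm
  · rintro ⟨s, a, hs, ha, hsa⟩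
    by_contra hpm
    have ha' : a = σ s - s := by rw [hsa]; ring
    have h1 : (σ s - s).order = ((1 + m : ℕ) : ℕ∞) :=
      order_D p σ m hm1 hm s 1 (by simpa using hs)
        (fun h => (Fact.out : p.Prime).one_lt.not_ge (Nat.le_of_dvd one_pos h))
    rw [← ha'] at h1
    have h2 := order_D p σ m hm1 hm a (1 + m) h1 (by rwa [add_comm])
    rw [ha, sub_self, order_zero] at h2
    exact ENat.top_ne_natCast _ h2

end Groth.Agent.H99.WildA
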